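import Mathlib

set_option autoImplicit false

namespace Cfsg.Agent.Helper19

universe u

section generic

variable (Q : ∀ (H : Type u) [Group H], Prop)

/-- the `Q`-core: join of all normal subgroups satisfying `Q`. -/
def qCore (G : Type u) [Group G] : Subgroup G :=
  sSup {N : Subgroup G | N.Normal ∧ Q ↥N}

variable {Q}

theorem qCore_mem
    (hbot : ∀ (H : Type u) [Group H], Q ↥(⊥ : Subgroup H))
    (hsup : ∀ (H : Type u) [Group H] [Finite H] (M N : Subgroup H), M.Normal → N.Normal →
      Q ↥M → Q ↥N → Q ↥(M ⊔ N))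
    (G : Type u) [Group G] [Finite G] : (qCore Q G).Normal ∧ Q ↥(qCore Q G) := by
  unfold qCore
  have hsc : SupClosed {N : Subgroup G | N.Normal ∧ Q ↥N} := by
    rintro M ⟨hMn, hM⟩ N ⟨hNn, hN⟩
    exact ⟨Subgroup.sup_normal M N, hsup G M N hMn hNn hM hN⟩
  have hb : (⊥ : Subgroup G) ∈ {N : Subgroup G | N.Normal ∧ Q ↥N} :=
    ⟨Subgroup.normal_bot, hbot G⟩
  exact hsc.sSup_mem (Set.toFinite _) hb subset_rfl

theorem qCore_characteristic
    (hiso : ∀ (H H' : Type u) [Group H] [Group H'], (H ≃* H') → Q H → Q H')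
    (hbot : ∀ (H : Type u) [Group H], Q ↥(⊥ : Subgroup H))
    (hsup : ∀ (H : Type u) [Group H] [Finite H] (M N : Subgroup H), M.Normal → N.Normal →
      Q ↥M → Q ↥N → Q ↥(M ⊔ N))
    (G : Type u) [Group G] [Finite G] : (qCore Q G).Characteristic := by
  rw [Subgroup.characteristic_iff_map_le]
  intro φ
  obtain ⟨hn, hq⟩ := qCore_mem hbot hsup G
  apply le_sSup
  refine ⟨hn.map φ.toMonoidHom φ.surjective, ?_⟩
  exact hiso _ _ ((qCore Q G).equivMapOfInjective φ.toMonoidHom φ.injective) hq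

/-- A subnormal subgroup satisfying `Q` lies in the `Q`-core. -/
theorem subnormal_le_qCore
    (hiso : ∀ (H H' : Type u) [Group H] [Group H'], (H ≃* H') → Q H → Q H')
    (hbot : ∀ (H : Type u) [Group H], Q ↥(⊥ : Subgroup H))
    (hsup : ∀ (H : Type u) [Group H] [Finite H] (M N : Subgroup H), M.Normal → N.Normal →
      Q ↥M → Q ↥N → Q ↥(M ⊔ N)) :
    ∀ n : ℕ, ∀ (G : Type u) [Group G] [Finite G], Nat.card G = n → ∀ A : Subgroup G,
      A.IsSubnormal → Q ↥A → A ≤ qCore Q G := by
  intro n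
  induction n using Nat.strong_induction_on with
  | _ n ih =>
  intro G _ _ hcard A hA hQA
  rcases hA.lt_normal with rfl | ⟨K, hKn, hAK, hKtop⟩
  · apply le_sSup
    exact ⟨inferInstance, hQA⟩
  · have hcardK : Nat.card K < n := by
      rw [← hcard]
      apply lt_of_le_of_ne (Subgroup.card_le_card_group K)
      intro h
      exact hKtop.ne ((Subgroup.card_eq_iff_eq_top K).mp h)
    have hA' : (A.subgroupOf K).IsSubnormal := hA.subgroupOf
    have hQA' : Q ↥(A.subgroupOf K) := hiso _ _ (Subgroup.subgroupOfEquivOfLe hAK).symm hQA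
    have hle := ih (Nat.card K) hcardK K rfl (A.subgroupOf K) hA' hQA'
    have hchar : (qCore Q ↥K).Characteristic := qCore_characteristic hiso hbot hsup K
    have hRn : ((qCore Q ↥K).map K.subtype).Normal := ConjAct.normal_of_characteristic_of_normal
    have hRQ : Q ↥((qCore Q ↥K).map K.subtype) :=
      hiso _ _ ((qCore Q ↥K).equivMapOfInjective K.subtype K.subtype_injective)
        (qCore_mem hbot hsup K).2
    have hR : (qCore Q ↥K).map K.subtype ≤ qCore Q G := le_sSup ⟨hRn, hRQ⟩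
    intro a ha
    apply hR
    exact ⟨⟨a, hAK ha⟩, hle (by rw [Subgroup.mem_subgroupOf]; exact ha), rfl⟩

end generic

end Cfsg.Agent.Helper19
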