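import Mathlib
import Cfsg.Agent.Lib.Helper23.HKKDefs
import Cfsg.Agent.Lib.Helper23.HKKExt
import Cfsg.Agent.Lib.Helper23.HKKGrp

/-!
# S3779 piece TMAIN, core (helper19): the theorem of Higman, Kreknin and Kostrikin for Lie rings, with the
statements of the pieces KKM, TGR, TSP, TPB as hypotheses.
-/

set_option autoImplicit false
set_option linter.unusedSectionVars false
set_option linter.unusedVariables false
set_option linter.style.haveILetI false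

namespace Cfsg.Agent.Helper23.HKK

section T

open scoped TensorProduct

variable (p : ℕ) {L : Type*} [LieRing L]

theorem lie_hkk_core (hp : p.Prime) (φ : L →ₗ⁅ℤ⁆ L)
    (h_gn : ∀ (gr : ZMod p → AddSubgroup (Lt p L)), Grading p gr → ⨆ i, gr i = ⊤ →
      lcsIn (⊤ : AddSubgroup (Lt p L)) (hk p (2 ^ (p - 1) - 1)) = ⊥)
    (h_g3 : p = 3 → ∀ (gr : ZMod p → AddSubgroup (Lt p L)), Grading p gr → ⨆ i, gr i = ⊤ →
      lcsIn (⊤ : AddSubgroup (Lt p L)) 2 = ⊥)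
    (h_br : ∀ (i j : ZMod p) (x y : Lt p L), x ∈ grT p φ i → y ∈ grT p φ j →
      ⁅x, y⁆ ∈ grT p φ (i + j))
    (h_zero : grT p φ 0 = ⊥)
    (h_span : ⨆ i, grT p φ i = ⊤)
    (h_pull : ∀ h : ℕ, lcsIn (⊤ : AddSubgroup (Lt p L)) h = ⊥ → lcsIn (⊤ : AddSubgroup L) h = ⊥) :
    lcsIn (⊤ : AddSubgroup L) (hk p (2 ^ (p - 1) - 1)) = ⊥ ∧
      (p = 3 → lcsIn (⊤ : AddSubgroup L) 2 = ⊥) := by
  have hG : Grading p (grT p φ) := ⟨h_br, h_zero⟩
  refine ⟨h_pull _ (h_gn (grT p φ) hG h_span), fun h3 => ?_⟩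
  exact h_pull _ (h_g3 h3 (grT p φ) hG h_span)

end T

end Cfsg.Agent.Helper23.HKK
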