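import Mathlib
import Cfsg.Agent.Lib.Helper5.TLRDefs
import Cfsg.Agent.Lib.Helper19.TLS2W
import Cfsg.Agent.Lib.Helper26.TLRW

set_option autoImplicit false

/-!
# S4442 Layer A piece DIM: `trace_eq_sub` over a discrete valuation ring `R` with uniformizer `p`
(port of helper20's `TLDIM.lean`)

`tr X = a - b` where `a = rank L₁`, `b = rank_{R[ζ]} L₂` in the Reiner decomposition, and
`Ĥ⁰` cyclic forces `a ≤ 1`, `Ĥ⁻¹` cyclic forces `b ≤ 1`.
-/

namespace Cfsg.Agent.Helper5.TLR

set_option linter.unusedSectionVars false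
set_option linter.unusedVariables false
set_option linter.style.haveILetI false
set_option linter.unusedSimpArgs false

section General

variable {R M : Type*} [CommRing R] [AddCommGroup M] [Module R M]

theorem dim_disjoint_BW (A B C : Submodule R M) (h2 : Disjoint A (B ⊔ C)) (h3 : Disjoint B C) :
    Disjoint B (A ⊔ C) := by
  rw [Submodule.disjoint_def]
  intro u hu hu'
  obtain ⟨a, ha, c, hc, rfl⟩ := Submodule.mem_sup.mp hu'
  have ha0 : a = 0 := by
    have : a ∈ B ⊔ C := by
      have : a = (a + c) - c := by abel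
      rw [this]
      exact Submodule.sub_mem _ (Submodule.mem_sup_left hu) (Submodule.mem_sup_right hc)
    exact (Submodule.disjoint_def.mp h2) a ha this
  rw [ha0, zero_add] at hu ⊢
  exact (Submodule.disjoint_def.mp h3) c hu hc

theorem dim_disjoint_CW (A B C : Submodule R M) (h2 : Disjoint A (B ⊔ C)) (h3 : Disjoint B C) :
    Disjoint C (A ⊔ B) := by
  rw [Submodule.disjoint_def]
  intro u hu hu'
  obtain ⟨a, ha, b, hb, rfl⟩ := Submodule.mem_sup.mp hu'
  have ha0 : a = 0 := by
    have : a ∈ B ⊔ C := by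
      have : a = (a + b) - b := by abel
      rw [this]
      exact Submodule.sub_mem _ (Submodule.mem_sup_right hu) (Submodule.mem_sup_left hb)
    exact (Submodule.disjoint_def.mp h2) a ha this
  rw [ha0, zero_add] at hu ⊢
  exact (Submodule.disjoint_def.mp h3.symm) b hu hb

theorem dim_isInternal3W (A B C : Submodule R M) (h1 : A ⊔ B ⊔ C = ⊤) (h2 : Disjoint A (B ⊔ C))
    (h3 : Disjoint B C) :
    DirectSum.IsInternal (![A, B, C] : Fin 3 → Submodule R M) := by
  apply DirectSum.isInternal_submodule_of_iSupIndep_of_iSup_eq_top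
  · intro i
    have hB := dim_disjoint_BW A B C h2 h3
    have hC := dim_disjoint_CW A B C h2 h3
    fin_cases i
    · refine h2.mono_right ?_
      refine iSup₂_le fun j hj => ?_
      fin_cases j
      · exact absurd rfl hj
      · exact le_sup_left
      · exact le_sup_right
    · refine hB.mono_right ?_
      refine iSup₂_le fun j hj => ?_
      fin_cases j
      · exact le_sup_left
      · exact absurd rfl hj
      · exact le_sup_right
    · refine hC.mono_right ?_
      refine iSup₂_le fun j hj => ?_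
      fin_cases j
      · exact le_sup_left
      · exact le_sup_right
      · exact absurd rfl hj
  · rw [← h1]
    apply le_antisymm
    · refine iSup_le fun j => ?_
      fin_cases j
      · exact le_sup_of_le_left le_sup_left
      · exact le_sup_of_le_left le_sup_right
      · exact le_sup_right
    · refine sup_le (sup_le ?_ ?_) ?_
      · exact le_iSup (![A, B, C] : Fin 3 → Submodule R M) 0
      · exact le_iSup (![A, B, C] : Fin 3 → Submodule R M) 1
      · exact le_iSup (![A, B, C] : Fin 3 → Submodule R M) 2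

theorem dim_trace3W [IsDomain R] [IsPrincipalIdealRing R] [Module.Free R M] [Module.Finite R M]
    (A B C : Submodule R M) (h1 : A ⊔ B ⊔ C = ⊤) (h2 : Disjoint A (B ⊔ C)) (h3 : Disjoint B C)
    (f : M →ₗ[R] M) (hA : Set.MapsTo f A A) (hB : Set.MapsTo f B B) (hC : Set.MapsTo f C C) :
    LinearMap.trace R M f = LinearMap.trace R A (f.restrict hA) +
      LinearMap.trace R B (f.restrict hB) + LinearMap.trace R C (f.restrict hC) := by
  have hint := dim_isInternal3W A B C h1 h2 h3
  have hf : ∀ i, Set.MapsTo f ((![A, B, C] : Fin 3 → Submodule R M) i)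
      ((![A, B, C] : Fin 3 → Submodule R M) i) := by
    intro i
    fin_cases i
    · exact hA
    · exact hB
    · exact hC
  rw [LinearMap.trace_eq_sum_trace_restrict hint hf, Fin.sum_univ_three]
  rfl

/-- trace of an endomorphism permuting a basis without fixed points. -/
theorem dim_trace_permW {ι : Type*} [Fintype ι] [DecidableEq ι] (A : Submodule R M)
    (f : M →ₗ[R] M) (hA : Set.MapsTo f A A) (g : ι → M) (hli : LinearIndependent R g)
    (hspan : Submodule.span R (Set.range g) = A) (τ : ι → ι) (hτ : ∀ i, τ i ≠ i)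
    (hfg : ∀ i, f (g i) = g (τ i)) :
    LinearMap.trace R A (f.restrict hA) = 0 := by
  subst hspan
  let bA := Module.Basis.span hli
  rw [LinearMap.trace_eq_matrix_trace R bA, Matrix.trace]
  refine Finset.sum_eq_zero fun i _ => ?_
  rw [Matrix.diag_apply, LinearMap.toMatrix_apply]
  have h1 : (f.restrict hA) (bA i) = bA (τ i) := by
    apply Subtype.ext
    show f ((bA i : Submodule.span R (Set.range g)) : M) = ((bA (τ i) : Submodule.span R (Set.range g)) : M)
    simp only [bA, Module.Basis.span_apply]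
    exact hfg i
  rw [h1, Module.Basis.repr_self, Finsupp.single_apply, if_neg (hτ i)]

end General

section L2

variable (p : ℕ) [Fact p.Prime] {R : Type*} [CommRing R]
variable {N : Type*} [AddCommGroup N] [Module R N]

/-- `Y^(p-1) w = - Σ_{i<p-1} Y^i w` when `σ = 0`. -/
theorem dim_pow_predW (Y : Module.End R N) (h0 : sig p Y = 0) (w : N) :
    (Y ^ (p - 1)) w = -∑ i ∈ Finset.range (p - 1), (Y ^ i) w := by
  have hp1 : p - 1 + 1 = p := Nat.sub_add_cancel (Fact.out : p.Prime).one_le
  have h1 : sig p Y w = 0 := by rw [h0]; rfl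
  unfold sig at h1
  have hr : Finset.range p = Finset.range (p - 1 + 1) := by rw [hp1]
  rw [hr, Finset.sum_range_succ, LinearMap.add_apply, LinearMap.sum_apply] at h1
  exact eq_neg_of_add_eq_zero_right h1

/-- the trace of `Y` in a basis `Y^i w_j`, `i < p - 1`, is `-b`. -/
theorem dim_trace_L2W (Y : Module.End R N) (h0 : sig p Y = 0) (b : ℕ) (w : Fin b → N)
    (hli : LinearIndependent R (fun ij : Fin (p - 1) × Fin b => (Y ^ (ij.1 : ℕ)) (w ij.2)))
    (hspan : Submodule.span R
      (Set.range (fun ij : Fin (p - 1) × Fin b => (Y ^ (ij.1 : ℕ)) (w ij.2))) = ⊤) :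
    LinearMap.trace R N Y = -(b : R) := by
  classical
  have hp : p.Prime := Fact.out
  let bN := Module.Basis.mk hli hspan.ge
  have hbN : ∀ ij, bN ij = (Y ^ (ij.1 : ℕ)) (w ij.2) := fun ij => by
    simp only [bN, Module.Basis.mk_apply]
  rw [LinearMap.trace_eq_matrix_trace R bN, Matrix.trace]
  have hdiag : ∀ ij : Fin (p - 1) × Fin b,
      Matrix.diag (LinearMap.toMatrix bN bN Y) ij =
        if (ij.1 : ℕ) + 1 < p - 1 then 0 else -1 := by
    rintro ⟨i, j⟩
    show _ = if (i : ℕ) + 1 < p - 1 then (0 : R) else -1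
    rw [Matrix.diag_apply, LinearMap.toMatrix_apply, hbN]
    split_ifs with hlt
    · have h1 : Y ((Y ^ (i : ℕ)) (w j)) = bN (⟨(i : ℕ) + 1, hlt⟩, j) := by
        rw [hbN, ← Module.End.mul_apply, ← pow_succ']
      rw [h1, Module.Basis.repr_self, Finsupp.single_apply, if_neg]
      intro h
      have := congrArg (fun q : Fin (p - 1) × Fin b => (q.1 : ℕ)) h
      simp at this
    · have hi : (i : ℕ) + 1 = p - 1 := by have := i.2; omega
      have h1 : Y ((Y ^ (i : ℕ)) (w j)) = -∑ i' : Fin (p - 1), bN (i', j) := by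
        rw [← Module.End.mul_apply, ← pow_succ', hi, dim_pow_predW p Y h0]
        congr 1
        rw [← Fin.sum_univ_eq_sum_range (fun i' => (Y ^ i') (w j)) (p - 1)]
        exact Finset.sum_congr rfl fun i' _ => (hbN (i', j)).symm
      rw [h1, map_neg, map_sum, Finsupp.neg_apply, Finsupp.finsetSum_apply]
      simp only [Module.Basis.repr_self, Finsupp.single_apply]
      rw [Finset.sum_eq_single i]
      · simp
      · intro i' _ hne
        rw [if_neg]
        intro h
        exact hne (congrArg Prod.fst h)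
      · intro h; exact absurd (Finset.mem_univ i) h
  rw [Finset.sum_congr rfl fun ij _ => hdiag ij, Fintype.sum_prod_type, Finset.sum_comm]
  have hinner : ∀ j : Fin b, ∑ i : Fin (p - 1),
      (if ((i, j) : Fin (p - 1) × Fin b).1.1 + 1 < p - 1 then (0 : R) else -1) = -1 := by
    intro j
    have hp2 : p - 2 < p - 1 := by have := hp.two_le; omega
    rw [Finset.sum_eq_single (⟨p - 2, hp2⟩ : Fin (p - 1))]
    · rw [if_neg]
      simp only [not_lt]
      have := hp.two_le; omega
    · intro i _ hne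
      rw [if_pos]
      have h1 : (i : ℕ) ≠ p - 2 := fun h => hne (Fin.ext h)
      have := i.2
      show (i : ℕ) + 1 < p - 1
      omega
    · intro h; exact absurd (Finset.mem_univ _) h
  rw [Finset.sum_congr rfl fun j _ => hinner j]
  simp

end L2

section Proj

variable (p : ℕ) [Fact p.Prime] {R : Type*} [CommRing R]
variable {L : Type*} [AddCommGroup L] [Module R L]

theorem dim_restrict_pow_coeW (X : Module.End R L) (K : Submodule R L)
    (hK : ∀ u ∈ K, X u ∈ K) (n : ℕ) (u : K) :
    ((((X.restrict hK : Module.End R K)) ^ n) u : L) = (X ^ n) (u : L) := by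
  induction n generalizing u with
  | zero => simp
  | succ n ih =>
    rw [pow_succ, Module.End.mul_apply, ih, pow_succ, Module.End.mul_apply]
    rfl

theorem dim_restrict_sig_coeW (X : Module.End R L) (K : Submodule R L)
    (hK : ∀ u ∈ K, X u ∈ K) (u : K) :
    ((sig p (X.restrict hK : Module.End R K)) u : L) = sig p X (u : L) := by
  simp only [sig, LinearMap.sum_apply, AddSubmonoidClass.coe_finsetSum, dim_restrict_pow_coeW]

theorem dim_proj_XW (K Q : Submodule R L) (hc : IsCompl K Q) (X : Module.End R L)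
    (hK : ∀ u ∈ K, X u ∈ K) (hQ : ∀ u ∈ Q, X u ∈ Q) (y : L) :
    K.projectionOnto Q hc (X y) = (X.restrict hK) (K.projectionOnto Q hc y) := by
  have hy : y ∈ K ⊔ Q := by rw [hc.sup_eq_top]; trivial
  obtain ⟨k, hk, q, hq, rfl⟩ := Submodule.mem_sup.mp hy
  rw [map_add, map_add, map_add, Submodule.projectionOnto_apply_of_mem_left hc (hK k hk),
    Submodule.projectionOnto_apply_of_mem_right hc (hQ q hq),
    Submodule.projectionOnto_apply_of_mem_left hc hk,
    Submodule.projectionOnto_apply_of_mem_right hc hq, add_zero, add_zero]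
  rfl

theorem dim_proj_powW (K Q : Submodule R L) (hc : IsCompl K Q) (X : Module.End R L)
    (hK : ∀ u ∈ K, X u ∈ K) (hQ : ∀ u ∈ Q, X u ∈ Q) (n : ℕ) (y : L) :
    K.projectionOnto Q hc ((X ^ n) y) =
      ((X.restrict hK : Module.End R K) ^ n) (K.projectionOnto Q hc y) := by
  induction n generalizing y with
  | zero => simp
  | succ n ih =>
    rw [pow_succ', Module.End.mul_apply, dim_proj_XW K Q hc X hK hQ, ih, pow_succ',
      Module.End.mul_apply]

theorem dim_proj_sigW (K Q : Submodule R L) (hc : IsCompl K Q) (X : Module.End R L)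
    (hK : ∀ u ∈ K, X u ∈ K) (hQ : ∀ u ∈ Q, X u ∈ Q) (y : L) :
    K.projectionOnto Q hc (sig p X y) =
      sig p (X.restrict hK : Module.End R K) (K.projectionOnto Q hc y) := by
  simp only [sig, LinearMap.sum_apply, map_sum, dim_proj_powW K Q hc X hK hQ]

theorem dim_stable_supW (A B : Submodule R L) (X : Module.End R L)
    (hA : ∀ u ∈ A, X u ∈ A) (hB : ∀ u ∈ B, X u ∈ B) : ∀ u ∈ A ⊔ B, X u ∈ A ⊔ B := by
  intro u hu
  obtain ⟨a, ha, b, hb, rfl⟩ := Submodule.mem_sup.mp hu
  rw [map_add]
  exact Submodule.add_mem_sup (hA a ha) (hB b hb)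

end Proj

section Main

variable (p : ℕ) [Fact p.Prime] {R : Type*} [CommRing R] [IsDomain R] [IsDiscreteValuationRing R]
  [CharZero R] [PUnif R p]
variable {L : Type*} [AddCommGroup L] [Module R L] [Module.Free R L]
  [Module.Finite R L]

/-- `Ĥ⁰` cyclic forces `rank L₁ ≤ 1`. -/
theorem dim_a_leW (X : Module.End R L) (F L₁ L₂ : Submodule R L)
    (h1 : F ⊔ L₁ ⊔ L₂ = ⊤) (h2 : Disjoint F (L₁ ⊔ L₂)) (h3 : Disjoint L₁ L₂)
    (hF : ∀ u ∈ F, X u ∈ F) (hL1 : ∀ u ∈ L₁, X u = u) (hL2 : ∀ u ∈ L₂, X u ∈ L₂)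
    (hcyc : CyclicQuot p (fixedPts p X) (sigRange p X)) :
    Module.finrank R L₁ ≤ 1 := by
  have hc : IsCompl L₁ (F ⊔ L₂) := by
    refine ⟨dim_disjoint_BW F L₁ L₂ h2 h3, ?_⟩
    rw [codisjoint_iff, eq_top_iff, ← h1]
    exact sup_le (sup_le (le_sup_of_le_right le_sup_left) le_sup_left)
      (le_sup_of_le_right le_sup_right)
  have hK : ∀ u ∈ L₁, X u ∈ L₁ := fun u hu => by rw [hL1 u hu]; exact hu
  have hQ := dim_stable_supW F L₂ X hF hL2
  obtain ⟨w0, hw0, hcyc⟩ := hcyc
  set pr := L₁.projectionOnto (F ⊔ L₂) hc with hpr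
  have hrestrict : (X.restrict hK : Module.End R L₁) = 1 := by
    ext u
    show X (u : L) = u
    exact hL1 u u.2
  have hsig1 : ∀ u : L₁, sig p (X.restrict hK : Module.End R L₁) u = (p : R) • u := by
    intro u
    rw [hrestrict]
    simp [sig, LinearMap.sum_apply, Nat.cast_smul_eq_nsmul]
  have hgen : ∀ u : L₁, ∃ s ∈ Submodule.span R {pr w0}, ∃ u' : L₁,
      u = s + (p : R) • u' := by
    intro u
    have hu : (u : L) ∈ fixedPts p X := by
      show (X - 1) (u : L) = 0
      rw [LinearMap.sub_apply, Module.End.one_apply, hL1 u u.2, sub_self]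
    obtain ⟨c, y, hy⟩ := hcyc u hu
    refine ⟨c • pr w0, Submodule.smul_mem _ _ (Submodule.mem_span_singleton_self _), pr y, ?_⟩
    have h4 := congrArg pr hy
    rw [dim_proj_sigW p L₁ (F ⊔ L₂) hc X hK hQ, hsig1, map_sub, map_smul,
      Submodule.projectionOnto_apply_left hc u] at h4
    rw [h4]; abel
  have htop := s2_nakayamaW p (Submodule.span R {pr w0}) hgen
  refine finrank_le_one (pr w0) fun u => ?_
  have : u ∈ Submodule.span R {pr w0} := by rw [htop]; trivial
  exact Submodule.mem_span_singleton.mp this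

/-- `Ĥ⁻¹` cyclic forces `b ≤ 1`. -/
theorem dim_b_leW (X : Module.End R L) (F L₁ L₂ : Submodule R L)
    (h1 : F ⊔ L₁ ⊔ L₂ = ⊤) (h2 : Disjoint F (L₁ ⊔ L₂)) (h3 : Disjoint L₁ L₂)
    (hF : ∀ u ∈ F, X u ∈ F) (hL1 : ∀ u ∈ L₁, X u = u) (hL2 : ∀ u ∈ L₂, X u ∈ L₂)
    (hsig : ∀ u ∈ L₂, sig p X u = 0) (b : ℕ) (w : Fin b → L₂)
    (hli : LinearIndependent R (fun ij : Fin (p - 1) × Fin b =>
      ((X.restrict hL2 : Module.End R L₂) ^ (ij.1 : ℕ)) (w ij.2)))
    (hspan : Submodule.span R (Set.range (fun ij : Fin (p - 1) × Fin b =>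
      ((X.restrict hL2 : Module.End R L₂) ^ (ij.1 : ℕ)) (w ij.2))) = ⊤)
    (hcyc : CyclicQuot p (sigKer p X) (augRange p X)) :
    b ≤ 1 := by
  have hp : p.Prime := Fact.out
  have hc : IsCompl L₂ (F ⊔ L₁) := by
    refine ⟨dim_disjoint_CW F L₁ L₂ h2 h3, ?_⟩
    rw [codisjoint_iff, eq_top_iff, ← h1]
    exact sup_le le_sup_right le_sup_left
  have hK1 : ∀ u ∈ L₁, X u ∈ L₁ := fun u hu => by rw [hL1 u hu]; exact hu
  have hQ := dim_stable_supW F L₁ X hF hK1
  set Y : Module.End R L₂ := X.restrict hL2 with hY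
  have h0 : sig p Y = 0 := by
    ext u
    rw [dim_restrict_sig_coeW p X L₂ hL2 u]
    exact hsig u u.2
  obtain ⟨w0, hw0, hcyc⟩ := hcyc
  set pr := L₂.projectionOnto (F ⊔ L₁) hc with hpr
  set g : Fin (p - 1) → L₂ := fun i => (Y ^ (i : ℕ)) (pr w0) with hg
  set W := Submodule.span R (Set.range g) with hW
  have hp2 : 0 < p - 1 := by have := hp.two_le; omega
  have hgW : ∀ i : ℕ, i < p - 1 → (Y ^ i) (pr w0) ∈ W := fun i hi =>
    Submodule.subset_span ⟨⟨i, hi⟩, rfl⟩
  have hWstab : ∀ s ∈ W, (Y - 1) s ∈ W := by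
    intro s hs
    induction hs using Submodule.span_induction with
    | mem x hx =>
      obtain ⟨i, rfl⟩ := hx
      rw [LinearMap.sub_apply, Module.End.one_apply]
      refine W.sub_mem ?_ (hgW i i.2)
      show Y ((Y ^ (i : ℕ)) (pr w0)) ∈ W
      rw [← Module.End.mul_apply, ← pow_succ']
      by_cases hi : (i : ℕ) + 1 < p - 1
      · exact hgW _ hi
      · have hi' : (i : ℕ) + 1 = p - 1 := by have := i.2; omega
        rw [hi', dim_pow_predW p Y h0]
        exact W.neg_mem (W.sum_mem fun i' hi' => hgW i' (Finset.mem_range.mp hi'))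
    | zero => simp
    | add x y _ _ hx hy => rw [map_add]; exact W.add_mem hx hy
    | smul a x _ hx => rw [map_smul]; exact W.smul_mem a hx
  have hgen : ∀ u : L₂, ∃ s ∈ W, ∃ u' : L₂, u = s + (Y - 1) u' := by
    intro u
    have hu : (u : L) ∈ sigKer p X := hsig u u.2
    obtain ⟨c, y, hy⟩ := hcyc u hu
    refine ⟨c • pr w0, W.smul_mem _ (by simpa using hgW 0 hp2), pr y, ?_⟩
    have h4 := congrArg pr hy
    rw [LinearMap.sub_apply, Module.End.one_apply, map_sub,
      dim_proj_XW L₂ (F ⊔ L₁) hc X hL2 hQ, map_sub, map_smul,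
      Submodule.projectionOnto_apply_left hc u] at h4
    rw [LinearMap.sub_apply, Module.End.one_apply, h4]
    abel
  have hWtop : W = ⊤ := by
    apply s2_nakayamaW p
    intro u
    obtain ⟨s, hs, u', hu'⟩ := s2_iterateW Y W hWstab hgen (p - 1) u
    obtain ⟨u'', hu''⟩ := s2_pow_memW p Y h0 u'
    exact ⟨s, hs, u'', by rw [hu', hu'']⟩
  have hrank : Module.finrank R L₂ = (p - 1) * b := by
    rw [Module.finrank_eq_card_basis (Module.Basis.mk hli hspan.ge)]
    simp
  have hle : Module.finrank R L₂ ≤ p - 1 := by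
    have h5 := finrank_range_le_card (R := R) g
    rw [Set.finrank, ← hW, hWtop, finrank_top, Fintype.card_fin] at h5
    exact h5
  rw [hrank] at hle
  exact Nat.le_of_mul_le_mul_left (by simpa using hle) hp2

/-- PIECE DIM (Herbrand quotient = trace). -/
theorem trace_eq_sub (X : Module.End R L) (hX : X ^ p = 1) :
    ∃ a b : ℕ, LinearMap.trace R L X = (a : R) - (b : R) ∧
      (CyclicQuot p (fixedPts p X) (sigRange p X) → a ≤ 1) ∧
      (CyclicQuot p (sigKer p X) (augRange p X) → b ≤ 1) := by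
  classical
  have hp : p.Prime := Fact.out
  obtain ⟨F, L₁, L₂, r, v, h1, h2, h3, hF, hL1, hL2, hsig, hli, hspan⟩ := reiner_split p X hX
  have hK1 : ∀ u ∈ L₁, X u ∈ L₁ := fun u hu => by rw [hL1 u hu]; exact hu
  set Y : Module.End R L₂ := X.restrict hL2 with hY
  have h0 : sig p Y = 0 := by
    ext u
    rw [dim_restrict_sig_coeW p X L₂ hL2 u]
    exact hsig u u.2
  have hYp : Y ^ p = 1 := by
    ext u
    rw [dim_restrict_pow_coeW X L₂ hL2 p u, hX]
    rfl
  obtain ⟨b, w, hli2, hspan2⟩ := sig_zero_basis p Y hYp h0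
  refine ⟨Module.finrank R L₁, b, ?_, ?_, ?_⟩
  · rw [dim_trace3W F L₁ L₂ h1 h2 h3 X hF hK1 hL2]
    -- F part
    have hp0 : 0 < p := hp.pos
    have htrF : LinearMap.trace R F (X.restrict hF) = 0 := by
      refine dim_trace_permW F X hF
        (fun ij : Fin p × Fin r => (X ^ (ij.1 : ℕ)) (v ij.2)) hli hspan
        (fun ij => (⟨((ij.1 : ℕ) + 1) % p, Nat.mod_lt _ hp0⟩, ij.2)) ?_ ?_
      · rintro ⟨i, j⟩ h
        have h5 := congrArg (fun q : Fin p × Fin r => (q.1 : ℕ)) h
        simp only at h5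
        have hi := i.2
        by_cases hlt : (i : ℕ) + 1 < p
        · rw [Nat.mod_eq_of_lt hlt] at h5; omega
        · have : (i : ℕ) + 1 = p := by omega
          rw [this, Nat.mod_self] at h5
          have := hp.two_le
          omega
      · rintro ⟨i, j⟩
        show X ((X ^ (i : ℕ)) (v j)) = (X ^ (((i : ℕ) + 1) % p)) (v j)
        rw [← Module.End.mul_apply, ← pow_succ', pow_eq_pow_mod ((i : ℕ) + 1) hX]
    have htrL1 : LinearMap.trace R L₁ (X.restrict hK1) =
        (Module.finrank R L₁ : R) := by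
      have : (X.restrict hK1 : Module.End R L₁) = 1 := by
        ext u
        show X (u : L) = u
        exact hL1 u u.2
      rw [this, LinearMap.trace_one]
    have htrL2 : LinearMap.trace R L₂ (X.restrict hL2) = -(b : R) :=
      dim_trace_L2W p Y h0 b w hli2 hspan2
    rw [htrF, htrL1, htrL2]
    ring
  · exact dim_a_leW p X F L₁ L₂ h1 h2 h3 hF hL1 hL2
  · exact dim_b_leW p X F L₁ L₂ h1 h2 h3 hF hL1 hL2 hsig b w hli2 hspan2

end Main

end Cfsg.Agent.Helper5.TLR
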