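import Mathlib

set_option autoImplicit false

namespace Cfsg.Agent.Helper19

/-- A normal subgroup of prime order `p` in a finite `p`-group is central. -/
theorem normal_card_prime_le_center {G : Type*} [Group G] [Finite G] {p : ℕ} [Fact p.Prime]
    (hG : IsPGroup p G) (N : Subgroup G) [hN : N.Normal] (hc : Nat.card N = p) :
    N ≤ Subgroup.center G := by
  let _inst : MulAction G N := MulAction.compHom N (MulAut.conjNormal : G →* MulAut N)
  have hsmul : ∀ (g : G) (n : N), ((g • n : N) : G) = g * n * g⁻¹ := fun g n => rfl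
  have h1 : (1 : N) ∈ MulAction.fixedPoints G N := by
    intro g
    apply Subtype.ext
    rw [hsmul]
    simp
  obtain ⟨b, hb, hb1⟩ :=
    hG.exists_fixed_point_of_prime_dvd_card_of_fixed_point N (by rw [hc]) h1
  have hbc : ∀ g : G, g * (b : G) * g⁻¹ = b := by
    intro g
    have := hb g
    rw [← hsmul, this]
  intro x hx
  have hxb : (⟨x, hx⟩ : N) ∈ Subgroup.zpowers b := mem_zpowers_of_prime_card hc (Ne.symm hb1)
  obtain ⟨k, hk⟩ := Subgroup.mem_zpowers_iff.mp hxb
  have hxk : x = (b : G) ^ k := by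
    have := congrArg Subtype.val hk
    simpa using this.symm
  rw [Subgroup.mem_center_iff]
  intro g
  have hcomm : Commute g (b : G) := by
    have := hbc g
    show g * (b : G) = b * g
    calc g * (b : G) = (g * b * g⁻¹) * g := by group
      _ = b * g := by rw [this]
  rw [hxk]
  exact (hcomm.zpow_right k).eq

/-- A subgroup of index `p` in a finite `p`-group is normal. -/
theorem normal_of_index_eq_prime {G : Type*} [Group G] [Finite G] {p : ℕ} [Fact p.Prime]
    (hG : IsPGroup p G) (Q : Subgroup G) (hQ : Q.index = p) : Q.Normal := by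
  apply Subgroup.normal_of_index_eq_minFac_card
  rw [hQ]
  obtain ⟨n, hn⟩ := hG.exists_card_eq
  have hn0 : n ≠ 0 := by
    rintro rfl
    rw [pow_zero] at hn
    have : Q.index ∣ Nat.card G := Subgroup.index_dvd_card Q
    rw [hn, hQ, Nat.dvd_one] at this
    exact (Fact.out : p.Prime).one_lt.ne' this
  rw [hn, Nat.Prime.pow_minFac Fact.out hn0]

/-- A subgroup of prime index is maximal. -/
theorem eq_top_of_index_prime {G : Type*} [Group G] {p : ℕ} (hp : p.Prime) (H K : Subgroup G)
    (hH : H.index = p) (hHK : H ≤ K) (hne : ¬ K ≤ H) : K = ⊤ := by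
  have h2 := Subgroup.relIndex_mul_index hHK
  rw [hH] at h2
  have h3 : K.index ∣ p := Dvd.intro_left _ h2
  rcases (Nat.dvd_prime hp).mp h3 with h4 | h4
  · exact Subgroup.index_eq_one.mp h4
  · exfalso
    rw [h4] at h2
    have h5 : H.relIndex K = 1 := by
      have : H.relIndex K * p = 1 * p := by rw [h2, one_mul]
      exact Nat.eq_of_mul_eq_mul_right hp.pos this
    rw [Subgroup.relIndex_eq_one] at h5
    exact hne h5

/-- A nontrivial normal subgroup of a finite `p`-group meets the centre nontrivially. -/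
theorem normal_inf_center_ne_bot {G : Type*} [Group G] [Finite G] {p : ℕ} [Fact p.Prime]
    (hG : IsPGroup p G) (N : Subgroup G) [hN : N.Normal] (hne : N ≠ ⊥) :
    N ⊓ Subgroup.center G ≠ ⊥ := by
  let _inst : MulAction G N := MulAction.compHom N (MulAut.conjNormal : G →* MulAut N)
  have hsmul : ∀ (g : G) (n : N), ((g • n : N) : G) = g * n * g⁻¹ := fun g n => rfl
  have h1 : (1 : N) ∈ MulAction.fixedPoints G N := by
    intro g
    apply Subtype.ext
    rw [hsmul]
    simp
  have hdvd : p ∣ Nat.card N := by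
    have hNp : IsPGroup p N := hG.to_subgroup N
    have : Nontrivial N := (Subgroup.nontrivial_iff_ne_bot N).mpr hne
    obtain ⟨n, hn0, hn⟩ := hNp.nontrivial_iff_card.mp inferInstance
    rw [hn]
    exact dvd_pow_self _ (ne_of_gt hn0)
  obtain ⟨b, hb, hb1⟩ :=
    hG.exists_fixed_point_of_prime_dvd_card_of_fixed_point N hdvd h1
  have hbc : ∀ g : G, g * (b : G) * g⁻¹ = b := by
    intro g
    have := hb g
    rw [← hsmul, this]
  intro hbot
  have hbcen : (b : G) ∈ Subgroup.center G := by
    rw [Subgroup.mem_center_iff]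
    intro g
    have := hbc g
    calc g * (b : G) = (g * b * g⁻¹) * g := by group
      _ = b * g := by rw [this]
  have hmem : (b : G) ∈ N ⊓ Subgroup.center G := Subgroup.mem_inf.mpr ⟨b.2, hbcen⟩
  rw [hbot, Subgroup.mem_bot] at hmem
  apply hb1
  apply Subtype.ext
  exact hmem.symm

/-- A finite `p`-group whose order divides `p ^ 2` is commutative. -/
theorem commutative_of_card_dvd_prime_sq {P : Type*} [Group P] [Finite P] {p : ℕ} [Fact p.Prime]
    (h : Nat.card P ∣ p ^ 2) : ∀ a b : P, a * b = b * a := by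
  have hp : p.Prime := Fact.out
  obtain ⟨k, hk, hk'⟩ := (Nat.dvd_prime_pow hp).mp h
  interval_cases k
  · rw [pow_zero] at hk'
    have : Subsingleton P := (Nat.card_eq_one_iff_unique.mp hk').1
    intro a b
    exact Subsingleton.elim _ _
  · rw [pow_one] at hk'
    have := isCyclic_of_prime_card hk'
    intro a b
    exact (IsCyclic.commGroup (α := P)).mul_comm a b
  · exact fun a b => (IsPGroup.isMulCommutative_of_card_eq_prime_sq hk').is_comm.comm a b

section CommHom

variable {G : Type*} [Group G]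

/-- When all commutators `⁅g, x⁆` lie in a central subgroup `Z`, `g ↦ ⁅g, x⁆` is a
homomorphism to `Z`. -/
def commHom (x : G) (Z : Subgroup G) (hZ : Z ≤ Subgroup.center G) (h : ∀ g : G, g * x * g⁻¹ * x⁻¹ ∈ Z) :
    G →* ↥Z where
  toFun g := ⟨g * x * g⁻¹ * x⁻¹, h g⟩
  map_one' := by
    apply Subtype.ext
    simp
  map_mul' := by
    intro a b
    apply Subtype.ext
    have hb := Subgroup.mem_center_iff.mp (hZ (h b))
    show a * b * x * (a * b)⁻¹ * x⁻¹ = (a * x * a⁻¹ * x⁻¹) * (b * x * b⁻¹ * x⁻¹)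
    calc a * b * x * (a * b)⁻¹ * x⁻¹ = a * ((b * x * b⁻¹ * x⁻¹) * x) * a⁻¹ * x⁻¹ := by group
      _ = (a * (b * x * b⁻¹ * x⁻¹)) * x * a⁻¹ * x⁻¹ := by group
      _ = ((b * x * b⁻¹ * x⁻¹) * a) * x * a⁻¹ * x⁻¹ := by rw [hb a]
      _ = (b * x * b⁻¹ * x⁻¹) * (a * x * a⁻¹ * x⁻¹) := by group
      _ = (a * x * a⁻¹ * x⁻¹) * (b * x * b⁻¹ * x⁻¹) :=
          (Subgroup.mem_center_iff.mp (hZ (h b)) _).symm

theorem commHom_apply (x : G) (Z : Subgroup G) (hZ : Z ≤ Subgroup.center G)
    (h : ∀ g : G, g * x * g⁻¹ * x⁻¹ ∈ Z) (g : G) :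
    ((commHom x Z hZ h g : ↥Z) : G) = g * x * g⁻¹ * x⁻¹ := rfl

theorem mem_commHom_ker (x : G) (Z : Subgroup G) (hZ : Z ≤ Subgroup.center G)
    (h : ∀ g : G, g * x * g⁻¹ * x⁻¹ ∈ Z) (g : G) :
    g ∈ (commHom x Z hZ h).ker ↔ g * x = x * g := by
  rw [MonoidHom.mem_ker]
  constructor
  · intro hg
    have := congrArg Subtype.val hg
    rw [commHom_apply] at this
    have h2 : g * x * g⁻¹ * x⁻¹ = 1 := this
    calc g * x = (g * x * g⁻¹ * x⁻¹) * (x * g) := by group
      _ = x * g := by rw [h2, one_mul]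
  · intro hg
    apply Subtype.ext
    rw [commHom_apply]
    show g * x * g⁻¹ * x⁻¹ = 1
    rw [hg]
    group

end CommHom

/-- In a finite `p`-group a proper inclusion of subgroups multiplies the order by at least `p`. -/
theorem mul_card_le_of_lt {G : Type*} [Group G] [Finite G] {p : ℕ} [Fact p.Prime]
    (hG : IsPGroup p G) {H K : Subgroup G} (h : H < K) : p * Nat.card H ≤ Nat.card K := by
  have hp : p.Prime := Fact.out
  have h1 : Nat.card H * H.relIndex K = Nat.card K := by
    have := Subgroup.relIndex_mul_relIndex (⊥ : Subgroup G) H K bot_le h.le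
    rwa [Subgroup.relIndex_bot_left, Subgroup.relIndex_bot_left] at this
  have h2 : H.relIndex K ≠ 1 := fun h' => h.not_ge (Subgroup.relIndex_eq_one.mp h')
  obtain ⟨k, hk⟩ := (hG.to_subgroup K).exists_card_eq
  have h3 : H.relIndex K ∣ p ^ k := by
    rw [← hk]
    exact Subgroup.relIndex_dvd_card H K
  obtain ⟨e, -, he⟩ := (Nat.dvd_prime_pow hp).mp h3
  have he0 : e ≠ 0 := by
    rintro rfl
    rw [pow_zero] at he
    exact h2 he
  have h4 : p ≤ H.relIndex K := by
    rw [he]
    calc p = p ^ 1 := (pow_one p).symm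
      _ ≤ p ^ e := Nat.pow_le_pow_right hp.pos (Nat.one_le_iff_ne_zero.mpr he0)
  calc p * Nat.card H ≤ H.relIndex K * Nat.card H := Nat.mul_le_mul_right _ h4
    _ = Nat.card K := by rw [mul_comm, h1]

/-- Adjoining to an abelian subgroup an element commuting with it gives an abelian subgroup. -/
theorem commute_sup_zpowers {G : Type*} [Group G] (K : Subgroup G)
    (hK : ∀ a ∈ K, ∀ b ∈ K, a * b = b * a) (g : G) (hg : ∀ a ∈ K, a * g = g * a) :
    ∀ a ∈ K ⊔ Subgroup.zpowers g, ∀ b ∈ K ⊔ Subgroup.zpowers g, a * b = b * a := by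
  have hc1 : K ⊔ Subgroup.zpowers g ≤ Subgroup.centralizer ({g} : Set G) := by
    apply sup_le
    · intro a ha
      rw [Subgroup.mem_centralizer_iff]
      intro d hd
      rw [Set.mem_singleton_iff] at hd
      rw [hd]
      exact (hg a ha).symm
    · rw [Subgroup.zpowers_le, Subgroup.mem_centralizer_iff]
      intro d hd
      rw [Set.mem_singleton_iff] at hd
      rw [hd]
  have hc2 : K ⊔ Subgroup.zpowers g ≤
      Subgroup.centralizer ((K ⊔ Subgroup.zpowers g : Subgroup G) : Set G) := by
    apply sup_le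
    · rw [Subgroup.le_centralizer_iff]
      apply sup_le
      · intro a ha
        rw [Subgroup.mem_centralizer_iff]
        intro b hb
        exact hK b hb a ha
      · rw [Subgroup.zpowers_le, Subgroup.mem_centralizer_iff]
        intro a ha
        exact hg a ha
    · rw [Subgroup.zpowers_le, Subgroup.mem_centralizer_iff]
      intro d hd
      have := hc1 hd
      rw [Subgroup.mem_centralizer_iff] at this
      exact (this g rfl).symm
  intro a ha b hb
  have := hc2 hb
  rw [Subgroup.mem_centralizer_iff] at this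
  exact this a ha

end Cfsg.Agent.Helper19
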