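import Mathlib
import Cfsg.Agent.Lib.Helper19.PGroupBasic

set_option autoImplicit false

namespace Cfsg.Agent.Helper19

universe u

/-- Relative maximality of a subgroup of prime relative index. -/
theorem le_of_relIndex_prime {G : Type*} [Group G] {p : ℕ} (hp : p.Prime) (H K L : Subgroup G)
    (hHL : H.relIndex L = p) (hHK : H ≤ K) (hne : ∃ k ∈ K, k ∈ L ∧ k ∉ H) : L ≤ K := by
  rw [← Subgroup.subgroupOf_eq_top]
  apply eq_top_of_index_prime hp (H.subgroupOf L) (K.subgroupOf L) hHL
  · intro a ha
    exact hHK ha
  · intro hle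
    obtain ⟨k, hkK, hkL, hkH⟩ := hne
    apply hkH
    have : (⟨k, hkL⟩ : ↥L) ∈ K.subgroupOf L := hkK
    exact hle this

/-- A finite `p`-group of class at most two whose centre has order `p` has order `p ^ (1 + 2 m)`. -/
theorem card_of_commutator_le_center_prime (p : ℕ) [Fact p.Prime] :
    ∀ (n : ℕ) (P : Type u) [Group P] [Finite P], Nat.card P = n → IsPGroup p P →
      commutator P ≤ Subgroup.center P → Nat.card (Subgroup.center P) = p →
      ∃ m : ℕ, Nat.card P = p ^ (1 + 2 * m) := by
  have hp : p.Prime := Fact.out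
  intro n
  induction n using Nat.strong_induction_on with
  | _ n ih =>
    intro P _ _ hn hP hcomm hZ
    by_cases htop : Subgroup.center P = ⊤
    · refine ⟨0, ?_⟩
      rw [htop, Subgroup.card_top] at hZ
      rw [hZ]
      simp
    -- pick non-commuting x, y
    obtain ⟨x, hx⟩ : ∃ x, x ∉ Subgroup.center P := by
      by_contra h
      push Not at h
      exact htop (eq_top_iff.mpr fun y _ => h y)
    obtain ⟨y, hxy⟩ : ∃ y, y * x ≠ x * y := by
      by_contra h
      push Not at h
      exact hx (Subgroup.mem_center_iff.mpr h)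
    have hall : ∀ a g : P, g * a * g⁻¹ * a⁻¹ ∈ Subgroup.center P := by
      intro a g
      apply hcomm
      rw [commutator_def]
      have := Subgroup.commutator_mem_commutator (Subgroup.mem_top g) (Subgroup.mem_top a)
      rwa [commutatorElement_def] at this
    obtain ⟨fx, hfx⟩ : ∃ f : P →* ↥(Subgroup.center P), ∀ g, g ∈ f.ker ↔ g * x = x * g :=
      ⟨commHom x (Subgroup.center P) le_rfl (hall x), mem_commHom_ker x _ le_rfl (hall x)⟩
    obtain ⟨fy, hfy⟩ : ∃ f : P →* ↥(Subgroup.center P), ∀ g, g ∈ f.ker ↔ g * y = y * g :=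
      ⟨commHom y (Subgroup.center P) le_rfl (hall y), mem_commHom_ker y _ le_rfl (hall y)⟩
    have hidx : ∀ f : P →* ↥(Subgroup.center P), f.ker ≠ ⊤ → f.ker.index = p := by
      intro f hf
      have h1 : f.ker.index ∣ p := by
        rw [Subgroup.index_ker, ← hZ]
        exact Subgroup.card_subgroup_dvd_card _
      rcases (Nat.dvd_prime hp).mp h1 with h | h
      · exact absurd (Subgroup.index_eq_one.mp h) hf
      · exact h
    have hyx : y ∉ fx.ker := fun h => hxy ((hfx y).mp h)
    have hxy' : x ∉ fy.ker := fun h => hxy ((hfy x).mp h).symm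
    have hxx : x ∈ fx.ker := (hfx x).mpr rfl
    have hyy : y ∈ fy.ker := (hfy y).mpr rfl
    have hix : fx.ker.index = p := hidx fx (fun h => hyx (h ▸ Subgroup.mem_top y))
    have hiy : fy.ker.index = p := hidx fy (fun h => hxy' (h ▸ Subgroup.mem_top x))
    -- joins are everything
    have hsup1 : fy.ker ⊔ fx.ker = ⊤ :=
      eq_top_of_index_prime hp fx.ker _ hix le_sup_right
        (fun hle => hyx (hle ((le_sup_left : fy.ker ≤ fy.ker ⊔ fx.ker) hyy)))
    have hsup2 : fx.ker ⊔ fy.ker = ⊤ := by rw [sup_comm]; exact hsup1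
    have hrel1 : fx.ker.relIndex fy.ker = p := by
      rw [← Subgroup.relIndex_sup_right (K := fx.ker) (H := fy.ker), hsup1,
        Subgroup.relIndex_top_right, hix]
    have hrel2 : fy.ker.relIndex fx.ker = p := by
      rw [← Subgroup.relIndex_sup_right (K := fy.ker) (H := fx.ker), hsup2,
        Subgroup.relIndex_top_right, hiy]
    -- the centraliser of x and y
    set P₁ : Subgroup P := fx.ker ⊓ fy.ker with hP₁
    have hP₁mem : ∀ g, g ∈ P₁ ↔ g * x = x * g ∧ g * y = y * g := by
      intro g
      rw [hP₁, Subgroup.mem_inf, hfx, hfy]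
    have hP₁rel1 : P₁.relIndex fy.ker = p := by
      rw [hP₁, Subgroup.inf_relIndex_right, hrel1]
    have hP₁rel2 : P₁.relIndex fx.ker = p := by
      rw [hP₁, Subgroup.inf_relIndex_left, hrel2]
    have hP₁idx : P₁.index = p * p := by
      rw [← Subgroup.relIndex_mul_index (inf_le_right : P₁ ≤ fy.ker), hP₁rel1, hiy]
    have hcardP : Nat.card P = Nat.card P₁ * (p * p) := by
      rw [← hP₁idx, Subgroup.card_mul_index]
    -- centre of P₁
    have hcen : (Subgroup.center ↥P₁).map P₁.subtype = Subgroup.center P := by
      apply le_antisymm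
      · rintro w ⟨⟨w, hw1⟩, hwc, rfl⟩
        have hwc' : ∀ g ∈ P₁, g * w = w * g := by
          intro g hg
          have := Subgroup.mem_center_iff.mp hwc ⟨g, hg⟩
          exact congrArg Subtype.val this
        have hw := (hP₁mem w).mp hw1
        -- the centraliser of w is everything
        have hP₁K : P₁ ≤ Subgroup.centralizer ({w} : Set P) := by
          intro g hg
          rw [Subgroup.mem_centralizer_iff]
          intro d hd
          rw [Set.mem_singleton_iff] at hd
          rw [hd]
          exact (hwc' g hg).symm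
        have hxK : x ∈ Subgroup.centralizer ({w} : Set P) := by
          rw [Subgroup.mem_centralizer_iff]
          intro d hd
          rw [Set.mem_singleton_iff] at hd
          rw [hd]
          exact hw.1
        have hyK : y ∈ Subgroup.centralizer ({w} : Set P) := by
          rw [Subgroup.mem_centralizer_iff]
          intro d hd
          rw [Set.mem_singleton_iff] at hd
          rw [hd]
          exact hw.2
        have h1 : fx.ker ≤ Subgroup.centralizer ({w} : Set P) :=
          le_of_relIndex_prime hp P₁ _ fx.ker hP₁rel2 hP₁K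
            ⟨x, hxK, hxx, fun h => hxy' ((inf_le_right : P₁ ≤ fy.ker) h)⟩
        have h2 : Subgroup.centralizer ({w} : Set P) = ⊤ :=
          eq_top_of_index_prime hp fx.ker _ hix h1 (fun hle => hyx (hle hyK))
        show w ∈ Subgroup.center P
        rw [Subgroup.mem_center_iff]
        intro g
        have hg : g ∈ Subgroup.centralizer ({w} : Set P) := h2 ▸ Subgroup.mem_top g
        rw [Subgroup.mem_centralizer_iff] at hg
        exact (hg w rfl).symm
      · intro z hz
        have hz' := Subgroup.mem_center_iff.mp hz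
        have hz1 : z ∈ P₁ := (hP₁mem z).mpr ⟨(hz' x).symm, (hz' y).symm⟩
        refine ⟨⟨z, hz1⟩, ?_, rfl⟩
        show (⟨z, hz1⟩ : ↥P₁) ∈ Subgroup.center ↥P₁
        rw [Subgroup.mem_center_iff]
        intro g
        apply Subtype.ext
        exact hz' g
    have hZ₁ : Nat.card (Subgroup.center ↥P₁) = p := by
      rw [← Subgroup.card_map_of_injective P₁.subtype_injective, hcen, hZ]
    have hcomm₁ : commutator ↥P₁ ≤ Subgroup.center ↥P₁ := by
      rw [commutator_def, Subgroup.commutator_le]
      intro a _ b _
      rw [Subgroup.mem_center_iff]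
      intro g
      apply Subtype.ext
      have h1 : (a : P) * (b : P) * (a : P)⁻¹ * (b : P)⁻¹ ∈ Subgroup.center P := by
        have := hall (b : P) (a : P)
        exact this
      have := Subgroup.mem_center_iff.mp h1 (g : P)
      simpa [commutatorElement_def] using this
    have hlt : Nat.card ↥P₁ < n := by
      rw [← hn, hcardP]
      have h1 : 0 < Nat.card ↥P₁ := Nat.card_pos
      have h2 : 1 < p * p := by nlinarith [hp.one_lt]
      nlinarith
    obtain ⟨m, hm⟩ := ih (Nat.card ↥P₁) hlt ↥P₁ rfl (hP.to_subgroup P₁) hcomm₁ hZ₁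
    refine ⟨m + 1, ?_⟩
    rw [hcardP, hm]
    ring

end Cfsg.Agent.Helper19
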