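import Mathlib
import Cfsg.Agent.Lib.Helper19.PGroupBasic
import Cfsg.Agent.Lib.Helper19.Extraspecial

set_option autoImplicit false

namespace Cfsg.Agent.Helper19

variable {G : Type*} [Group G]

/-- Relative commutator homomorphism `k ↦ x k x⁻¹ k⁻¹` from `K` to a subgroup `Z`
centralised by `K`. -/
def commHomRel (K Z : Subgroup G) (x : G) (hZK : ∀ k ∈ K, ∀ z ∈ Z, k * z = z * k)
    (h : ∀ k ∈ K, x * k * x⁻¹ * k⁻¹ ∈ Z) : ↥K →* ↥Z where
  toFun k := ⟨x * k * x⁻¹ * (k : G)⁻¹, h k k.2⟩
  map_one' := by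
    apply Subtype.ext
    simp
  map_mul' := by
    intro a b
    apply Subtype.ext
    have hb := hZK a a.2 _ (h b b.2)
    show x * ((a : G) * b) * x⁻¹ * ((a : G) * b)⁻¹ =
      (x * a * x⁻¹ * (a : G)⁻¹) * (x * b * x⁻¹ * (b : G)⁻¹)
    calc x * ((a : G) * b) * x⁻¹ * ((a : G) * b)⁻¹
        = (x * a * x⁻¹ * (a : G)⁻¹) * ((a : G) * (x * b * x⁻¹ * (b : G)⁻¹)) * (a : G)⁻¹ := by group
      _ = (x * a * x⁻¹ * (a : G)⁻¹) * ((x * b * x⁻¹ * (b : G)⁻¹) * (a : G)) * (a : G)⁻¹ := by
          rw [hb]
      _ = (x * a * x⁻¹ * (a : G)⁻¹) * (x * b * x⁻¹ * (b : G)⁻¹) := by group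

theorem mem_commHomRel_ker (K Z : Subgroup G) (x : G)
    (hZK : ∀ k ∈ K, ∀ z ∈ Z, k * z = z * k) (h : ∀ k ∈ K, x * k * x⁻¹ * k⁻¹ ∈ Z) (k : ↥K) :
    k ∈ (commHomRel K Z x hZK h).ker ↔ x * (k : G) = k * x := by
  rw [MonoidHom.mem_ker]
  constructor
  · intro hk
    have h2 : x * (k : G) * x⁻¹ * (k : G)⁻¹ = 1 := congrArg Subtype.val hk
    calc x * (k : G) = (x * k * x⁻¹ * (k : G)⁻¹) * (k * x) := by group
      _ = k * x := by rw [h2, one_mul]
  · intro hk
    apply Subtype.ext
    show x * (k : G) * x⁻¹ * (k : G)⁻¹ = 1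
    rw [hk]
    group

/-- If the commutators of `K` with `x` lie in a subgroup `Z` of prime order `p` centralised by
`K`, then `C_K(x)` has index dividing `p` in `K`. -/
theorem relIndex_centralizer_dvd_prime [Finite G] {p : ℕ} (K Z : Subgroup G) (x : G)
    (hZ : Nat.card Z = p)
    (hZK : ∀ k ∈ K, ∀ z ∈ Z, k * z = z * k) (h : ∀ k ∈ K, x * k * x⁻¹ * k⁻¹ ∈ Z) :
    (K ⊓ Subgroup.centralizer ({x} : Set G)).relIndex K ∣ p := by
  have hker : (commHomRel K Z x hZK h).ker = (Subgroup.centralizer ({x} : Set G)).subgroupOf K := by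
    ext k
    rw [mem_commHomRel_ker, Subgroup.mem_subgroupOf, Subgroup.mem_centralizer_iff]
    constructor
    · intro hk d hd
      rw [Set.mem_singleton_iff] at hd
      rw [hd]
      exact hk
    · intro hk
      exact hk x rfl
  rw [Subgroup.inf_relIndex_left]
  show ((Subgroup.centralizer ({x} : Set G)).subgroupOf K).index ∣ p
  rw [← hker, Subgroup.index_ker, ← hZ]
  exact Subgroup.card_subgroup_dvd_card _

/-- The commutator pairing lemma: if all commutators of `A` with `B` lie in a subgroup `Z` of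
prime order centralised by `A` and `B`, then `|A : C_A(B)| = |B : C_B(A)|`. -/
theorem relIndex_centralizer_eq_of_pairing [Finite G] {p : ℕ} (hp : p.Prime) (A Z : Subgroup G)
    (hZ : Nat.card Z = p) (hZA : ∀ a ∈ A, ∀ z ∈ Z, a * z = z * a) :
    ∀ (n : ℕ) (B : Subgroup G), Nat.card B = n → (∀ b ∈ B, ∀ z ∈ Z, b * z = z * b) →
      (∀ a ∈ A, ∀ b ∈ B, a * b * a⁻¹ * b⁻¹ ∈ Z) →
      (A ⊓ Subgroup.centralizer (B : Set G)).relIndex A =
        (B ⊓ Subgroup.centralizer (A : Set G)).relIndex B := by
  intro n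
  induction n using Nat.strong_induction_on with
  | _ n ih =>
    intro B hn hZB hAB
    by_cases hcen : A ≤ Subgroup.centralizer (B : Set G)
    · have hcen' : B ≤ Subgroup.centralizer (A : Set G) := Subgroup.le_centralizer_iff.mp hcen
      rw [inf_eq_left.mpr hcen, inf_eq_left.mpr hcen', Subgroup.relIndex_self,
        Subgroup.relIndex_self]
    -- pick a ∈ A not centralising B
    obtain ⟨a, haA, haB⟩ : ∃ a ∈ A, a ∉ Subgroup.centralizer (B : Set G) := by
      by_contra h
      push Not at h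
      exact hcen h
    obtain ⟨b, hbB, hab⟩ : ∃ b ∈ B, b * a ≠ a * b := by
      by_contra h
      push Not at h
      apply haB
      rw [Subgroup.mem_centralizer_iff]
      exact h
    set B₁ : Subgroup G := B ⊓ Subgroup.centralizer ({a} : Set G) with hB₁
    have hB₁B : B₁ ≤ B := inf_le_left
    have hbB₁ : b ∉ B₁ := by
      intro h
      have h2 : b ∈ Subgroup.centralizer ({a} : Set G) := h.2
      rw [Subgroup.mem_centralizer_iff] at h2
      exact hab (h2 a rfl).symm
    have hcommBa : ∀ k ∈ B, a * k * a⁻¹ * k⁻¹ ∈ Z := fun k hk => hAB a haA k hk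
    have hrelB : B₁.relIndex B = p := by
      have h1 : B₁.relIndex B ∣ p := relIndex_centralizer_dvd_prime B Z a hZ hZB hcommBa
      rcases (Nat.dvd_prime hp).mp h1 with h | h
      · exact absurd (Subgroup.relIndex_eq_one.mp h hbB) hbB₁
      · exact h
    have hcardB₁ : Nat.card B₁ < n := by
      rw [← hn]
      apply lt_of_le_of_ne (Subgroup.card_le_of_le hB₁B)
      intro h
      have := Subgroup.eq_of_le_of_card_ge hB₁B h.ge
      exact hbB₁ (this ▸ hbB)
    have ih₁ := ih (Nat.card B₁) hcardB₁ B₁ rfl (fun k hk => hZB k (hB₁B hk))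
      (fun a' ha' k hk => hAB a' ha' k (hB₁B hk))
    -- right hand side
    have hR1 : B₁ ⊓ Subgroup.centralizer (A : Set G) = B ⊓ Subgroup.centralizer (A : Set G) := by
      apply le_antisymm (inf_le_inf_right _ hB₁B)
      intro k hk
      have hk1 : k ∈ B := hk.1
      have hk2 : k ∈ Subgroup.centralizer (A : Set G) := hk.2
      refine Subgroup.mem_inf.mpr ⟨Subgroup.mem_inf.mpr ⟨hk1, ?_⟩, hk2⟩
      rw [Subgroup.mem_centralizer_iff]
      intro d hd
      rw [Set.mem_singleton_iff] at hd
      rw [hd]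
      rw [Subgroup.mem_centralizer_iff] at hk2
      exact hk2 a haA
    have hR2 : (B ⊓ Subgroup.centralizer (A : Set G)).relIndex B =
        (B₁ ⊓ Subgroup.centralizer (A : Set G)).relIndex B₁ * p := by
      rw [hR1, ← hrelB]
      refine (Subgroup.relIndex_mul_relIndex _ _ _ ?_ hB₁B).symm
      rw [← hR1]
      exact inf_le_left
    -- left hand side
    set A₁ : Subgroup G := A ⊓ Subgroup.centralizer (B₁ : Set G) with hA₁
    have hA₁A : A₁ ≤ A := inf_le_left
    have hA₀A₁ : A ⊓ Subgroup.centralizer (B : Set G) ≤ A₁ :=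
      inf_le_inf_left _ (Subgroup.centralizer_le hB₁B)
    have haA₁ : a ∈ A₁ := by
      refine Subgroup.mem_inf.mpr ⟨haA, ?_⟩
      rw [Subgroup.mem_centralizer_iff]
      intro k hk
      have h2 : k ∈ Subgroup.centralizer ({a} : Set G) := hk.2
      rw [Subgroup.mem_centralizer_iff] at h2
      exact (h2 a rfl).symm
    have hcommA₁b : ∀ k ∈ A₁, b * k * b⁻¹ * k⁻¹ ∈ Z := by
      intro k hk
      have := Z.inv_mem (hAB k (hA₁A hk) b hbB)
      have e : (k * b * k⁻¹ * b⁻¹)⁻¹ = b * k * b⁻¹ * k⁻¹ := by group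
      rwa [e] at this
    have hL0 : A₁ ⊓ Subgroup.centralizer ({b} : Set G) = A ⊓ Subgroup.centralizer (B : Set G) := by
      apply le_antisymm
      · intro k hk
        have hk1 : k ∈ A₁ := hk.1
        have hk2 : k ∈ Subgroup.centralizer ({b} : Set G) := hk.2
        have hk3 : k ∈ Subgroup.centralizer (B₁ : Set G) := hk1.2
        refine Subgroup.mem_inf.mpr ⟨hA₁A hk1, ?_⟩
        -- the centraliser of k contains B₁ and b, so contains B
        have hle : B ≤ Subgroup.centralizer ({k} : Set G) := by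
          apply le_of_relIndex_prime hp B₁ _ B hrelB
          · intro c hc
            rw [Subgroup.mem_centralizer_iff]
            intro d hd
            rw [Set.mem_singleton_iff] at hd
            rw [hd]
            rw [Subgroup.mem_centralizer_iff] at hk3
            exact (hk3 c hc).symm
          · refine ⟨b, ?_, hbB, hbB₁⟩
            rw [Subgroup.mem_centralizer_iff]
            intro d hd
            rw [Set.mem_singleton_iff] at hd
            rw [hd]
            rw [Subgroup.mem_centralizer_iff] at hk2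
            exact (hk2 b rfl).symm
        rw [Subgroup.mem_centralizer_iff]
        intro c hc
        have := hle hc
        rw [Subgroup.mem_centralizer_iff] at this
        exact (this k rfl).symm
      · intro k hk
        have hk1 : k ∈ A := hk.1
        have hk2 : k ∈ Subgroup.centralizer (B : Set G) := hk.2
        refine Subgroup.mem_inf.mpr ⟨hA₀A₁ hk, ?_⟩
        rw [Subgroup.mem_centralizer_iff]
        intro d hd
        rw [Set.mem_singleton_iff] at hd
        rw [hd]
        rw [Subgroup.mem_centralizer_iff] at hk2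
        exact hk2 b hbB
    have hrelA : (A ⊓ Subgroup.centralizer (B : Set G)).relIndex A₁ = p := by
      have h1 : (A₁ ⊓ Subgroup.centralizer ({b} : Set G)).relIndex A₁ ∣ p :=
        relIndex_centralizer_dvd_prime A₁ Z b hZ (fun k hk => hZA k (hA₁A hk)) hcommA₁b
      rw [hL0] at h1
      rcases (Nat.dvd_prime hp).mp h1 with h | h
      · exfalso
        have h2 := Subgroup.relIndex_eq_one.mp h haA₁
        have h3 : a ∈ Subgroup.centralizer (B : Set G) := h2.2
        exact haB h3
      · exact h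
    have hL2 : (A ⊓ Subgroup.centralizer (B : Set G)).relIndex A = p * A₁.relIndex A := by
      rw [← hrelA]
      exact (Subgroup.relIndex_mul_relIndex _ _ _ hA₀A₁ hA₁A).symm
    rw [hL2, hR2, ← ih₁, mul_comm]

end Cfsg.Agent.Helper19
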