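import Mathlib
import Cfsg.Agent.S4967

set_option autoImplicit false

namespace Cfsg.Agent.Helper19.SelfDual

/-- linear form of the self-dual criterion -/
theorem lin_lemma (p : ℕ) [hp : Fact p.Prime] {V H : Type*} [AddCommGroup V] [Module (ZMod p) V]
    [Finite V] [Nontrivial V] [CommGroup H] [Finite H] (hcop : ¬ p ∣ Nat.card H)
    (ρ : Representation (ZMod p) H V) (hfaith : Function.Injective ρ)
    (hirr : ∀ U : Submodule (ZMod p) V, (∀ h : H, ∀ u ∈ U, ρ h u ∈ U) → U = ⊥ ∨ U = ⊤)
    (B : LinearMap.BilinForm (ZMod p) V) (hB : B.Nondegenerate)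
    (hinv : ∀ h : H, ∀ x y : V, B (ρ h x) (ρ h y) = B x y) :
    Nat.card H ≤ 2 ∨ ∃ e, 1 ≤ e ∧ Nat.card H ∣ p ^ e + 1 := by
  have hfd : FiniteDimensional (ZMod p) V := Module.Finite.of_finite
  have key := Cfsg.Agent.S4967.result (F := ZMod p) p hcop ρ hfaith hirr
  have hpos : 0 < Module.finrank (ZMod p) V := Module.finrank_pos
  rcases Nat.lt_or_ge (Module.finrank (ZMod p) V) 2 with h | h
  · left
    exact key.1 (by omega) ⟨B, hB, hinv⟩
  · right
    obtain ⟨hev, hdvd⟩ := (key.2 h).1 ⟨B, hB, hinv⟩
    rw [ZMod.card] at hdvd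
    refine ⟨Module.finrank (ZMod p) V / 2, ?_, hdvd⟩
    omega

/-- additive form -/
theorem add_lemma (p : ℕ) [hp : Fact p.Prime] {V H : Type*} [AddCommGroup V] [Module (ZMod p) V]
    [Finite V] [Nontrivial V] [CommGroup H] [Finite H] (hcop : ¬ p ∣ Nat.card H)
    (α : H →* AddMonoid.End V) (hfaith : Function.Injective α)
    (hirr : ∀ B : AddSubgroup V, (∀ h : H, ∀ u ∈ B, α h u ∈ B) → B = ⊥ ∨ B = ⊤)
    (β : V →+ V →+ ZMod p)
    (hndl : ∀ x, (∀ y, β x y = 0) → x = 0)
    (hndr : ∀ y, (∀ x, β x y = 0) → y = 0)
    (hβinv : ∀ h : H, ∀ x y, β (α h x) (α h y) = β x y) :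
    Nat.card H ≤ 2 ∨ ∃ e, 1 ≤ e ∧ Nat.card H ∣ p ^ e + 1 := by
  let ρ : H →* Module.End (ZMod p) V :=
    { toFun := fun h => AddMonoidHom.toZModLinearMap p (α h)
      map_one' := by
        apply LinearMap.ext
        intro v
        rw [map_one]
        rfl
      map_mul' := by
        intro a b
        apply LinearMap.ext
        intro v
        rw [map_mul]
        rfl }
  have hρ : ∀ (h : H) (v : V), ρ h v = α h v := fun _ _ => rfl
  let f1 : V →+ (V →ₗ[ZMod p] ZMod p) :=
    { toFun := fun x => AddMonoidHom.toZModLinearMap p (β x)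
      map_zero' := by
        apply LinearMap.ext
        intro y
        simp
      map_add' := by
        intro x z
        apply LinearMap.ext
        intro y
        simp }
  let B : LinearMap.BilinForm (ZMod p) V := AddMonoidHom.toZModLinearMap p f1
  have hB : ∀ x y : V, B x y = β x y := fun _ _ => rfl
  refine lin_lemma p hcop ρ ?_ ?_ B ⟨?_, ?_⟩ ?_
  · intro a b hab
    apply hfaith
    apply AddMonoidHom.ext
    intro u
    have := congrArg (fun f => f u) hab
    simp only [hρ] at this
    exact this
  · intro W hW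
    rcases hirr W.toAddSubgroup (fun h u hu => hW h u hu) with h | h
    · left
      rw [Submodule.eq_bot_iff]
      intro v hv
      have : v ∈ W.toAddSubgroup := hv
      rw [h, AddSubgroup.mem_bot] at this
      exact this
    · right
      rw [Submodule.eq_top_iff']
      intro v
      have : v ∈ W.toAddSubgroup := by rw [h]; exact AddSubgroup.mem_top _
      exact this
  · intro x hx
    exact hndl x (fun y => (hB x y) ▸ hx y)
  · intro y hy
    exact hndr y (fun x => (hB x y) ▸ hy x)
  · intro h x y
    rw [hB, hB, hρ, hρ]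
    exact hβinv h x y

/-- group form of the self-dual criterion: a finite abelian `p'`-group `H` acting faithfully and
irreducibly on an elementary abelian `p`-group `U`, preserving a nondegenerate bimultiplicative
pairing into `Multiplicative (ZMod p)`. -/
theorem group_lemma' (p : ℕ) [hp : Fact p.Prime] {U H : Type*} [CommGroup U] [Finite U]
    [Nontrivial U] (hUp : ∀ u : U, u ^ p = 1) [CommGroup H] [Finite H]
    (hcop : ¬ p ∣ Nat.card H) (α : H → (U →* U)) (hα1 : α 1 = MonoidHom.id U)
    (hαmul : ∀ a b, α (a * b) = (α a).comp (α b)) (hfaith : Function.Injective α)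
    (hirr : ∀ B : Subgroup U, (∀ h : H, ∀ u ∈ B, α h u ∈ B) → B = ⊥ ∨ B = ⊤)
    (β : U → U → Multiplicative (ZMod p))
    (hβl : ∀ x y z, β (x * y) z = β x z * β y z)
    (hβr : ∀ x y z, β x (y * z) = β x y * β x z)
    (hndl : ∀ x, (∀ y, β x y = 1) → x = 1)
    (hndr : ∀ y, (∀ x, β x y = 1) → y = 1)
    (hβinv : ∀ h : H, ∀ x y, β (α h x) (α h y) = β x y) :
    Nat.card H ≤ 2 ∨ ∃ e, 1 ≤ e ∧ Nat.card H ∣ p ^ e + 1 := by
  have hpV : ∀ x : Additive U, p • x = 0 :=
    fun x => congrArg Additive.ofMul (hUp (Additive.toMul x))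
  have hβ1r : ∀ x, β x 1 = 1 := by
    intro x
    have := hβr x 1 1
    rw [mul_one] at this
    have h2 := congrArg (fun t => t * (β x 1)⁻¹) this
    simpa using h2.symm
  have hβ1l : ∀ y, β 1 y = 1 := by
    intro y
    have := hβl 1 1 y
    rw [mul_one] at this
    have h2 := congrArg (fun t => t * (β 1 y)⁻¹) this
    simpa using h2.symm
  let α' : H →* AddMonoid.End (Additive U) :=
    { toFun := fun h => MonoidHom.toAdditive (α h)
      map_one' := by
        apply AddMonoidHom.ext
        intro v
        show Additive.ofMul ((α 1) (Additive.toMul v)) = v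
        rw [hα1]; rfl
      map_mul' := by
        intro a b
        apply AddMonoidHom.ext
        intro v
        show Additive.ofMul ((α (a * b)) (Additive.toMul v)) =
          Additive.ofMul ((α a) ((α b) (Additive.toMul v)))
        rw [hαmul]; rfl }
  have hα' : ∀ (h : H) (v : Additive U), α' h v = Additive.ofMul (α h (Additive.toMul v)) :=
    fun _ _ => rfl
  let f2 : Additive U → (Additive U →+ ZMod p) := fun x =>
    { toFun := fun y => Multiplicative.toAdd (β (Additive.toMul x) (Additive.toMul y))
      map_zero' := by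
        show Multiplicative.toAdd (β (Additive.toMul x) 1) = 0
        rw [hβ1r]; rfl
      map_add' := by
        intro y z
        show Multiplicative.toAdd (β (Additive.toMul x) (Additive.toMul y * Additive.toMul z)) = _
        rw [hβr]; rfl }
  let β' : Additive U →+ Additive U →+ ZMod p :=
    { toFun := f2
      map_zero' := by
        apply AddMonoidHom.ext
        intro y
        show Multiplicative.toAdd (β 1 (Additive.toMul y)) = 0
        rw [hβ1l]; rfl
      map_add' := by
        intro x z
        apply AddMonoidHom.ext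
        intro y
        show Multiplicative.toAdd (β (Additive.toMul x * Additive.toMul z) (Additive.toMul y)) = _
        rw [hβl]; rfl }
  have hβ' : ∀ x y : Additive U, β' x y =
      Multiplicative.toAdd (β (Additive.toMul x) (Additive.toMul y)) := fun _ _ => rfl
  have hfin : Finite (Additive U) := inferInstanceAs (Finite U)
  have hnt : Nontrivial (Additive U) := inferInstanceAs (Nontrivial U)
  refine @add_lemma p hp (Additive U) H _ (AddCommGroup.zmodModule hpV) hfin hnt _ _ hcop α' ?_ ?_
    β' ?_ ?_ ?_
  · intro a b hab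
    apply hfaith
    apply MonoidHom.ext
    intro u
    have := congrArg (fun f => f (Additive.ofMul u)) hab
    simp only [hα'] at this
    exact this
  · intro W hW
    let S : Subgroup U :=
      { carrier := {u | Additive.ofMul u ∈ W}
        one_mem' := W.zero_mem
        mul_mem' := fun {a b} ha hb => W.add_mem ha hb
        inv_mem' := fun {a} ha => W.neg_mem ha }
    have hS : ∀ h : H, ∀ u ∈ S, α h u ∈ S := by
      intro h u hu
      exact hW h (Additive.ofMul u) hu
    rcases hirr S hS with h | h
    · left
      rw [AddSubgroup.eq_bot_iff_forall]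
      intro v hv
      have : Additive.toMul v ∈ S := hv
      rw [h, Subgroup.mem_bot] at this
      exact congrArg Additive.ofMul this
    · right
      rw [AddSubgroup.eq_top_iff']
      intro v
      have : Additive.toMul v ∈ S := by rw [h]; exact Subgroup.mem_top _
      exact this
  · intro x hx
    have : Additive.toMul x = 1 := by
      apply hndl
      intro y
      have := hx (Additive.ofMul y)
      rw [hβ'] at this
      exact this
    exact congrArg Additive.ofMul this
  · intro y hy
    have : Additive.toMul y = 1 := by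
      apply hndr
      intro x
      have := hy (Additive.ofMul x)
      rw [hβ'] at this
      exact this
    exact congrArg Additive.ofMul this
  · intro h x y
    rw [hβ', hβ', hα', hα']
    exact congrArg Multiplicative.toAdd (hβinv h _ _)

/-- the same with commutativity as hypotheses rather than instances -/
theorem group_lemma (p : ℕ) [hp : Fact p.Prime] {U H : Type*} [Group U] [Finite U]
    [Nontrivial U] (hUc : ∀ a b : U, a * b = b * a) (hUp : ∀ u : U, u ^ p = 1) [Group H] [Finite H]
    (hHc : ∀ a b : H, a * b = b * a)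
    (hcop : ¬ p ∣ Nat.card H) (α : H → (U →* U)) (hα1 : α 1 = MonoidHom.id U)
    (hαmul : ∀ a b, α (a * b) = (α a).comp (α b)) (hfaith : Function.Injective α)
    (hirr : ∀ B : Subgroup U, (∀ h : H, ∀ u ∈ B, α h u ∈ B) → B = ⊥ ∨ B = ⊤)
    (β : U → U → Multiplicative (ZMod p))
    (hβl : ∀ x y z, β (x * y) z = β x z * β y z)
    (hβr : ∀ x y z, β x (y * z) = β x y * β x z)
    (hndl : ∀ x, (∀ y, β x y = 1) → x = 1)
    (hndr : ∀ y, (∀ x, β x y = 1) → y = 1)
    (hβinv : ∀ h : H, ∀ x y, β (α h x) (α h y) = β x y) :
    Nat.card H ≤ 2 ∨ ∃ e, 1 ≤ e ∧ Nat.card H ∣ p ^ e + 1 := by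
  let cU : CommGroup U := { (inferInstance : Group U) with mul_comm := hUc }
  let cH : CommGroup H := { (inferInstance : Group H) with mul_comm := hHc }
  exact @group_lemma' p hp U H cU _ _ hUp cH _ hcop α hα1 hαmul hfaith hirr β hβl hβr hndl hndr hβinv

end Cfsg.Agent.Helper19.SelfDual
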