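import Mathlib
import Cfsg.Agent.Lib.Helper19.PGroupBasic
import Cfsg.Agent.Lib.Helper19.CommPairing
import Cfsg.Agent.Lib.Helper21.PGroupFrattini
import Cfsg.Agent.Lib.Helper9.FrattiniElem
import Cfsg.Prelude.Def_Transfer

set_option autoImplicit false
open scoped commutatorElement

namespace Cfsg.Agent.Helper19.Symp

variable {G : Type*} [Group G]

/-- `H` has all its commutators in the subgroup `U`, which is central in `H`. -/
structure C2 (H U : Subgroup G) : Prop where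
  le : U ≤ H
  cen : ∀ u ∈ U, ∀ h ∈ H, u * h = h * u
  comm : ∀ x ∈ H, ∀ y ∈ H, ⁅x, y⁆ ∈ U

namespace C2

variable {H U : Subgroup G}

theorem comm_mul_left (h : C2 H U) {x y z : G} (hx : x ∈ H) (hy : y ∈ H) (hz : z ∈ H) :
    ⁅x * y, z⁆ = ⁅x, z⁆ * ⁅y, z⁆ := by
  have h1 : ⁅x * y, z⁆ = x * ⁅y, z⁆ * x⁻¹ * ⁅x, z⁆ := by
    simp only [commutatorElement_def]; group
  have h2 : ⁅y, z⁆ * x⁻¹ = x⁻¹ * ⁅y, z⁆ := h.cen _ (h.comm y hy z hz) _ (H.inv_mem hx)
  have h3 : ⁅y, z⁆ * ⁅x, z⁆ = ⁅x, z⁆ * ⁅y, z⁆ :=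
    h.cen _ (h.comm y hy z hz) _ (h.le (h.comm x hx z hz))
  rw [h1, mul_assoc x, h2, mul_inv_cancel_left, h3]

theorem comm_mul_right (h : C2 H U) {x y z : G} (hx : x ∈ H) (hy : y ∈ H) (hz : z ∈ H) :
    ⁅x, y * z⁆ = ⁅x, y⁆ * ⁅x, z⁆ := by
  have h1 : ⁅x, y * z⁆ = ⁅x, y⁆ * (y * ⁅x, z⁆ * y⁻¹) := by
    simp only [commutatorElement_def]; group
  have h2 : ⁅x, z⁆ * y⁻¹ = y⁻¹ * ⁅x, z⁆ := h.cen _ (h.comm x hx z hz) _ (H.inv_mem hy)
  rw [h1, mul_assoc y, h2, mul_inv_cancel_left]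

theorem comm_pow_left (h : C2 H U) {x y : G} (hx : x ∈ H) (hy : y ∈ H) (n : ℕ) :
    ⁅x ^ n, y⁆ = ⁅x, y⁆ ^ n := by
  induction n with
  | zero => simp
  | succ n ih =>
    rw [pow_succ, h.comm_mul_left (H.pow_mem hx n) hx hy, ih, pow_succ]

theorem comm_pow_right (h : C2 H U) {x y : G} (hx : x ∈ H) (hy : y ∈ H) (n : ℕ) :
    ⁅x, y ^ n⁆ = ⁅x, y⁆ ^ n := by
  induction n with
  | zero => simp
  | succ n ih =>
    rw [pow_succ, h.comm_mul_right hx (H.pow_mem hy n) hy, ih, pow_succ]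

theorem comm_eq_one_iff {x y : G} : ⁅x, y⁆ = 1 ↔ x * y = y * x :=
  commutatorElement_eq_one_iff_mul_comm

/-- Powers of a product in class two. -/
theorem mul_pow (h : C2 H U) {x y : G} (hx : x ∈ H) (hy : y ∈ H) (n : ℕ) :
    (x * y) ^ n = x ^ n * y ^ n * ⁅y, x⁆ ^ (n.choose 2) := by
  have hc : y * x = ⁅y, x⁆ * (x * y) := by
    rw [commutatorElement_def]; group
  have hca : ⁅y, x⁆ * x = x * ⁅y, x⁆ := h.cen _ (h.comm y hy x hx) _ hx
  have hcb : ⁅y, x⁆ * y = y * ⁅y, x⁆ := h.cen _ (h.comm y hy x hx) _ hy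
  -- generic computation
  have hbm : ∀ m : ℕ, y ^ m * x = ⁅y, x⁆ ^ m * (x * y ^ m) := by
    intro m
    induction m with
    | zero => simp
    | succ m ih =>
      have hcm : ∀ j : ℕ, ⁅y, x⁆ ^ j * y = y * ⁅y, x⁆ ^ j := fun j =>
        ((Commute.pow_left (show Commute ⁅y, x⁆ y from hcb) j)).eq
      calc y ^ (m + 1) * x = y * (y ^ m * x) := by rw [pow_succ']; group
        _ = y * (⁅y, x⁆ ^ m * (x * y ^ m)) := by rw [ih]
        _ = ⁅y, x⁆ ^ m * (y * x) * y ^ m := by rw [← mul_assoc y, ← hcm m]; group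
        _ = ⁅y, x⁆ ^ m * (⁅y, x⁆ * (x * y)) * y ^ m := by rw [← hc]
        _ = ⁅y, x⁆ ^ (m + 1) * (x * y ^ (m + 1)) := by
          rw [pow_succ ⁅y, x⁆, pow_succ' y]; group
  have hca' : ∀ j : ℕ, ⁅y, x⁆ ^ j * x = x * ⁅y, x⁆ ^ j := fun j =>
    ((Commute.pow_left (show Commute ⁅y, x⁆ x from hca) j)).eq
  have hcb' : ∀ (j i : ℕ), ⁅y, x⁆ ^ j * y ^ i = y ^ i * ⁅y, x⁆ ^ j := fun j i =>
    ((Commute.pow_pow (show Commute ⁅y, x⁆ y from hcb) j i)).eq
  induction n with
  | zero => simp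
  | succ m ih =>
    have e1 : (m + 1).choose 2 = m.choose 2 + m := by
      rw [Nat.choose_succ_succ' m 1, Nat.choose_one_right, add_comm]
    calc (x * y) ^ (m + 1) = (x * y) ^ m * (x * y) := pow_succ _ _
      _ = x ^ m * y ^ m * ⁅y, x⁆ ^ (m.choose 2) * (x * y) := by rw [ih]
      _ = x ^ m * (y ^ m * (⁅y, x⁆ ^ (m.choose 2) * x)) * y := by group
      _ = x ^ m * (y ^ m * (x * ⁅y, x⁆ ^ (m.choose 2))) * y := by rw [hca']
      _ = x ^ m * ((y ^ m * x) * ⁅y, x⁆ ^ (m.choose 2)) * y := by group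
      _ = x ^ m * ((⁅y, x⁆ ^ m * (x * y ^ m)) * ⁅y, x⁆ ^ (m.choose 2)) * y := by rw [hbm]
      _ = x ^ m * (⁅y, x⁆ ^ m * x) * (y ^ m * ⁅y, x⁆ ^ (m.choose 2)) * y := by group
      _ = x ^ m * (x * ⁅y, x⁆ ^ m) * (⁅y, x⁆ ^ (m.choose 2) * y ^ m) * y := by rw [hca', hcb']
      _ = x ^ m * x * (⁅y, x⁆ ^ m * ⁅y, x⁆ ^ (m.choose 2)) * y ^ m * y := by group
      _ = x ^ (m + 1) * (⁅y, x⁆ ^ (m.choose 2 + m) * y ^ m) * y := by
          have hcc : ⁅y, x⁆ ^ m * ⁅y, x⁆ ^ (m.choose 2) = ⁅y, x⁆ ^ (m.choose 2 + m) := by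
            rw [← pow_add, add_comm]
          rw [hcc, pow_succ x]; group
      _ = x ^ (m + 1) * (y ^ m * ⁅y, x⁆ ^ (m.choose 2 + m)) * y := by rw [hcb']
      _ = x ^ (m + 1) * y ^ m * (⁅y, x⁆ ^ (m.choose 2 + m) * y) := by group
      _ = x ^ (m + 1) * y ^ m * (y * ⁅y, x⁆ ^ (m.choose 2 + m)) := by
          have := hcb' (m.choose 2 + m) 1
          rw [pow_one] at this
          rw [this]
      _ = x ^ (m + 1) * y ^ (m + 1) * ⁅y, x⁆ ^ ((m + 1).choose 2) := by
          rw [e1, pow_succ y]; group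

theorem mono (h : C2 H U) {K : Subgroup G} (hUK : U ≤ K) (hKH : K ≤ H) : C2 K U :=
  ⟨hUK, fun u hu k hk => h.cen u hu k (hKH hk), fun x hx y hy => h.comm x (hKH hx) y (hKH hy)⟩

end C2

/-- Lemma T: a proper subgroup `K` of `H` containing the centre of `H` is centralised by a
noncentral element of `H` (when `H' ≤ U ≤ Z(H)` with `U` of prime order). -/
theorem lemmaT [Finite G] {p : ℕ} (hp : p.Prime) {H U : Subgroup G} (h : C2 H U)
    (hU : Nat.card U = p) (K : Subgroup G) (hKH : K ≤ H) (hne : ∃ x ∈ H, x ∉ K)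
    (hZK : ∀ w ∈ H, (∀ x ∈ H, w * x = x * w) → w ∈ K) :
    ∃ y ∈ H, (∀ k ∈ K, y * k = k * y) ∧ ∃ x ∈ H, y * x ≠ x * y := by
  by_contra hcon
  push Not at hcon
  have hpair := relIndex_centralizer_eq_of_pairing hp H U hU
    (fun a ha z hz => (h.cen z hz a ha).symm) (Nat.card K) K rfl
    (fun b hb z hz => (h.cen z hz b (hKH hb)).symm)
    (fun a ha b hb => by
      have := h.comm a ha b (hKH hb)
      rwa [commutatorElement_def] at this)
  have e1 : H ⊓ Subgroup.centralizer (K : Set G) = H ⊓ Subgroup.centralizer (H : Set G) := by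
    apply le_antisymm
    · intro y hy
      obtain ⟨hy1, hy2⟩ := Subgroup.mem_inf.mp hy
      refine Subgroup.mem_inf.mpr ⟨hy1, ?_⟩
      rw [Subgroup.mem_centralizer_iff]
      intro x hx
      rw [Subgroup.mem_centralizer_iff] at hy2
      exact (hcon y hy1 (fun k hk => (hy2 k hk).symm) x hx).symm
    · exact inf_le_inf_left _ (Subgroup.centralizer_le hKH)
  have e2 : K ⊓ Subgroup.centralizer (H : Set G) = H ⊓ Subgroup.centralizer (H : Set G) := by
    apply le_antisymm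
    · exact inf_le_inf_right _ hKH
    · intro w hw
      obtain ⟨hw1, hw2⟩ := Subgroup.mem_inf.mp hw
      have hw3 := hw2
      rw [Subgroup.mem_centralizer_iff] at hw3
      exact Subgroup.mem_inf.mpr ⟨hZK w hw1 (fun x hx => (hw3 x hx).symm), hw2⟩
  rw [e1, e2] at hpair
  have hle : H ⊓ Subgroup.centralizer (H : Set G) ≤ K := by
    rw [← e2]; exact inf_le_left
  have h3 := Subgroup.relIndex_mul_relIndex _ _ _ hle hKH
  rw [hpair] at h3
  have h4 : (H ⊓ Subgroup.centralizer (H : Set G)).relIndex K ≠ 0 :=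
    Subgroup.index_ne_zero_of_finite
  have h5 : K.relIndex H = 1 := by
    have : (H ⊓ Subgroup.centralizer (H : Set G)).relIndex K * K.relIndex H =
        (H ⊓ Subgroup.centralizer (H : Set G)).relIndex K * 1 := by rw [h3, mul_one]
    exact Nat.eq_of_mul_eq_mul_left (Nat.pos_of_ne_zero h4) this
  obtain ⟨x, hxH, hxK⟩ := hne
  exact hxK (Subgroup.relIndex_eq_one.mp h5 hxH)

/-- Subgroup-level extraspecial data: `U = Z(E)` has order `p`, contains all commutators and all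
`p`-th powers of `E`, and `E` is nonabelian. -/
structure XS (p : ℕ) (E U : Subgroup G) : Prop where
  c2 : C2 E U
  card : Nat.card U = p
  pow : ∀ e ∈ E, e ^ p ∈ U
  ctr : ∀ e ∈ E, (∀ e' ∈ E, e * e' = e' * e) → e ∈ U
  nonab : ∃ e ∈ E, ∃ e' ∈ E, e * e' ≠ e' * e

theorem normal_of_comm_mem {E U : Subgroup G} (hUE : U ≤ E) (hEG : ∀ e ∈ E, ∀ g : G, ⁅e, g⁆ ∈ U) :
    E.Normal := by
  constructor
  intro e he g
  have h1 : g * e * g⁻¹ = (⁅e, g⁆)⁻¹ * e := by
    rw [commutatorElement_def]; group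
  rw [h1]
  exact E.mul_mem (E.inv_mem (hUE (hEG e he g))) he

/-- An extraspecial normal subgroup on which the whole group acts trivially modulo the centre is
a central factor. -/
theorem XS.sup_centralizer [Finite G] {p : ℕ} (hp : p.Prime) {E U : Subgroup G} (h : XS p E U)
    (hUc : ∀ u ∈ U, ∀ g : G, u * g = g * u) (hEG : ∀ e ∈ E, ∀ g : G, ⁅e, g⁆ ∈ U) :
    ∀ g : G, ∃ e ∈ E, ∃ r ∈ Subgroup.centralizer (E : Set G), g = e * r := by
  have hEn : E.Normal := normal_of_comm_mem h.c2.le hEG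
  have hpair := relIndex_centralizer_eq_of_pairing hp (⊤ : Subgroup G) U h.card
    (fun a _ z hz => (hUc z hz a).symm) (Nat.card E) E rfl
    (fun b _ z hz => (hUc z hz b).symm)
    (fun a _ b hb => by
      have h1 : a * b * a⁻¹ * b⁻¹ = (⁅b, a⁆)⁻¹ := by
        rw [commutatorElement_def]; group
      rw [h1]
      exact U.inv_mem (hEG b hb a))
  have e1 : E ⊓ Subgroup.centralizer ((⊤ : Subgroup G) : Set G) = U := by
    apply le_antisymm
    · intro e he
      obtain ⟨he1, he2⟩ := Subgroup.mem_inf.mp he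
      rw [Subgroup.mem_centralizer_iff] at he2
      exact h.ctr e he1 (fun e' _ => (he2 e' (Subgroup.mem_top e')).symm)
    · intro u hu
      refine Subgroup.mem_inf.mpr ⟨h.c2.le hu, ?_⟩
      rw [Subgroup.mem_centralizer_iff]
      intro g _
      exact (hUc u hu g).symm
  have e2 : E ⊓ Subgroup.centralizer (E : Set G) = U := by
    apply le_antisymm
    · intro e he
      obtain ⟨he1, he2⟩ := Subgroup.mem_inf.mp he
      rw [Subgroup.mem_centralizer_iff] at he2
      exact h.ctr e he1 (fun e' he' => (he2 e' he').symm)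
    · intro u hu
      refine Subgroup.mem_inf.mpr ⟨h.c2.le hu, ?_⟩
      rw [Subgroup.mem_centralizer_iff]
      intro g _
      exact (hUc u hu g).symm
  rw [top_inf_eq, Subgroup.relIndex_top_right, e1] at hpair
  have h3 : (Subgroup.centralizer (E : Set G)).relIndex (E ⊔ Subgroup.centralizer (E : Set G)) =
      U.relIndex E := by
    rw [Subgroup.relIndex_sup_right, ← Subgroup.inf_relIndex_left, e2]
  have h4 := Subgroup.relIndex_mul_index
    (le_sup_right : Subgroup.centralizer (E : Set G) ≤ E ⊔ Subgroup.centralizer (E : Set G))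
  rw [h3, ← hpair] at h4
  have h5 : (Subgroup.centralizer (E : Set G)).index ≠ 0 := Subgroup.index_ne_zero_of_finite
  have h6 : (E ⊔ Subgroup.centralizer (E : Set G)).index = 1 := by
    have : (Subgroup.centralizer (E : Set G)).index *
        (E ⊔ Subgroup.centralizer (E : Set G)).index =
        (Subgroup.centralizer (E : Set G)).index * 1 := by rw [h4, mul_one]
    exact Nat.eq_of_mul_eq_mul_left (Nat.pos_of_ne_zero h5) this
  rw [Subgroup.index_eq_one] at h6
  intro g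
  have hg : g ∈ ((E ⊔ Subgroup.centralizer (E : Set G) : Subgroup G) : Set G) := by
    rw [h6]; exact Subgroup.mem_top g
  rw [Subgroup.normal_mul, Set.mem_mul] at hg
  obtain ⟨e, he, r, hr, rfl⟩ := hg
  exact ⟨e, he, r, hr, rfl⟩

theorem XS.isExtraspecial [Finite G] {p : ℕ} [hp : Fact p.Prime] (hG : IsPGroup p G)
    {E U : Subgroup G} (h : XS p E U) : Cfsg.IsExtraspecial p ↥E := by
  have hE : IsPGroup p ↥E := hG.to_subgroup E
  have hcen : Subgroup.center ↥E = U.subgroupOf E := by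
    ext x
    rw [Subgroup.mem_center_iff, Subgroup.mem_subgroupOf]
    constructor
    · intro hx
      apply h.ctr x x.2
      intro e' he'
      have := hx ⟨e', he'⟩
      exact (congrArg Subtype.val this).symm
    · intro hx g
      apply Subtype.ext
      exact (h.c2.cen _ hx _ g.2).symm
  have hcardc : Nat.card (Subgroup.center ↥E) = p := by
    rw [hcen, Nat.card_congr (Subgroup.subgroupOfEquivOfLe h.c2.le).toEquiv, h.card]
  have hcoe : ∀ x y : ↥E, ((⁅x, y⁆ : ↥E) : G) = ⁅(x : G), (y : G)⁆ := by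
    intro x y
    simp [commutatorElement_def]
  have hcomm_le : commutator ↥E ≤ Subgroup.center ↥E := by
    rw [commutator_def, Subgroup.commutator_le]
    intro x _ y _
    rw [hcen, Subgroup.mem_subgroupOf, hcoe]
    exact h.c2.comm _ x.2 _ y.2
  have hcomm_ne : commutator ↥E ≠ ⊥ := by
    obtain ⟨e, he, e', he', hne⟩ := h.nonab
    intro hbot
    have h1 : ⁅(⟨e, he⟩ : ↥E), ⟨e', he'⟩⁆ ∈ commutator ↥E := by
      rw [commutator_def]
      exact Subgroup.commutator_mem_commutator (Subgroup.mem_top _) (Subgroup.mem_top _)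
    rw [hbot, Subgroup.mem_bot, commutatorElement_eq_one_iff_mul_comm] at h1
    exact hne (congrArg Subtype.val h1)
  have hcomm_eq : commutator ↥E = Subgroup.center ↥E := by
    apply Subgroup.eq_of_le_of_card_ge hcomm_le
    have hdvd := Subgroup.card_dvd_of_le hcomm_le
    rw [hcardc] at hdvd ⊢
    rcases (Nat.dvd_prime hp.out).mp hdvd with h1 | h1
    · exact absurd (Subgroup.card_eq_one.mp h1) hcomm_ne
    · exact h1.ge
  refine ⟨⟨hE, ?_, hcomm_eq⟩, hcardc⟩
  apply le_antisymm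
  · -- frattini ≤ center
    have h1 := Cfsg.Agent.Helper9.frattini_le_ker_of_elementary (p := p)
      (QuotientGroup.mk' (Subgroup.center ↥E)) (by
        intro a b
        induction a using QuotientGroup.induction_on with
        | H x =>
        induction b using QuotientGroup.induction_on with
        | H y =>
        rw [← QuotientGroup.mk_mul, ← QuotientGroup.mk_mul, QuotientGroup.eq]
        have h2 : (x * y)⁻¹ * (y * x) = ⁅y⁻¹, x⁻¹⁆ := by
          rw [commutatorElement_def]; group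
        rw [h2]
        apply hcomm_le
        rw [commutator_def]
        exact Subgroup.commutator_mem_commutator (Subgroup.mem_top _) (Subgroup.mem_top _)) (by
        intro a
        induction a using QuotientGroup.induction_on with
        | H x =>
        rw [← QuotientGroup.mk_pow, QuotientGroup.eq_one_iff, hcen, Subgroup.mem_subgroupOf]
        exact h.pow _ x.2)
    rwa [QuotientGroup.ker_mk'] at h1
  · rw [← hcomm_eq, commutator_def, Subgroup.commutator_le]
    intro x _ y _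
    rw [commutatorElement_def]
    exact Cfsg.Agent.Helper21.commutator_mem_frattini_of_isPGroup hE x y

theorem comm_prod {e e' r r' : G} (h1 : e * r' = r' * e) (h2 : e' * r = r * e')
    (h3 : e * r = r * e) (h4 : e' * r' = r' * e') :
    ⁅e * r, e' * r'⁆ = ⁅e, e'⁆ * ⁅r, r'⁆ := by
  have c1 : Commute e r' := h1
  have c2 : Commute e' r := h2
  have c3 : Commute e r := h3
  have c4 : Commute e' r' := h4
  rw [commutatorElement_def, commutatorElement_def, commutatorElement_def]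
  calc e * r * (e' * r') * (e * r)⁻¹ * (e' * r')⁻¹
      = e * (r * e') * r' * (r⁻¹ * e⁻¹) * (r'⁻¹ * e'⁻¹) := by group
    _ = e * (e' * r) * r' * (e⁻¹ * r⁻¹) * (e'⁻¹ * r'⁻¹) := by
        rw [c2.eq, (c3.inv_inv).eq, (c4.inv_inv).eq]
    _ = e * e' * (r * r' * e⁻¹) * (r⁻¹ * e'⁻¹) * r'⁻¹ := by group
    _ = e * e' * (e⁻¹ * (r * r')) * (e'⁻¹ * r⁻¹) * r'⁻¹ := by
        rw [((c3.symm.mul_left c1.symm).inv_right).eq, (c2.symm.inv_inv).eq]
    _ = e * e' * e⁻¹ * (r * r' * e'⁻¹) * r⁻¹ * r'⁻¹ := by group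
    _ = e * e' * e⁻¹ * (e'⁻¹ * (r * r')) * r⁻¹ * r'⁻¹ := by
        rw [((c2.symm.mul_left c4.symm).inv_right).eq]
    _ = e * e' * e⁻¹ * e'⁻¹ * (r * r' * r⁻¹ * r'⁻¹) := by group

theorem XS.central_prod {p : ℕ} {E R U : Subgroup G} (hE : XS p E U) (hR : XS p R U)
    (hER : ∀ e ∈ E, ∀ r ∈ R, e * r = r * e) (hdec : ∀ g : G, ∃ e ∈ E, ∃ r ∈ R, g = e * r) :
    XS p (⊤ : Subgroup G) U := by
  refine ⟨⟨le_top, ?_, ?_⟩, hE.card, ?_, ?_, ?_⟩
  · intro u hu g _
    obtain ⟨e, he, r, hr, rfl⟩ := hdec g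
    rw [← mul_assoc, hE.c2.cen u hu e he, mul_assoc, hR.c2.cen u hu r hr, mul_assoc]
  · intro x _ y _
    obtain ⟨e, he, r, hr, rfl⟩ := hdec x
    obtain ⟨e', he', r', hr', rfl⟩ := hdec y
    rw [comm_prod (hER e he r' hr') (hER e' he' r hr) (hER e he r hr) (hER e' he' r' hr')]
    exact U.mul_mem (hE.c2.comm e he e' he') (hR.c2.comm r hr r' hr')
  · intro x _
    obtain ⟨e, he, r, hr, rfl⟩ := hdec x
    have hc : Commute e r := hER e he r hr
    rw [hc.mul_pow]
    exact U.mul_mem (hE.pow e he) (hR.pow r hr)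
  · intro x _ hx
    obtain ⟨e, he, r, hr, rfl⟩ := hdec x
    have h1 : e ∈ U := by
      apply hE.ctr e he
      intro e' he'
      have h2 := hx e' (Subgroup.mem_top _)
      have h3 : e * r * e' = e * e' * r := by
        rw [mul_assoc, ← hER e' he' r hr, mul_assoc]
      have h4 : e' * (e * r) = e' * e * r := by rw [mul_assoc]
      rw [h3, h4] at h2
      exact mul_right_cancel h2
    have h2 : r ∈ U := by
      apply hR.ctr r hr
      intro r' hr'
      have h2 := hx r' (Subgroup.mem_top _)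
      have h3 : r' * (e * r) = e * (r' * r) := by
        rw [← mul_assoc, ← hER e he r' hr', mul_assoc]
      rw [mul_assoc, h3] at h2
      exact mul_left_cancel h2
    exact U.mul_mem h1 h2
  · obtain ⟨e, he, e', he', hne⟩ := hE.nonab
    exact ⟨e, Subgroup.mem_top _, e', Subgroup.mem_top _, hne⟩

/-- If `r = c ^ i` with `i` coprime to the order of `c`, then `c` is a power of `r`. -/
theorem mem_zpowers_pow_of_coprime {c : G} {i : ℕ} (hi : Nat.Coprime i (orderOf c))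
    (h1 : 1 < orderOf c) : c ∈ Subgroup.zpowers (c ^ i) := by
  obtain ⟨m, -, hm⟩ := Nat.exists_mul_mod_eq_one_of_coprime hi h1
  have : (c ^ i) ^ m = c := by
    rw [← pow_mul, ← pow_mod_orderOf, hm, pow_one]
  have h2 : (c ^ i) ^ m ∈ Subgroup.zpowers (c ^ i) :=
    Subgroup.pow_mem _ (Subgroup.mem_zpowers (c ^ i)) m
  rwa [this] at h2

theorem mem_zpowers_iff_pow [Finite G] (u x : G) :
    x ∈ Subgroup.zpowers u ↔ ∃ k : ℕ, x = u ^ k := by
  rw [← mem_powers_iff_mem_zpowers, Submonoid.mem_powers_iff]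
  constructor
  · rintro ⟨k, hk⟩; exact ⟨k, hk.symm⟩
  · rintro ⟨k, hk⟩; exact ⟨k, hk.symm⟩

/-- A nonabelian group of order `p ^ 3` with a self-centralizing cyclic subgroup of order `p ^ 2`
is extraspecial. -/
theorem XS_of_card_cube [Finite G] {p : ℕ} [hp : Fact p.Prime]
    (R : Subgroup G) (c : G) (hcR : c ∈ R) (hord : orderOf c = p ^ 2)
    (hcard : Nat.card R = p ^ 3) (hself : ∀ r ∈ R, r * c = c * r → r ∈ Subgroup.zpowers c)
    (hUc : ∀ g : G, c ^ p * g = g * c ^ p) : XS p R (Subgroup.zpowers (c ^ p)) := by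
  have hp1 : 1 < p := hp.out.one_lt
  have hUR : Subgroup.zpowers (c ^ p) ≤ R := by
    rw [Subgroup.zpowers_le]
    exact R.pow_mem hcR p
  have hcardU : Nat.card (Subgroup.zpowers (c ^ p)) = p := by
    rw [Nat.card_zpowers, orderOf_pow_of_dvd (hp.out.ne_zero) (by rw [hord]; exact Dvd.intro_left _ (pow_two p).symm), hord,
      pow_two, Nat.mul_div_cancel _ hp.out.pos]
  have hUcen : ∀ u ∈ Subgroup.zpowers (c ^ p), ∀ g : G, u * g = g * u := by
    intro u hu g
    obtain ⟨k, rfl⟩ := Subgroup.mem_zpowers_iff.mp hu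
    exact ((show Commute (c ^ p) g from hUc g).zpow_left k).eq
  -- R is nonabelian
  obtain ⟨r₀, hr₀R, hr₀c⟩ : ∃ r ∈ R, r * c ≠ c * r := by
    by_contra hcon
    push Not at hcon
    have hle : R ≤ Subgroup.zpowers c := fun r hr => hself r hr (hcon r hr)
    have h1 := Subgroup.card_le_of_le hle
    rw [hcard, Nat.card_zpowers, hord] at h1
    have : p ^ 2 < p ^ 3 := Nat.pow_lt_pow_right hp1 (by norm_num)
    omega
  -- the quotient by U
  have hUn : ((Subgroup.zpowers (c ^ p)).subgroupOf R).Normal := by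
    constructor
    intro u hu g
    rw [Subgroup.mem_subgroupOf] at hu ⊢
    have : ((g * u * g⁻¹ : ↥R) : G) = (u : G) := by
      simp only [Subgroup.coe_mul, Subgroup.coe_inv]
      rw [← hUcen _ hu (g : G), mul_inv_cancel_right]
    rw [this]
    exact hu
  have hcardQ : Nat.card (↥R ⧸ (Subgroup.zpowers (c ^ p)).subgroupOf R) = p ^ 2 := by
    have h1 := Subgroup.card_eq_card_quotient_mul_card_subgroup
      ((Subgroup.zpowers (c ^ p)).subgroupOf R)
    rw [hcard, Nat.card_congr (Subgroup.subgroupOfEquivOfLe hUR).toEquiv, hcardU] at h1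
    have : p ^ 3 = p ^ 2 * p := by ring
    rw [this] at h1
    exact (Nat.eq_of_mul_eq_mul_right hp.out.pos h1).symm
  have hQcomm : ∀ a b : ↥R ⧸ (Subgroup.zpowers (c ^ p)).subgroupOf R, a * b = b * a :=
    commutative_of_card_dvd_prime_sq (p := p) (by rw [hcardQ])
  have hcomm : ∀ x ∈ R, ∀ y ∈ R, ⁅x, y⁆ ∈ Subgroup.zpowers (c ^ p) := by
    intro x hx y hy
    have h1 := hQcomm (QuotientGroup.mk ⟨x, hx⟩) (QuotientGroup.mk ⟨y, hy⟩)
    rw [← QuotientGroup.mk_mul, ← QuotientGroup.mk_mul, QuotientGroup.eq] at h1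
    rw [Subgroup.mem_subgroupOf] at h1
    have h2 : ⁅x, y⁆ = ((⟨y, hy⟩ * ⟨x, hx⟩ : ↥R) : G) * ((((⟨x, hx⟩ * ⟨y, hy⟩ : ↥R)⁻¹ *
        (⟨y, hy⟩ * ⟨x, hx⟩) : ↥R) : G))⁻¹ * ((⟨y, hy⟩ * ⟨x, hx⟩ : ↥R) : G)⁻¹ := by
      simp only [Subgroup.coe_mul, Subgroup.coe_inv, commutatorElement_def]
      group
    rw [h2]
    have h3 := hUcen _ (Subgroup.inv_mem _ h1) ((⟨y, hy⟩ * ⟨x, hx⟩ : ↥R) : G)
    rw [← h3, mul_inv_cancel_right]
    exact Subgroup.inv_mem _ h1
  have hpow : ∀ x ∈ R, x ^ p ∈ Subgroup.zpowers (c ^ p) := by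
    intro x hx
    have h1 : orderOf (QuotientGroup.mk ⟨x, hx⟩ : ↥R ⧸ (Subgroup.zpowers (c ^ p)).subgroupOf R)
        ∣ p ^ 2 := by
      rw [← hcardQ]; exact orderOf_dvd_natCard _
    obtain ⟨k, hk, hk'⟩ := (Nat.dvd_prime_pow hp.out).mp h1
    have hk2 : k ≠ 2 := by
      rintro rfl
      have : IsCyclic (↥R ⧸ (Subgroup.zpowers (c ^ p)).subgroupOf R) :=
        isCyclic_of_orderOf_eq_card _ (hk'.trans hcardQ.symm)
      have hab := MonoidHom.isMulCommutative_of_isCyclic_of_ker_le_center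
        (QuotientGroup.mk' ((Subgroup.zpowers (c ^ p)).subgroupOf R)) (by
          rw [QuotientGroup.ker_mk']
          intro u hu
          rw [Subgroup.mem_subgroupOf] at hu
          rw [Subgroup.mem_center_iff]
          intro g
          apply Subtype.ext
          exact (hUcen _ hu (g : G)).symm)
      have := isMulCommutative_iff.mp hab ⟨r₀, hr₀R⟩ ⟨c, hcR⟩
      exact hr₀c (congrArg Subtype.val this)
    have hk1 : k ≤ 1 := by omega
    have h2 : (QuotientGroup.mk ⟨x, hx⟩ : ↥R ⧸ (Subgroup.zpowers (c ^ p)).subgroupOf R) ^ p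
        = 1 := by
      apply orderOf_dvd_iff_pow_eq_one.mp
      rw [hk']
      calc p ^ k ∣ p ^ 1 := Nat.pow_dvd_pow p hk1
        _ = p := pow_one p
    rw [← QuotientGroup.mk_pow, QuotientGroup.eq_one_iff, Subgroup.mem_subgroupOf] at h2
    exact h2
  refine ⟨⟨hUR, fun u hu h _ => hUcen u hu h, hcomm⟩, hcardU, hpow, ?_, ⟨r₀, hr₀R, c, hcR, hr₀c⟩⟩
  intro r hr hrc
  have h1 : r ∈ Subgroup.zpowers c := hself r hr (hrc c hcR)
  obtain ⟨i, rfl⟩ := (mem_zpowers_iff_pow c r).mp h1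
  by_cases hi : p ∣ i
  · obtain ⟨j, rfl⟩ := hi
    rw [pow_mul]
    exact Subgroup.pow_mem _ (Subgroup.mem_zpowers _) _
  · exfalso
    have hcop : Nat.Coprime i (orderOf c) := by
      rw [hord]
      exact Nat.Coprime.pow_right 2 ((Nat.Prime.coprime_iff_not_dvd hp.out).mpr hi).symm
    have h2 := mem_zpowers_pow_of_coprime hcop (by rw [hord]; exact Nat.one_lt_pow (by norm_num) hp1)
    obtain ⟨k, hk⟩ := Subgroup.mem_zpowers_iff.mp h2
    apply hr₀c
    have h3 : Commute (c ^ i) r₀ := hrc r₀ hr₀R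
    rw [← hk]
    exact ((h3.zpow_left k).eq).symm

end Cfsg.Agent.Helper19.Symp
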