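import Mathlib
import Cfsg.Agent.Lib.Helper19.SelfDual
import Cfsg.Agent.Lib.Helper19.SympType

set_option autoImplicit false
open scoped commutatorElement

namespace Cfsg.Agent.Helper19.SelfDual

variable {G : Type*} [Group G]

theorem le_normalizer_of_conj_mem {H B : Subgroup G}
    (h : ∀ g ∈ H, ∀ b ∈ B, g * b * g⁻¹ ∈ B) : H ≤ Subgroup.normalizer (B : Set G) := by
  intro g hg
  rw [Subgroup.mem_normalizer_iff]
  intro b
  constructor
  · exact h g hg b
  · intro hb
    have := h g⁻¹ (H.inv_mem hg) _ hb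
    simpa [mul_assoc] using this

/-- conjugation by a normalizing element as an endomorphism of `↥W` -/
def conjW (W : Subgroup G) (g : G) (hg : g ∈ Subgroup.normalizer (W : Set G)) : ↥W →* ↥W where
  toFun x := ⟨g * x * g⁻¹, (Subgroup.mem_normalizer_iff.1 hg x).1 x.2⟩
  map_one' := by
    apply Subtype.ext
    simp
  map_mul' a b := by
    apply Subtype.ext
    simp [mul_assoc]

@[simp] theorem conjW_coe (W : Subgroup G) (g : G) (hg : g ∈ Subgroup.normalizer (W : Set G))
    (x : W) : (conjW W g hg x : G) = g * x * g⁻¹ := rfl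

/-- **Section lemma**: a commutative `p'`-group `H` acting on a section `W / Z(W)` carrying
the commutator pairing into a central subgroup `Z` of order `p`. -/
theorem section_lemma [Finite G] (p : ℕ) [hp : Fact p.Prime] (W A Z H : Subgroup G)
    (hAW : A ≤ W) (hAc : ∀ a ∈ A, ∀ w ∈ W, a * w = w * a)
    (hAcen : ∀ x ∈ W, (∀ w ∈ W, x * w = w * x) → x ∈ A)
    (hZ : Nat.card Z = p) (hZA : Z ≤ A) (hcomm : ∀ x ∈ W, ∀ y ∈ W, ⁅x, y⁆ ∈ Z)
    (hpow : ∀ x ∈ W, x ^ p ∈ A) (hne : A ≠ W)
    (hHW : H ≤ Subgroup.normalizer (W : Set G)) (hHZ : ∀ g ∈ H, ∀ z ∈ Z, g * z = z * g)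
    (hHc : ∀ a ∈ H, ∀ b ∈ H, a * b = b * a) (hcop : ¬ p ∣ Nat.card H)
    (hirr : ∀ B : Subgroup G, A ≤ B → B ≤ W → H ≤ Subgroup.normalizer (B : Set G) →
      B = A ∨ B = W)
    (hfaith : ∀ g ∈ H, (∀ x ∈ W, g * x * g⁻¹ * x⁻¹ ∈ A) → g = 1) :
    Nat.card H ≤ 2 ∨ ∃ e, 1 ≤ e ∧ Nat.card H ∣ p ^ e + 1 := by
  classical
  have hC2 : Symp.C2 W Z := ⟨hZA.trans hAW, fun u hu h hh => hAc u (hZA hu) h hh, hcomm⟩
  set N : Subgroup ↥W := A.subgroupOf W with hN
  have hNmem : ∀ x : W, x ∈ N ↔ (x : G) ∈ A := fun x => Subgroup.mem_subgroupOf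
  have hNn : N.Normal := by
    constructor
    intro a ha w
    rw [hNmem] at ha ⊢
    have : ((w * a * w⁻¹ : W) : G) = a := by
      show (w : G) * a * (w : G)⁻¹ = a
      rw [← hAc a ha w w.2, mul_inv_cancel_right]
    rw [this]; exact ha
  -- conjugation by H preserves A
  have hHA : ∀ g ∈ H, ∀ a ∈ A, g * a * g⁻¹ ∈ A := by
    intro g hg a ha
    have hgn := hHW hg
    have hgn' : g⁻¹ ∈ Subgroup.normalizer (W : Set G) := inv_mem hgn
    have h1 : g * a * g⁻¹ ∈ W := (Subgroup.mem_normalizer_iff.1 hgn a).1 (hAW ha)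
    apply hAcen _ h1
    intro w hw
    have h2 : g⁻¹ * w * g ∈ W := by
      have := (Subgroup.mem_normalizer_iff.1 hgn' w).1 hw
      simpa using this
    have h3 := hAc a ha _ h2
    calc g * a * g⁻¹ * w = g * (a * (g⁻¹ * w * g)) * g⁻¹ := by group
      _ = g * ((g⁻¹ * w * g) * a) * g⁻¹ := by rw [h3]
      _ = w * (g * a * g⁻¹) := by group
  -- the quotient
  have hUc : ∀ a b : ↥W ⧸ N, a * b = b * a := by
    intro a b
    induction a using QuotientGroup.induction_on with
    | H x =>
      induction b using QuotientGroup.induction_on with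
      | H y =>
        rw [← QuotientGroup.mk_mul, ← QuotientGroup.mk_mul, QuotientGroup.eq, hNmem]
        have : (((x * y)⁻¹ * (y * x) : W) : G) = ⁅(y : G)⁻¹, (x : G)⁻¹⁆ := by
          rw [commutatorElement_def]
          show ((x : G) * y)⁻¹ * ((y : G) * x) = _
          group
        rw [this]
        exact hZA (hcomm _ (W.inv_mem y.2) _ (W.inv_mem x.2))
  have hHc' : ∀ a b : ↥H, a * b = b * a := fun a b => Subtype.ext (hHc a a.2 b b.2)
  have hUp : ∀ u : ↥W ⧸ N, u ^ p = 1 := by
    intro u
    induction u using QuotientGroup.induction_on with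
    | H x =>
      rw [← QuotientGroup.mk_pow, QuotientGroup.eq_one_iff, hNmem]
      exact hpow x x.2
  have hnt : Nontrivial (↥W ⧸ N) := by
    have : ∃ x ∈ W, x ∉ A := by
      by_contra hcon
      push Not at hcon
      exact hne (le_antisymm hAW hcon)
    obtain ⟨x, hxW, hxA⟩ := this
    refine ⟨⟨QuotientGroup.mk ⟨x, hxW⟩, 1, ?_⟩⟩
    intro h
    rw [QuotientGroup.eq_one_iff, hNmem] at h
    exact hxA h
  -- the action
  have hle : ∀ g : H, N ≤ N.comap (conjW W g (hHW g.2)) := by
    intro g a ha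
    rw [Subgroup.mem_comap, hNmem]
    exact hHA g g.2 a ((hNmem a).1 ha)
  let α : ↥H → ((↥W ⧸ N) →* (↥W ⧸ N)) := fun g =>
    QuotientGroup.map N N (conjW W g (hHW g.2)) (hle g)
  have hα : ∀ (g : H) (x : W), α g (QuotientGroup.mk x) =
      QuotientGroup.mk (conjW W g (hHW g.2) x) := fun g x => rfl
  have hα1 : α 1 = MonoidHom.id _ := by
    apply MonoidHom.ext
    intro u
    induction u using QuotientGroup.induction_on with
    | H x =>
      rw [hα]
      show _ = QuotientGroup.mk x
      congr 1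
      apply Subtype.ext
      simp
  have hαmul : ∀ a b, α (a * b) = (α a).comp (α b) := by
    intro a b
    apply MonoidHom.ext
    intro u
    induction u using QuotientGroup.induction_on with
    | H x =>
      rw [MonoidHom.comp_apply, hα, hα, hα]
      congr 1
      apply Subtype.ext
      simp [mul_assoc]
  -- the pairing
  have hcardM : Nat.card (Multiplicative (ZMod p)) = p := by
    rw [Nat.card_eq_fintype_card]
    exact (Fintype.card_congr Multiplicative.toAdd).trans (ZMod.card p)
  let iso : ↥Z ≃* Multiplicative (ZMod p) := mulEquivOfPrimeCardEq hZ hcardM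
  let β : (↥W ⧸ N) → (↥W ⧸ N) → Multiplicative (ZMod p) := fun u v =>
    iso ⟨⁅((Quotient.out u : W) : G), ((Quotient.out v : W) : G)⁆,
      hcomm _ (Quotient.out u : W).2 _ (Quotient.out v : W).2⟩
  have hcomm_coset : ∀ (x y : W) (a b : W), a ∈ N → b ∈ N →
      ⁅((x * a : W) : G), ((y * b : W) : G)⁆ = ⁅(x : G), (y : G)⁆ := by
    intro x y a b ha hb
    rw [hNmem] at ha hb
    show ⁅(x : G) * a, (y : G) * b⁆ = ⁅(x : G), (y : G)⁆
    have ha1 : ⁅(a : G), (y : G)⁆ = 1 := by
      rw [commutatorElement_eq_one_iff_mul_comm]; exact hAc a ha y y.2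
    have ha2 : ⁅(a : G), (b : G)⁆ = 1 := by
      rw [commutatorElement_eq_one_iff_mul_comm]; exact hAc a ha b b.2
    have hb1 : ⁅(x : G), (b : G)⁆ = 1 := by
      rw [commutatorElement_eq_one_iff_mul_comm]; exact (hAc b hb x x.2).symm
    rw [hC2.comm_mul_left x.2 a.2 (W.mul_mem y.2 b.2), hC2.comm_mul_right x.2 y.2 b.2,
      hC2.comm_mul_right a.2 y.2 b.2, ha1, ha2, hb1]
    simp
  have hβ : ∀ x y : W, β (QuotientGroup.mk x) (QuotientGroup.mk y) =
      iso ⟨⁅(x : G), (y : G)⁆, hcomm _ x.2 _ y.2⟩ := by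
    intro x y
    obtain ⟨a, ha⟩ := QuotientGroup.mk_out_eq_mul N x
    obtain ⟨b, hb⟩ := QuotientGroup.mk_out_eq_mul N y
    show iso ⟨⁅((Quotient.out (QuotientGroup.mk x : ↥W ⧸ N) : W) : G),
      ((Quotient.out (QuotientGroup.mk y : ↥W ⧸ N) : W) : G)⁆, _⟩ = _
    congr 1
    apply Subtype.ext
    show ⁅((Quotient.out (QuotientGroup.mk x : ↥W ⧸ N) : W) : G),
      ((Quotient.out (QuotientGroup.mk y : ↥W ⧸ N) : W) : G)⁆ = ⁅(x : G), (y : G)⁆
    have ha' : (Quotient.out (QuotientGroup.mk x : ↥W ⧸ N) : W) = x * a := ha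
    have hb' : (Quotient.out (QuotientGroup.mk y : ↥W ⧸ N) : W) = y * b := hb
    rw [ha', hb']
    exact hcomm_coset x y a b a.2 b.2
  refine group_lemma p hUc hUp hHc' hcop α hα1 hαmul ?_ ?_ β ?_ ?_ ?_ ?_ ?_
  · -- faithful
    intro g0 g1 hg01
    have hg : α (g0⁻¹ * g1) = MonoidHom.id _ := by
      rw [hαmul, ← hg01, ← hαmul, inv_mul_cancel, hα1]
    suffices h : g0⁻¹ * g1 = 1 by
      have := inv_mul_eq_one.1 h
      exact this
    generalize g0⁻¹ * g1 = g at hg
    have : (g : G) = 1 := by
      apply hfaith g g.2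
      intro x hx
      have h1 := congrArg (fun f => f (QuotientGroup.mk (⟨x, hx⟩ : W))) hg
      simp only [hα] at h1
      have h2 : (QuotientGroup.mk (conjW W g (hHW g.2) ⟨x, hx⟩) : ↥W ⧸ N) =
          QuotientGroup.mk (⟨x, hx⟩ : W) := by
        rw [h1]; rfl
      rw [QuotientGroup.eq, hNmem] at h2
      have h3 : (g : G) * x * (g : G)⁻¹ * x⁻¹ ∈ A := by
        have h4 : (((conjW W g (hHW g.2) ⟨x, hx⟩)⁻¹ * ⟨x, hx⟩ : W) : G) =
            ((g : G) * x * (g : G)⁻¹)⁻¹ * x := rfl
        rw [h4] at h2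
        have h5 := A.inv_mem h2
        have h6 : (((g : G) * x * (g : G)⁻¹)⁻¹ * x)⁻¹ = x⁻¹ * ((g : G) * x * (g : G)⁻¹) := by group
        rw [h6] at h5
        have h7 := hAc _ h5 x hx
        have : (g : G) * x * (g : G)⁻¹ * x⁻¹ = x⁻¹ * ((g : G) * x * (g : G)⁻¹) := by
          calc (g : G) * x * (g : G)⁻¹ * x⁻¹
              = x * (x⁻¹ * ((g : G) * x * (g : G)⁻¹)) * x⁻¹ := by group
            _ = (x⁻¹ * ((g : G) * x * (g : G)⁻¹)) * x * x⁻¹ := by rw [← h7]
            _ = x⁻¹ * ((g : G) * x * (g : G)⁻¹) := by group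
        rw [this]; exact h5
      exact h3
    exact Subtype.ext this
  · -- irreducible
    intro B' hB'
    set B : Subgroup G := (B'.comap (QuotientGroup.mk' N)).map W.subtype with hB
    have hBmem : ∀ x : W, (x : G) ∈ B ↔ (QuotientGroup.mk x : ↥W ⧸ N) ∈ B' := by
      intro x
      rw [hB, Subgroup.mem_map]
      constructor
      · rintro ⟨y, hy, hyx⟩
        have : y = x := Subtype.ext hyx
        rw [← this]; exact hy
      · intro h
        exact ⟨x, h, rfl⟩
    have hBW : B ≤ W := by
      rw [hB]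
      intro x hx
      rw [Subgroup.mem_map] at hx
      obtain ⟨y, _, rfl⟩ := hx
      exact y.2
    have hAB : A ≤ B := by
      intro a ha
      have := (hBmem ⟨a, hAW ha⟩).2 (by
        have : (QuotientGroup.mk (⟨a, hAW ha⟩ : W) : ↥W ⧸ N) = 1 := by
          rw [QuotientGroup.eq_one_iff, hNmem]; exact ha
        rw [this]; exact one_mem _)
      exact this
    have hHB : H ≤ Subgroup.normalizer (B : Set G) := by
      apply le_normalizer_of_conj_mem
      intro g hg b hb
      have hbW := hBW hb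
      have h1 := (hBmem ⟨b, hbW⟩).1 hb
      have h2 := hB' ⟨g, hg⟩ _ h1
      rw [hα] at h2
      exact (hBmem _).2 h2
    rcases hirr B hAB hBW hHB with h | h
    · left
      rw [Subgroup.eq_bot_iff_forall]
      intro u hu
      induction u using QuotientGroup.induction_on with
      | H x =>
        have := (hBmem x).2 hu
        rw [h] at this
        rw [QuotientGroup.eq_one_iff, hNmem]
        exact this
    · right
      rw [Subgroup.eq_top_iff']
      intro u
      induction u using QuotientGroup.induction_on with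
      | H x =>
        apply (hBmem x).1
        rw [h]; exact x.2
  · -- left additivity
    intro u v w
    induction u using QuotientGroup.induction_on with
    | H x =>
      induction v using QuotientGroup.induction_on with
      | H y =>
        induction w using QuotientGroup.induction_on with
        | H z =>
          rw [← QuotientGroup.mk_mul, hβ, hβ, hβ, ← map_mul]
          congr 1
          apply Subtype.ext
          show ⁅((x * y : W) : G), (z : G)⁆ = ⁅(x : G), (z : G)⁆ * ⁅(y : G), (z : G)⁆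
          exact hC2.comm_mul_left x.2 y.2 z.2
  · intro u v w
    induction u using QuotientGroup.induction_on with
    | H x =>
      induction v using QuotientGroup.induction_on with
      | H y =>
        induction w using QuotientGroup.induction_on with
        | H z =>
          rw [← QuotientGroup.mk_mul, hβ, hβ, hβ, ← map_mul]
          congr 1
          apply Subtype.ext
          show ⁅(x : G), ((y * z : W) : G)⁆ = ⁅(x : G), (y : G)⁆ * ⁅(x : G), (z : G)⁆
          exact hC2.comm_mul_right x.2 y.2 z.2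
  · -- left nondegenerate
    intro u hu
    induction u using QuotientGroup.induction_on with
    | H x =>
      rw [QuotientGroup.eq_one_iff, hNmem]
      apply hAcen _ x.2
      intro w hw
      have := hu (QuotientGroup.mk ⟨w, hw⟩)
      rw [hβ] at this
      have h2 : (⟨⁅(x : G), w⁆, hcomm _ x.2 _ hw⟩ : Z) = 1 := by
        apply iso.injective
        rw [this, map_one]
      have h3 : ⁅(x : G), w⁆ = 1 := congrArg Subtype.val h2
      exact commutatorElement_eq_one_iff_mul_comm.1 h3
  · intro u hu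
    induction u using QuotientGroup.induction_on with
    | H y =>
      rw [QuotientGroup.eq_one_iff, hNmem]
      apply hAcen _ y.2
      intro w hw
      have := hu (QuotientGroup.mk ⟨w, hw⟩)
      rw [hβ] at this
      have h2 : (⟨⁅w, (y : G)⁆, hcomm _ hw _ y.2⟩ : Z) = 1 := by
        apply iso.injective
        rw [this, map_one]
      have h3 : ⁅w, (y : G)⁆ = 1 := congrArg Subtype.val h2
      exact (commutatorElement_eq_one_iff_mul_comm.1 h3).symm
  · -- invariance
    intro g u v
    induction u using QuotientGroup.induction_on with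
    | H x =>
      induction v using QuotientGroup.induction_on with
      | H y =>
        rw [hα, hα, hβ, hβ]
        congr 1
        apply Subtype.ext
        show ⁅(g : G) * x * (g : G)⁻¹, (g : G) * y * (g : G)⁻¹⁆ = ⁅(x : G), (y : G)⁆
        have h1 : ⁅(g : G) * x * (g : G)⁻¹, (g : G) * y * (g : G)⁻¹⁆ =
            (g : G) * ⁅(x : G), (y : G)⁆ * (g : G)⁻¹ := by
          simp only [commutatorElement_def]; group
        rw [h1, hHZ g g.2 _ (hcomm _ x.2 _ y.2), mul_inv_cancel_right]

end Cfsg.Agent.Helper19.SelfDual
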