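import Mathlib
import Cfsg.Prelude.Def_Local
import Cfsg.Agent.Lib.Helper23.PSolvable2

/-!
# The `p`-length (helper19 library)

API for `Cfsg.PLengthLE` through ascending chains of normal subgroups whose factors alternate
between `p'`-groups and `p`-groups.

* `PLen.IsPChain`: such chains (without the starting condition);
* `PLen.upperPSeries_isPChain`: the upper `p`-series is one;
* `PLen.IsPChain.le_upperPSeries`: every chain starting at `⊥` lies below the upper `p`-series;
* `PLen.plengthLE_of_chain`: chain criterion for `PLengthLE`;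
* `PLen.upperPSeries_characteristic`;
* `PLen.plengthLE_of_surjective`, `PLen.plengthLE_subgroup`, `PLen.plengthLE_add`, ...
-/

set_option autoImplicit false

namespace Cfsg.Agent.Helper19.PLen

open Subgroup
open Cfsg.Agent.Helper23.PSolv

variable {G : Type*} [Group G]

/-- An ascending chain of normal subgroups whose even steps have index prime to `p` and whose odd
steps have `p`-power index. -/
structure IsPChain (p : ℕ) (N : ℕ → Subgroup G) : Prop where
  mono : ∀ j, N j ≤ N (j + 1)
  normal : ∀ j, (N j).Normal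
  even : ∀ j, Even j → ((N j).relIndex (N (j + 1))).Coprime p
  odd : ∀ j, ¬ Even j → ∃ m : ℕ, (N j).relIndex (N (j + 1)) = p ^ m

theorem le_comap_mk' (U : Subgroup G) [U.Normal] (M : Subgroup (G ⧸ U)) :
    U ≤ M.comap (QuotientGroup.mk' U) := by
  have h := MonoidHom.ker_le_comap (QuotientGroup.mk' U) M
  rwa [QuotientGroup.ker_mk'] at h

theorem relIndex_comap_mk' (U : Subgroup G) [U.Normal] (M : Subgroup (G ⧸ U)) :
    U.relIndex (M.comap (QuotientGroup.mk' U)) = Nat.card M := by
  have h := relIndex_ker (M.comap (QuotientGroup.mk' U)) (QuotientGroup.mk' U)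
  rw [QuotientGroup.ker_mk', map_comap_eq_self_of_surjective (QuotientGroup.mk'_surjective U)] at h
  exact h

theorem upperPSeries_zero (p : ℕ) : (upperPSeries p G 0).1 = ⊥ := by
  rw [upperPSeries]

/-- The upper `p`-series is a chain. -/
theorem upperPSeries_isPChain [Finite G] (p : ℕ) [Fact p.Prime] :
    IsPChain p (fun j => (upperPSeries p G j).1) := by
  refine ⟨?_, fun j => inferInstance, ?_, ?_⟩
  · intro j
    show (upperPSeries p G j).1 ≤ (upperPSeries p G (j + 1)).1
    by_cases hj : Even j
    · rw [upperPSeries_succ_even p j hj]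
      exact le_comap_mk' _ _
    · rw [upperPSeries_succ_odd p j hj]
      exact le_comap_mk' _ _
  · intro j hj
    show ((upperPSeries p G j).1.relIndex (upperPSeries p G (j + 1)).1).Coprime p
    rw [upperPSeries_succ_even p j hj, relIndex_comap_mk']
    exact Helper22.card_pPrimeCore_coprime p
  · intro j hj
    show ∃ m : ℕ, (upperPSeries p G j).1.relIndex (upperPSeries p G (j + 1)).1 = p ^ m
    rw [upperPSeries_succ_odd p j hj, relIndex_comap_mk']
    exact IsPGroup.iff_card.mp (Helper10.pCore_isPGroup p)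

theorem coprime_of_dvd {p a b : ℕ} (h : a ∣ b) (hb : b.Coprime p) : a.Coprime p :=
  Nat.Coprime.coprime_dvd_left h hb

theorem pow_of_dvd {p a b : ℕ} [hp : Fact p.Prime] (h : a ∣ b) (hb : ∃ m : ℕ, b = p ^ m) :
    ∃ m : ℕ, a = p ^ m := by
  obtain ⟨m, rfl⟩ := hb
  obtain ⟨k, _, rfl⟩ := (Nat.dvd_prime_pow hp.out).mp h
  exact ⟨k, rfl⟩

/-- Every chain starting at the trivial subgroup lies below the upper `p`-series. -/
theorem IsPChain.le_upperPSeries [Finite G] {p : ℕ} [Fact p.Prime] {N : ℕ → Subgroup G}
    (h : IsPChain p N) (h0 : N 0 = ⊥) : ∀ j, N j ≤ (upperPSeries p G j).1 := by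
  intro j
  induction j with
  | zero => rw [h0]; exact bot_le
  | succ j ih =>
    have hnorm : ((N (j + 1)).map (QuotientGroup.mk' (upperPSeries p G j).1)).Normal :=
      Subgroup.Normal.map (h.normal (j + 1)) _ (QuotientGroup.mk'_surjective _)
    have hcard : Nat.card ((N (j + 1)).map (QuotientGroup.mk' (upperPSeries p G j).1)) ∣
        (N j).relIndex (N (j + 1)) := by
      have h1 := relIndex_ker (N (j + 1)) (QuotientGroup.mk' (upperPSeries p G j).1)
      rw [QuotientGroup.ker_mk'] at h1
      rw [← h1]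
      exact relIndex_dvd_of_le_left (N (j + 1)) ih
    by_cases hj : Even j
    · rw [upperPSeries_succ_even p j hj]
      apply map_le_iff_le_comap.mp
      exact Helper22.le_pPrimeCore p _ hnorm (coprime_of_dvd hcard (h.even j hj))
    · rw [upperPSeries_succ_odd p j hj]
      apply map_le_iff_le_comap.mp
      obtain ⟨m, hm⟩ := pow_of_dvd hcard (h.odd j hj)
      exact le_sSup ⟨hnorm, IsPGroup.of_card hm⟩

/-- The chain criterion for the `p`-length. -/
theorem plengthLE_of_chain [Finite G] {p : ℕ} [Fact p.Prime] {N : ℕ → Subgroup G}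
    (h : IsPChain p N) (h0 : N 0 = ⊥) (k : ℕ) (htop : N (2 * k + 1) = ⊤) : PLengthLE p k G := by
  unfold PLengthLE
  rw [eq_top_iff, ← htop]
  exact h.le_upperPSeries h0 _

theorem IsPChain.monotone {p : ℕ} {N : ℕ → Subgroup G} (h : IsPChain p N) : Monotone N :=
  monotone_nat_of_le_succ h.mono

theorem upperPSeries_eq_top_of_le [Finite G] {p : ℕ} [Fact p.Prime] {i j : ℕ} (hij : i ≤ j)
    (h : (upperPSeries p G i).1 = ⊤) : (upperPSeries p G j).1 = ⊤ := by
  rw [eq_top_iff, ← h]
  exact (upperPSeries_isPChain (G := G) p).monotone hij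

theorem plengthLE_mono [Finite G] {p : ℕ} [Fact p.Prime] {a b : ℕ} (hab : a ≤ b)
    (h : PLengthLE p a G) : PLengthLE p b G :=
  upperPSeries_eq_top_of_le (by omega) h

/-! ### Operations on chains -/

theorem IsPChain.map {G' : Type*} [Group G'] {p : ℕ} [Fact p.Prime] {N : ℕ → Subgroup G}
    (h : IsPChain p N) (f : G →* G') (hf : Function.Surjective f) :
    IsPChain p (fun j => (N j).map f) := by
  refine ⟨fun j => map_mono (h.mono j), fun j => Subgroup.Normal.map (h.normal j) f hf, ?_, ?_⟩
  · intro j hj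
    have := h.normal j
    exact coprime_of_dvd (relIndex_map_dvd f (N j) (N (j + 1)) (h.mono j)) (h.even j hj)
  · intro j hj
    have := h.normal j
    exact pow_of_dvd (relIndex_map_dvd f (N j) (N (j + 1)) (h.mono j)) (h.odd j hj)

theorem IsPChain.comap {G' : Type*} [Group G'] {p : ℕ} {N : ℕ → Subgroup G'}
    (h : IsPChain p N) (f : G →* G') (hf : Function.Surjective f) :
    IsPChain p (fun j => (N j).comap f) := by
  have key : ∀ j, ((N j).comap f).relIndex ((N (j + 1)).comap f) = (N j).relIndex (N (j + 1)) := by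
    intro j
    rw [relIndex_comap, map_comap_eq_self_of_surjective hf]
  refine ⟨fun j => comap_mono (h.mono j), fun j => Subgroup.Normal.comap (h.normal j) f, ?_, ?_⟩
  · intro j hj
    show (((N j).comap f).relIndex ((N (j + 1)).comap f)).Coprime p
    rw [key]
    exact h.even j hj
  · intro j hj
    show ∃ m : ℕ, ((N j).comap f).relIndex ((N (j + 1)).comap f) = p ^ m
    rw [key]
    exact h.odd j hj

theorem IsPChain.subgroupOf {p : ℕ} [Fact p.Prime] {N : ℕ → Subgroup G}
    (h : IsPChain p N) (K : Subgroup G) :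
    IsPChain p (fun j => (N j).subgroupOf K) := by
  refine ⟨fun j => comap_mono (h.mono j), fun j => (h.normal j).subgroupOf K, ?_, ?_⟩
  · intro j hj
    have := h.normal j
    exact coprime_of_dvd (relIndex_subgroupOf_dvd (N j) (N (j + 1)) K (h.mono j)) (h.even j hj)
  · intro j hj
    have := h.normal j
    exact pow_of_dvd (relIndex_subgroupOf_dvd (N j) (N (j + 1)) K (h.mono j)) (h.odd j hj)

theorem IsPChain.shift {p : ℕ} {N : ℕ → Subgroup G} (h : IsPChain p N) (i : ℕ) :
    IsPChain p (fun j => N (j + 2 * i)) := by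
  refine ⟨?_, fun j => h.normal _, ?_, ?_⟩
  · intro j
    have := h.mono (j + 2 * i)
    rwa [show j + 2 * i + 1 = j + 1 + 2 * i by omega] at this
  · intro j hj
    have := h.even (j + 2 * i) (hj.add (even_two_mul i))
    rwa [show j + 2 * i + 1 = j + 1 + 2 * i by omega] at this
  · intro j hj
    have hodd : ¬ Even (j + 2 * i) := by
      intro he
      apply hj
      have := (Nat.even_add.mp he)
      exact this.mpr (even_two_mul i)
    have := h.odd (j + 2 * i) hodd
    rwa [show j + 2 * i + 1 = j + 1 + 2 * i by omega] at this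

/-- Concatenation of two chains at an even position. -/
theorem IsPChain.concat {p : ℕ} {V W : ℕ → Subgroup G} (hV : IsPChain p V) (hW : IsPChain p W)
    (a : ℕ) (hVW : V (2 * a + 1) = W 0) :
    IsPChain p (fun j => if j ≤ 2 * a then V j else W (j - 2 * a)) := by
  have hVW' : V (2 * a) ≤ W 1 := by
    calc V (2 * a) ≤ V (2 * a + 1) := hV.mono _
      _ = W 0 := hVW
      _ ≤ W 1 := hW.mono 0
  have hmid : ((V (2 * a)).relIndex (W 1)).Coprime p := by
    have h1 := relIndex_mul_relIndex (V (2 * a)) (V (2 * a + 1)) (W 1) (hV.mono _)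
      (by rw [hVW]; exact hW.mono 0)
    rw [← h1]
    apply Nat.Coprime.mul_left (hV.even _ (even_two_mul a))
    rw [hVW]
    exact hW.even 0 (by decide)
  refine ⟨?_, ?_, ?_, ?_⟩
  · intro j
    show (if j ≤ 2 * a then V j else W (j - 2 * a)) ≤
      (if j + 1 ≤ 2 * a then V (j + 1) else W (j + 1 - 2 * a))
    by_cases h1 : j + 1 ≤ 2 * a
    · rw [if_pos (by omega), if_pos h1]
      exact hV.mono j
    · by_cases h2 : j ≤ 2 * a
      · have hj : j = 2 * a := by omega
        rw [if_pos h2, if_neg h1, hj, show 2 * a + 1 - 2 * a = 1 by omega]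
        exact hVW'
      · rw [if_neg h2, if_neg h1, show j + 1 - 2 * a = j - 2 * a + 1 by omega]
        exact hW.mono _
  · intro j
    show (if j ≤ 2 * a then V j else W (j - 2 * a)).Normal
    by_cases h2 : j ≤ 2 * a
    · rw [if_pos h2]; exact hV.normal j
    · rw [if_neg h2]; exact hW.normal _
  · intro j hj
    show ((if j ≤ 2 * a then V j else W (j - 2 * a)).relIndex
      (if j + 1 ≤ 2 * a then V (j + 1) else W (j + 1 - 2 * a))).Coprime p
    by_cases h1 : j + 1 ≤ 2 * a
    · rw [if_pos (by omega), if_pos h1]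
      exact hV.even j hj
    · by_cases h2 : j ≤ 2 * a
      · have hj' : j = 2 * a := by omega
        rw [if_pos h2, if_neg h1, hj', show 2 * a + 1 - 2 * a = 1 by omega]
        exact hmid
      · rw [if_neg h2, if_neg h1, show j + 1 - 2 * a = j - 2 * a + 1 by omega]
        apply hW.even
        have : j = (j - 2 * a) + 2 * a := by omega
        rw [this] at hj
        exact (Nat.even_add.mp hj).mpr (even_two_mul a)
  · intro j hj
    show ∃ m : ℕ, (if j ≤ 2 * a then V j else W (j - 2 * a)).relIndex
      (if j + 1 ≤ 2 * a then V (j + 1) else W (j + 1 - 2 * a)) = p ^ m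
    by_cases h1 : j + 1 ≤ 2 * a
    · rw [if_pos (by omega), if_pos h1]
      exact hV.odd j hj
    · by_cases h2 : j ≤ 2 * a
      · exfalso
        have hj' : j = 2 * a := by omega
        exact hj (hj' ▸ even_two_mul a)
      · rw [if_neg h2, if_neg h1, show j + 1 - 2 * a = j - 2 * a + 1 by omega]
        apply hW.odd
        intro he
        apply hj
        have : j = (j - 2 * a) + 2 * a := by omega
        rw [this]
        exact he.add (even_two_mul a)

/-! ### Consequences for the upper `p`-series -/

theorem upperPSeries_characteristic [Finite G] (p : ℕ) [Fact p.Prime] (j : ℕ) :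
    (upperPSeries p G j).1.Characteristic := by
  rw [characteristic_iff_map_le]
  intro φ
  have hch := (upperPSeries_isPChain (G := G) p).map φ.toMonoidHom φ.surjective
  have h0 : (fun j => (upperPSeries p G j).1.map φ.toMonoidHom) 0 = ⊥ := by
    show (upperPSeries p G 0).1.map φ.toMonoidHom = ⊥
    rw [upperPSeries_zero, Subgroup.map_bot]
  exact hch.le_upperPSeries h0 j

theorem plengthLE_of_surjective [Finite G] {G' : Type*} [Group G'] [Finite G'] {p : ℕ}
    [Fact p.Prime] (f : G →* G') (hf : Function.Surjective f) {k : ℕ} (h : PLengthLE p k G) :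
    PLengthLE p k G' := by
  have hch := (upperPSeries_isPChain (G := G) p).map f hf
  refine plengthLE_of_chain hch ?_ k ?_
  · show (upperPSeries p G 0).1.map f = ⊥
    rw [upperPSeries_zero, Subgroup.map_bot]
  · show (upperPSeries p G (2 * k + 1)).1.map f = ⊤
    have h' : (upperPSeries p G (2 * k + 1)).1 = ⊤ := h
    rw [h', map_top_of_surjective f hf]

theorem plengthLE_quotient [Finite G] {p : ℕ} [Fact p.Prime] (N : Subgroup G) [N.Normal] {k : ℕ}
    (h : PLengthLE p k G) : PLengthLE p k (G ⧸ N) :=
  plengthLE_of_surjective (QuotientGroup.mk' N) (QuotientGroup.mk'_surjective N) h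

theorem plengthLE_of_mulEquiv [Finite G] {G' : Type*} [Group G'] [Finite G'] {p : ℕ}
    [Fact p.Prime] (e : G ≃* G') {k : ℕ} (h : PLengthLE p k G) : PLengthLE p k G' :=
  plengthLE_of_surjective e.toMonoidHom e.surjective h

theorem plengthLE_subgroup [Finite G] {p : ℕ} [Fact p.Prime] (K : Subgroup G) {k : ℕ}
    (h : PLengthLE p k G) : PLengthLE p k K := by
  have hch := (upperPSeries_isPChain (G := G) p).subgroupOf K
  refine plengthLE_of_chain hch ?_ k ?_
  · show (upperPSeries p G 0).1.subgroupOf K = ⊥
    rw [upperPSeries_zero, bot_subgroupOf]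
  · show (upperPSeries p G (2 * k + 1)).1.subgroupOf K = ⊤
    have h' : (upperPSeries p G (2 * k + 1)).1 = ⊤ := h
    rw [h', top_subgroupOf]

/-- Subadditivity of the `p`-length along a normal subgroup. -/
theorem plengthLE_add [Finite G] {p : ℕ} [Fact p.Prime] (N : Subgroup G) [N.Normal] {a b : ℕ}
    (hN : PLengthLE p a N) (hQ : PLengthLE p b (G ⧸ N)) : PLengthLE p (a + b) G := by
  have hV : IsPChain p (fun j => (upperPSeries p N j).1.map N.subtype) := by
    have hch := upperPSeries_isPChain (G := N) p
    refine ⟨fun j => map_mono (hch.mono j), ?_, ?_, ?_⟩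
    · intro j
      have := upperPSeries_characteristic (G := N) p j
      exact ConjAct.normal_of_characteristic_of_normal
    · intro j hj
      exact coprime_of_dvd (relIndex_map_dvd N.subtype _ _ (hch.mono j)) (hch.even j hj)
    · intro j hj
      exact pow_of_dvd (relIndex_map_dvd N.subtype _ _ (hch.mono j)) (hch.odd j hj)
  have hW := (upperPSeries_isPChain (G := G ⧸ N) p).comap (QuotientGroup.mk' N)
    (QuotientGroup.mk'_surjective N)
  have hVW : (fun j => (upperPSeries p N j).1.map N.subtype) (2 * a + 1) =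
      (fun j => (upperPSeries p (G ⧸ N) j).1.comap (QuotientGroup.mk' N)) 0 := by
    show (upperPSeries p N (2 * a + 1)).1.map N.subtype =
      (upperPSeries p (G ⧸ N) 0).1.comap (QuotientGroup.mk' N)
    have h' : (upperPSeries p N (2 * a + 1)).1 = ⊤ := hN
    rw [h', upperPSeries_zero, MonoidHom.comap_bot, QuotientGroup.ker_mk', ← MonoidHom.range_eq_map,
      range_subtype]
  have hC := hV.concat hW a hVW
  refine plengthLE_of_chain hC ?_ (a + b) ?_
  · show (if 0 ≤ 2 * a then (upperPSeries p N 0).1.map N.subtype else _) = ⊥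
    rw [if_pos (Nat.zero_le _), upperPSeries_zero, Subgroup.map_bot]
  · show (if 2 * (a + b) + 1 ≤ 2 * a then _ else
      (upperPSeries p (G ⧸ N) (2 * (a + b) + 1 - 2 * a)).1.comap (QuotientGroup.mk' N)) = ⊤
    rw [if_neg (by omega), show 2 * (a + b) + 1 - 2 * a = 2 * b + 1 by omega]
    have h' : (upperPSeries p (G ⧸ N) (2 * b + 1)).1 = ⊤ := hQ
    rw [h', comap_top]

/-! ### Small cases -/

theorem plengthLE_zero_of_coprime [Finite G] {p : ℕ} [Fact p.Prime]
    (h : (Nat.card G).Coprime p) : PLengthLE p 0 G := by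
  have hch : IsPChain p (fun j => if j = 0 then (⊥ : Subgroup G) else ⊤) := by
    refine ⟨?_, ?_, ?_, ?_⟩
    · intro j
      show (if j = 0 then (⊥ : Subgroup G) else ⊤) ≤ (if j + 1 = 0 then (⊥ : Subgroup G) else ⊤)
      rw [if_neg (Nat.succ_ne_zero j)]
      exact le_top
    · intro j
      show (if j = 0 then (⊥ : Subgroup G) else ⊤).Normal
      by_cases hj : j = 0
      · rw [if_pos hj]; infer_instance
      · rw [if_neg hj]; infer_instance
    · intro j _
      show ((if j = 0 then (⊥ : Subgroup G) else ⊤).relIndex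
        (if j + 1 = 0 then (⊥ : Subgroup G) else ⊤)).Coprime p
      rw [if_neg (Nat.succ_ne_zero j)]
      by_cases hj : j = 0
      · rw [if_pos hj, relIndex_bot_left, card_top]; exact h
      · rw [if_neg hj, relIndex_self]; exact Nat.coprime_one_left p
    · intro j hj
      show ∃ m : ℕ, (if j = 0 then (⊥ : Subgroup G) else ⊤).relIndex
        (if j + 1 = 0 then (⊥ : Subgroup G) else ⊤) = p ^ m
      have hj0 : j ≠ 0 := by
        rintro rfl
        exact hj (by decide)
      rw [if_neg (Nat.succ_ne_zero j), if_neg hj0, relIndex_self]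
      exact ⟨0, (pow_zero p).symm⟩
  exact plengthLE_of_chain hch rfl 0 rfl

theorem coprime_of_plengthLE_zero [Finite G] {p : ℕ} [Fact p.Prime] (h : PLengthLE p 0 G) :
    (Nat.card G).Coprime p := by
  have hch := upperPSeries_isPChain (G := G) p
  have h1 := hch.even 0 (by decide)
  have h' : (upperPSeries p G (0 + 1)).1 = ⊤ := h
  have h2 : ((upperPSeries p G 0).1.relIndex (upperPSeries p G (0 + 1)).1).Coprime p := h1
  rw [h', upperPSeries_zero, relIndex_bot_left, card_top] at h2
  exact h2

theorem plengthLE_one_of_isPGroup [Finite G] {p : ℕ} [Fact p.Prime] (h : IsPGroup p G) :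
    PLengthLE p 1 G := by
  have hch : IsPChain p (fun j => if j ≤ 1 then (⊥ : Subgroup G) else ⊤) := by
    refine ⟨?_, ?_, ?_, ?_⟩
    · intro j
      show (if j ≤ 1 then (⊥ : Subgroup G) else ⊤) ≤ (if j + 1 ≤ 1 then (⊥ : Subgroup G) else ⊤)
      by_cases hj : j ≤ 1
      · rw [if_pos hj]; exact bot_le
      · rw [if_neg (by omega : ¬ j + 1 ≤ 1)]; exact le_top
    · intro j
      show (if j ≤ 1 then (⊥ : Subgroup G) else ⊤).Normal
      by_cases hj : j ≤ 1
      · rw [if_pos hj]; infer_instance
      · rw [if_neg hj]; infer_instance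
    · intro j hj
      show ((if j ≤ 1 then (⊥ : Subgroup G) else ⊤).relIndex
        (if j + 1 ≤ 1 then (⊥ : Subgroup G) else ⊤)).Coprime p
      by_cases hj1 : j + 1 ≤ 1
      · rw [if_pos (by omega), if_pos hj1, relIndex_self]; exact Nat.coprime_one_left p
      · by_cases hj2 : j ≤ 1
        · exfalso
          have : j = 1 := by omega
          rw [this] at hj
          exact absurd hj (by decide)
        · rw [if_neg hj2, if_neg hj1, relIndex_self]; exact Nat.coprime_one_left p
    · intro j hj
      show ∃ m : ℕ, (if j ≤ 1 then (⊥ : Subgroup G) else ⊤).relIndex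
        (if j + 1 ≤ 1 then (⊥ : Subgroup G) else ⊤) = p ^ m
      by_cases hj1 : j + 1 ≤ 1
      · rw [if_pos (by omega), if_pos hj1, relIndex_self]; exact ⟨0, (pow_zero p).symm⟩
      · by_cases hj2 : j ≤ 1
        · rw [if_pos hj2, if_neg hj1, relIndex_bot_left, card_top]
          exact IsPGroup.iff_card.mp h
        · rw [if_neg hj2, if_neg hj1, relIndex_self]; exact ⟨0, (pow_zero p).symm⟩
  exact plengthLE_of_chain hch rfl 1 rfl

/-- Passing to the quotient by the second term of the upper series lowers the length. -/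
theorem plengthLE_quotient_two [Finite G] {p : ℕ} [Fact p.Prime] {k : ℕ}
    (h : PLengthLE p (k + 1) G) : PLengthLE p k (G ⧸ (upperPSeries p G 2).1) := by
  have hch := ((upperPSeries_isPChain (G := G) p).shift 1).map
    (QuotientGroup.mk' (upperPSeries p G 2).1) (QuotientGroup.mk'_surjective _)
  refine plengthLE_of_chain hch ?_ k ?_
  · show (upperPSeries p G (0 + 2 * 1)).1.map (QuotientGroup.mk' (upperPSeries p G 2).1) = ⊥
    exact QuotientGroup.map_mk'_self _
  · show (upperPSeries p G (2 * k + 1 + 2 * 1)).1.map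
      (QuotientGroup.mk' (upperPSeries p G 2).1) = ⊤
    have h' : (upperPSeries p G (2 * (k + 1) + 1)).1 = ⊤ := h
    rw [show 2 * k + 1 + 2 * 1 = 2 * (k + 1) + 1 by omega, h',
      map_top_of_surjective _ (QuotientGroup.mk'_surjective _)]

theorem card_upperPSeries_one_coprime [Finite G] (p : ℕ) [Fact p.Prime] :
    (Nat.card (upperPSeries p G 1).1).Coprime p := by
  have h1 := (upperPSeries_isPChain (G := G) p).even 0 (by decide)
  have h2 : ((upperPSeries p G 0).1.relIndex (upperPSeries p G (0 + 1)).1).Coprime p := h1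
  rw [upperPSeries_zero, relIndex_bot_left] at h2
  exact h2

theorem relIndex_upperPSeries_one_two [Finite G] (p : ℕ) [Fact p.Prime] :
    ∃ m : ℕ, (upperPSeries p G 1).1.relIndex (upperPSeries p G 2).1 = p ^ m :=
  (upperPSeries_isPChain (G := G) p).odd 1 (by decide)

theorem upperPSeries_one_le_two [Finite G] (p : ℕ) [Fact p.Prime] :
    (upperPSeries p G 1).1 ≤ (upperPSeries p G 2).1 :=
  (upperPSeries_isPChain (G := G) p).mono 1

/-- If `O_{p'}(G) = 1`, passing to `G / O_p(G)` lowers the `p`-length. -/
theorem plengthLE_quotient_pCore [Finite G] {p : ℕ} [Fact p.Prime] {k : ℕ}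
    (hO : pPrimeCore p G = ⊥) [hn : (pCore p G).Normal]
    (h : PLengthLE p (k + 1) G) : PLengthLE p k (G ⧸ pCore p G) := by
  have h1 : (upperPSeries p G 1).1 = ⊥ := by
    rw [eq_bot_iff, ← hO]
    exact Helper22.le_pPrimeCore p _ inferInstance (card_upperPSeries_one_coprime p)
  have h2 : (upperPSeries p G 2).1 ≤ pCore p G := by
    obtain ⟨m, hm⟩ := relIndex_upperPSeries_one_two (G := G) p
    rw [h1, relIndex_bot_left] at hm
    exact le_sSup ⟨inferInstance, IsPGroup.of_card hm⟩
  have hch := ((upperPSeries_isPChain (G := G) p).shift 1).map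
    (QuotientGroup.mk' (pCore p G)) (QuotientGroup.mk'_surjective _)
  refine plengthLE_of_chain hch ?_ k ?_
  · show (upperPSeries p G (0 + 2 * 1)).1.map (QuotientGroup.mk' (pCore p G)) = ⊥
    rw [eq_bot_iff, ← QuotientGroup.map_mk'_self (pCore p G)]
    exact map_mono h2
  · show (upperPSeries p G (2 * k + 1 + 2 * 1)).1.map (QuotientGroup.mk' (pCore p G)) = ⊤
    have h' : (upperPSeries p G (2 * (k + 1) + 1)).1 = ⊤ := h
    rw [show 2 * k + 1 + 2 * 1 = 2 * (k + 1) + 1 by omega, h',
      map_top_of_surjective _ (QuotientGroup.mk'_surjective _)]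

end Cfsg.Agent.Helper19.PLen
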