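import Mathlib
import Cfsg.Prelude.Def_Blocks
import Cfsg.Agent.Lib.Helper24.CharOrtho
import Cfsg.Agent.Lib.Helper24.CharAlgebra
import Cfsg.Agent.Lib.Helper24.CharAbelian
import Cfsg.Agent.Lib.Helper24.CharHom
import Cfsg.Agent.Lib.Helper24.CharComplete

/-!
# S4705, PIECE COSET (helper19, for helper23): for a character `χ`, an abelian subgroup `A` and an
element `x` centralizing `A`, `∑_{y ∈ A} |χ(xy)|² ≤ ∑_{y ∈ A} |χ(y)|²`.
-/

set_option autoImplicit false
set_option linter.unusedSectionVars false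
set_option linter.unusedVariables false
set_option linter.style.haveILetI false

namespace Cfsg.Agent.Helper23.B2

open scoped ComplexConjugate
open Cfsg Cfsg.Agent.Helper24

universe u

namespace COSET

/-- the sum of a multiplicative function `A → ℂ` over a finite group is a nonnegative real. -/
theorem sum_hom_nonneg {A : Type u} [Group A] [Fintype A] (f : A →* ℂ) :
    ∃ s : ℝ, 0 ≤ s ∧ ∑ y : A, f y = (s : ℂ) := by
  classical
  rw [sum_hom_units]
  by_cases h : f = 1
  · rw [if_pos h]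
    exact ⟨(Fintype.card A : ℝ), Nat.cast_nonneg _, by simp⟩
  · rw [if_neg h]
    exact ⟨0, le_refl _, by simp⟩

/-- the abelian case: a character `Θ` of an abelian group `B`, a subgroup `A`, an element `b₀`:
the real part of `∑_{y ∈ A} Θ(b₀ y)` is at most that of `∑_{y ∈ A} Θ(y)`. -/
theorem abelian_ineq {B : Type u} [Group B] [Fintype B] (hB : ∀ a b : B, a * b = b * a)
    {Θ : B → ℂ} (hΘ : IsCharacter B Θ) (A : Subgroup B) [Fintype A] (b₀ : B) :
    (∑ y : A, Θ (b₀ * (y : B))).re ≤ (∑ y : A, Θ ((y : B))).re := by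
  classical
  letI : Fintype (IrrCharacter B) := irrFintype
  obtain ⟨hm, hdec⟩ := isCharacter_decomp hΘ
  choose k hk using hm
  -- the irreducible characters are linear
  have h1 : ∀ ν : IrrCharacter B, (ν : B → ℂ) 1 = 1 := by
    intro ν
    rw [irr_one_eq_charDegree ν.2, charDegree_eq_one_of_comm hB ν.2]
    simp
  have hmul : ∀ (ν : IrrCharacter B) (a b : B), (ν : B → ℂ) (a * b) =
      (ν : B → ℂ) a * (ν : B → ℂ) b := fun ν a b =>
    char_mul_of_degree_one (isCharacter_of_isIrrCharacter ν.2) (h1 ν) a b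
  have hnorm : ∀ (ν : IrrCharacter B) (b : B), ‖(ν : B → ℂ) b‖ = 1 := by
    intro ν b
    have hp : (ν : B → ℂ) b ^ orderOf b = 1 := by
      have : ∀ n : ℕ, (ν : B → ℂ) (b ^ n) = (ν : B → ℂ) b ^ n := by
        intro n
        induction n with
        | zero => simp [h1 ν]
        | succ n ih => rw [pow_succ, hmul, ih, pow_succ]
      rw [← this, pow_orderOf_eq_one, h1 ν]
    exact Complex.norm_eq_one_of_pow_eq_one hp (orderOf_pos b).ne'
  -- the sums over `A`
  have hs : ∀ ν : IrrCharacter B, ∃ s : ℝ, 0 ≤ s ∧ ∑ y : A, (ν : B → ℂ) (y : B) = (s : ℂ) := by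
    intro ν
    let f : A →* ℂ :=
      { toFun := fun y => (ν : B → ℂ) (y : B)
        map_one' := by simp [h1 ν]
        map_mul' := fun a b => by simp [hmul] }
    exact sum_hom_nonneg f
  choose s hs0 hs using hs
  -- the expansion of `Θ`
  have hexp : ∀ b : B, Θ b = ∑ ν : IrrCharacter B, (k ν : ℂ) * (ν : B → ℂ) b := by
    intro b
    have := congrFun hdec b
    rw [Finset.sum_apply] at this
    rw [this]
    refine Finset.sum_congr rfl fun ν _ => ?_
    rw [Pi.smul_apply, smul_eq_mul, hk ν]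
  have hsumexp : ∀ b : B, ∑ y : A, Θ (b * (y : B)) =
      ∑ ν : IrrCharacter B, (((k ν : ℝ) * s ν : ℝ) : ℂ) * (ν : B → ℂ) b := by
    intro b
    calc ∑ y : A, Θ (b * (y : B))
        = ∑ y : A, ∑ ν : IrrCharacter B, (k ν : ℂ) * (ν : B → ℂ) (b * (y : B)) := by
          refine Finset.sum_congr rfl fun y _ => hexp _
      _ = ∑ ν : IrrCharacter B, ∑ y : A, (k ν : ℂ) * (ν : B → ℂ) (b * (y : B)) :=
          Finset.sum_comm
      _ = ∑ ν : IrrCharacter B, (((k ν : ℝ) * s ν : ℝ) : ℂ) * (ν : B → ℂ) b := by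
          refine Finset.sum_congr rfl fun ν _ => ?_
          have : ∀ y : A, (k ν : ℂ) * (ν : B → ℂ) (b * (y : B)) =
              ((k ν : ℂ) * (ν : B → ℂ) b) * (ν : B → ℂ) (y : B) := by
            intro y
            rw [hmul]
            ring
          rw [Finset.sum_congr rfl (fun y _ => this y), ← Finset.mul_sum, hs ν]
          push_cast
          ring
  have hre : ∀ b : B, (∑ y : A, Θ (b * (y : B))).re =
      ∑ ν : IrrCharacter B, ((k ν : ℝ) * s ν) * ((ν : B → ℂ) b).re := by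
    intro b
    rw [hsumexp b, Complex.re_sum]
    refine Finset.sum_congr rfl fun ν _ => ?_
    rw [Complex.re_ofReal_mul]
  have h0 : (∑ y : A, Θ ((y : B))).re = (∑ y : A, Θ (1 * (y : B))).re := by
    simp
  rw [h0, hre b₀, hre 1]
  refine Finset.sum_le_sum fun ν _ => ?_
  have hk0 : 0 ≤ (k ν : ℝ) * s ν := mul_nonneg (Nat.cast_nonneg _) (hs0 ν)
  have hle : ((ν : B → ℂ) b₀).re ≤ ((ν : B → ℂ) 1).re := by
    rw [h1 ν, Complex.one_re, ← hnorm ν b₀]
    exact Complex.re_le_norm _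
  exact mul_le_mul_of_nonneg_left hle hk0

end COSET

variable {G : Type u} [Group G] [Fintype G]

/-- PIECE COSET (generic): for a character `χ`, an abelian subgroup `A` and `x` centralizing `A`:
`∑_{y ∈ A} |χ(xy)|² ≤ ∑_{y ∈ A} |χ(y)|²`. -/
theorem coset_ineq {χ : G → ℂ} (hχ : IsCharacter G χ) (A : Subgroup G)
    (hA : ∀ a ∈ A, ∀ b ∈ A, a * b = b * a) (x : G) (hx : ∀ a ∈ A, x * a = a * x) :
    ∑ᶠ y ∈ (A : Set G), ‖χ (x * y)‖ ^ 2 ≤ ∑ᶠ y ∈ (A : Set G), ‖χ y‖ ^ 2 := by
  classical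
  -- the abelian subgroup generated by `A` and `x`
  set S : Set G := (A : Set G) ∪ {x} with hS
  have hcomm : ∀ a ∈ S, ∀ b ∈ S, a * b = b * a := by
    intro a ha b hb
    rcases ha with ha | ha <;> rcases hb with hb | hb
    · exact hA a ha b hb
    · rw [Set.mem_singleton_iff.1 hb]; exact (hx a ha).symm
    · rw [Set.mem_singleton_iff.1 ha]; exact hx b hb
    · rw [Set.mem_singleton_iff.1 ha, Set.mem_singleton_iff.1 hb]
  set B : Subgroup G := Subgroup.closure S with hBdef
  have hBcomm : ∀ a b : B, a * b = b * a := by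
    intro a b
    haveI : IsMulCommutative B := Subgroup.isMulCommutative_closure hcomm
    exact mul_comm' a b
  have hAB : A ≤ B := fun a ha => Subgroup.subset_closure (Or.inl ha)
  have hxB : x ∈ B := Subgroup.subset_closure (Or.inr rfl)
  haveI : Fintype B := Fintype.ofFinite B
  -- the character `|χ|²` of `B`
  set φ : B → ℂ := fun b => χ (b : G) with hφdef
  have hφ : IsCharacter B φ := isCharacter_restrict B hχ
  set Θ : B → ℂ := φ * (fun b => conj (φ b)) with hΘdef
  have hΘ : IsCharacter B Θ := isCharacter_mul hφ (isCharacter_conj hφ)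
  have hΘval : ∀ b : B, Θ b = ((‖χ (b : G)‖ ^ 2 : ℝ) : ℂ) := by
    intro b
    rw [hΘdef, Pi.mul_apply, Complex.mul_conj']
    push_cast
    rfl
  -- the subgroup `A` inside `B`
  set A' : Subgroup B := A.subgroupOf B with hA'
  haveI : Fintype A' := Fintype.ofFinite A'
  have key := COSET.abelian_ineq hBcomm hΘ A' ⟨x, hxB⟩
  -- translate the sums
  have htrans : ∀ b₀ : B, (∑ y : A', Θ (b₀ * (y : B))).re =
      ∑ᶠ y ∈ (A : Set G), ‖χ ((b₀ : G) * y)‖ ^ 2 := by
    intro b₀
    have h1 : ∀ y : A', Θ (b₀ * (y : B)) =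
        ((‖χ ((b₀ : G) * ((y : B) : G))‖ ^ 2 : ℝ) : ℂ) := fun y => hΘval _
    rw [Finset.sum_congr rfl (fun y _ => h1 y), ← Complex.ofReal_sum, Complex.ofReal_re]
    -- reindex along `A' ≃ A`
    have h2 : ∑ y : A', ‖χ ((b₀ : G) * ((y : B) : G))‖ ^ 2 =
        ∑ y : A, ‖χ ((b₀ : G) * (y : G))‖ ^ 2 := by
      refine Fintype.sum_equiv (Subgroup.subgroupOfEquivOfLe hAB).toEquiv
        (fun y : A' => ‖χ ((b₀ : G) * ((y : B) : G))‖ ^ 2)
        (fun y : A => ‖χ ((b₀ : G) * (y : G))‖ ^ 2) ?_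
      intro y
      rfl
    rw [h2, ← finsum_set_coe_eq_finsum_mem]
    exact (finsum_eq_sum_of_fintype (fun y : A => ‖χ ((b₀ : G) * (y : G))‖ ^ 2)).symm
  have hx' := htrans ⟨x, hxB⟩
  have h1' := htrans 1
  simp only [Subgroup.coe_one, one_mul] at h1'
  have h1'' : (∑ y : A', Θ ((y : B))).re = ∑ᶠ y ∈ (A : Set G), ‖χ y‖ ^ 2 := by
    rw [← h1']
  rw [← hx', ← h1'']
  exact key
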