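import Mathlib
import Cfsg.Prelude.Def_OddOrder
import Cfsg.Prelude.Def_OddOrderLocal
import Cfsg.Agent.Lib.Helper7.BG121a

/-!
# Bender–Glauberman Theorem B(e) (= S1359) from the frozen statements S1363 and S1421 (helper19)

The frozen statements of S1363 and S1421 are taken as hypotheses `H1363 G`, `H1421 G`.
-/

set_option autoImplicit false
set_option linter.unusedSectionVars false
set_option linter.style.haveILetI false

namespace Cfsg.Agent.Helper19.BG16

open Cfsg Subgroup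

variable {G : Type*} [Group G]

/-- the frozen statement of S1363 for all `M`, `K`, `U` -/
def H1363 (G : Type*) [Group G] : Prop :=
  ∀ (M : Subgroup G), IsCoatom M → ∀ (K U : Subgroup G), Cfsg.IsSigmaDecomposition M K U → K ≠ ⊥ →
    IsMulCommutative U ∧ ¬ Subgroup.normalizer (U : Set G) ≤ M

/-- the frozen statement of S1421 for all `M`, `E` -/
def H1421 (G : Type*) [Group G] : Prop :=
  ∀ (M : Subgroup G), IsCoatom M → ∀ (E : Subgroup G), Cfsg.IsComplIn E (Cfsg.sigmaCore M) M →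
    (∀ e ∈ E, e ≠ 1 → (∀ p : ℕ, p.Prime → p ∣ orderOf e → p ∈ Cfsg.tau1 M ∪ Cfsg.tau3 M) →
      Cfsg.sigmaCore M ⊓ Subgroup.centralizer ({e} : Set G) = ⊥) →
    (∃ A₀ : Subgroup G, A₀ ≤ E ∧ E ≤ Subgroup.normalizer (A₀ : Set G) ∧ IsMulCommutative A₀ ∧
        ∀ x ∈ Cfsg.sigmaCore M, x ≠ 1 → E ⊓ Subgroup.centralizer ({x} : Set G) ≤ A₀) ∧
      ∃ E₀ : Subgroup G, E₀ ≤ E ∧ Monoid.exponent E₀ = Monoid.exponent E ∧
        ∀ e ∈ E₀, e ≠ 1 → Cfsg.sigmaCore M ⊓ Subgroup.centralizer ({e} : Set G) = ⊥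

theorem sigmaCore_le (M : Subgroup G) : Cfsg.sigmaCore M ≤ M := by
  rintro _ ⟨y, -, rfl⟩
  exact y.2

theorem conj_mem_sigmaCore {M : Subgroup G} {m y : G} (hm : m ∈ M) (hy : y ∈ Cfsg.sigmaCore M) :
    m * y * m⁻¹ ∈ Cfsg.sigmaCore M := by
  obtain ⟨y0, hy0, rfl⟩ := hy
  refine ⟨(⟨m, hm⟩ : M) * y0 * (⟨m, hm⟩ : M)⁻¹, ?_, ?_⟩
  · exact (inferInstance : (Cfsg.piCore (Cfsg.sigma M) ↥M).Normal).conj_mem y0 hy0 _
  · simp

theorem commutator_self_le (M : Subgroup G) : ⁅M, M⁆ ≤ M := by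
  rw [Subgroup.commutator_le]
  intro a ha b hb
  rw [commutatorElement_def]
  exact M.mul_mem (M.mul_mem (M.mul_mem ha hb) (M.inv_mem ha)) (M.inv_mem hb)

theorem tau13_facts {M : Subgroup G} {p : ℕ} (hp : p ∈ Cfsg.tau1 M ∪ Cfsg.tau3 M) :
    p.Prime ∧ p ∉ Cfsg.sigma M ∧ p ∣ Nat.card M ∧ Cfsg.PRankLE p 1 M := by
  rcases hp with hp | hp
  · exact ⟨hp.1, hp.2.1, hp.2.2.1, hp.2.2.2.2⟩
  · refine ⟨hp.1, hp.2.1, ?_, hp.2.2.2⟩
    have h1 : ⁅M, M⁆ ≤ M := commutator_self_le M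
    exact hp.2.2.1.trans (Subgroup.card_dvd_of_le h1)

/-- an element of order `p ∈ τ₁(M) ∪ τ₃(M)` of `M` commuting with a non-identity element of `M_σ`
puts `p` in `κ(M)`. -/
theorem mem_kappa_of_commute [Finite G] (hodd : Odd (Nat.card G)) {M : Subgroup G} {p : ℕ}
    (hp : p ∈ Cfsg.tau1 M ∪ Cfsg.tau3 M) {e y : G} (heM : e ∈ M) (he : orderOf e = p)
    (hy : y ∈ Cfsg.sigmaCore M) (hy1 : y ≠ 1) (hey : e * y = y * e) : p ∈ Cfsg.kappa M := by
  obtain ⟨hpp, hpσ, hpM, hrk⟩ := tau13_facts hp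
  haveI : Fact p.Prime := ⟨hpp⟩
  have hpodd : Odd p := by
    have h1 : p ∣ Nat.card G := hpM.trans (Subgroup.card_subgroup_dvd_card M)
    exact Odd.of_dvd_nat hodd h1
  refine ⟨hpp, hpM, hpσ, fun P => ⟨?_, ?_⟩⟩
  · have hr : Cfsg.PRankLE p 1 ↥(P : Subgroup M) :=
      Cfsg.Agent.Helper7.BG12.pRankLE_of_injective (P : Subgroup M).subtype
        (Subgroup.subtype_injective _) hrk
    exact Cfsg.Agent.Helper7.BG12.isCyclic_of_pRankLE_one hpodd P.2 hr
  · set e' : M := ⟨e, heM⟩ with he'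
    have hoe' : orderOf e' = p := by
      rw [← he, he']
      exact (Subgroup.orderOf_mk e heM)
    have hpg : IsPGroup p ↥(Subgroup.zpowers e') := by
      apply IsPGroup.of_card (n := 1)
      rw [Nat.card_zpowers, hoe', pow_one]
    obtain ⟨Q, hQ⟩ := hpg.exists_le_sylow
    obtain ⟨m, hm⟩ := MulAction.exists_smul_eq M Q P
    have he'Q : e' ∈ (Q : Subgroup M) := hQ (Subgroup.mem_zpowers e')
    have hmem : m * e' * m⁻¹ ∈ (P : Subgroup M) := by
      rw [← hm, Sylow.smul_def, Sylow.pointwise_smul_def]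
      have := Subgroup.smul_mem_pointwise_smul e' (MulAut.conj m) (Q : Subgroup M) he'Q
      simpa [MulAut.smul_def] using this
    refine ⟨m * e' * m⁻¹, hmem, ?_, (m : G) * y * (m : G)⁻¹, conj_mem_sigmaCore m.2 hy, ?_, ?_⟩
    · intro h
      have h2 : e' = 1 := by
        have := congrArg (fun z => m⁻¹ * z * m) h
        simpa [mul_assoc] using this
      rw [h2, orderOf_one] at hoe'
      exact hpp.one_lt.ne hoe'
    · intro h
      apply hy1
      have := congrArg (fun z => (m : G)⁻¹ * z * (m : G)) h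
      simpa [mul_assoc] using this
    · have : ((m * e' * m⁻¹ : M) : G) = (m : G) * e * (m : G)⁻¹ := by
        simp [he']
      rw [this]
      calc (m : G) * e * (m : G)⁻¹ * ((m : G) * y * (m : G)⁻¹)
          = (m : G) * (e * y) * (m : G)⁻¹ := by group
        _ = (m : G) * (y * e) * (m : G)⁻¹ := by rw [hey]
        _ = (m : G) * y * (m : G)⁻¹ * ((m : G) * e * (m : G)⁻¹) := by group

/-- a `κ(M)`-Hall subgroup which is trivial forces `κ(M) = ∅`. -/
theorem not_mem_kappa_of_hall_bot {M : Subgroup G} (h : Cfsg.IsPiHallOf (Cfsg.kappa M) ⊥ M) (p : ℕ) :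
    p ∉ Cfsg.kappa M := by
  intro hp
  have h1 := h.2.2 p hp.1 hp
  rw [Subgroup.relIndex_bot_left] at h1
  exact h1 hp.2.1

/-- the regularity hypothesis of S1421 holds for `U` when `κ(M) = ∅`. -/
theorem regular_of_kappa_empty [Finite G] (hodd : Odd (Nat.card G)) {M U : Subgroup G}
    (hUM : U ≤ M) (hκ : ∀ p, p ∉ Cfsg.kappa M) :
    ∀ e ∈ U, e ≠ 1 → (∀ p : ℕ, p.Prime → p ∣ orderOf e → p ∈ Cfsg.tau1 M ∪ Cfsg.tau3 M) →
      Cfsg.sigmaCore M ⊓ Subgroup.centralizer ({e} : Set G) = ⊥ := by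
  intro e heU he1 hprimes
  by_contra hne
  obtain ⟨y, hy1⟩ := (Subgroup.ne_bot_iff_exists_ne_one).mp hne
  have hyσ : (y : G) ∈ Cfsg.sigmaCore M := (Subgroup.mem_inf.mp y.2).1
  have hyc : (y : G) ∈ Subgroup.centralizer ({e} : Set G) := (Subgroup.mem_inf.mp y.2).2
  have hy1' : (y : G) ≠ 1 := fun h => hy1 (Subtype.ext h)
  have hoe : orderOf e ≠ 1 := fun h => he1 (orderOf_eq_one_iff.mp h)
  have hoe0 : orderOf e ≠ 0 := (orderOf_pos e).ne'
  set p := (orderOf e).minFac with hpdef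
  have hpp : p.Prime := Nat.minFac_prime hoe
  have hpd : p ∣ orderOf e := Nat.minFac_dvd _
  have hpτ := hprimes p hpp hpd
  have ho' : orderOf (e ^ (orderOf e / p)) = p := orderOf_pow_orderOf_div hoe0 hpd
  have hcomm : e * (y : G) = (y : G) * e := by
    have := Subgroup.mem_centralizer_iff.mp hyc e (Set.mem_singleton e)
    exact this
  have hcomm' : e ^ (orderOf e / p) * (y : G) = (y : G) * e ^ (orderOf e / p) :=
    ((Commute.pow_left (show Commute e (y : G) from hcomm) _)).eq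
  exact hκ p (mem_kappa_of_commute hodd hpτ (M.pow_mem (hUM heU) _) ho' hyσ hy1' hcomm')

/-- BG Theorem B(e) (= the statement of S1359) from the frozen statements S1363 and S1421. -/
theorem theorem_B_e [Finite G] (hG : Cfsg.IsMinSimpleOddOrder G) (h63 : H1363 G) (h21 : H1421 G)
    (M : Subgroup G) (hM : IsCoatom M) (K U : Subgroup G) (hKU : Cfsg.IsSigmaDecomposition M K U) :
    IsMulCommutative (Subgroup.closure ((U : Set G) ∩ Cfsg.sigmaHat M)) := by
  by_cases hK : K = ⊥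
  · have hcompl : Cfsg.IsComplIn U (Cfsg.sigmaCore M) M := by
      have := hKU.compl
      rwa [hK, bot_sup_eq] at this
    have hκ : ∀ p, p ∉ Cfsg.kappa M := by
      have := hKU.hall
      rw [hK] at this
      exact not_mem_kappa_of_hall_bot this
    obtain ⟨⟨A₀, -, -, hA₀c, hA₀⟩, -⟩ :=
      h21 M hM U hcompl (regular_of_kappa_empty hG.1 hcompl.1 hκ)
    have hle : Subgroup.closure ((U : Set G) ∩ Cfsg.sigmaHat M) ≤ A₀ := by
      rw [Subgroup.closure_le]
      rintro a ⟨haU, -, y, hy, hy1, hay⟩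
      refine hA₀ y hy hy1 (Subgroup.mem_inf.mpr ⟨haU, ?_⟩)
      rw [Subgroup.mem_centralizer_iff]
      intro z hz
      rw [Set.mem_singleton_iff.mp hz]
      exact hay.symm
    have hc := Cfsg.Agent.Helper7.MaxComp.comm_of_isMulCommutative hA₀c
    exact Cfsg.Agent.Helper7.MaxComp.isMulCommutative_of_comm
      (fun u hu v hv => hc u (hle hu) v (hle hv))
  · have hUc := (h63 M hM K U hKU hK).1
    have hle : Subgroup.closure ((U : Set G) ∩ Cfsg.sigmaHat M) ≤ U := by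
      rw [Subgroup.closure_le]
      exact fun a ha => ha.1
    have hc := Cfsg.Agent.Helper7.MaxComp.comm_of_isMulCommutative hUc
    exact Cfsg.Agent.Helper7.MaxComp.isMulCommutative_of_comm
      (fun u hu v hv => hc u (hle hu) v (hle hv))

end Cfsg.Agent.Helper19.BG16
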