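import Mathlib
import Cfsg.Prelude.Def_OddOrder
import Cfsg.Prelude.Def_OddOrderLocal
import Cfsg.Agent.Lib.Helper7.BG121a
import Cfsg.Agent.Lib.Lead.BGSigmaHall
import Cfsg.Agent.Lib.Helper14.BGTransB
import Cfsg.Agent.S1451
import Cfsg.Agent.Lib.Helper19.BG16A

/-!
# Bender–Glauberman Theorem B(a) (= S1355) from frozen statements (helper19)

`1 < M_F ≤ M_σ ≤ M' < M` and `M'/M_F` nilpotent, from the frozen statements of
S1350, S1351, S1352, S1404, S1405, S1415, S1437 (hypotheses `H13xx G`) and the proved S1451.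
-/

set_option autoImplicit false
set_option linter.unusedSectionVars false
set_option linter.style.haveILetI false

namespace Cfsg.Agent.Helper19.BG16

open Cfsg Subgroup
open Cfsg.Agent.Helper10 (IsPiNum)

variable {G : Type*} [Group G]

/-- the frozen statement of S1350 -/
def H1350 (G : Type*) [Group G] : Prop :=
  ∀ (M : Subgroup G), IsCoatom M →
    Cfsg.IsPiHallOf (Cfsg.sigma M) (Cfsg.sigmaCore M) M ∧ Cfsg.IsPiHall (Cfsg.sigma M) (Cfsg.sigmaCore M) ∧
      ∀ N : Subgroup G, M ≤ Subgroup.normalizer (N : Set G) → Cfsg.IsPiHallOf (Cfsg.sigma M) N M →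
        N = Cfsg.sigmaCore M

/-- the frozen statement of S1351 -/
def H1351 (G : Type*) [Group G] : Prop :=
  ∀ (M : Subgroup G), IsCoatom M →
    (∃ K : Subgroup G, Cfsg.IsPiHallOf (Cfsg.kappa M) K M) ∧
      ∀ K : Subgroup G, Cfsg.IsPiHallOf (Cfsg.kappa M) K M → IsCyclic K

/-- the frozen statement of S1352 -/
def H1352 (G : Type*) [Group G] : Prop :=
  ∀ (M : Subgroup G), IsCoatom M → ∀ (K : Subgroup G), IsCyclic K →
    Cfsg.IsPiHallOf (Cfsg.kappa M) K M →
    (∃ U : Subgroup G, Cfsg.IsSigmaDecomposition M K U) ∧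
      ∀ U : Subgroup G, Cfsg.IsSigmaDecomposition M K U →
        M ≤ Subgroup.normalizer ((U ⊔ Cfsg.sigmaCore M : Subgroup G) : Set G)

/-- the first half of the frozen statement of S1404 -/
def H1404 (G : Type*) [Group G] : Prop :=
  ∀ (M : Subgroup G), IsCoatom M → ∀ (p : ℕ) [Fact p.Prime], p ∈ Cfsg.sigma M →
    ∀ (X : Subgroup G), IsPGroup p X → X ≠ ⊥ → X ≤ M →
    (∀ g : G, X.map (MulAut.conj g).toMonoidHom ≤ M →
        ∃ m ∈ M, ∃ c ∈ Subgroup.centralizer (X : Set G), g = m * c) ∧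
      Subgroup.normalizer (X : Set G) =
        (M ⊓ Subgroup.normalizer (X : Set G)) ⊔ Subgroup.centralizer (X : Set G)

/-- the frozen statement of S1405 -/
def H1405 (G : Type*) [Group G] : Prop :=
  ∀ (M : Subgroup G), IsCoatom M →
    Cfsg.IsPiHallOf (Cfsg.alpha M) (Cfsg.alphaCore M) M ∧ Cfsg.IsPiHall (Cfsg.alpha M) (Cfsg.alphaCore M) ∧
      Cfsg.alphaCore M ≤ Cfsg.sigmaCore M ∧ Cfsg.RankLE 2 (↥M ⧸ Cfsg.piCore (Cfsg.alpha M) ↥M) ∧
      Group.IsNilpotent ↥((commutator ↥M).map (QuotientGroup.mk' (Cfsg.piCore (Cfsg.alpha M) ↥M)))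

/-- the frozen statement of S1415 -/
def H1415 (G : Type*) [Group G] : Prop :=
  ∀ (M : Subgroup G), IsCoatom M → ∀ (E : Subgroup G), Cfsg.IsComplIn E (Cfsg.sigmaCore M) M →
    Group.IsNilpotent ↥⁅E, E⁆ ∧
      (∀ E₁ : Subgroup G, Cfsg.IsPiHallOf (Cfsg.tau1 M) E₁ E → IsCyclic E₁) ∧
      ∀ E₃ : Subgroup G, Cfsg.IsPiHallOf (Cfsg.tau3 M) E₃ E →
        IsCyclic E₃ ∧ E₃ ≤ ⁅E, E⁆ ∧ E ≤ Subgroup.normalizer (E₃ : Set G)

/-- the frozen statement of S1437 -/
def H1437 (G : Type*) [Group G] : Prop :=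
  ∀ (M : Subgroup G), IsCoatom M → ∀ (K U : Subgroup G), Cfsg.IsSigmaDecomposition M K U →
    Cfsg.fittingHallOf M ≠ Cfsg.sigmaCore M →
    U = ⊥ ∧ Cfsg.sigmaCore M = ⁅M, M⁆ ∧ (Nat.card K).Prime ∧ (Nat.card ↥(Cfsg.sigmaCore M ⊓ Subgroup.centralizer (K : Set G))).Prime ∧
      Nat.card ↥(Cfsg.sigmaCore M ⊓ Subgroup.centralizer (K : Set G)) ∣ Nat.card (Cfsg.fittingHallOf M) ∧ Nat.card ↥(Cfsg.sigmaCore M ⊓ Subgroup.centralizer (K : Set G)) ∈ Cfsg.beta M ∧
      ∃ Q : Subgroup G, Q ≤ Cfsg.fittingHallOf M ∧ M ≤ Subgroup.normalizer (Q : Set G) ∧ IsPGroup (Nat.card ↥(Cfsg.sigmaCore M ⊓ Subgroup.centralizer (K : Set G))) Q ∧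
        ¬ Nat.card ↥(Cfsg.sigmaCore M ⊓ Subgroup.centralizer (K : Set G)) ∣ Q.relIndex (Cfsg.sigmaCore M) ∧
        ∀ D : Subgroup G, Cfsg.IsComplIn Q D (Cfsg.sigmaCore M) →
          Group.IsNilpotent D ∧ M ≤ Subgroup.normalizer ((Q ⊓ Subgroup.centralizer (D : Set G) : Subgroup G) : Set G) ∧
          Q ⊓ Subgroup.centralizer (D : Set G) < Q ∧
          Nat.card Q = Nat.card ↥(Q ⊓ Subgroup.centralizer (D : Set G)) * Nat.card ↥(Cfsg.sigmaCore M ⊓ Subgroup.centralizer (K : Set G)) ^ Nat.card K ∧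
          (∀ a ∈ Q, ∀ b ∈ Q, a ^ Nat.card ↥(Cfsg.sigmaCore M ⊓ Subgroup.centralizer (K : Set G)) ∈ Q ⊓ Subgroup.centralizer (D : Set G) ∧
            a * b * a⁻¹ * b⁻¹ ∈ Q ⊓ Subgroup.centralizer (D : Set G)) ∧
          ∀ N : Subgroup G, Q ⊓ Subgroup.centralizer (D : Set G) < N → N < Q → ¬ M ≤ Subgroup.normalizer (N : Set G)

/-! ### generalities -/

theorem coatom_ne_bot (hG : Cfsg.IsMinSimpleOddOrder G) {M : Subgroup G} (hM : IsCoatom M) :
    M ≠ ⊥ := by
  obtain ⟨-, -, hna, -⟩ := hG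
  intro h
  subst h
  apply hna
  refine ⟨⟨fun a b => ?_⟩⟩
  by_cases ha : a = 1
  · simp [ha]
  have h1 : (⊥ : Subgroup G) < zpowers a := bot_lt_iff_ne_bot.mpr (by rwa [Ne, zpowers_eq_bot])
  have h2 := hM.2 _ h1
  have hb : b ∈ zpowers a := h2 ▸ mem_top b
  obtain ⟨k, rfl⟩ := hb
  exact (Commute.zpow_right (Commute.refl a) k).eq

theorem map_subtype_commutator (M : Subgroup G) :
    (commutator ↥M).map M.subtype = ⁅M, M⁆ := by
  rw [commutator_def, Subgroup.map_commutator, ← MonoidHom.range_eq_map, Subgroup.range_subtype]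

theorem commutator_lt (hG : Cfsg.IsMinSimpleOddOrder G) {M : Subgroup G} (hM : IsCoatom M) :
    ⁅M, M⁆ < M := by
  haveI : Group.IsSolvable ↥M := hG.2.2.2 M hM.1
  have hne := coatom_ne_bot hG hM
  haveI : Nontrivial ↥M := (Subgroup.nontrivial_iff_ne_bot M).mpr hne
  have h1 : commutator ↥M < ⊤ := Group.IsSolvable.commutator_lt_top_of_nontrivial ↥M
  refine lt_of_le_of_ne (commutator_self_le M) ?_
  intro h
  apply h1.ne
  apply Subgroup.map_injective M.subtype_injective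
  rw [map_subtype_commutator, h, ← MonoidHom.range_eq_map, Subgroup.range_subtype]

/-- a nontrivial normal Sylow `p`-subgroup of a maximal subgroup `M` puts `p` in `σ(M)`. -/
theorem mem_sigma_of_normal [Finite G] (hG : Cfsg.IsMinSimpleOddOrder G) {M : Subgroup G}
    (hM : IsCoatom M) {p : ℕ} [hp : Fact p.Prime] (Q : Subgroup M) [hQn : Q.Normal]
    (hQp : IsPGroup p Q) (hQ1 : Q ≠ ⊥) (hQi : ¬ p ∣ Q.index) : p ∈ Cfsg.sigma M := by
  obtain ⟨S, hS⟩ := hQp.exists_le_sylow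
  have hSQ : (S : Subgroup M) = Q := by
    apply le_antisymm _ hS
    rw [← Subgroup.relIndex_eq_one]
    have h1 : Q.relIndex S ∣ Nat.card (S : Subgroup M) := Subgroup.relIndex_dvd_card _ _
    obtain ⟨n, hn⟩ := (IsPGroup.iff_card).mp S.2
    rw [hn] at h1
    obtain ⟨j, -, hj⟩ := (Nat.dvd_prime_pow hp.out).mp h1
    rcases Nat.eq_zero_or_pos j with h0 | h0
    · rw [hj, h0, pow_zero]
    · exfalso
      apply hQi
      have h2 : Q.relIndex S * (S : Subgroup M).index = Q.index := Subgroup.relIndex_mul_index hS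
      rw [← h2, hj]
      exact Dvd.dvd.mul_right (dvd_pow_self p h0.ne') _
  have hQG1 : Q.map M.subtype ≠ ⊥ := by
    intro h
    exact hQ1 ((Subgroup.map_eq_bot_iff_of_injective Q M.subtype_injective).mp h)
  have hQGp : IsPGroup p ↥(Q.map M.subtype) := hQp.map _
  have hnt := Cfsg.Agent.Helper14.BGTrans.normalizer_ne_top_of_isPGroup hG hQGp hQG1
  have hle : M ≤ normalizer ((Q.map M.subtype : Subgroup G) : Set G) := by
    intro m hm
    rw [Subgroup.mem_normalizer_iff]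
    intro h
    constructor
    · rintro ⟨x, hx, rfl⟩
      exact ⟨⟨m, hm⟩ * x * ⟨m, hm⟩⁻¹, hQn.conj_mem x hx _, by simp⟩
    · rintro ⟨x, hx, hxe⟩
      refine ⟨⟨m, hm⟩⁻¹ * x * ⟨m, hm⟩, ?_, ?_⟩
      · have := hQn.conj_mem x hx (⟨m, hm⟩⁻¹)
        simpa using this
      · simp only [Subgroup.coe_subtype, Subgroup.coe_mul, InvMemClass.coe_inv]
        have hxe' : (x : G) = m * h * m⁻¹ := hxe
        rw [hxe']
        group
  have hN : normalizer ((Q.map M.subtype : Subgroup G) : Set G) = M := by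
    rcases hM.le_iff.mp hle with h | h
    · exact absurd h hnt
    · exact h
  refine ⟨hp.out, ?_, S, ?_⟩
  · have h1 : p ∣ Nat.card Q := by
      rcases hQp.card_eq_or_dvd with h | h
      · exact absurd (Subgroup.card_eq_one.mp h) hQ1
      · exact h
    exact h1.trans (Subgroup.card_subgroup_dvd_card Q)
  · rw [hSQ, hN]

/-- prime divisors of a normal nilpotent Hall subgroup of `M` lie in `σ(M)`. -/
theorem mem_sigma_of_nilpotent_hall [Finite G] (hG : Cfsg.IsMinSimpleOddOrder G) {M : Subgroup G}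
    (hM : IsCoatom M) (N : Subgroup M) [hNn : N.Normal] (hnil : Group.IsNilpotent N)
    (hcop : (Nat.card N).Coprime N.index) {p : ℕ} (hp : p.Prime) (hpN : p ∣ Nat.card N) :
    p ∈ Cfsg.sigma M := by
  haveI : Fact p.Prime := ⟨hp⟩
  obtain ⟨P⟩ : Nonempty (Sylow p N) := inferInstance
  have htfae : ∀ (p : ℕ) (_hp : Fact p.Prime) (P : Sylow p N), (↑P : Subgroup N).Normal :=
    (Group.isNilpotent_of_finite_tfae (G := ↥N).out 0 3).mp hnil
  haveI hPn : (P : Subgroup N).Normal := htfae p ⟨hp⟩ P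
  haveI hPc : (P : Subgroup N).Characteristic := Sylow.characteristic_of_normal P hPn
  haveI : ((P : Subgroup N).map N.subtype).Normal := ConjAct.normal_of_characteristic_of_normal
  apply mem_sigma_of_normal hG hM ((P : Subgroup N).map N.subtype) (P.2.map _)
  · intro h
    have h1 := (Subgroup.map_eq_bot_iff_of_injective _ N.subtype_injective).mp h
    exact P.ne_bot_of_dvd_card hpN h1
  · rw [Subgroup.index_map_subtype]
    intro h
    rcases (Nat.Prime.dvd_mul hp).mp h with h | h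
    · exact P.not_dvd_index h
    · exact (Nat.Prime.coprime_iff_not_dvd hp).mp
        (Nat.Coprime.coprime_dvd_left hpN hcop) h

theorem fittingHall_le_piCore [Finite G] (hG : Cfsg.IsMinSimpleOddOrder G) {M : Subgroup G}
    (hM : IsCoatom M) : Cfsg.fittingHall ↥M ≤ Cfsg.piCore (Cfsg.sigma M) ↥M := by
  unfold Cfsg.fittingHall
  apply sSup_le
  rintro N ⟨hNn, hnil, hcop⟩
  haveI := hNn
  exact Cfsg.Agent.Helper10.le_piCore _ hNn
    (fun p hp hpN => mem_sigma_of_nilpotent_hall hG hM N hnil hcop hp hpN)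

theorem fittingHallOf_le_sigmaCore [Finite G] (hG : Cfsg.IsMinSimpleOddOrder G) {M : Subgroup G}
    (hM : IsCoatom M) : Cfsg.fittingHallOf M ≤ Cfsg.sigmaCore M :=
  Subgroup.map_mono (fittingHall_le_piCore hG hM)

/-- `M_σ ≤ M'` (from BG 10.1). -/
theorem sigmaCore_le_commutator [Finite G] (hG : Cfsg.IsMinSimpleOddOrder G) (h04 : H1404 G)
    {M : Subgroup G} (hM : IsCoatom M) : Cfsg.sigmaCore M ≤ ⁅M, M⁆ := by
  have hcop : (Nat.card ↥(Cfsg.piCore (Cfsg.sigma M) ↥M)).Coprime (commutator ↥M).index := by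
    apply Nat.coprime_of_dvd
    intro p hp hp1 hp2
    haveI : Fact p.Prime := ⟨hp⟩
    have hpσ : p ∈ Cfsg.sigma M := Cfsg.Agent.Helper10.card_piCore (Cfsg.sigma M) p hp hp1
    have hpσ' := hpσ
    obtain ⟨-, -, P, hN⟩ := hpσ'
    have hctl : Cfsg.Agent.Lead.BGSig.Ctl M p := fun X hXp hX1 hXM =>
      (h04 M hM p hpσ X hXp hX1 hXM).1
    have h1 := Cfsg.Agent.Lead.BGSig.le_commutator_of_ctl hG M P hN hctl
    have h2 : (P : Subgroup M) ≤ commutator ↥M := by
      intro x hx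
      have h3 : (x : G) ∈ ⁅M, M⁆ := h1 ⟨x, hx, rfl⟩
      rw [← map_subtype_commutator] at h3
      obtain ⟨y, hy, hyx⟩ := h3
      have : y = x := Subtype.ext hyx
      rwa [← this]
    exact P.not_dvd_index (hp2.trans (Subgroup.index_dvd_of_le h2))
  have h := Cfsg.Agent.Helper7.BG12.le_of_coprime_card_index (commutator ↥M)
    (Cfsg.piCore (Cfsg.sigma M) ↥M) hcop
  have h' := Subgroup.map_mono (f := M.subtype) h
  rwa [map_subtype_commutator] at h'

end Cfsg.Agent.Helper19.BG16
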