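import Mathlib
import Cfsg.Agent.Lib.Helper19.BG16B

/-!
# Bender–Glauberman Theorem B(a) (= S1355), second part (helper19)
-/

set_option autoImplicit false
set_option linter.unusedSectionVars false
set_option linter.style.haveILetI false

namespace Cfsg.Agent.Helper19.BG16

open Cfsg Subgroup
open Cfsg.Agent.Helper10 (IsPiNum)

variable {G : Type*} [Group G]

theorem dvd_card_of_not_pRankLE {H : Type*} [Group H] [Finite H] {p k : ℕ} (hp : p.Prime)
    (h : ¬ Cfsg.PRankLE p k H) : p ∣ Nat.card H := by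
  unfold Cfsg.PRankLE at h
  push Not at h
  obtain ⟨A, -, hAp, hcard⟩ := h
  have hA : A ≠ ⊥ := by
    intro h0
    rw [h0, Subgroup.card_bot] at hcard
    exact absurd hcard (not_lt.mpr (Nat.one_le_pow _ _ hp.pos))
  obtain ⟨a, ha1⟩ := (Subgroup.ne_bot_iff_exists_ne_one).mp hA
  have h1 : (a : H) ^ p = 1 := hAp a a.2
  have h2 : (a : H) ≠ 1 := fun h => ha1 (Subtype.ext h)
  haveI : Fact p.Prime := ⟨hp⟩
  have h3 : orderOf (a : H) = p := orderOf_eq_prime h1 h2
  rw [← h3]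
  exact orderOf_dvd_natCard _

theorem sigmaCore_ne_bot [Finite G] (hG : Cfsg.IsMinSimpleOddOrder G) (h05 : H1405 G)
    {M : Subgroup G} (hM : IsCoatom M) : Cfsg.sigmaCore M ≠ ⊥ := by
  by_cases hα : ∃ p, p ∈ Cfsg.alpha M
  · obtain ⟨p, hp⟩ := hα
    obtain ⟨hH, -, hle, -, -⟩ := h05 M hM
    have hpM : p ∣ Nat.card M := dvd_card_of_not_pRankLE hp.1 hp.2
    have h1 : ¬ p ∣ (Cfsg.alphaCore M).relIndex M := hH.2.2 p hp.1 hp
    intro hbot
    have h2 : Cfsg.alphaCore M = ⊥ := le_bot_iff.mp (hbot ▸ hle)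
    rw [h2, Subgroup.relIndex_bot_left] at h1
    exact h1 hpM
  · push Not at hα
    have hr : Cfsg.RankLE 2 ↥M := fun p hp => by
      by_contra h
      exact hα p ⟨hp, h⟩
    haveI : Group.IsSolvable ↥M := hG.2.2.2 M hM.1
    have hodd : Odd (Nat.card ↥M) := Odd.of_dvd_nat hG.1 (Subgroup.card_subgroup_dvd_card M)
    obtain ⟨-, -, h3⟩ := Cfsg.Agent.S1451.result hodd (Or.inl hr)
    have hcard : 1 < Nat.card ↥M := by
      rw [Finite.one_lt_card_iff_nontrivial]
      exact (Subgroup.nontrivial_iff_ne_bot M).mpr (coatom_ne_bot hG hM)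
    have hne : (Nat.card ↥M).primeFactors.Nonempty := Nat.nonempty_primeFactors.mpr hcard
    set p0 := (Nat.card ↥M).primeFactors.max' hne with hp0
    have hp0mem : p0 ∈ (Nat.card ↥M).primeFactors := Finset.max'_mem _ hne
    have hp0p : p0.Prime := Nat.prime_of_mem_primeFactors hp0mem
    have hp0d : p0 ∣ Nat.card ↥M := Nat.dvd_of_mem_primeFactors hp0mem
    haveI : Fact p0.Prime := ⟨hp0p⟩
    obtain ⟨N, hNc, hNh1, hNh2⟩ := h3 (p0 - 1)
    haveI := hNc
    have hprimes : ∀ q : ℕ, q.Prime → q ∣ Nat.card N → q = p0 := by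
      intro q hq hqN
      have h1 := (hNh1 q hq hqN).2
      have h2 : q ∈ (Nat.card ↥M).primeFactors :=
        Nat.mem_primeFactors.mpr ⟨hq, hqN.trans (Subgroup.card_subgroup_dvd_card N), by omega⟩
      have h4 : q ≤ p0 := Finset.le_max' _ q h2
      omega
    have hNp : IsPGroup p0 N := by
      have h0 : Nat.card N ≠ 0 := Nat.card_pos.ne'
      have := Nat.eq_prime_pow_of_unique_prime_dvd h0 (fun {d} hd hdN => hprimes d hd hdN)
      exact IsPGroup.of_card this
    have hNi : ¬ p0 ∣ N.index := hNh2 p0 hp0p ⟨hp0p, Nat.sub_lt hp0p.pos Nat.one_pos⟩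
    have hN1 : N ≠ ⊥ := by
      intro h
      rw [h, Subgroup.index_bot] at hNi
      exact hNi hp0d
    have hσ : p0 ∈ Cfsg.sigma M := mem_sigma_of_normal hG hM N hNp hN1 hNi
    have hle : N ≤ Cfsg.piCore (Cfsg.sigma M) ↥M :=
      Cfsg.Agent.Helper10.le_piCore _ inferInstance
        (fun q hq hqN => (hprimes q hq hqN) ▸ hσ)
    intro hbot
    apply hN1
    have h5 : Cfsg.piCore (Cfsg.sigma M) ↥M = ⊥ :=
      (Subgroup.map_eq_bot_iff_of_injective _ M.subtype_injective).mp hbot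
    exact le_bot_iff.mp (h5 ▸ hle)

/-- transport: a complement in the group `↥M` gives `IsComplIn` in `G`. -/
theorem isComplIn_of_isComplement' {M : Subgroup G} {S E : Subgroup M}
    (h : Subgroup.IsComplement' S E) :
    Cfsg.IsComplIn (E.map M.subtype) (S.map M.subtype) M := by
  refine ⟨Subgroup.map_subtype_le _, Subgroup.map_subtype_le _, ?_, ?_⟩
  · rw [← Subgroup.map_inf _ _ _ M.subtype_injective]
    have := h.symm.disjoint
    rw [disjoint_iff] at this
    rw [this, Subgroup.map_bot]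
  · intro m hm
    obtain ⟨⟨⟨e, he⟩, ⟨s, hs⟩⟩, hes, -⟩ := h.symm.existsUnique ⟨m, hm⟩
    refine ⟨e, ⟨e, he, rfl⟩, s, ⟨s, hs, rfl⟩, ?_⟩
    have := congrArg (fun z : M => (z : G)) hes
    simpa using this.symm

theorem isNilpotent_map_of_isNilpotent {H K : Type*} [Group H] [Group K] (f : H →* K)
    (A : Subgroup H) (hA : Group.IsNilpotent A) : Group.IsNilpotent (A.map f) :=
  Group.nilpotent_of_surjective (f.subgroupMap A) (f.subgroupMap_surjective A)

theorem isNilpotent_of_le {H : Type*} [Group H] {A B : Subgroup H} (hAB : A ≤ B)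
    (hB : Group.IsNilpotent B) : Group.IsNilpotent A := by
  haveI := hB
  exact Group.nilpotent_of_mulEquiv (Subgroup.subgroupOfEquivOfLe hAB)

/-- BG Theorem B(a) (= the statement of S1355). -/
theorem theorem_B_a [Finite G] (hG : Cfsg.IsMinSimpleOddOrder G)
    (h50 : H1350 G) (h51 : H1351 G) (h52 : H1352 G) (h04 : H1404 G) (h05 : H1405 G)
    (h15 : H1415 G) (h37 : H1437 G)
    (M : Subgroup G) (hM : IsCoatom M) :
    Cfsg.fittingHallOf M ≠ ⊥ ∧ Cfsg.fittingHallOf M ≤ Cfsg.sigmaCore M ∧ Cfsg.sigmaCore M ≤ ⁅M, M⁆ ∧ ⁅M, M⁆ < M ∧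
      Group.IsNilpotent ↥((commutator ↥M).map (QuotientGroup.mk' (Cfsg.fittingHall ↥M))) := by
  -- a σ-decomposition
  obtain ⟨⟨K, hK⟩, hKc⟩ := h51 M hM
  obtain ⟨⟨U, hKU⟩, -⟩ := h52 M hM K (hKc K hK) hK
  have hσle : Cfsg.sigmaCore M ≤ M := sigmaCore_le M
  by_cases hFσ : Cfsg.fittingHallOf M = Cfsg.sigmaCore M
  · -- `M_F = M_σ`
    have hFS : Cfsg.fittingHall ↥M = Cfsg.piCore (Cfsg.sigma M) ↥M :=
      Subgroup.map_injective M.subtype_injective hFσ
    refine ⟨hFσ ▸ sigmaCore_ne_bot hG h05 hM, fittingHallOf_le_sigmaCore hG hM,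
      sigmaCore_le_commutator hG h04 hM, commutator_lt hG hM, ?_⟩
    -- a complement `E` of `M_σ`
    obtain ⟨hHall, -, -⟩ := h50 M hM
    have hcop : (Nat.card ↥(Cfsg.piCore (Cfsg.sigma M) ↥M)).Coprime
        (Cfsg.piCore (Cfsg.sigma M) ↥M).index := by
      apply Nat.coprime_of_dvd
      intro p hp hp1 hp2
      have hpσ : p ∈ Cfsg.sigma M := Cfsg.Agent.Helper10.card_piCore (Cfsg.sigma M) p hp hp1
      apply hHall.2.2 p hp hpσ
      have : (Cfsg.sigmaCore M).relIndex M = (Cfsg.piCore (Cfsg.sigma M) ↥M).index := by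
        unfold Cfsg.sigmaCore Subgroup.relIndex Subgroup.subgroupOf
        rw [Subgroup.comap_map_eq_self_of_injective M.subtype_injective]
      rwa [this]
    obtain ⟨E, hE⟩ := Subgroup.exists_right_complement'_of_coprime hcop
    have hEc : Cfsg.IsComplIn (E.map M.subtype) (Cfsg.sigmaCore M) M := isComplIn_of_isComplement' hE
    obtain ⟨hnil, -, -⟩ := h15 M hM _ hEc
    have hcomm : ⁅E.map M.subtype, E.map M.subtype⁆ = (⁅E, E⁆).map M.subtype :=
      (Subgroup.map_commutator E E M.subtype).symm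
    rw [hcomm] at hnil
    have hnil' : Group.IsNilpotent ↥⁅E, E⁆ := by
      haveI := hnil
      exact Group.nilpotent_of_mulEquiv (Subgroup.equivMapOfInjective ⁅E, E⁆ M.subtype
        M.subtype_injective).symm
    have hmapE : E.map (QuotientGroup.mk' (Cfsg.fittingHall ↥M)) =
        (⊤ : Subgroup ↥M).map (QuotientGroup.mk' (Cfsg.fittingHall ↥M)) := by
      rw [Subgroup.map_eq_map_iff, QuotientGroup.ker_mk', hFS, top_sup_eq, sup_comm]
      exact hE.sup_eq_top
    have : (commutator ↥M).map (QuotientGroup.mk' (Cfsg.fittingHall ↥M)) =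
        (⁅E, E⁆).map (QuotientGroup.mk' (Cfsg.fittingHall ↥M)) := by
      rw [commutator_def, Subgroup.map_commutator, ← hmapE, ← Subgroup.map_commutator]
    rw [this]
    exact isNilpotent_map_of_isNilpotent _ _ hnil'
  · -- `M_F ≠ M_σ`
    obtain ⟨-, hσM', -, hqp, hqd, -, Q, hQF, hQn, hQp, hQi, hD⟩ := h37 M hM K U hKU hFσ
    set q := Nat.card ↥(Cfsg.sigmaCore M ⊓ Subgroup.centralizer (K : Set G)) with hq
    haveI : Fact q.Prime := ⟨hqp⟩
    have hF1 : Cfsg.fittingHallOf M ≠ ⊥ := by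
      intro h
      rw [h, Subgroup.card_bot] at hqd
      exact hqp.one_lt.ne' (Nat.dvd_one.mp hqd)
    refine ⟨hF1, fittingHallOf_le_sigmaCore hG hM, sigmaCore_le_commutator hG h04 hM,
      commutator_lt hG hM, ?_⟩
    have hQσ : Q ≤ Cfsg.sigmaCore M := hQF.trans (fittingHallOf_le_sigmaCore hG hM)
    -- a complement `D` of `Q` in `M_σ`
    haveI hQn' : (Q.subgroupOf (Cfsg.sigmaCore M)).Normal :=
      (Subgroup.normal_subgroupOf_iff_le_normalizer hQσ).mpr (hσle.trans hQn)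
    have hcop : (Nat.card ↥(Q.subgroupOf (Cfsg.sigmaCore M))).Coprime
        (Q.subgroupOf (Cfsg.sigmaCore M)).index := by
      have h1 : Nat.card ↥(Q.subgroupOf (Cfsg.sigmaCore M)) = Nat.card Q :=
        Nat.card_congr (Subgroup.subgroupOfEquivOfLe hQσ).toEquiv
      obtain ⟨n, hn⟩ := (IsPGroup.iff_card).mp hQp
      rw [h1, hn]
      apply Nat.Coprime.pow_left
      exact (Nat.Prime.coprime_iff_not_dvd hqp).mpr hQi
    obtain ⟨D, hDc⟩ := Subgroup.exists_right_complement'_of_coprime hcop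
    have hDc' := isComplIn_of_isComplement' hDc
    rw [Subgroup.map_subgroupOf_eq_of_le hQσ] at hDc'
    -- swap the roles: `IsComplIn Q D M_σ`
    have hDc'' : Cfsg.IsComplIn Q (D.map (Cfsg.sigmaCore M).subtype) (Cfsg.sigmaCore M) := by
      obtain ⟨h1, h2, h3, h4⟩ := hDc'
      refine ⟨h2, h1, by rwa [inf_comm], ?_⟩
      intro m hm
      obtain ⟨a, ha, b, hb, hab⟩ := h4 m⁻¹ ((Cfsg.sigmaCore M).inv_mem hm)
      refine ⟨b⁻¹, Q.inv_mem hb, a⁻¹, (D.map _).inv_mem ha, ?_⟩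
      rw [← mul_inv_rev, ← hab, inv_inv]
    obtain ⟨hDnil, -⟩ := hD _ hDc''
    set D' := D.map (Cfsg.sigmaCore M).subtype with hD'
    -- `M' = M_σ ≤ Q D`
    have hDM : D' ≤ M := hDc''.2.1.trans hσle
    have hker : Q.subgroupOf M ≤ Cfsg.fittingHall ↥M := by
      intro x hx
      have h1 : (x : G) ∈ Cfsg.fittingHallOf M := hQF hx
      obtain ⟨y, hy, hyx⟩ := h1
      have : y = x := Subtype.ext hyx
      rwa [← this]
    have hle : (commutator ↥M).map (QuotientGroup.mk' (Cfsg.fittingHall ↥M)) ≤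
        (D'.subgroupOf M).map (QuotientGroup.mk' (Cfsg.fittingHall ↥M)) := by
      rintro _ ⟨x, hx, rfl⟩
      have h1 : (x : G) ∈ ⁅M, M⁆ := by
        rw [← map_subtype_commutator]
        exact ⟨x, hx, rfl⟩
      rw [← hσM'] at h1
      obtain ⟨a, ha, b, hb, hab⟩ := hDc''.2.2.2 _ h1
      have haM : a ∈ M := hσle (hQσ ha)
      have hbM : b ∈ M := hDM hb
      refine ⟨⟨b, hbM⟩, hb, ?_⟩
      have hx' : x = ⟨a, haM⟩ * ⟨b, hbM⟩ := Subtype.ext hab
      rw [hx', map_mul]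
      have : QuotientGroup.mk' (Cfsg.fittingHall ↥M) ⟨a, haM⟩ = 1 := by
        rw [QuotientGroup.mk'_apply, QuotientGroup.eq_one_iff]
        exact hker ha
      rw [this, one_mul]
    have hnilD : Group.IsNilpotent ↥(D'.subgroupOf M) := by
      haveI := hDnil
      exact Group.nilpotent_of_mulEquiv (Subgroup.subgroupOfEquivOfLe hDM).symm
    exact isNilpotent_of_le hle (isNilpotent_map_of_isNilpotent _ _ hnilD)

end Cfsg.Agent.Helper19.BG16
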