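import Mathlib
import Cfsg.Prelude.Def_OddOrder
import Cfsg.Prelude.Def_OddOrderLocal
import Cfsg.Agent.Lib.Helper8.SecRep8
import Cfsg.Agent.Lib.Helper8.FrobKerNil
import Cfsg.Agent.Lib.Helper8.Narrow
import Cfsg.Agent.Lib.Helper1.FpfThompson
import Cfsg.Agent.Lib.Helper1.Coprime
import Cfsg.Agent.Lib.Helper1.CharacteristicMap
import Cfsg.Agent.Lib.Helper1.PGroupCoatom
import Cfsg.Agent.Lib.Helper22.ClassTwo
import Cfsg.Agent.Lib.Helper7.Fitting2
import Cfsg.Agent.Lib.Helper7.TypeP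

/-!
# Generalities for BG Theorem 15.2 (helper19)

* `card_prime_or_centralizer_eq`: a Frobenius group `U ⋊ E` acting coprimely on a solvable group
  `L` with prime action of `E`: either `|E|` is prime or `C_L(UE) = C_L(E)`.
* `isNilpotent_quotient_of_fpf_mod`: an element of prime order acting on `S` with all its fixed
  points in the normal subgroup `N` acts fixed-point-freely on `S/N`, which is then nilpotent.
* `exists_normal_sylow_of_nilpotent_quotient`.
* `commutator_le_centralizer_of_narrow`.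
-/

set_option autoImplicit false
set_option linter.unusedSectionVars false
set_option linter.unusedVariables false
set_option linter.style.haveILetI false

namespace Cfsg.Agent.Helper19.BG152

open Cfsg Subgroup
open scoped commutatorElement

variable {X : Type*} [Group X]

theorem centralizer_sup' (H K : Subgroup X) :
    centralizer ((H ⊔ K : Subgroup X) : Set X) = centralizer (H : Set X) ⊓ centralizer (K : Set X) := by
  apply le_antisymm
  · exact le_inf (centralizer_le (SetLike.coe_subset_coe.2 le_sup_left))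
      (centralizer_le (SetLike.coe_subset_coe.2 le_sup_right))
  · intro g hg
    rw [mem_inf] at hg
    have hH : H ≤ centralizer ({g} : Set X) := by
      intro h hh
      rw [mem_centralizer_iff]
      intro y hy
      rw [Set.mem_singleton_iff] at hy
      rw [hy]
      exact (mem_centralizer_iff.1 hg.1 h hh).symm
    have hK : K ≤ centralizer ({g} : Set X) := by
      intro h hh
      rw [mem_centralizer_iff]
      intro y hy
      rw [Set.mem_singleton_iff] at hy
      rw [hy]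
      exact (mem_centralizer_iff.1 hg.2 h hh).symm
    rw [mem_centralizer_iff]
    intro y hy
    have := (sup_le hH hK) hy
    rw [mem_centralizer_iff] at this
    exact (this g rfl).symm

theorem centralizer_zpowers' (a : X) :
    centralizer ((zpowers a : Subgroup X) : Set X) = centralizer {a} := by
  rw [zpowers_eq_closure, centralizer_closure]

variable [Finite X]

theorem le_or_inf_eq_bot_of_prime_card {A L : Subgroup X} (hA : (Nat.card A).Prime) :
    A ≤ L ∨ A ⊓ L = ⊥ := by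
  have h1 : Nat.card ↥(A ⊓ L) ∣ Nat.card A := Subgroup.card_dvd_of_le inf_le_left
  rcases (Nat.dvd_prime hA).mp h1 with h | h
  · right; exact Subgroup.card_eq_one.mp h
  · left
    have : A ⊓ L = A := Subgroup.eq_of_le_of_card_ge inf_le_left h.ge
    rw [← this]; exact inf_le_right

/-- Frobenius group `U ⋊ E` acting coprimely on a solvable group `L`, with `E` acting with prime
action: either `|E|` is prime or `C_L(UE) = C_L(E)`. -/
theorem card_prime_or_centralizer_eq (U E L : Subgroup X) (hE1 : E ≠ ⊥)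
    (hUn : ∀ e ∈ E, ∀ u ∈ U, e * u * e⁻¹ ∈ U)
    (hfpf : ∀ e ∈ E, e ≠ 1 → ∀ u ∈ U, e * u = u * e → u = 1)
    (hnil : Group.IsNilpotent ↥U) (hsolv : Group.IsSolvable ↥L)
    (hn : U ⊔ E ≤ normalizer (L : Set X))
    (hcop : (Nat.card ↥L).Coprime (Nat.card ↥(U ⊔ E)))
    (hpr : ∀ e ∈ E, e ≠ 1 → L ⊓ centralizer ({e} : Set X) = L ⊓ centralizer (E : Set X)) :
    (Nat.card E).Prime ∨
      L ⊓ centralizer ((U ⊔ E : Subgroup X) : Set X) = L ⊓ centralizer (E : Set X) := by
  have hEcard : Nat.card ↥E ≠ 1 := fun h => hE1 (Subgroup.card_eq_one.mp h)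
  obtain ⟨r, hr, hrE⟩ := Nat.exists_prime_and_dvd hEcard
  haveI : Fact r.Prime := ⟨hr⟩
  obtain ⟨x, hx⟩ := exists_prime_orderOf_dvd_card' (G := ↥E) r hrE
  have hx1 : (x : X) ≠ 1 := by
    intro h1
    have : x = 1 := Subtype.ext h1
    rw [this, orderOf_one] at hx
    exact hr.one_lt.ne hx
  set E₀ : Subgroup X := zpowers (x : X) with hE₀
  have hE₀E : E₀ ≤ E := by
    rw [hE₀, zpowers_le]; exact x.2
  have hE₀card : Nat.card ↥E₀ = r := by
    rw [hE₀, Nat.card_zpowers, Subgroup.orderOf_coe, hx]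
  have hcent : L ⊓ centralizer (E₀ : Set X) = L ⊓ centralizer (E : Set X) := by
    rw [← hpr (x : X) x.2 hx1, hE₀, centralizer_zpowers']
  have hcent2 : L ⊓ centralizer ((U ⊔ E₀ : Subgroup X) : Set X) =
      L ⊓ centralizer ((U ⊔ E : Subgroup X) : Set X) := by
    rw [centralizer_sup', centralizer_sup', inf_left_comm, hcent, ← inf_left_comm]
  have hΓ₀ : U ⊔ E₀ ≤ U ⊔ E := sup_le_sup_left hE₀E U
  have hfw := Cfsg.Agent.Helper8.SecRep.fw_group U E hUn hfpf hnil _ L rfl hsolv hn hcop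
  have hfw₀ := Cfsg.Agent.Helper8.SecRep.fw_group U E₀ (fun e he => hUn e (hE₀E he))
    (fun e he => hfpf e (hE₀E he)) hnil _ L rfl hsolv (hΓ₀.trans hn)
    (Nat.Coprime.coprime_dvd_right (Subgroup.card_dvd_of_le hΓ₀) hcop)
  rw [hcent2, hcent, hE₀card] at hfw₀
  set c := Nat.card ↥(L ⊓ centralizer ((U ⊔ E : Subgroup X) : Set X)) with hc
  set a := Nat.card ↥(L ⊓ centralizer (E : Set X)) with ha
  set u := Nat.card ↥(L ⊓ centralizer (U : Set X)) with hu
  set n := Nat.card ↥L with hn'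
  set e := Nat.card ↥E with he
  have hle : L ⊓ centralizer ((U ⊔ E : Subgroup X) : Set X) ≤ L ⊓ centralizer (E : Set X) :=
    inf_le_inf_left _ (centralizer_le (SetLike.coe_subset_coe.2 le_sup_right))
  have hca : c ≤ a := Subgroup.card_le_of_le hle
  have hcpos : 0 < c := Nat.card_pos
  have hnpos : 0 < n := Nat.card_pos
  have hupos : 0 < u := Nat.card_pos
  by_cases hca' : c = a
  · right
    exact Subgroup.eq_of_le_of_card_ge hle hca'.ge
  · left
    have hlt : c < a := lt_of_le_of_ne hca hca'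
    have hre : r ≤ e := Nat.le_of_dvd Nat.card_pos hrE
    suffices h : e = r by rw [h]; exact hr
    by_contra hne
    have hlt' : r < e := lt_of_le_of_ne hre (Ne.symm hne)
    -- c^e n = a^e u, c^r n = a^r u
    have h1 : c ^ e * n * (a ^ r * u) = a ^ e * u * (c ^ r * n) := by rw [hfw, hfw₀]
    have h2 : c ^ e * a ^ r = a ^ e * c ^ r := by
      have h3 : (c ^ e * a ^ r) * (n * u) = (a ^ e * c ^ r) * (n * u) := by
        calc (c ^ e * a ^ r) * (n * u) = c ^ e * n * (a ^ r * u) := by ring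
          _ = a ^ e * u * (c ^ r * n) := h1
          _ = (a ^ e * c ^ r) * (n * u) := by ring
      exact Nat.eq_of_mul_eq_mul_right (Nat.mul_pos hnpos hupos) h3
    obtain ⟨d, hd⟩ := Nat.exists_eq_add_of_lt hlt'
    have hd' : e = r + (d + 1) := by omega
    rw [hd'] at h2
    have h4 : c ^ (d + 1) * (c ^ r * a ^ r) = a ^ (d + 1) * (c ^ r * a ^ r) := by
      calc c ^ (d + 1) * (c ^ r * a ^ r) = c ^ (r + (d + 1)) * a ^ r := by ring
        _ = a ^ (r + (d + 1)) * c ^ r := h2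
        _ = a ^ (d + 1) * (c ^ r * a ^ r) := by ring
    have hapos : 0 < a := lt_of_lt_of_le hcpos hca
    have h5 : c ^ (d + 1) = a ^ (d + 1) :=
      Nat.eq_of_mul_eq_mul_right (Nat.mul_pos (pow_pos hcpos r) (pow_pos hapos r)) h4
    have h6 : c = a := Nat.pow_left_injective (by omega : d + 1 ≠ 0) h5
    exact hca' h6


/-- **Fixed-point-free action modulo a normal subgroup.**  If `x` has prime order `r` (coprime to
`|N|`), normalises `S` and its normal subgroup `N`, and all fixed points of `x` on `S` lie in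
`N`, then `S/N` is nilpotent (Thompson). -/
theorem isNilpotent_quotient_of_fpf_mod (S N : Subgroup X) (x : X) (hNS : N ≤ S)
    [hn : (N.subgroupOf S).Normal] (hxS : x ∈ normalizer (S : Set X))
    (hxN : x ∈ normalizer (N : Set X)) {r : ℕ} (hr : r.Prime) (hxr : x ^ r = 1)
    (hcop : r.Coprime (Nat.card ↥N)) (hfix : S ⊓ centralizer ({x} : Set X) ≤ N) :
    Group.IsNilpotent (↥S ⧸ N.subgroupOf S) := by
  set φ : ↥S ≃* ↥S := S.normalizerMonoidHom ⟨x, hxS⟩ with hφ
  have hφapp : ∀ s : ↥S, ((φ s : ↥S) : X) = x * s * x⁻¹ := fun s => rfl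
  have hinv : Cfsg.Agent.Helper1.Fpf.Inv φ (N.subgroupOf S) := by
    intro y hy
    rw [mem_subgroupOf] at hy ⊢
    rw [hφapp]
    exact (mem_normalizer_iff.mp hxN _).mp hy
  have hφr : φ ^ r = 1 := by
    rw [hφ, ← map_pow]
    have : (⟨x, hxS⟩ : ↥(normalizer (S : Set X))) ^ r = 1 := Subtype.ext (by simpa using hxr)
    rw [this, map_one]
  have hxinvN : x⁻¹ ∈ normalizer (N : Set X) := inv_mem hxN
  have hfpf : MonoidHom.FixedPointFree (Cfsg.Agent.Helper1.Fpf.quot φ (N.subgroupOf S) hinv) := by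
    intro gb hgb
    induction gb using QuotientGroup.induction_on with
    | H g =>
      rw [Cfsg.Agent.Helper1.Fpf.quot_mk, QuotientGroup.eq] at hgb
      -- `(φ g)⁻¹ * g ∈ N`
      have h1 : (x * (g : X) * x⁻¹)⁻¹ * (g : X) ∈ N := by
        have := mem_subgroupOf.mp hgb
        simpa [hφapp] using this
      -- the subgroup of all `a` with `g⁻¹ a g a⁻¹ ∈ N`
      let T : Subgroup X :=
        { carrier := {a | a ∈ normalizer (N : Set X) ∧ (g : X)⁻¹ * a * g * a⁻¹ ∈ N}
          one_mem' := ⟨one_mem _, by simp⟩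
          mul_mem' := by
            rintro a b ⟨ha, ha'⟩ ⟨hb, hb'⟩
            refine ⟨mul_mem ha hb, ?_⟩
            have h2 : a * ((g : X)⁻¹ * b * g * b⁻¹) * a⁻¹ ∈ N :=
              (mem_normalizer_iff.mp ha _).mp hb'
            have e : (g : X)⁻¹ * (a * b) * g * (a * b)⁻¹ =
                ((g : X)⁻¹ * a * g * a⁻¹) * (a * ((g : X)⁻¹ * b * g * b⁻¹) * a⁻¹) := by group
            rw [e]
            exact mul_mem ha' h2
          inv_mem' := by
            rintro a ⟨ha, ha'⟩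
            refine ⟨inv_mem ha, ?_⟩
            have h2 : a⁻¹ * ((g : X)⁻¹ * a * g * a⁻¹)⁻¹ * a⁻¹⁻¹ ∈ N :=
              (mem_normalizer_iff.mp (inv_mem ha) _).mp (inv_mem ha')
            have e : (g : X)⁻¹ * a⁻¹ * g * a⁻¹⁻¹ = a⁻¹ * ((g : X)⁻¹ * a * g * a⁻¹)⁻¹ * a⁻¹⁻¹ := by
              group
            rw [e]
            exact h2 }
      have hxT : x⁻¹ ∈ T := by
        refine ⟨hxinvN, ?_⟩
        have h2 : x⁻¹ * ((x * (g : X) * x⁻¹)⁻¹ * (g : X)) * x⁻¹⁻¹ ∈ N :=
          (mem_normalizer_iff.mp hxinvN _).mp h1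
        have e : (g : X)⁻¹ * x⁻¹ * g * x⁻¹⁻¹ = x⁻¹ * ((x * (g : X) * x⁻¹)⁻¹ * (g : X)) * x⁻¹⁻¹ := by
          group
        rw [e]
        exact h2
      have hzT : zpowers x ≤ T := by
        rw [zpowers_le]
        have := T.inv_mem hxT
        rwa [inv_inv] at this
      have hAD : zpowers x ≤ normalizer (N : Set X) := by
        rw [zpowers_le]; exact hxN
      have hcardz : Nat.card ↥(zpowers x) ∣ r := by
        rw [Nat.card_zpowers]; exact orderOf_dvd_of_pow_eq_one hxr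
      have hcop' : (Nat.card ↥(zpowers x)).Coprime (Nat.card ↥N) :=
        Nat.Coprime.coprime_dvd_left hcardz hcop
      have hsolv : Group.IsSolvable ↥(zpowers x) ∨ Group.IsSolvable ↥N := Or.inl inferInstance
      obtain ⟨c, hc, hcN⟩ := Cfsg.Agent.Helper1.exists_centralizer_mem_coset N (zpowers x) hAD hcop'
        hsolv (g : X) (fun a ha => (hzT ha).2)
      have hcS : c ∈ S := by
        have : c = (g : X) * ((g : X)⁻¹ * c) := by group
        rw [this]
        exact S.mul_mem g.2 (hNS hcN)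
      have hcx : c ∈ centralizer ({x} : Set X) := by
        rw [← centralizer_zpowers']; exact hc
      have hcN' : c ∈ N := hfix ⟨hcS, hcx⟩
      have hgN : (g : X) ∈ N := by
        have : (g : X) = c * ((g : X)⁻¹ * c)⁻¹ := by group
        rw [this]
        exact N.mul_mem hcN' (N.inv_mem hcN)
      rw [QuotientGroup.eq_one_iff]
      exact mem_subgroupOf.mpr hgN
  exact Cfsg.Agent.Helper1.Fpf.fpf_nilpotent _ hfpf hr
    (Cfsg.Agent.Helper1.Fpf.quot_pow_eq_one φ (N.subgroupOf S) hinv hφr)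


/-- a normal `q`-subgroup of `H` of index prime to `q` is (the carrier of) a Sylow `q`-subgroup. -/
theorem exists_sylow_eq_of_normal {H : Type*} [Group H] [Finite H] {q : ℕ} [hq : Fact q.Prime]
    (T : Subgroup H) (hTq : IsPGroup q T) (hTi : ¬ q ∣ T.index) :
    ∃ P : Sylow q H, (P : Subgroup H) = T := by
  obtain ⟨P, hP⟩ := hTq.exists_le_sylow
  refine ⟨P, ?_⟩
  apply le_antisymm _ hP
  rw [← Subgroup.relIndex_eq_one]
  have h1 : T.relIndex P ∣ Nat.card (P : Subgroup H) := Subgroup.relIndex_dvd_card _ _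
  obtain ⟨n, hn⟩ := (IsPGroup.iff_card).mp P.2
  rw [hn] at h1
  obtain ⟨j, -, hj⟩ := (Nat.dvd_prime_pow hq.out).mp h1
  rcases Nat.eq_zero_or_pos j with h0 | h0
  · rw [hj, h0, pow_zero]
  · exfalso
    apply hTi
    have h2 : T.relIndex P * (P : Subgroup H).index = T.index := Subgroup.relIndex_mul_index hP
    rw [← h2, hj]
    exact Dvd.dvd.mul_right (dvd_pow_self q h0.ne') _

/-- If `S/N` is nilpotent and `N` is a `q`-group, then `S` has a normal Sylow `q`-subgroup, which is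
normalised by `N_X(S)`. -/
theorem exists_normal_sylow_of_nilpotent_quotient {q : ℕ} [hq : Fact q.Prime] (S N : Subgroup X)
    (hNS : N ≤ S) [hn : (N.subgroupOf S).Normal] (hNq : IsPGroup q N)
    (hnil : Group.IsNilpotent (↥S ⧸ N.subgroupOf S)) :
    ∃ Q : Subgroup X, Q ≤ S ∧ IsPGroup q Q ∧ ¬ q ∣ Q.relIndex S ∧
      normalizer (S : Set X) ≤ normalizer (Q : Set X) := by
  obtain ⟨P⟩ : Nonempty (Sylow q (↥S ⧸ N.subgroupOf S)) := inferInstance
  have htfae : ∀ (p : ℕ) (_hp : Fact p.Prime) (P : Sylow p (↥S ⧸ N.subgroupOf S)),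
      (↑P : Subgroup (↥S ⧸ N.subgroupOf S)).Normal :=
    (Group.isNilpotent_of_finite_tfae (G := ↥S ⧸ N.subgroupOf S).out 0 3).mp hnil
  haveI hPn : (P : Subgroup (↥S ⧸ N.subgroupOf S)).Normal := htfae q hq P
  set T : Subgroup ↥S := (P : Subgroup (↥S ⧸ N.subgroupOf S)).comap (QuotientGroup.mk' (N.subgroupOf S))
    with hT
  haveI hTn : T.Normal := hPn.comap _
  have hTq : IsPGroup q T := by
    apply IsPGroup.comap_of_ker_isPGroup P.2
    rw [QuotientGroup.ker_mk']
    exact hNq.comap_subtype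
  have hTi : ¬ q ∣ T.index := by
    rw [hT, Subgroup.index_comap_of_surjective _ (QuotientGroup.mk'_surjective _)]
    exact P.not_dvd_index
  obtain ⟨P', hP'⟩ := exists_sylow_eq_of_normal T hTq hTi
  haveI hP'n : (P' : Subgroup ↥S).Normal := hP' ▸ hTn
  haveI hP'c : (P' : Subgroup ↥S).Characteristic := Sylow.characteristic_of_normal P' hP'n
  haveI hTc : T.Characteristic := hP' ▸ hP'c
  refine ⟨T.map S.subtype, Subgroup.map_subtype_le _, hTq.map _, ?_, ?_⟩
  · have h1 : (T.map S.subtype).subgroupOf S = T := by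
      ext y
      rw [mem_subgroupOf]
      constructor
      · rintro ⟨z, hz, hzy⟩
        have : z = y := Subtype.ext hzy
        rwa [← this]
      · intro hy
        exact ⟨y, hy, rfl⟩
    rw [Subgroup.relIndex, h1]
    exact hTi
  · exact Cfsg.Agent.Helper1.normalizer_le_normalizer_map_of_characteristic S T


/-- An odd-order solvable `q'`-group normalising a narrow `q`-group `S` (`q` odd) has its derived
subgroup centralising `S`.  (Same proof as helper3's rank-two version, with helper8's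
`Narrow.aut`.) -/
theorem commutator_le_centralizer_of_narrow (q : ℕ) [Fact q.Prime] (hq2 : q ≠ 2)
    (S A : Subgroup X) (hS : IsPGroup q ↥S) (hSn : Cfsg.IsNarrow q ↥S)
    (hAS : A ≤ normalizer (S : Set X)) (hodd : Odd (Nat.card ↥A))
    (hsolv : Group.IsSolvable ↥A) (hcop : (Nat.card ↥A).Coprime q) :
    ⁅A, A⁆ ≤ centralizer (S : Set X) := by
  have hqp : q.Prime := Fact.out
  set φ : ↥A →* MulAut ↥S := S.normalizerMonoidHom.comp (Subgroup.inclusion hAS) with hφ
  have hφapp : ∀ (a : ↥A) (s : ↥S), ((φ a s : ↥S) : X) = (a : X) * s * (a : X)⁻¹ := fun a s => rfl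
  set Γ := ↥A ⧸ φ.ker with hΓ
  set ψ : Γ →* MulAut ↥S := QuotientGroup.kerLift φ with hψ
  have hψinj : Function.Injective ψ := QuotientGroup.kerLift_injective φ
  haveI : Group.IsSolvable Γ :=
    Group.isSolvable_of_surjective (QuotientGroup.mk'_surjective φ.ker)
  have hcardΓ : Nat.card Γ ∣ Nat.card ↥A := Subgroup.card_quotient_dvd_card φ.ker
  have hoddΓ : Odd (Nat.card Γ) := Odd.of_dvd_nat hodd hcardΓ
  have hP : IsPGroup q ↥(commutator Γ) :=
    (Cfsg.Agent.Helper8.Narrow.aut q hq2 hS hSn inferInstance hoddΓ ψ hψinj).1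
  have hcomm : commutator Γ = ⊥ := by
    obtain ⟨n, hn⟩ := IsPGroup.exists_card_eq hP
    have h1 : Nat.card ↥(commutator Γ) ∣ Nat.card ↥A :=
      (Subgroup.card_subgroup_dvd_card _).trans hcardΓ
    have h2 : (q ^ n).Coprime q := by
      rw [← hn]; exact Nat.Coprime.coprime_dvd_left h1 hcop
    have h3 : n = 0 := by
      by_contra hne
      have h4 : q ∣ q ^ n := dvd_pow_self q hne
      have h5 := Nat.Coprime.eq_one_of_dvd h2.symm h4
      exact hqp.one_lt.ne' h5
    rw [h3, pow_zero] at hn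
    exact Subgroup.card_eq_one.mp hn
  rw [Subgroup.commutator_le]
  intro a ha b hb
  have h1 : (QuotientGroup.mk' φ.ker) ⁅(⟨a, ha⟩ : ↥A), ⟨b, hb⟩⁆ ∈ commutator Γ := by
    rw [map_commutatorElement, _root_.commutator_def]
    exact Subgroup.commutator_mem_commutator (Subgroup.mem_top _) (Subgroup.mem_top _)
  rw [hcomm, Subgroup.mem_bot] at h1
  have h2 : ⁅(⟨a, ha⟩ : ↥A), ⟨b, hb⟩⁆ ∈ φ.ker :=
    (QuotientGroup.eq_one_iff (N := φ.ker) _).mp h1
  rw [MonoidHom.mem_ker] at h2
  rw [Subgroup.mem_centralizer_iff]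
  intro s hs
  have h3 := hφapp ⁅(⟨a, ha⟩ : ↥A), ⟨b, hb⟩⁆ ⟨s, hs⟩
  rw [h2] at h3
  have h4 : (s : X) = ⁅a, b⁆ * s * ⁅a, b⁆⁻¹ := h3
  calc s * ⁅a, b⁆ = (⁅a, b⁆ * s * ⁅a, b⁆⁻¹) * ⁅a, b⁆ := by rw [← h4]
    _ = ⁅a, b⁆ * s := by group


/-- `S = Q D` with `Q`, `D` nilpotent and commuting elementwise is nilpotent. -/
theorem isNilpotent_of_isComplIn_of_le_centralizer {Q D S : Subgroup X}
    (hc : Cfsg.IsComplIn Q D S) (hQ : Group.IsNilpotent ↥Q) (hD : Group.IsNilpotent ↥D)
    (hDQ : D ≤ centralizer (Q : Set X)) : Group.IsNilpotent ↥S := by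
  obtain ⟨hQS, hDS, -, hfac⟩ := hc
  have hcomm : ∀ a ∈ Q, ∀ d ∈ D, a * d = d * a := fun a ha d hd =>
    (mem_centralizer_iff.mp (hDQ hd) a ha)
  have hSQ : S ≤ normalizer (Q : Set X) := by
    apply Cfsg.Agent.Helper1.le_normalizer_of_forall_conj_mem
    intro s hs y hy
    obtain ⟨a, ha, d, hd, rfl⟩ := hfac s hs
    have e : a * d * y * (a * d)⁻¹ = a * (d * y * d⁻¹) * a⁻¹ := by group
    rw [e, ← hcomm y hy d hd]
    have e2 : y * d * d⁻¹ = y := by group
    rw [e2]
    exact Q.mul_mem (Q.mul_mem ha hy) (Q.inv_mem ha)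
  have hSD : S ≤ normalizer (D : Set X) := by
    apply Cfsg.Agent.Helper1.le_normalizer_of_forall_conj_mem
    intro s hs y hy
    obtain ⟨a, ha, d, hd, rfl⟩ := hfac s hs
    have h1 : d * y * d⁻¹ ∈ D := D.mul_mem (D.mul_mem hd hy) (D.inv_mem hd)
    have e : a * d * y * (a * d)⁻¹ = a * (d * y * d⁻¹) * a⁻¹ := by group
    rw [e, hcomm a ha _ h1]
    have e2 : d * y * d⁻¹ * a * a⁻¹ = d * y * d⁻¹ := by group
    rw [e2]
    exact h1
  haveI hQn : (Q.subgroupOf S).Normal := (normal_subgroupOf_iff_le_normalizer hQS).mpr hSQ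
  haveI hDn : (D.subgroupOf S).Normal := (normal_subgroupOf_iff_le_normalizer hDS).mpr hSD
  have h1 := Cfsg.Agent.Helper7.isNilpotent_sup_of_normal (Q.subgroupOf S) (D.subgroupOf S)
    (Cfsg.Agent.Helper7.isNilpotent_subgroupOf hQS hQ)
    (Cfsg.Agent.Helper7.isNilpotent_subgroupOf hDS hD)
  have htop : Q.subgroupOf S ⊔ D.subgroupOf S = ⊤ := by
    rw [eq_top_iff]
    intro s _
    obtain ⟨a, ha, d, hd, hs⟩ := hfac s s.2
    have : s = (⟨a, hQS ha⟩ : ↥S) * ⟨d, hDS hd⟩ := Subtype.ext hs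
    rw [this]
    exact Subgroup.mul_mem _ (Subgroup.mem_sup_left (mem_subgroupOf.mpr ha))
      (Subgroup.mem_sup_right (mem_subgroupOf.mpr hd))
  rw [htop] at h1
  haveI := h1
  exact Group.nilpotent_of_mulEquiv (Subgroup.topEquiv : (⊤ : Subgroup ↥S) ≃* ↥S)

/-! ### Frattini subgroup of a `q`-subgroup -/

/-- the Frattini subgroup of `Q`, as a subgroup of the ambient group -/
noncomputable def frattiniOf (Q : Subgroup X) : Subgroup X := (frattini ↥Q).map Q.subtype

theorem frattiniOf_le (Q : Subgroup X) : frattiniOf Q ≤ Q := Subgroup.map_subtype_le _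

theorem normalizer_le_normalizer_frattiniOf (Q : Subgroup X) :
    normalizer (Q : Set X) ≤ normalizer (frattiniOf Q : Set X) :=
  Cfsg.Agent.Helper1.normalizer_le_normalizer_map_of_characteristic Q (frattini ↥Q)

theorem pow_mem_frattiniOf {q : ℕ} [Fact q.Prime] {Q : Subgroup X} (hQ : IsPGroup q Q) {a : X}
    (ha : a ∈ Q) : a ^ q ∈ frattiniOf Q :=
  ⟨(⟨a, ha⟩ : ↥Q) ^ q, Cfsg.Agent.Helper22.pow_prime_mem_frattini hQ ⟨a, ha⟩, by simp⟩

theorem commutator_mem_frattini {P : Type*} [Group P] [Finite P] {q : ℕ} [Fact q.Prime]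
    (hP : IsPGroup q P) (a b : P) : a * b * a⁻¹ * b⁻¹ ∈ frattini P := by
  unfold frattini Order.radical
  rw [Subgroup.mem_iInf]
  intro M
  rw [Subgroup.mem_iInf]
  intro hM
  obtain ⟨hn, hi⟩ := Cfsg.Agent.Helper1.coatom_normal_index_of_isPGroup hP M hM
  haveI := hn
  have hcard : Nat.card (P ⧸ M) = q := by rw [← Subgroup.index_eq_card]; exact hi
  haveI : IsCyclic (P ⧸ M) := isCyclic_of_prime_card hcard
  have hc : IsMulCommutative (P ⧸ M) := IsCyclic.isMulCommutative
  have h1 : _root_.commutator P ≤ M := Subgroup.Normal.quotient_commutative_iff_commutator_le.mp hc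
  apply h1
  have : a * b * a⁻¹ * b⁻¹ = ⁅a, b⁆ := (commutatorElement_def a b).symm
  rw [this, _root_.commutator_def]
  exact Subgroup.commutator_mem_commutator (Subgroup.mem_top a) (Subgroup.mem_top b)

theorem commutator_mem_frattiniOf {q : ℕ} [Fact q.Prime] {Q : Subgroup X} (hQ : IsPGroup q Q)
    {a b : X} (ha : a ∈ Q) (hb : b ∈ Q) : a * b * a⁻¹ * b⁻¹ ∈ frattiniOf Q :=
  ⟨(⟨a, ha⟩ : ↥Q) * ⟨b, hb⟩ * (⟨a, ha⟩ : ↥Q)⁻¹ * (⟨b, hb⟩ : ↥Q)⁻¹,
    commutator_mem_frattini hQ _ _, by simp⟩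

/-- a proper subgroup together with the Frattini subgroup does not generate `Q` -/
theorem sup_frattiniOf_ne {Q Q0 : Subgroup X} (hlt : Q0 < Q) : Q0 ⊔ frattiniOf Q ≠ Q := by
  intro h
  have h1 : Q0.subgroupOf Q ⊔ frattini ↥Q = ⊤ := by
    rw [eq_top_iff]
    intro y _
    have hy : (y : X) ∈ Q0 ⊔ frattiniOf Q := by rw [h]; exact y.2
    -- pull back along the injective `Q.subtype`
    have h2 : Q0 ⊔ frattiniOf Q = (Q0.subgroupOf Q ⊔ frattini ↥Q).map Q.subtype := by
      rw [Subgroup.map_sup, Subgroup.map_subgroupOf_eq_of_le hlt.le]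
      rfl
    rw [h2] at hy
    obtain ⟨z, hz, hzy⟩ := hy
    have : z = y := Subtype.ext hzy
    rwa [← this]
  have h3 := frattini_nongenerating h1
  have h4 : Q ≤ Q0 := by
    intro y hy
    have : (⟨y, hy⟩ : ↥Q) ∈ Q0.subgroupOf Q := h3 ▸ Subgroup.mem_top _
    exact mem_subgroupOf.mp this
  exact hlt.not_ge h4

/-- normalizer condition: a proper subgroup of a nilpotent group is proper in its normalizer -/
theorem inf_normalizer_not_le {Q Q0 : Subgroup X} (hQ : Group.IsNilpotent ↥Q) (hlt : Q0 < Q) :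
    ¬ Q ⊓ normalizer (Q0 : Set X) ≤ Q0 := by
  intro hle
  haveI := hQ
  have hnc := Group.normalizerCondition_of_isNilpotent (G := ↥Q)
  have hH : Q0.subgroupOf Q < ⊤ := by
    rw [lt_top_iff_ne_top]
    intro h
    apply hlt.not_ge
    intro y hy
    have : (⟨y, hy⟩ : ↥Q) ∈ Q0.subgroupOf Q := h ▸ Subgroup.mem_top _
    exact mem_subgroupOf.mp this
  have h1 := hnc _ hH
  obtain ⟨g, hgN, hgH⟩ := Set.exists_of_ssubset h1
  apply hgH
  rw [SetLike.mem_coe, mem_subgroupOf]
  apply hle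
  refine ⟨g.2, ?_⟩
  have hgN' : g ∈ normalizer ((Q0.subgroupOf Q : Subgroup ↥Q) : Set ↥Q) := hgN
  show (g : X) ∈ normalizer (Q0 : Set X)
  have hconj : ∀ (n : ↥Q), n ∈ normalizer ((Q0.subgroupOf Q : Subgroup ↥Q) : Set ↥Q) →
      ∀ h ∈ Q0, (n : X) * h * (n : X)⁻¹ ∈ Q0 := by
    intro n hn h hh
    have hhQ : h ∈ Q := hlt.le hh
    have h2 : (⟨h, hhQ⟩ : ↥Q) ∈ Q0.subgroupOf Q := mem_subgroupOf.mpr hh
    have h3 := (mem_normalizer_iff.mp hn _).mp h2
    exact mem_subgroupOf.mp h3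
  rw [mem_normalizer_iff]
  intro h
  constructor
  · exact hconj g hgN' h
  · intro hh
    have h2 := hconj g⁻¹ (inv_mem hgN') _ hh
    have e : ((g⁻¹ : ↥Q) : X) * ((g : X) * h * (g : X)⁻¹) * ((g⁻¹ : ↥Q) : X)⁻¹ = h := by
      simp only [InvMemClass.coe_inv]
      group
    rwa [e] at h2

end Cfsg.Agent.Helper19.BG152
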