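import Mathlib
import Cfsg.Agent.Lib.Helper19.BG16C
import Cfsg.Agent.Lib.Helper7.BG16a
import Cfsg.Agent.Lib.Lead.BGThmC2
import Cfsg.Agent.Lib.Helper1.Coprime
import Cfsg.Agent.Lib.Helper1.CoprimeAbelian

/-!
# Bender–Glauberman Theorem C: `M' = U M_σ` and `K* ≤ M''` (= S1365) from frozen statements (helper19)
-/

set_option autoImplicit false
set_option linter.unusedSectionVars false
set_option linter.style.haveILetI false

namespace Cfsg.Agent.Helper19.BG16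

open Cfsg Subgroup
open scoped commutatorElement

variable {G : Type*} [Group G]

/-- the frozen statement of S1353 -/
def H1353 (G : Type*) [Group G] : Prop :=
  ∀ (M : Subgroup G), IsCoatom M → ∀ (K U : Subgroup G), Cfsg.IsSigmaDecomposition M K U →
    ∀ k ∈ K, k ≠ 1 → U ⊓ Subgroup.centralizer ({k} : Set G) = ⊥

/-- coprime action without fixed points: `U = [U, K]`. -/
theorem le_commutator_of_fpf [Finite G] {U K : Subgroup G}
    (hn : K ≤ normalizer (U : Set G)) (hcop : (Nat.card K).Coprime (Nat.card U))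
    (hsolv : Group.IsSolvable K ∨ Group.IsSolvable U)
    (hfix : U ⊓ centralizer (K : Set G) = ⊥) : U ≤ ⁅U, K⁆ := by
  have hDU : ⁅U, K⁆ ≤ U := Cfsg.Agent.Helper1.commutator_le_of_le_normalizer hn
  have hKD : K ≤ normalizer ((⁅U, K⁆ : Subgroup G) : Set G) :=
    Cfsg.Agent.Helper1.le_normalizer_commutator_right U K
  have hcopD : (Nat.card K).Coprime (Nat.card ↥⁅U, K⁆) :=
    Nat.Coprime.coprime_dvd_right (Subgroup.card_dvd_of_le hDU) hcop
  have hsolvD : Group.IsSolvable K ∨ Group.IsSolvable ↥⁅U, K⁆ := by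
    rcases hsolv with h | h
    · exact Or.inl h
    · right
      haveI := h
      exact Group.isSolvable_of_isSolvable_injective (Subgroup.inclusion_injective hDU)
  intro x hx
  obtain ⟨c, hc, hcD⟩ := Cfsg.Agent.Helper1.exists_centralizer_mem_coset ⁅U, K⁆ K hKD hcopD hsolvD x
    (fun a ha => by
      have : x⁻¹ * a * x * a⁻¹ = ⁅x⁻¹, a⁆ := by rw [commutatorElement_def, inv_inv]
      rw [this]
      exact Subgroup.commutator_mem_commutator (U.inv_mem hx) ha)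
  have hcU : c ∈ U := by
    have : c = x * (x⁻¹ * c) := by group
    rw [this]
    exact U.mul_mem hx (hDU hcD)
  have hc1 : c = 1 := by
    have : c ∈ U ⊓ centralizer (K : Set G) := ⟨hcU, hc⟩
    rwa [hfix, Subgroup.mem_bot] at this
  rw [hc1, mul_one] at hcD
  have := (⁅U, K⁆).inv_mem hcD
  rwa [inv_inv] at this

/-- For `V` normal abelian and `A` abelian, `[VA, VA] ≤ [V, A]`. -/
theorem commutator_sup_le {Y : Type*} [Group Y] (V A : Subgroup Y) [hVn : V.Normal]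
    (hV : ∀ a ∈ V, ∀ b ∈ V, a * b = b * a) (hA : ∀ a ∈ A, ∀ b ∈ A, a * b = b * a) :
    ⁅V ⊔ A, V ⊔ A⁆ ≤ ⁅V, A⁆ := by
  have hAV : A ≤ normalizer (V : Set Y) := by
    rw [Subgroup.normalizer_eq_top_iff.mpr hVn]
    exact le_top
  rw [Subgroup.commutator_le]
  intro x hx y hy
  obtain ⟨v₁, hv₁, a₁, ha₁, rfl⟩ := Cfsg.Agent.Helper1.exists_mul_of_mem_sup hAV hx
  obtain ⟨v₂, hv₂, a₂, ha₂, rfl⟩ := Cfsg.Agent.Helper1.exists_mul_of_mem_sup hAV hy
  have hk : a₁ * a₂ * a₁⁻¹ = a₂ := by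
    rw [hA a₁ ha₁ a₂ ha₂]
    group
  have hx' : a₁ * v₂ * a₁⁻¹ ∈ V := hVn.conj_mem v₂ hv₂ a₁
  have hz' : a₂ * v₁⁻¹ * a₂⁻¹ ∈ V := hVn.conj_mem v₁⁻¹ (V.inv_mem hv₁) a₂
  have e1 : ⁅v₁ * a₁, v₂ * a₂⁆ =
      v₁ * (a₁ * v₂ * a₁⁻¹) * (a₁ * a₂ * a₁⁻¹) * v₁⁻¹ * a₂⁻¹ * v₂⁻¹ := by
    rw [commutatorElement_def]
    group
  have e2 : v₁ * (a₁ * v₂ * a₁⁻¹) * a₂ * v₁⁻¹ * a₂⁻¹ * v₂⁻¹ =
      v₁ * ((a₁ * v₂ * a₁⁻¹) * (a₂ * v₁⁻¹ * a₂⁻¹)) * v₂⁻¹ := by group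
  have e3 : v₁ * ((a₂ * v₁⁻¹ * a₂⁻¹) * (a₁ * v₂ * a₁⁻¹)) * v₂⁻¹ = ⁅v₁, a₂⁆ * ⁅v₂, a₁⁆⁻¹ := by
    rw [commutatorElement_def, commutatorElement_def]
    group
  rw [e1, hk, e2, hV _ hx' _ hz', e3]
  exact (⁅V, A⁆).mul_mem (Subgroup.commutator_mem_commutator hv₁ ha₂)
    ((⁅V, A⁆).inv_mem (Subgroup.commutator_mem_commutator hv₂ ha₁))

/-- In a finite group `X = H A` with `H = X'`, `A` abelian and `(|A|, |H|) = 1`:
`C_H(A) ≤ H'`. -/
theorem inf_centralizer_le_commutator {X : Type*} [Group X] [Finite X] (H A : Subgroup X)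
    (hH : H = commutator X) (hHA : H ⊔ A = ⊤) (hA : ∀ a ∈ A, ∀ b ∈ A, a * b = b * a)
    (hcop : (Nat.card A).Coprime (Nat.card H)) :
    H ⊓ centralizer (A : Set X) ≤ ⁅H, H⁆ := by
  haveI hHn : H.Normal := by rw [hH]; infer_instance
  haveI hN2 : (⁅H, H⁆ : Subgroup X).Normal := Subgroup.commutator_normal H H
  set π := QuotientGroup.mk' (⁅H, H⁆ : Subgroup X) with hπ
  have hπs : Function.Surjective π := QuotientGroup.mk'_surjective _
  set V := H.map π with hVdef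
  set Ab := A.map π with hAdef
  haveI hVn : V.Normal := hHn.map π hπs
  have hVV : ⁅V, V⁆ = ⊥ := by
    rw [hVdef, ← Subgroup.map_commutator, Subgroup.map_eq_bot_iff, QuotientGroup.ker_mk']
  have hVc : ∀ a ∈ V, ∀ b ∈ V, a * b = b * a := by
    intro a ha b hb
    have h1 : ⁅a, b⁆ ∈ ⁅V, V⁆ := Subgroup.commutator_mem_commutator ha hb
    rw [hVV, Subgroup.mem_bot] at h1
    exact (commutatorElement_eq_one_iff_mul_comm.mp h1)
  have hAc : ∀ a ∈ Ab, ∀ b ∈ Ab, a * b = b * a := by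
    rintro _ ⟨a, ha, rfl⟩ _ ⟨b, hb, rfl⟩
    rw [← map_mul, ← map_mul, hA a ha b hb]
  haveI : IsMulCommutative ↥V :=
    Cfsg.Agent.Helper7.MaxComp.isMulCommutative_of_comm hVc
  have hAV : Ab ≤ normalizer (V : Set (X ⧸ (⁅H, H⁆ : Subgroup X))) := by
    rw [Subgroup.normalizer_eq_top_iff.mpr hVn]
    exact le_top
  have hcop' : (Nat.card Ab).Coprime (Nat.card V) := by
    apply Nat.Coprime.coprime_dvd_left (Subgroup.card_map_dvd A π)
    exact Nat.Coprime.coprime_dvd_right (Subgroup.card_map_dvd H π) hcop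
  have hkey := Cfsg.Agent.Helper1.commutator_inf_centralizer_eq_bot Ab V hAV hcop'
  have htop : V ⊔ Ab = ⊤ := by
    rw [hVdef, hAdef, ← Subgroup.map_sup, hHA, ← MonoidHom.range_eq_map,
      MonoidHom.range_eq_top.mpr hπs]
  have hcomm_top : ⁅(⊤ : Subgroup (X ⧸ (⁅H, H⁆ : Subgroup X))), ⊤⁆ ≤ ⁅V, Ab⁆ := by
    have := commutator_sup_le V Ab hVc hAc
    rwa [htop] at this
  have hVle : V ≤ ⁅V, Ab⁆ := by
    rintro _ ⟨h, hhH, rfl⟩
    apply hcomm_top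
    have hh : h ∈ ⁅(⊤ : Subgroup X), (⊤ : Subgroup X)⁆ := by
      rw [← commutator_def]
      rw [hH] at hhH
      exact hhH
    have h2 := Subgroup.mem_map_of_mem π hh
    have h3 : (⊤ : Subgroup X).map π = ⊤ := by
      rw [← MonoidHom.range_eq_map, MonoidHom.range_eq_top.mpr hπs]
    rw [Subgroup.map_commutator, h3] at h2
    exact h2
  intro y hy
  obtain ⟨hyH, hyA⟩ := Subgroup.mem_inf.mp hy
  have h1 : π y ∈ ⁅V, Ab⁆ ⊓ centralizer (Ab : Set (X ⧸ (⁅H, H⁆ : Subgroup X))) := by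
    refine Subgroup.mem_inf.mpr ⟨hVle ⟨y, hyH, rfl⟩, ?_⟩
    rw [Subgroup.mem_centralizer_iff]
    rintro _ ⟨a, ha, rfl⟩
    rw [← map_mul, ← map_mul, Subgroup.mem_centralizer_iff.mp hyA a ha]
  rw [hkey, Subgroup.mem_bot, hπ, QuotientGroup.mk'_apply, QuotientGroup.eq_one_iff] at h1
  exact h1

/-- BG Theorem C (= the statement of S1365). -/
theorem theorem_C_derived [Finite G] (hG : Cfsg.IsMinSimpleOddOrder G)
    (h50 : H1350 G) (h53 : H1353 G) (h04 : H1404 G)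
    (M : Subgroup G) (hM : IsCoatom M) (K U : Subgroup G)
    (hKU : Cfsg.IsSigmaDecomposition M K U) (hK1 : K ≠ ⊥) :
    ⁅M, M⁆ = U ⊔ Cfsg.sigmaCore M ∧
      (Cfsg.sigmaCore M ⊓ Subgroup.centralizer (K : Set G)) ≤ ⁅⁅M, M⁆, ⁅M, M⁆⁆ := by
  obtain ⟨hHall, -, -⟩ := h50 M hM
  have hKM : K ≤ M := hKU.hall.1
  have hUM : U ≤ M := hKU.compl.1
  have hSM : Cfsg.sigmaCore M ≤ M := sigmaCore_le M
  have hLn := Cfsg.Agent.Helper7.BG16.le_normalizer_sup_sigmaCore hKU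
  have hKc : ∀ a ∈ K, ∀ b ∈ K, a * b = b * a := by
    haveI := hKU.cyclic
    intro a ha b hb
    have hc : IsMulCommutative ↥K := IsCyclic.isMulCommutative
    exact Cfsg.Agent.Helper7.MaxComp.comm_of_isMulCommutative hc a ha b hb
  have hKsolv : Group.IsSolvable K := by
    haveI := hKU.cyclic
    letI := IsCyclic.commGroup (α := K)
    infer_instance
  -- coprimality
  have hcopKU : (Nat.card K).Coprime (Nat.card U) :=
    Cfsg.Agent.Helper7.BG12.coprime_of_forall_prime (fun p hp hpK hpU =>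
      Cfsg.Agent.Lead.BGThmC2.not_mem_kappa_of_dvd_card M K U hKU hp hpU (hKU.hall.2.1 p hp hpK))
  have hcopKS : (Nat.card K).Coprime (Nat.card (Cfsg.sigmaCore M)) :=
    Cfsg.Agent.Helper7.BG12.coprime_of_forall_prime (fun p hp hpK hpS =>
      (hKU.hall.2.1 p hp hpK).2.2.1 (hHall.2.1 p hp hpS))
  -- `U = [U, K]`
  obtain ⟨k0, hk0, hk01⟩ : ∃ k ∈ K, k ≠ 1 := by
    by_contra hcon
    push Not at hcon
    exact hK1 ((Subgroup.eq_bot_iff_forall K).mpr hcon)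
  have hfix : U ⊓ centralizer (K : Set G) = ⊥ := by
    rw [eq_bot_iff]
    intro x hx
    have h1 := h53 M hM K U hKU k0 hk0 hk01
    rw [← h1]
    refine Subgroup.mem_inf.mpr ⟨hx.1, ?_⟩
    rw [Subgroup.mem_centralizer_iff]
    intro z hz
    rw [Set.mem_singleton_iff.mp hz]
    exact Subgroup.mem_centralizer_iff.mp hx.2 k0 hk0
  have hUcomm : U ≤ ⁅M, M⁆ :=
    (le_commutator_of_fpf hKU.normal hcopKU (Or.inl hKsolv) hfix).trans
      (Subgroup.commutator_mono hUM hKM)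
  have hge : U ⊔ Cfsg.sigmaCore M ≤ ⁅M, M⁆ := sup_le hUcomm (sigmaCore_le_commutator hG h04 hM)
  -- decomposition `M = L K`
  have hKS : K ≤ normalizer (Cfsg.sigmaCore M : Set G) :=
    hKM.trans (Cfsg.Agent.Helper7.BG16.le_normalizer_sigmaCore M)
  have hdec : ∀ m ∈ M, ∃ l ∈ U ⊔ Cfsg.sigmaCore M, ∃ k ∈ K, m = l * k := by
    intro m hm
    obtain ⟨u, hu, b, hb, rfl⟩ := hKU.compl.2.2.2 m hm
    rw [sup_comm] at hb
    obtain ⟨s, hs, k, hk, rfl⟩ := Cfsg.Agent.Helper1.exists_mul_of_mem_sup hKS hb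
    exact ⟨u * s, Subgroup.mul_mem _ (le_sup_left (a := U) hu) (le_sup_right (a := U) hs), k, hk,
      by group⟩
  have hconj : ∀ k ∈ K, ∀ l ∈ U ⊔ Cfsg.sigmaCore M, k * l * k⁻¹ ∈ U ⊔ Cfsg.sigmaCore M := by
    intro k hk l hl
    exact (Subgroup.mem_set_normalizer_iff.mp (hLn (hKM hk)) l).mp hl
  have hle : ⁅M, M⁆ ≤ U ⊔ Cfsg.sigmaCore M := by
    rw [Subgroup.commutator_le]
    intro a ha b hb
    obtain ⟨l₁, hl₁, k₁, hk₁, rfl⟩ := hdec a ha
    obtain ⟨l₂, hl₂, k₂, hk₂, rfl⟩ := hdec b hb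
    have hk : k₁ * k₂ * k₁⁻¹ = k₂ := by
      rw [hKc k₁ hk₁ k₂ hk₂]
      group
    have e1 : ⁅l₁ * k₁, l₂ * k₂⁆ =
        l₁ * (k₁ * l₂ * k₁⁻¹) * (k₁ * k₂ * k₁⁻¹) * l₁⁻¹ * k₂⁻¹ * l₂⁻¹ := by
      rw [commutatorElement_def]
      group
    have e2 : l₁ * (k₁ * l₂ * k₁⁻¹) * k₂ * l₁⁻¹ * k₂⁻¹ * l₂⁻¹ =
        l₁ * (k₁ * l₂ * k₁⁻¹) * (k₂ * l₁⁻¹ * k₂⁻¹) * l₂⁻¹ := by group
    rw [e1, hk, e2]
    exact Subgroup.mul_mem _ (Subgroup.mul_mem _ (Subgroup.mul_mem _ hl₁ (hconj k₁ hk₁ l₂ hl₂))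
      (hconj k₂ hk₂ _ (Subgroup.inv_mem _ hl₁))) (Subgroup.inv_mem _ hl₂)
  have heq : ⁅M, M⁆ = U ⊔ Cfsg.sigmaCore M := le_antisymm hle hge
  refine ⟨heq, ?_⟩
  -- `K* ≤ M''` in the group `↥M`
  have hAc : ∀ a ∈ K.subgroupOf M, ∀ b ∈ K.subgroupOf M, a * b = b * a := by
    intro a ha b hb
    exact Subtype.ext (hKc a ha b hb)
  have htop : commutator ↥M ⊔ K.subgroupOf M = ⊤ := by
    rw [eq_top_iff]
    intro m _
    obtain ⟨l, hl, k, hk, hmlk⟩ := hdec m m.2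
    have hlM : l ∈ M := (sup_le hUM hSM) hl
    have h1 : (⟨l, hlM⟩ : M) ∈ commutator ↥M := by
      have h2 : l ∈ ⁅M, M⁆ := hge hl
      rw [← map_subtype_commutator] at h2
      obtain ⟨z, hz, hzl⟩ := h2
      have : z = ⟨l, hlM⟩ := Subtype.ext hzl
      rwa [← this]
    have h3 : (⟨k, hKM hk⟩ : M) ∈ K.subgroupOf M := hk
    have : m = ⟨l, hlM⟩ * ⟨k, hKM hk⟩ := Subtype.ext hmlk
    rw [this]
    exact Subgroup.mul_mem _ (le_sup_left (b := K.subgroupOf M) h1)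
      (le_sup_right (a := commutator ↥M) h3)
  have hcop : (Nat.card ↥(K.subgroupOf M)).Coprime (Nat.card ↥(commutator ↥M)) := by
    rw [Nat.card_congr (Subgroup.subgroupOfEquivOfLe hKM).toEquiv]
    have h1 : Nat.card ↥(commutator ↥M) = Nat.card ↥⁅M, M⁆ := by
      rw [← map_subtype_commutator, Subgroup.card_map_of_injective M.subtype_injective]
    rw [h1, heq]
    have hdvd : Nat.card ↥(U ⊔ Cfsg.sigmaCore M) ∣ Nat.card (Cfsg.sigmaCore M) * Nat.card U := by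
      rw [sup_comm]
      exact Cfsg.Agent.Helper7.card_sup_dvd_mul_of_le_normalizer
        (hUM.trans (Cfsg.Agent.Helper7.BG16.le_normalizer_sigmaCore M))
    exact Nat.Coprime.coprime_dvd_right hdvd (Nat.Coprime.mul_right hcopKS hcopKU)
  have hmain := inf_centralizer_le_commutator (commutator ↥M) (K.subgroupOf M) rfl htop hAc hcop
  intro y hy
  obtain ⟨hyS, hyK⟩ := Subgroup.mem_inf.mp hy
  have hyM : y ∈ M := hSM hyS
  have hy1 : (⟨y, hyM⟩ : M) ∈ commutator ↥M := by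
    have h2 : y ∈ ⁅M, M⁆ := sigmaCore_le_commutator hG h04 hM hyS
    rw [← map_subtype_commutator] at h2
    obtain ⟨z, hz, hzl⟩ := h2
    have : z = ⟨y, hyM⟩ := Subtype.ext hzl
    rwa [← this]
  have hy2 : (⟨y, hyM⟩ : M) ∈ centralizer ((K.subgroupOf M : Subgroup M) : Set M) := by
    rw [Subgroup.mem_centralizer_iff]
    intro k hk
    exact Subtype.ext (Subgroup.mem_centralizer_iff.mp hyK (k : G) hk)
  have h3 := hmain ⟨hy1, hy2⟩
  have h4 : y ∈ (⁅commutator ↥M, commutator ↥M⁆).map M.subtype := ⟨⟨y, hyM⟩, h3, rfl⟩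
  rwa [Subgroup.map_commutator, map_subtype_commutator] at h4

end Cfsg.Agent.Helper19.BG16
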