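import Mathlib

set_option autoImplicit false

namespace Cfsg.Agent.Helper19

variable {G : Type*} [Group G]

/-- The index of `R ∩ T` in `T` divides the index of `R`, when `T` is normal (finite group). -/
theorem relIndex_dvd_index_of_normal_right [Finite G] (R T : Subgroup G) [T.Normal] :
    R.relIndex T ∣ R.index := by
  have h1 : (R ⊓ T).relIndex R * R.index = (R ⊓ T).index := Subgroup.relIndex_mul_index inf_le_left
  have h2 : (R ⊓ T).relIndex T * T.index = (R ⊓ T).index := Subgroup.relIndex_mul_index inf_le_right
  rw [Subgroup.inf_relIndex_left] at h1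
  rw [Subgroup.inf_relIndex_right] at h2
  obtain ⟨e, he⟩ := Subgroup.relIndex_dvd_index_of_normal T R
  have hpos : 0 < T.relIndex R := by
    rcases Nat.eq_zero_or_pos (T.relIndex R) with h | h
    · exfalso
      have : T.index = 0 := by rw [he, h, zero_mul]
      exact Subgroup.index_ne_zero_of_finite this
    · exact h
  refine ⟨e, ?_⟩
  have : T.relIndex R * R.index = T.relIndex R * (R.relIndex T * e) := by
    rw [h1, ← h2, he]; ring
  exact Nat.eq_of_mul_eq_mul_left hpos this

/-- The intersection of a Sylow subgroup with a normal subgroup is a Sylow subgroup of the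
normal subgroup. -/
theorem exists_sylow_inf_normal [Finite G] {r : ℕ} [Fact r.Prime] (R : Sylow r G) (T : Subgroup G)
    [T.Normal] : ∃ Q : Sylow r T, (Q : Subgroup T).map T.subtype = (R : Subgroup G) ⊓ T := by
  have hp : IsPGroup r ((R : Subgroup G).subgroupOf T) := R.2.comap_subtype
  have hidx : ¬ r ∣ ((R : Subgroup G).subgroupOf T).index := by
    intro h
    have h1 : (R : Subgroup G).relIndex T ∣ (R : Subgroup G).index :=
      relIndex_dvd_index_of_normal_right _ T
    exact R.not_dvd_index (dvd_trans h h1)
  refine ⟨hp.toSylow hidx, ?_⟩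
  rw [IsPGroup.toSylow_coe, Subgroup.subgroupOf_map_subtype]

/-- Frattini argument for the intersection of a Sylow subgroup with a normal subgroup. -/
theorem normalizer_inf_sup_eq_top [Finite G] {r : ℕ} [Fact r.Prime] (R : Sylow r G)
    (T : Subgroup G) [T.Normal] :
    Subgroup.normalizer (((R : Subgroup G) ⊓ T : Subgroup G) : Set G) ⊔ T = ⊤ := by
  obtain ⟨Q, hQ⟩ := exists_sylow_inf_normal R T
  have := Sylow.normalizer_sup_eq_top Q
  rw [hQ] at this
  exact this

/-- A subgroup normalizes its intersection with a normal subgroup. -/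
theorem le_normalizer_inf_normal (R T : Subgroup G) [hT : T.Normal] :
    Subgroup.normalizer (R : Set G) ≤ Subgroup.normalizer ((R ⊓ T : Subgroup G) : Set G) := by
  intro g hg
  rw [Subgroup.mem_normalizer_iff] at hg ⊢
  intro y
  simp only [Subgroup.mem_inf]
  rw [← hg y]
  constructor
  · rintro ⟨h1, h2⟩
    exact ⟨h1, hT.conj_mem y h2 g⟩
  · rintro ⟨h1, h2⟩
    refine ⟨h1, ?_⟩
    have := hT.conj_mem _ h2 g⁻¹
    simpa [mul_assoc] using this

/-- In a finite group every proper subgroup lies in a maximal subgroup. -/
theorem exists_coatom_ge [Finite G] (H : Subgroup G) (h : H ≠ ⊤) : ∃ M, IsCoatom M ∧ H ≤ M :=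
  (eq_top_or_exists_le_coatom H).resolve_left h

end Cfsg.Agent.Helper19
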