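import Mathlib

/-!
# S4291 (Frobenius complements: the normal subgroup with cyclic Sylow subgroups): shared definitions
(helper19)
-/

set_option autoImplicit false

namespace Cfsg.Agent.Helper19.FC5

/-- all Sylow subgroups are cyclic -/
def CycSyl (A : Type*) [Group A] : Prop :=
  ∀ (p : ℕ) [Fact p.Prime] (P : Sylow p A), IsCyclic P

/-- the alternatives for the quotient in S4291 -/
def QuotAlt {G : Type*} [Group G] (N : Subgroup G) : Prop :=
  N = ⊤ ∨
    (∃ f : G →* DihedralGroup 2, Function.Surjective f ∧ f.ker = N) ∨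
    (∃ f : G →* alternatingGroup (Fin 4), Function.Surjective f ∧ f.ker = N) ∨
    (∃ f : G →* Equiv.Perm (Fin 4), Function.Surjective f ∧ f.ker = N) ∨
    (∃ f : G →* alternatingGroup (Fin 5), Function.Surjective f ∧ f.ker = N) ∨
    (∃ f : G →* Equiv.Perm (Fin 5), Function.Surjective f ∧ f.ker = N)

end Cfsg.Agent.Helper19.FC5
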