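import Mathlib
import Cfsg.Prelude.Def_JComponents
import Cfsg.Agent.Lib.Helper4.ZJElementary
import Cfsg.Agent.Lib.Helper14.Ambient

/-!
# J(T)-components: set-up for S2946 (helper19)

`K` a `J(T)`-component, `J = J(T)`, `X = K ⊔ J`, `R = O₂(X)`, `S = R ⊔ J`, `V = Ω₁Z(R)`,
`W = W_K`.  This file: the hypotheses (`Comp`), abbreviations, conjugation toolkit and the first
structural facts (`K`, `O₂(K)`, `R` normal in `X`; `R ⊓ K = O₂(K)`; a normal subgroup of `X`
containing `J` is `X`; `J` is not inside `R`).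
-/

set_option autoImplicit false
set_option linter.unusedSectionVars false
set_option linter.unusedVariables false
set_option linter.style.haveILetI false
set_option linter.unusedSimpArgs false

namespace Cfsg.Agent.Helper19.JC

open Cfsg
open scoped commutatorElement

universe u

variable {G : Type u} [Group G]

/-! ## conjugation toolkit -/

theorem le_normalizer_of_conj_mem {H N : Subgroup G}
    (h : ∀ x ∈ H, ∀ n ∈ N, x * n * x⁻¹ ∈ N) : H ≤ Subgroup.normalizer (N : Set G) := by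
  intro x hx
  rw [Subgroup.mem_normalizer_iff]
  intro n
  constructor
  · exact h x hx n
  · intro hn
    have := h x⁻¹ (H.inv_mem hx) _ hn
    simpa [mul_assoc] using this

theorem conj_mem_of_le_normalizer {H N : Subgroup G} (h : H ≤ Subgroup.normalizer (N : Set G))
    {x n : G} (hx : x ∈ H) (hn : n ∈ N) : x * n * x⁻¹ ∈ N :=
  (Subgroup.mem_normalizer_iff.mp (h hx) n).mp hn

theorem conj_inv_mem_of_le_normalizer {H N : Subgroup G}
    (h : H ≤ Subgroup.normalizer (N : Set G))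
    {x n : G} (hx : x ∈ H) (hn : n ∈ N) : x⁻¹ * n * x ∈ N := by
  have := conj_mem_of_le_normalizer h (H.inv_mem hx) hn
  simpa using this

theorem sup_le_normalizer {H₁ H₂ N : Subgroup G} (h1 : H₁ ≤ Subgroup.normalizer (N : Set G))
    (h2 : H₂ ≤ Subgroup.normalizer (N : Set G)) : H₁ ⊔ H₂ ≤ Subgroup.normalizer (N : Set G) :=
  sup_le h1 h2

/-- a subgroup normalising `H` normalises `O_p(H)` -/
theorem le_normalizer_pCoreOf {p : ℕ} {L H : Subgroup G}
    (hn : L ≤ Subgroup.normalizer (H : Set G)) :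
    L ≤ Subgroup.normalizer (pCoreOf p H : Set G) := by
  apply le_normalizer_of_conj_mem
  intro l hl n hn'
  have h1 := Cfsg.Agent.Helper14.pCoreOf_map_equiv p (MulAut.conj l) H
  have h2 : H.map (MulAut.conj l).toMonoidHom = H := by
    ext y
    constructor
    · rintro ⟨z, hz, rfl⟩
      exact conj_mem_of_le_normalizer hn hl hz
    · intro hy
      refine ⟨l⁻¹ * y * l, conj_inv_mem_of_le_normalizer hn hl hy, ?_⟩
      simp [mul_assoc]
  rw [h2] at h1
  rw [h1]
  exact ⟨n, hn', rfl⟩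

/-! ## `Ω₁Z(X)` -/

theorem mem_omegaCenterOf_iff (X : Subgroup G) (x : G) :
    x ∈ omegaCenterOf X ↔ x ∈ X ∧ (∀ y ∈ X, y * x = x * y) ∧ x ^ 2 = 1 := by
  unfold omegaCenterOf omegaOne
  set Z : Subgroup G :=
    { carrier := {x | x ∈ X ∧ (∀ y ∈ X, y * x = x * y) ∧ x ^ 2 = 1}
      one_mem' := ⟨X.one_mem, fun y _ => by simp, one_pow 2⟩
      mul_mem' := by
        rintro a b ⟨ha, hac, ha2⟩ ⟨hb, hbc, hb2⟩
        refine ⟨X.mul_mem ha hb, ?_, ?_⟩
        · intro y hy
          rw [← mul_assoc, hac y hy, mul_assoc, hbc y hy, mul_assoc]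
        · have hcomm : Commute a b := (hac b hb).symm
          rw [hcomm.mul_pow, ha2, hb2, one_mul]
      inv_mem' := by
        rintro a ⟨ha, hac, ha2⟩
        refine ⟨X.inv_mem ha, ?_, ?_⟩
        · intro y hy
          have := hac y hy
          calc y * a⁻¹ = a⁻¹ * (a * y) * a⁻¹ := by group
            _ = a⁻¹ * (y * a) * a⁻¹ := by rw [this]
            _ = a⁻¹ * y := by group
        · rw [inv_pow, ha2, inv_one] } with hZ
  have hgen : {x : G | x ∈ X ⊓ Subgroup.centralizer (X : Set G) ∧ x ^ 2 = 1} = (Z : Set G) := by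
    ext y
    constructor
    · rintro ⟨hy, hy2⟩
      obtain ⟨h1, h2⟩ := Subgroup.mem_inf.mp hy
      rw [Subgroup.mem_centralizer_iff] at h2
      exact ⟨h1, fun z hz => h2 z hz, hy2⟩
    · rintro ⟨h1, h2, h3⟩
      refine ⟨Subgroup.mem_inf.mpr ⟨h1, ?_⟩, h3⟩
      rw [Subgroup.mem_centralizer_iff]
      exact fun z hz => h2 z hz
  rw [hgen, Subgroup.closure_eq]
  rfl

theorem omegaCenterOf_le (X : Subgroup G) : omegaCenterOf X ≤ X := fun x hx =>
  ((mem_omegaCenterOf_iff X x).mp hx).1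

/-- anything normalising `X` normalises `Ω₁Z(X)` -/
theorem le_normalizer_omegaCenterOf {L X : Subgroup G}
    (hn : L ≤ Subgroup.normalizer (X : Set G)) :
    L ≤ Subgroup.normalizer (omegaCenterOf X : Set G) := by
  apply le_normalizer_of_conj_mem
  intro l hl n hn'
  rw [mem_omegaCenterOf_iff] at hn' ⊢
  obtain ⟨h1, h2, h3⟩ := hn'
  refine ⟨conj_mem_of_le_normalizer hn hl h1, ?_, ?_⟩
  · intro y hy
    have hy' : l⁻¹ * y * l ∈ X := conj_inv_mem_of_le_normalizer hn hl hy
    have := h2 _ hy'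
    calc y * (l * n * l⁻¹) = l * ((l⁻¹ * y * l) * n) * l⁻¹ := by group
      _ = l * (n * (l⁻¹ * y * l)) * l⁻¹ := by rw [this]
      _ = l * n * l⁻¹ * y := by group
  · rw [conj_pow, h3]
    simp

/-! ## the set-up -/

/-- the hypotheses on a `J(T)`-component `K` (with `J = J(T)`) that do not mention Thompson
subgroups of other groups -/
structure Comp (K J : Subgroup G) : Prop where
  hJ : IsPGroup 2 J
  hodd : Subgroup.closure {g : G | g ∈ K ∧ Odd (orderOf g)} = K
  hcomm : ⁅K, J⁆ = K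
  hidx : (pCoreOf 2 K).relIndex K = 3
  hW4 : Nat.card (wOf K) = 4
  hW2 : ∀ w ∈ wOf K, w * w = 1

/-- `R = O₂(X)`, `X = K ⊔ J` -/
abbrev RR (K J : Subgroup G) : Subgroup G := pCoreOf 2 (K ⊔ J)

/-- `S = R J` -/
abbrev SS (K J : Subgroup G) : Subgroup G := pCoreOf 2 (K ⊔ J) ⊔ J

/-- `V = Ω₁Z(R)` -/
abbrev VV (K J : Subgroup G) : Subgroup G := omegaCenterOf (pCoreOf 2 (K ⊔ J))

theorem comp_of_isJComponent [Finite G] {T K : Subgroup G} (hT : IsPGroup 2 T)
    (hK : IsJComponent T K) : Comp K (thompsonSubgroupOf 2 T) where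
  hJ := hT.to_le (Cfsg.Agent.Helper4.ZJ.thompsonSubgroupOf_le_self T)
  hodd := hK.1
  hcomm := hK.2.1
  hidx := hK.2.2.1
  hW4 := hK.2.2.2.2.1
  hW2 := hK.2.2.2.2.2

variable {K J : Subgroup G}

/-- `J` normalises `⁅K, J⁆` -/
theorem right_le_normalizer_commutator (K J : Subgroup G) :
    J ≤ Subgroup.normalizer ((⁅K, J⁆ : Subgroup G) : Set G) := by
  apply le_normalizer_of_conj_mem
  intro j hj n hn
  have hle : ⁅K, J⁆ ≤ (⁅K, J⁆ : Subgroup G).comap (MulAut.conj j).toMonoidHom := by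
    rw [Subgroup.commutator_le]
    intro k hk j' hj'
    rw [Subgroup.mem_comap]
    have h1 : (MulAut.conj j).toMonoidHom ⁅k, j'⁆ = ⁅k, j⁆⁻¹ * ⁅k, j * j'⁆ := by
      simp only [MulEquiv.coe_toMonoidHom, MulAut.conj_apply, commutatorElement_def]
      group
    rw [h1]
    exact Subgroup.mul_mem _ (Subgroup.inv_mem _ (Subgroup.commutator_mem_commutator hk hj))
      (Subgroup.commutator_mem_commutator hk (J.mul_mem hj hj'))
  have := hle hn
  rw [Subgroup.mem_comap] at this
  simpa using this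

theorem Comp.J_le_normalizer_K (c : Comp K J) : J ≤ Subgroup.normalizer (K : Set G) := by
  have := right_le_normalizer_commutator K J
  rwa [c.hcomm] at this

theorem Comp.le_normalizer_K (c : Comp K J) : K ⊔ J ≤ Subgroup.normalizer (K : Set G) :=
  sup_le Subgroup.le_normalizer c.J_le_normalizer_K

theorem Comp.le_normalizer_P0 (c : Comp K J) :
    K ⊔ J ≤ Subgroup.normalizer (pCoreOf 2 K : Set G) :=
  le_normalizer_pCoreOf c.le_normalizer_K

theorem Comp.le_normalizer_R (c : Comp K J) :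
    K ⊔ J ≤ Subgroup.normalizer (RR K J : Set G) :=
  Cfsg.Agent.Helper14.le_normalizer_pCoreOf 2 (K ⊔ J)

theorem Comp.R_le_X (c : Comp K J) : RR K J ≤ K ⊔ J := Cfsg.Agent.Helper14.pCoreOf_le 2 _

theorem Comp.isPGroup_R (c : Comp K J) : IsPGroup 2 (RR K J) :=
  Cfsg.Agent.Helper14.pCoreOf_isPGroup 2 _

theorem Comp.P0_le_K (c : Comp K J) : pCoreOf 2 K ≤ K := Cfsg.Agent.Helper14.pCoreOf_le 2 _

theorem Comp.P0_le_R (c : Comp K J) : pCoreOf 2 K ≤ RR K J :=
  Cfsg.Agent.Helper14.le_pCoreOf (c.P0_le_K.trans le_sup_left) c.le_normalizer_P0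
    (Cfsg.Agent.Helper14.pCoreOf_isPGroup 2 K)

theorem Comp.R_inf_K (c : Comp K J) : RR K J ⊓ K = pCoreOf 2 K := by
  apply le_antisymm
  · apply Cfsg.Agent.Helper14.le_pCoreOf inf_le_right
    · apply le_normalizer_of_conj_mem
      intro k hk n hn
      exact ⟨conj_mem_of_le_normalizer c.le_normalizer_R (Subgroup.mem_sup_left hk) hn.1,
        K.mul_mem (K.mul_mem hk hn.2) (K.inv_mem hk)⟩
    · exact c.isPGroup_R.to_le inf_le_left
  · exact le_inf c.P0_le_R c.P0_le_K

/-- `V` is normalised by `X` -/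
theorem Comp.le_normalizer_V (c : Comp K J) :
    K ⊔ J ≤ Subgroup.normalizer (VV K J : Set G) :=
  le_normalizer_omegaCenterOf c.le_normalizer_R

theorem Comp.V_le_R (c : Comp K J) : VV K J ≤ RR K J := omegaCenterOf_le _

/-- a subgroup normalised by `X = K ⊔ J` and containing `J` contains `X` -/
theorem Comp.le_of_normal (c : Comp K J) (C : Subgroup G)
    (hC : K ⊔ J ≤ Subgroup.normalizer (C : Set G)) (hJC : J ≤ C) : K ⊔ J ≤ C := by
  apply sup_le _ hJC
  rw [← c.hcomm, Subgroup.commutator_le]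
  intro k hk j hj
  rw [commutatorElement_def]
  exact C.mul_mem (conj_mem_of_le_normalizer hC (Subgroup.mem_sup_left hk) (hJC hj))
    (C.inv_mem (hJC hj))

/-- `K` is not a `2`-group -/
theorem Comp.K_ne_P0 (c : Comp K J) : ¬ K ≤ pCoreOf 2 K := by
  intro h
  have := Subgroup.relIndex_eq_one.mpr h
  rw [c.hidx] at this
  norm_num at this

theorem Comp.K_not_le_R (c : Comp K J) : ¬ K ≤ RR K J := by
  intro h
  apply c.K_ne_P0
  rw [← c.R_inf_K]
  exact le_inf h le_rfl

theorem Comp.J_not_le_R (c : Comp K J) : ¬ J ≤ RR K J := by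
  intro h
  apply c.K_not_le_R
  have := c.le_of_normal (RR K J) c.le_normalizer_R h
  exact le_sup_left.trans this

theorem Comp.R_le_S (c : Comp K J) : RR K J ≤ SS K J := le_sup_left

theorem Comp.J_le_S (c : Comp K J) : J ≤ SS K J := le_sup_right

theorem Comp.S_le_X (c : Comp K J) : SS K J ≤ K ⊔ J := sup_le c.R_le_X le_sup_right

theorem Comp.isPGroup_S (c : Comp K J) : IsPGroup 2 (SS K J) :=
  IsPGroup.to_sup_of_normal_left' c.isPGroup_R c.hJ (le_sup_right.trans c.le_normalizer_R)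

end Cfsg.Agent.Helper19.JC
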