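import Mathlib

/-!
# Basic lemmas on centralizers for class-size arguments (helper19's shared library)
-/

set_option autoImplicit false

namespace Cfsg.Agent.Helper19.ClassSize

variable {G : Type*} [Group G]

/-- the centralizer of an element -/
abbrev Cz (x : G) : Subgroup G := Subgroup.centralizer ({x} : Set G)

theorem mem_Cz {x g : G} : g ∈ Cz x ↔ x * g = g * x := by
  rw [Subgroup.mem_centralizer_iff]
  constructor
  · intro h; exact h x rfl
  · intro h y hy
    rw [Set.mem_singleton_iff] at hy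
    rw [hy]; exact h

theorem self_mem_Cz (x : G) : x ∈ Cz x := mem_Cz.mpr rfl

theorem center_le_Cz (x : G) : Subgroup.center G ≤ Cz x := by
  intro z hz
  rw [mem_Cz]
  exact (Subgroup.mem_center_iff.mp hz x)

theorem Cz_eq_top_iff {x : G} : Cz x = ⊤ ↔ x ∈ Subgroup.center G := by
  constructor
  · intro h
    rw [Subgroup.mem_center_iff]
    intro g
    have : g ∈ Cz x := by rw [h]; exact Subgroup.mem_top g
    exact (mem_Cz.mp this).symm
  · intro h
    rw [eq_top_iff]
    intro g _
    rw [mem_Cz]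
    exact (Subgroup.mem_center_iff.mp h g).symm

theorem Cz_pow_le (x : G) (k : ℕ) : Cz x ≤ Cz (x ^ k) := by
  intro g hg
  rw [mem_Cz] at hg ⊢
  have : Commute x g := hg
  exact (this.pow_left k)

theorem Cz_mul_central {x c : G} (hc : c ∈ Subgroup.center G) : Cz (x * c) = Cz x := by
  ext g
  rw [mem_Cz, mem_Cz]
  have h1 := Subgroup.mem_center_iff.mp hc g
  constructor
  · intro h
    have : x * g * c = g * x * c := by
      calc x * g * c = x * (g * c) := by group
        _ = x * (c * g) := by rw [h1]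
        _ = x * c * g := by group
        _ = g * (x * c) := h
        _ = g * x * c := by group
    exact mul_right_cancel this
  · intro h
    calc x * c * g = x * (c * g) := by group
      _ = x * (g * c) := by rw [h1]
      _ = (x * g) * c := by group
      _ = (g * x) * c := by rw [h]
      _ = g * (x * c) := by group

/-- commuting elements of coprime orders: `x` is a power of `x * y` -/
theorem exists_pow_eq_left [Finite G] {x y : G} (hc : Commute x y)
    (hxy : (orderOf x).Coprime (orderOf y)) : ∃ k : ℕ, (x * y) ^ k = x := by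
  by_cases h1 : orderOf x = 1
  · refine ⟨orderOf y, ?_⟩
    rw [orderOf_eq_one_iff] at h1
    rw [h1, one_mul, pow_orderOf_eq_one]
  · have hpos : 0 < orderOf x := orderOf_pos x
    have hlt : 1 < orderOf x := by omega
    obtain ⟨m, _, hm⟩ := Nat.exists_mul_mod_eq_one_of_coprime hxy.symm hlt
    refine ⟨orderOf y * m, ?_⟩
    rw [hc.mul_pow, pow_mul y, pow_orderOf_eq_one, one_pow, mul_one]
    rw [← pow_mod_orderOf, hm, pow_one]

theorem Cz_mul_of_coprime [Finite G] {x y : G} (hc : Commute x y)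
    (hxy : (orderOf x).Coprime (orderOf y)) : Cz (x * y) = Cz x ⊓ Cz y := by
  apply le_antisymm
  · obtain ⟨k, hk⟩ := exists_pow_eq_left hc hxy
    obtain ⟨l, hl⟩ := exists_pow_eq_left hc.symm hxy.symm
    rw [← hc.eq] at hl
    intro g hg
    refine Subgroup.mem_inf.mpr ⟨?_, ?_⟩
    · have := Cz_pow_le (x * y) k hg
      rwa [hk] at this
    · have := Cz_pow_le (x * y) l hg
      rwa [hl] at this
  · intro g hg
    obtain ⟨h1, h2⟩ := Subgroup.mem_inf.mp hg
    rw [mem_Cz] at h1 h2 ⊢
    calc x * y * g = x * (y * g) := by group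
      _ = x * (g * y) := by rw [h2]
      _ = (x * g) * y := by group
      _ = (g * x) * y := by rw [h1]
      _ = g * (x * y) := by group

/-- decomposition of an element into its `p`-part and `p'`-part, both powers of it -/
theorem exists_pow_decomp [Finite G] (w : G) (p : ℕ) (hp : p.Prime) :
    ∃ a b : ℕ, w = w ^ a * w ^ b ∧ (∃ i, orderOf (w ^ a) = p ^ i) ∧
      (orderOf (w ^ b)).Coprime p ∧ orderOf (w ^ b) ∣ ordCompl[p] (orderOf w) := by
  set m := orderOf w with hm
  have hm0 : m ≠ 0 := (orderOf_pos w).ne'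
  set pe := ordProj[p] m with hpe
  set m' := ordCompl[p] m with hm'
  have hmul : pe * m' = m := Nat.ordProj_mul_ordCompl_eq_self m p
  have hco : pe.Coprime m' := by
    rw [hpe]
    exact Nat.Coprime.pow_left _ (Nat.coprime_ordCompl hp hm0)
  let a := (Nat.chineseRemainder hco 1 0 : ℕ)
  let b := (Nat.chineseRemainder hco 0 1 : ℕ)
  have ha := (Nat.chineseRemainder hco 1 0).2
  have hb := (Nat.chineseRemainder hco 0 1).2
  refine ⟨a, b, ?_, ?_, ?_, ?_⟩
  · rw [← pow_add]
    have h1 : a + b ≡ 1 [MOD pe] := by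
      have := Nat.ModEq.add ha.1 hb.1
      simpa using this
    have h2 : a + b ≡ 1 [MOD m'] := by
      have := Nat.ModEq.add ha.2 hb.2
      simpa using this
    have h3 : a + b ≡ 1 [MOD pe * m'] := (Nat.modEq_and_modEq_iff_modEq_mul hco).mp ⟨h1, h2⟩
    rw [hmul] at h3
    have := (pow_eq_pow_iff_modEq (x := w)).mpr h3
    rw [this, pow_one]
  · have h1 : (w ^ a) ^ pe = 1 := by
      rw [← pow_mul]
      apply orderOf_dvd_iff_pow_eq_one.mp
      rw [← hm, ← hmul, mul_comm a pe]
      apply mul_dvd_mul_left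
      exact (Nat.modEq_zero_iff_dvd).mp ha.2
    have h2 : orderOf (w ^ a) ∣ p ^ (m.factorization p) := orderOf_dvd_of_pow_eq_one h1
    obtain ⟨i, _, hi⟩ := (Nat.dvd_prime_pow hp).mp h2
    exact ⟨i, hi⟩
  · have h1 : (w ^ b) ^ m' = 1 := by
      rw [← pow_mul]
      apply orderOf_dvd_iff_pow_eq_one.mp
      rw [← hm, ← hmul, mul_comm pe m', mul_comm b m']
      apply mul_dvd_mul_left
      exact (Nat.modEq_zero_iff_dvd).mp hb.1
    have h2 : orderOf (w ^ b) ∣ m' := orderOf_dvd_of_pow_eq_one h1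
    exact Nat.Coprime.coprime_dvd_left h2 (Nat.coprime_ordCompl hp hm0).symm
  · have h1 : (w ^ b) ^ m' = 1 := by
      rw [← pow_mul]
      apply orderOf_dvd_iff_pow_eq_one.mp
      rw [← hm, ← hmul, mul_comm pe m', mul_comm b m']
      apply mul_dvd_mul_left
      exact (Nat.modEq_zero_iff_dvd).mp hb.1
    exact orderOf_dvd_of_pow_eq_one h1

section EqualOrders

variable [Finite G] {μ : ℕ} (hC : ∀ x : G, x ∉ Subgroup.center G → Nat.card (Cz x) = μ)

include hC

theorem Cz_eq_of_le {x y : G} (hx : x ∉ Subgroup.center G) (hy : y ∉ Subgroup.center G)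
    (hle : Cz x ≤ Cz y) : Cz x = Cz y :=
  Subgroup.eq_of_le_of_card_ge hle (by rw [hC x hx, hC y hy])

/-- a `p'`-element of the centralizer of a noncentral `p`-element is central in that centralizer -/
theorem Cz_le_of_coprime {x y : G} (hx : x ∉ Subgroup.center G) (hy : y ∈ Cz x)
    (hxy : (orderOf x).Coprime (orderOf y)) : Cz x ≤ Cz y := by
  have hc : Commute x y := mem_Cz.mp hy
  have hxyZ : x * y ∉ Subgroup.center G := by
    intro h
    obtain ⟨k, hk⟩ := exists_pow_eq_left hc hxy
    apply hx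
    rw [← hk]
    exact Subgroup.pow_mem _ h k
  have h1 : Cz (x * y) = Cz x ⊓ Cz y := Cz_mul_of_coprime hc hxy
  have h2 : Cz (x * y) = Cz x := Cz_eq_of_le hC hxyZ hx (by rw [h1]; exact inf_le_left)
  rw [← h2, h1]
  exact inf_le_right

/-- If a noncentral `p`-element commutes with a noncentral `q`-element (`p ≠ q`), their common
centralizer is abelian. -/
theorem abelian_of_two_primes {x y : G} {p q : ℕ} (hp : p.Prime) (hq : q.Prime) (hpq : p ≠ q)
    (hx : x ∉ Subgroup.center G) (hy : y ∉ Subgroup.center G) (hxy : y ∈ Cz x)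
    (hxp : ∃ i, orderOf x = p ^ i) (hyq : ∃ j, orderOf y = q ^ j) :
    Cz x = Cz y ∧ ∀ a ∈ Cz x, ∀ b ∈ Cz x, a * b = b * a := by
  obtain ⟨i, hi⟩ := hxp
  obtain ⟨j, hj⟩ := hyq
  have hcop : (orderOf x).Coprime (orderOf y) := by
    rw [hi, hj]
    exact Nat.Coprime.pow _ _ ((Nat.coprime_primes hp hq).mpr hpq)
  have h1 : Cz x ≤ Cz y := Cz_le_of_coprime hC hx hxy hcop
  have h2 : Cz x = Cz y := Cz_eq_of_le hC hx hy h1
  refine ⟨h2, ?_⟩
  intro a ha b hb
  obtain ⟨a1, a2, hdec, ⟨k, hk⟩, hcop2, _⟩ := exists_pow_decomp a p hp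
  have ha1 : a ^ a1 ∈ Cz x := Subgroup.pow_mem _ ha a1
  have ha2 : a ^ a2 ∈ Cz x := Subgroup.pow_mem _ ha a2
  -- the `p'`-part is central in `Cz x`
  have e2 : Cz x ≤ Cz (a ^ a2) := by
    apply Cz_le_of_coprime hC hx ha2
    rw [hi]
    exact Nat.Coprime.pow_left _ hcop2.symm
  -- the `p`-part is a `q'`-element, central in `Cz y = Cz x`
  have e1 : Cz y ≤ Cz (a ^ a1) := by
    apply Cz_le_of_coprime hC hy (by rw [← h2]; exact ha1)
    rw [hj, hk]
    exact Nat.Coprime.pow _ _ ((Nat.coprime_primes hq hp).mpr hpq.symm)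
  have hb1 : b ∈ Cz (a ^ a1) := e1 (by rw [← h2]; exact hb)
  have hb2 : b ∈ Cz (a ^ a2) := e2 hb
  rw [mem_Cz] at hb1 hb2
  rw [hdec]
  calc a ^ a1 * a ^ a2 * b = a ^ a1 * (a ^ a2 * b) := by group
    _ = a ^ a1 * (b * a ^ a2) := by rw [hb2]
    _ = (a ^ a1 * b) * a ^ a2 := by group
    _ = (b * a ^ a1) * a ^ a2 := by rw [hb1]
    _ = b * (a ^ a1 * a ^ a2) := by group

end EqualOrders


/-! ### counting tools -/

/-- if all stabilizers have index divisible by `d`, then `d` divides the size of the set -/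
theorem dvd_card_of_dvd_index {α X : Type*} [Group α] [Finite α] [MulAction α X] [Finite X]
    (d : ℕ)
    (h : ∀ x : X, d ∣ (MulAction.stabilizer α x).index) : d ∣ Nat.card X := by
  classical
  have : Fintype (MulAction.orbitRel.Quotient α X) := Fintype.ofFinite _
  rw [Nat.card_congr (MulAction.selfEquivSigmaOrbitsQuotientStabilizer α X), Nat.card_sigma]
  apply Finset.dvd_sum
  intro ω _
  rw [← Subgroup.index_eq_card]
  exact h _

/-- conjugation action of a subgroup on an invariant subset -/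
@[reducible] def conjActOn (T : Subgroup G) (U : Set G)
    (hU : ∀ t ∈ T, ∀ u ∈ U, t * u * t⁻¹ ∈ U) : MulAction T U where
  smul t u := ⟨(t : G) * u * (t : G)⁻¹, hU t t.2 u u.2⟩
  one_smul u := by
    apply Subtype.ext
    show ((1 : T) : G) * u * ((1 : T) : G)⁻¹ = u
    simp
  mul_smul a b u := by
    apply Subtype.ext
    show ((a * b : T) : G) * u * ((a * b : T) : G)⁻¹
      = (a : G) * ((b : G) * u * (b : G)⁻¹) * (a : G)⁻¹
    simp [mul_assoc]

theorem dvd_card_of_conj [Finite G] {T : Subgroup G} {U : Set G}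
    (hU : ∀ t ∈ T, ∀ u ∈ U, t * u * t⁻¹ ∈ U) (d : ℕ)
    (h : ∀ u ∈ U, d ∣ (Cz u).relIndex T) : d ∣ Nat.card U := by
  let _ : MulAction T U := conjActOn T U hU
  apply dvd_card_of_dvd_index (α := T) d
  intro u
  have : MulAction.stabilizer T u = (Cz (u : G)).subgroupOf T := by
    ext t
    rw [MulAction.mem_stabilizer_iff, Subgroup.mem_subgroupOf, mem_Cz]
    constructor
    · intro h1
      have h2 : (t : G) * u * (t : G)⁻¹ = u := congrArg Subtype.val h1
      calc (u : G) * t = ((t : G) * u * (t : G)⁻¹) * t := by rw [h2]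
        _ = t * u := by group
    · intro h1
      apply Subtype.ext
      show (t : G) * u * (t : G)⁻¹ = u
      rw [← h1]; group
  rw [this]
  exact h u u.2

/-- number of `s`-elements of a finite commutative group -/
theorem card_sElements_comm {A : Type*} [CommGroup A] [Finite A] (s : ℕ) [hs : Fact s.Prime] :
    Nat.card {u : A // ∃ k : ℕ, u ^ s ^ k = 1} = s ^ (Nat.card A).factorization s := by
  obtain ⟨S⟩ : Nonempty (Sylow s A) := inferInstance
  have hS : ∀ u : A, (∃ k : ℕ, u ^ s ^ k = 1) ↔ u ∈ (S : Subgroup A) := by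
    intro u
    constructor
    · rintro ⟨k, hk⟩
      have hp : IsPGroup s (Subgroup.zpowers u) := by
        rintro ⟨v, hv⟩
        refine ⟨k, ?_⟩
        obtain ⟨j, rfl⟩ := Subgroup.mem_zpowers_iff.mp hv
        apply Subtype.ext
        show (u ^ j) ^ s ^ k = 1
        rw [← zpow_natCast, ← zpow_mul, mul_comm, zpow_mul, zpow_natCast, hk, one_zpow]
      have := hp.le_sylow_of_normal S
      exact this (Subgroup.mem_zpowers u)
    · intro hu
      obtain ⟨k, hk⟩ := S.isPGroup' ⟨u, hu⟩
      exact ⟨k, by simpa using congrArg Subtype.val hk⟩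
  rw [← S.card_eq_multiplicity]
  exact Nat.card_congr (Equiv.subtypeEquivRight hS)

/-- the set of `s`-elements of a subgroup -/
def sElts (H : Subgroup G) (s : ℕ) : Set G := {u | u ∈ H ∧ ∃ k : ℕ, u ^ s ^ k = 1}

theorem ncard_sElts [Finite G] (H : Subgroup G) (hH : ∀ a ∈ H, ∀ b ∈ H, a * b = b * a)
    (s : ℕ) [hs : Fact s.Prime] :
    (sElts H s).ncard = s ^ (Nat.card H).factorization s := by
  let _ : CommGroup H :=
    { (inferInstance : Group H) with
      mul_comm := fun a b => Subtype.ext (hH a a.2 b b.2) }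
  have h1 := card_sElements_comm (A := H) s
  rw [← h1]
  have h2 : sElts H s = Subtype.val '' {u : H | ∃ k : ℕ, u ^ s ^ k = 1} := by
    ext u
    simp only [sElts, Set.mem_ofPred_eq, Set.mem_image]
    constructor
    · rintro ⟨hu, k, hk⟩
      exact ⟨⟨u, hu⟩, ⟨k, Subtype.ext hk⟩, rfl⟩
    · rintro ⟨v, ⟨k, hk⟩, rfl⟩
      exact ⟨v.2, k, by simpa using congrArg Subtype.val hk⟩
  rw [h2, Set.ncard_image_of_injective _ Subtype.val_injective]
  rfl


/-- if all elements of prime power order `q ^ i`, for the primes `q` dividing the order of `g`,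
are central, then `g` is central -/
theorem central_of_primary_central [Finite G] (g : G)
    (h : ∀ q : ℕ, q.Prime → q ∣ orderOf g → ∀ u : G, (∃ i, orderOf u = q ^ i) →
      u ∈ Subgroup.center G) : g ∈ Subgroup.center G := by
  induction' hk : orderOf g using Nat.strong_induction_on with k ih generalizing g
  by_cases h1 : orderOf g = 1
  · rw [orderOf_eq_one_iff] at h1
    rw [h1]; exact Subgroup.one_mem _
  · obtain ⟨q, hq, hqd⟩ := Nat.exists_prime_and_dvd h1
    obtain ⟨a, b, hdec, hpa, _, hdvd⟩ := exists_pow_decomp g q hq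
    have ha : g ^ a ∈ Subgroup.center G := h q hq hqd _ hpa
    have hpos : 0 < orderOf g := orderOf_pos g
    have hb : g ^ b ∈ Subgroup.center G := by
      apply ih (orderOf (g ^ b)) ?_ (g ^ b) ?_ rfl
      · rw [← hk]
        have h2 : ordCompl[q] (orderOf g) < orderOf g := by
          apply Nat.div_lt_self hpos
          apply Nat.one_lt_pow _ hq.one_lt
          exact (hq.factorization_pos_of_dvd hpos.ne' hqd).ne'
        have h3 : 0 < ordCompl[q] (orderOf g) := Nat.ordCompl_pos q hpos.ne'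
        exact lt_of_le_of_lt (Nat.le_of_dvd h3 hdvd) h2
      · intro q' hq' hq'd u hu
        exact h q' hq' (dvd_trans hq'd (orderOf_pow_dvd b)) u hu
    rw [hdec]
    exact Subgroup.mul_mem _ ha hb

end Cfsg.Agent.Helper19.ClassSize
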