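import Mathlib
import Cfsg.Agent.Lib.Helper19.ClassSize

/-!
# Normal subgroups all of whose noncentral elements have maximal centralizers: basic tools
(helper19's shared library)
-/

set_option autoImplicit false

namespace Cfsg.Agent.Helper19.MaxCent

open Cfsg.Agent.Helper19.ClassSize

variable {G : Type*} [Group G]

/-! ### coatoms -/

theorem coatom_cases {M : Subgroup G} (hM : IsCoatom M) (T : Subgroup G) :
    T ≤ M ∨ T ⊔ M = ⊤ := by
  by_cases h : T ≤ M
  · exact Or.inl h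
  · right
    apply hM.2
    exact lt_of_le_of_ne le_sup_right (fun h2 => h (le_sup_left.trans h2.ge))

theorem coatom_eq_of_le {M M' : Subgroup G} (hM : IsCoatom M) (hM' : IsCoatom M')
    (h : M ≤ M') : M = M' := by
  by_contra hne
  exact hM'.1 (hM.2 M' (lt_of_le_of_ne h hne))

theorem exists_mul_of_sup_eq_top (B C : Subgroup G) [B.Normal] (h : B ⊔ C = ⊤) (x : G) :
    ∃ b ∈ B, ∃ c ∈ C, x = b * c := by
  have hx : x ∈ ((B ⊔ C : Subgroup G) : Set G) := by
    rw [h]; exact Set.mem_univ x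
  rw [Subgroup.normal_mul] at hx
  obtain ⟨b, hb, c, hc, rfl⟩ := Set.mem_mul.mp hx
  exact ⟨b, hb, c, hc, rfl⟩

theorem exists_mul_of_sup_eq_top_in (N T M : Subgroup G) [T.Normal] (hTN : T ≤ N)
    (h : T ⊔ M = ⊤) {a : G} (ha : a ∈ N) : ∃ t ∈ T, ∃ m ∈ N ⊓ M, a = t * m := by
  obtain ⟨t, ht, m, hm, rfl⟩ := exists_mul_of_sup_eq_top T M h a
  refine ⟨t, ht, m, Subgroup.mem_inf.mpr ⟨?_, hm⟩, rfl⟩
  have : m = t⁻¹ * (t * m) := by group
  rw [this]
  exact N.mul_mem (N.inv_mem (hTN ht)) ha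

/-! ### the centre of `N` inside `G` -/

/-- the centre of `N`, as a subgroup of `G` -/
def ZN (N : Subgroup G) : Subgroup G := N ⊓ Subgroup.centralizer (N : Set G)

theorem mem_ZN {N : Subgroup G} {z : G} : z ∈ ZN N ↔ z ∈ N ∧ ∀ n ∈ N, n * z = z * n := by
  unfold ZN
  rw [Subgroup.mem_inf, Subgroup.mem_centralizer_iff]
  rfl

theorem ZN_le (N : Subgroup G) : ZN N ≤ N := inf_le_left

instance ZN_normal (N : Subgroup G) [N.Normal] : (ZN N).Normal := by
  unfold ZN; infer_instance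

theorem ZN_le_Cz {N : Subgroup G} {x : G} (hx : x ∈ N) : ZN N ≤ Cz x := by
  intro z hz
  rw [mem_Cz]
  exact (mem_ZN.mp hz).2 x hx

theorem exists_not_mem_Cz {N : Subgroup G} {x : G} (hx : x ∈ N) (hxZ : x ∉ ZN N) :
    ∃ n ∈ N, n ∉ Cz x := by
  by_contra hcon
  push Not at hcon
  apply hxZ
  rw [mem_ZN]
  refine ⟨hx, fun n hn => ?_⟩
  exact (mem_Cz.mp (hcon n hn)).symm

/-- all noncentral elements of `N` have maximal centralizers in `G` -/
def MaxC (N : Subgroup G) : Prop := ∀ x ∈ N, x ∉ ZN N → IsCoatom (Cz x)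

theorem sup_Cz_eq_top {N : Subgroup G} (hN : MaxC N) {x : G} (hx : x ∈ N) (hxZ : x ∉ ZN N) :
    N ⊔ Cz x = ⊤ := by
  rcases coatom_cases (hN x hx hxZ) N with h | h
  · obtain ⟨n, hn, hn2⟩ := exists_not_mem_Cz hx hxZ
    exact absurd (h hn) hn2
  · exact h

theorem conj_mem_Cz {y m : G} (n : G) (hm : m ∈ Cz y) : n * m * n⁻¹ ∈ Cz (n * y * n⁻¹) := by
  rw [mem_Cz] at hm ⊢
  calc n * y * n⁻¹ * (n * m * n⁻¹) = n * (y * m) * n⁻¹ := by group
    _ = n * (m * y) * n⁻¹ := by rw [hm]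
    _ = n * m * n⁻¹ * (n * y * n⁻¹) := by group

theorem normal_of_conj_mem (N M : Subgroup G) [N.Normal] (hNM : N ⊔ M = ⊤)
    (h : ∀ n ∈ N, ∀ m ∈ M, n * m * n⁻¹ ∈ M) : M.Normal := by
  constructor
  intro m hm g
  obtain ⟨n, hn, m', hm', rfl⟩ := exists_mul_of_sup_eq_top N M hNM g
  have h1 : m' * m * m'⁻¹ ∈ M := M.mul_mem (M.mul_mem hm' hm) (M.inv_mem hm')
  have h2 := h n hn _ h1
  have : n * m' * m * (n * m')⁻¹ = n * (m' * m * m'⁻¹) * n⁻¹ := by group
  rw [this]; exact h2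

/-! ### power identities -/

theorem mul_pow_of_central {x y c : G} (h : y * x = x * y * c) (hcx : Commute c x)
    (k : ℕ) : y * x ^ k = x ^ k * y * c ^ k := by
  induction k with
  | zero => simp
  | succ k ih =>
    calc y * x ^ (k + 1) = (y * x ^ k) * x := by rw [pow_succ]; group
      _ = x ^ k * y * c ^ k * x := by rw [ih]
      _ = x ^ k * y * (c ^ k * x) := by group
      _ = x ^ k * y * (x * c ^ k) := by rw [(hcx.pow_left k).eq]
      _ = x ^ k * (y * x) * c ^ k := by group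
      _ = x ^ k * (x * y * c) * c ^ k := by rw [h]
      _ = x ^ (k + 1) * y * c ^ (k + 1) := by rw [pow_succ, pow_succ']; group

theorem pow_mul_of_central {x y c : G} (h : y * x = x * y * c) (hcy : Commute c y)
    (k : ℕ) : y ^ k * x = x * y ^ k * c ^ k := by
  induction k with
  | zero => simp
  | succ k ih =>
    calc y ^ (k + 1) * x = y ^ k * (y * x) := by rw [pow_succ]; group
      _ = y ^ k * (x * y * c) := by rw [h]
      _ = (y ^ k * x) * y * c := by group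
      _ = x * y ^ k * c ^ k * y * c := by rw [ih]
      _ = x * y ^ k * (c ^ k * y) * c := by group
      _ = x * y ^ k * (y * c ^ k) * c := by rw [(hcy.pow_left k).eq]
      _ = x * y ^ (k + 1) * c ^ (k + 1) := by rw [pow_succ, pow_succ]; group

section Fin

variable [Finite G]

theorem exists_prime_order_pow {g : G} (hg : g ≠ 1) :
    ∃ r : ℕ, r.Prime ∧ ∃ k : ℕ, orderOf (g ^ k) = r := by
  have h1 : orderOf g ≠ 1 := by
    intro h; exact hg (orderOf_eq_one_iff.mp h)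
  refine ⟨(orderOf g).minFac, Nat.minFac_prime h1, orderOf g / (orderOf g).minFac, ?_⟩
  exact orderOf_pow_orderOf_div (orderOf_pos g).ne' (Nat.minFac_dvd _)

/-- membership in a subgroup can be tested on the primary parts -/
theorem mem_of_primary_parts (K : Subgroup G) (g : G)
    (h : ∀ q : ℕ, q.Prime → ∀ a : ℕ, (∃ i, orderOf (g ^ a) = q ^ i) → g ^ a ∈ K) : g ∈ K := by
  induction' hk : orderOf g using Nat.strong_induction_on with k ih generalizing g
  by_cases h1 : orderOf g = 1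
  · rw [orderOf_eq_one_iff] at h1
    rw [h1]; exact Subgroup.one_mem _
  · obtain ⟨q, hq, hqd⟩ := Nat.exists_prime_and_dvd h1
    obtain ⟨a, b, hdec, hpa, _, hdvd⟩ := exists_pow_decomp g q hq
    have ha : g ^ a ∈ K := h q hq a hpa
    have hpos : 0 < orderOf g := orderOf_pos g
    have hb : g ^ b ∈ K := by
      apply ih (orderOf (g ^ b)) ?_ (g ^ b) ?_ rfl
      · rw [← hk]
        have h2 : ordCompl[q] (orderOf g) < orderOf g := by
          apply Nat.div_lt_self hpos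
          apply Nat.one_lt_pow _ hq.one_lt
          exact (hq.factorization_pos_of_dvd hpos.ne' hqd).ne'
        have h3 : 0 < ordCompl[q] (orderOf g) := Nat.ordCompl_pos q hpos.ne'
        exact lt_of_le_of_lt (Nat.le_of_dvd h3 hdvd) h2
      · intro q' hq' a' hq'a
        rw [← pow_mul] at hq'a ⊢
        exact h q' hq' _ hq'a
    rw [hdec]
    exact K.mul_mem ha hb

variable {N : Subgroup G}

theorem Cz_le_of_coprime' (hN : MaxC N) {x y : G} (hx : x ∈ N) (hxZ : x ∉ ZN N) (hy : y ∈ N)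
    (hc : Commute x y) (hco : (orderOf x).Coprime (orderOf y)) : Cz x ≤ Cz y := by
  have hxy : x * y ∈ N := N.mul_mem hx hy
  have hxyZ : x * y ∉ ZN N := by
    intro h
    obtain ⟨k, hk⟩ := exists_pow_eq_left hc hco
    apply hxZ
    rw [← hk]
    exact Subgroup.pow_mem _ h k
  have h1 : Cz (x * y) = Cz x ⊓ Cz y := Cz_mul_of_coprime hc hco
  have h2 : Cz (x * y) = Cz x :=
    coatom_eq_of_le (hN _ hxy hxyZ) (hN _ hx hxZ) (by rw [h1]; exact inf_le_left)
  rw [← h2, h1]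
  exact inf_le_right

theorem Cz_eq_of_coprime (hN : MaxC N) {x y : G} (hx : x ∈ N) (hxZ : x ∉ ZN N) (hy : y ∈ N)
    (hyZ : y ∉ ZN N) (hc : Commute x y) (hco : (orderOf x).Coprime (orderOf y)) :
    Cz x = Cz y :=
  le_antisymm (Cz_le_of_coprime' hN hx hxZ hy hc hco)
    (Cz_le_of_coprime' hN hy hyZ hx hc.symm hco.symm)

/-- if a noncentral `p`-element `x` of `N` commutes with a noncentral `p'`-element of `N`, then
`C_G(x)` centralizes `C_N(x)` -/
theorem Cz_le_Cz_of_mem (hN : MaxC N) {x y : G} {p : ℕ} (hp : p.Prime) (hx : x ∈ N)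
    (hxZ : x ∉ ZN N) (hy : y ∈ N) (hyZ : y ∉ ZN N) (hc : Commute x y)
    (hxp : ∃ i, orderOf x = p ^ i) (hyp : (orderOf y).Coprime p) {a : G} (haN : a ∈ N)
    (hax : a ∈ Cz x) : Cz x ≤ Cz a := by
  obtain ⟨i, hi⟩ := hxp
  have hco : (orderOf x).Coprime (orderOf y) := by
    rw [hi]; exact Nat.Coprime.pow_left i hyp.symm
  have hxy : Cz x = Cz y := Cz_eq_of_coprime hN hx hxZ hy hyZ hc hco
  obtain ⟨a1, a2, hdec, ⟨k, hk⟩, hcop2, _⟩ := exists_pow_decomp a p hp
  have e2 : Cz x ≤ Cz (a ^ a2) := by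
    apply Cz_le_of_coprime' hN hx hxZ (N.pow_mem haN a2)
    · exact mem_Cz.mp (Subgroup.pow_mem _ hax a2)
    · rw [hi]; exact Nat.Coprime.pow_left _ hcop2.symm
  have e1 : Cz y ≤ Cz (a ^ a1) := by
    apply Cz_le_of_coprime' hN hy hyZ (N.pow_mem haN a1)
    · have : a ^ a1 ∈ Cz y := by rw [← hxy]; exact Subgroup.pow_mem _ hax a1
      exact mem_Cz.mp this
    · rw [hk]; exact Nat.Coprime.pow_right _ hyp
  intro b hb
  have hb1 : b ∈ Cz (a ^ a1) := e1 (by rw [← hxy]; exact hb)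
  have hb2 : b ∈ Cz (a ^ a2) := e2 hb
  rw [mem_Cz] at hb1 hb2 ⊢
  rw [hdec]
  calc a ^ a1 * a ^ a2 * b = a ^ a1 * (a ^ a2 * b) := by group
    _ = a ^ a1 * (b * a ^ a2) := by rw [hb2]
    _ = (a ^ a1 * b) * a ^ a2 := by group
    _ = (b * a ^ a1) * a ^ a2 := by rw [hb1]
    _ = b * (a ^ a1 * a ^ a2) := by group

end Fin

/-! ### torsion subgroups of an abelian subgroup -/

/-- the `q`-torsion of a commutative subgroup -/
def qTors (A : Subgroup G) (hA : ∀ a ∈ A, ∀ b ∈ A, a * b = b * a) (q : ℕ) : Subgroup G where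
  carrier := {a | a ∈ A ∧ ∃ k : ℕ, a ^ q ^ k = 1}
  one_mem' := ⟨A.one_mem, 0, by simp⟩
  mul_mem' := by
    rintro a b ⟨ha, k, hk⟩ ⟨hb, l, hl⟩
    refine ⟨A.mul_mem ha hb, k + l, ?_⟩
    have hc : Commute a b := hA a ha b hb
    rw [hc.mul_pow, pow_add, pow_mul, hk, one_pow, mul_comm (q ^ k) (q ^ l), pow_mul, hl,
      one_pow, mul_one]
  inv_mem' := by
    rintro a ⟨ha, k, hk⟩
    exact ⟨A.inv_mem ha, k, by rw [inv_pow, hk, inv_one]⟩

theorem mem_qTors {A : Subgroup G} {hA : ∀ a ∈ A, ∀ b ∈ A, a * b = b * a} {q : ℕ} {a : G} :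
    a ∈ qTors A hA q ↔ a ∈ A ∧ ∃ k : ℕ, a ^ q ^ k = 1 := Iff.rfl

theorem qTors_normal (A : Subgroup G) [hAn : A.Normal] (hA : ∀ a ∈ A, ∀ b ∈ A, a * b = b * a)
    (q : ℕ) : (qTors A hA q).Normal := by
  constructor
  rintro a ⟨ha, k, hk⟩ g
  refine ⟨hAn.conj_mem a ha g, k, ?_⟩
  rw [conj_pow, hk, mul_one, mul_inv_cancel]

/-- two different primes in a normal abelian subgroup against a maximal centralizer -/
theorem two_primes_false [Finite G] (A : Subgroup G) [A.Normal]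
    (hA : ∀ a ∈ A, ∀ b ∈ A, a * b = b * a) {x y g : G} {q : ℕ} (hx : x ∈ A)
    (hy : y ∈ A) (hxq : (orderOf x).Coprime q) (hyq : ∃ j : ℕ, y ^ q ^ j = 1)
    (hg : IsCoatom (Cz g)) (hgx : g ∉ Cz x) (hgy : g ∉ Cz y) : False := by
  have hBn : (qTors A hA q).Normal := qTors_normal A hA q
  have hyB : y ∈ qTors A hA q := ⟨hy, hyq⟩
  have hsup : qTors A hA q ⊔ Cz g = ⊤ := by
    rcases coatom_cases hg (qTors A hA q) with h | h
    · exfalso
      apply hgy
      have := mem_Cz.mp (h hyB)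
      exact mem_Cz.mpr this.symm
    · exact h
  obtain ⟨b, ⟨hbA, k, hbk⟩, c, hc, hxbc⟩ := exists_mul_of_sup_eq_top _ _ hsup x
  have hcomm : Commute x b⁻¹ := hA x hx b⁻¹ (A.inv_mem hbA)
  have hco : (orderOf x).Coprime (orderOf b⁻¹) := by
    rw [orderOf_inv]
    have hd : orderOf b ∣ q ^ k := orderOf_dvd_of_pow_eq_one hbk
    exact Nat.Coprime.coprime_dvd_right hd (Nat.Coprime.pow_right k hxq)
  obtain ⟨m, hm⟩ := exists_pow_eq_left hcomm hco
  have hc2 : x * b⁻¹ = c := by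
    rw [hcomm.eq, hxbc]; group
  apply hgx
  rw [mem_Cz]
  have h3 : x ∈ Cz g := by
    rw [← hm, hc2]
    exact Subgroup.pow_mem _ hc m
  exact (mem_Cz.mp h3).symm

end Cfsg.Agent.Helper19.MaxCent
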