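import Mathlib
import Cfsg.Agent.Lib.Helper17.GLkDefs

/-!
S2478 farm-out (helper17), piece GLK-TMEM: the type tuple of a decomposition lies in `Tup F n 1 n`.
-/

set_option autoImplicit false
set_option linter.unusedSectionVars false
set_option linter.unusedVariables false

open Polynomial

namespace Cfsg.Agent.Helper17.GLk

universe u

variable {F : Type u} [Field F]

theorem glk_tmem_natDegree_normalize [DecidableEq F] (p : F[X]) :
    (normalize p).natDegree = p.natDegree :=
  natDegree_eq_of_degree_eq degree_normalize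

theorem glk_tmem_coeff_zero_normalize [DecidableEq F] (p : F[X]) (h0 : p.coeff 0 ≠ 0) :
    (normalize p).coeff 0 ≠ 0 := by
  intro h
  apply h0
  rw [← Polynomial.X_dvd_iff] at h ⊢
  exact (dvd_normalize_iff).1 h

/-- regrouping a sum over `ι` by the value of `e i ∈ [1, n]` -/
theorem glk_tmem_regroup {ι : Type u} [Fintype ι] [DecidableEq ι] (e : ι → ℕ) (n : ℕ) (g : ι → ℕ)
    (he : ∀ i, 1 ≤ e i) (hen : ∀ i, e i ≤ n) :
    ∑ j : Fin n, ∑ i ∈ Finset.univ.filter (fun i => e i = (j : ℕ) + 1), g i = ∑ i, g i := by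
  rw [Fin.sum_univ_eq_sum_range (fun j => ∑ i ∈ Finset.univ.filter (fun i => e i = j + 1), g i) n]
  have h1 : ∀ j ∈ Finset.range n, ∑ i ∈ Finset.univ.filter (fun i => e i = j + 1), g i =
      ∑ i, if e i = j + 1 then g i else 0 := by
    intro j _
    rw [Finset.sum_filter]
  rw [Finset.sum_congr rfl h1, Finset.sum_comm]
  refine Finset.sum_congr rfl (fun i _ => ?_)
  rw [Finset.sum_eq_single (e i - 1)]
  · have := he i
    rw [if_pos (by omega)]
  · intro j _ hj
    have := he i
    rw [if_neg (by omega)]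
  · intro h
    exfalso
    apply h
    rw [Finset.mem_range]
    have := he i
    have := hen i
    omega

/-- PIECE GLK-TMEM (pure polynomial bookkeeping). -/
theorem tuple_mem {ι : Type u} [Fintype ι] {p : ι → F[X]} {e : ι → ℕ} (n : ℕ)
    (hp : ∀ i, Irreducible (p i)) (he : ∀ i, 1 ≤ e i) (h0 : ∀ i, (p i).coeff 0 ≠ 0)
    (hdim : ∑ i, e i * (p i).natDegree = n) :
    (fun j : Fin n => tupleOfDecomp p e ((j : ℕ) + 1)) ∈ Tup F n 1 n := by
  classical
  have hmon : ∀ i, (normalize (p i)).Monic := fun i => monic_normalize (hp i).ne_zero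
  have hdeg : ∀ i, 1 ≤ (p i).natDegree := fun i => (hp i).natDegree_pos
  have hen : ∀ i, e i ≤ n := by
    intro i
    have h1 : e i * (p i).natDegree ≤ ∑ i, e i * (p i).natDegree :=
      Finset.single_le_sum (f := fun i => e i * (p i).natDegree) (fun _ _ => Nat.zero_le _)
        (Finset.mem_univ i)
    rw [hdim] at h1
    have h2 : e i * 1 ≤ e i * (p i).natDegree := Nat.mul_le_mul_left _ (hdeg i)
    omega
  have htup : ∀ j : ℕ, tupleOfDecomp p e j =
      ∏ i ∈ Finset.univ.filter (fun i => e i = j), normalize (p i) := by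
    intro j
    unfold tupleOfDecomp
    congr
  refine ⟨fun j => ⟨?_, ?_⟩, ?_⟩
  · show (tupleOfDecomp p e ((j : ℕ) + 1)).Monic
    rw [htup]
    exact monic_prod_of_monic _ _ (fun i _ => hmon i)
  · show (tupleOfDecomp p e ((j : ℕ) + 1)).coeff 0 ≠ 0
    rw [htup, coeff_zero_prod]
    exact Finset.prod_ne_zero_iff.2 (fun i _ => glk_tmem_coeff_zero_normalize (p i) (h0 i))
  · show ∑ j : Fin n, (1 + (j : ℕ)) * (tupleOfDecomp p e ((j : ℕ) + 1)).natDegree = n
    have h1 : ∀ j : Fin n, (1 + (j : ℕ)) * (tupleOfDecomp p e ((j : ℕ) + 1)).natDegree =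
        ∑ i ∈ Finset.univ.filter (fun i => e i = (j : ℕ) + 1), e i * (p i).natDegree := by
      intro j
      rw [htup, natDegree_prod_of_monic _ _ (fun i _ => hmon i), Finset.mul_sum]
      refine Finset.sum_congr rfl (fun i hi => ?_)
      rw [Finset.mem_filter] at hi
      rw [glk_tmem_natDegree_normalize (p i), hi.2, add_comm]
    rw [Finset.sum_congr rfl (fun j _ => h1 j),
      glk_tmem_regroup e n (fun i => e i * (p i).natDegree) he hen, hdim]

end Cfsg.Agent.Helper17.GLk
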