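import Mathlib
import Cfsg.Agent.Lib.Helper10.TMDefs

/-!
# S2930 piece CASE1 (helper19), core: three orbits of `S` give two distinct maximal subgroups over `S`.
The statement of piece STABNE (`exists_stab_ne`) enters as a hypothesis.
-/

set_option autoImplicit false
set_option linter.unusedSectionVars false
set_option linter.unusedVariables false
set_option linter.style.haveILetI false

namespace Cfsg.Agent.Helper10.TM

open Equiv Equiv.Perm Cfsg.Agent.Helper11.AutAlt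
open scoped Pointwise

variable {n : ℕ}

theorem case1_mem_self (S : Subgroup (Alt n)) (x : Fin n) : x ∈ orb S x :=
  ⟨1, S.one_mem, by simp⟩

theorem case1_disjoint (S : Subgroup (Alt n)) {x y : Fin n} (h : y ∉ orb S x) :
    Disjoint (orb S x) (orb S y) := by
  rw [Set.disjoint_left]
  rintro w ⟨s, hs, rfl⟩ ⟨t, ht, htw⟩
  apply h
  refine ⟨t⁻¹ * s, S.mul_mem (S.inv_mem ht) hs, ?_⟩
  rw [Subgroup.coe_mul, Subgroup.coe_inv, Perm.mul_apply, ← htw]
  exact Equiv.symm_apply_apply _ _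

theorem case1_le_SetStab (S : Subgroup (Alt n)) (x : Fin n) : S ≤ SetStab (orb S x) := by
  intro s hs
  rw [mem_SetStab]
  ext w
  rw [Set.mem_smul_set]
  constructor
  · rintro ⟨v, ⟨t, ht, rfl⟩, rfl⟩
    refine ⟨s * t, S.mul_mem hs ht, ?_⟩
    rw [Subgroup.coe_mul, Perm.mul_apply]
    rfl
  · rintro ⟨t, ht, rfl⟩
    refine ⟨((s⁻¹ * t : Alt n) : Perm (Fin n)) x, ⟨s⁻¹ * t, S.mul_mem (S.inv_mem hs) ht, rfl⟩, ?_⟩
    change (s : Perm (Fin n)) (((s⁻¹ * t : Alt n) : Perm (Fin n)) x) = _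
    rw [Subgroup.coe_mul, Subgroup.coe_inv, Perm.mul_apply]
    exact Equiv.apply_symm_apply _ _

theorem case1_card (A B : Set (Fin n)) (hAB : Disjoint A B) (c : Fin n) (hcA : c ∉ A) (hcB : c ∉ B)
    (hA : n = 2 * A.ncard) (hB : n = 2 * B.ncard) : False := by
  have h1 : (A ∪ B).ncard = A.ncard + B.ncard := Set.ncard_union_eq hAB
  have hc : c ∉ A ∪ B := by
    rw [Set.mem_union]
    push Not
    exact ⟨hcA, hcB⟩
  have h2 : (insert c (A ∪ B)).ncard = (A ∪ B).ncard + 1 := Set.ncard_insert_of_notMem hc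
  have h3 : (insert c (A ∪ B)).ncard ≤ Nat.card (Fin n) := Set.ncard_le_card _
  rw [Nat.card_eq_fintype_card, Fintype.card_fin] at h3
  omega

theorem case1_pair (hn : 5 ≤ n) (S : Subgroup (Alt n)) (hU : Unq S)
    (hstab : ∀ P Q : Set (Fin n), P.Nonempty → Disjoint P Q → (∃ r, r ∉ P ∧ r ∉ Q) →
      ∃ g : Alt n, g ∈ SetStab Q ∧ g ∉ SetStab P)
    (P Q : Set (Fin n)) (hP : P.Nonempty) (hQ : Q.Nonempty) (hPQ : Disjoint P Q)
    (r : Fin n) (hrP : r ∉ P) (hrQ : r ∉ Q)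
    (hSP : S ≤ SetStab P) (hSQ : S ≤ SetStab Q) (hcP : n ≠ 2 * P.ncard) (hcQ : n ≠ 2 * Q.ncard) :
    False := by
  have hcard : Nat.card (Fin n) = n := by rw [Nat.card_eq_fintype_card, Fintype.card_fin]
  have h1 : IsCoatom (SetStab P) :=
    alternatingGroup.isCoatom_stabilizer hP ⟨r, hrP⟩ (by rw [hcard]; exact hcP)
  have h2 : IsCoatom (SetStab Q) :=
    alternatingGroup.isCoatom_stabilizer hQ ⟨r, hrQ⟩ (by rw [hcard]; exact hcQ)
  obtain ⟨g, hgQ, hgP⟩ := hstab P Q hP hPQ ⟨r, hrP, hrQ⟩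
  have hne : SetStab P ≠ SetStab Q := fun h => hgP (h ▸ hgQ)
  have hsup : SetStab P ⊔ SetStab Q = ⊤ := by
    by_contra h
    have e1 : SetStab P ⊔ SetStab Q = SetStab P := (h1.le_iff_eq h).1 le_sup_left
    have e2 : SetStab P ⊔ SetStab Q = SetStab Q := (h2.le_iff_eq h).1 le_sup_right
    exact hne (e1.symm.trans e2)
  exact hU _ _ hSP hSQ h1.1 h2.1 hsup

/-- CASE1 with the statement of STABNE as a hypothesis. -/
theorem case1_core (hn : 5 ≤ n) (S : Subgroup (Alt n)) (hU : Unq S)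
    (hstab : ∀ P Q : Set (Fin n), P.Nonempty → Disjoint P Q → (∃ r, r ∉ P ∧ r ∉ Q) →
      ∃ g : Alt n, g ∈ SetStab Q ∧ g ∉ SetStab P)
    (x y z : Fin n)
    (hxy : y ∉ orb S x) (hxz : z ∉ orb S x) (hyz : z ∉ orb S y) : False := by
  have d12 := case1_disjoint S hxy
  have d13 := case1_disjoint S hxz
  have d23 := case1_disjoint S hyz
  have hx := case1_mem_self S x
  have hy := case1_mem_self S y
  have hz := case1_mem_self S z
  have hx2 : x ∉ orb S y := fun h => (Set.disjoint_left.1 d12) hx h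
  have hx3 : x ∉ orb S z := fun h => (Set.disjoint_left.1 d13) hx h
  have hy3 : y ∉ orb S z := fun h => (Set.disjoint_left.1 d23) hy h
  by_cases c1 : n = 2 * (orb S x).ncard
  · by_cases c2 : n = 2 * (orb S y).ncard
    · exact case1_card _ _ d12 z hxz hyz c1 c2
    · by_cases c3 : n = 2 * (orb S z).ncard
      · exact case1_card _ _ d13 y hxy hy3 c1 c3
      · exact case1_pair hn S hU hstab _ _ ⟨y, hy⟩ ⟨z, hz⟩ d23 x hx2 hx3
          (case1_le_SetStab S y) (case1_le_SetStab S z) c2 c3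
  · by_cases c2 : n = 2 * (orb S y).ncard
    · by_cases c3 : n = 2 * (orb S z).ncard
      · exact case1_card _ _ d23 x hx2 hx3 c2 c3
      · exact case1_pair hn S hU hstab _ _ ⟨x, hx⟩ ⟨z, hz⟩ d13 y hxy hy3
          (case1_le_SetStab S x) (case1_le_SetStab S z) c1 c3
    · exact case1_pair hn S hU hstab _ _ ⟨x, hx⟩ ⟨y, hy⟩ d12 z hxz hyz
        (case1_le_SetStab S x) (case1_le_SetStab S y) c1 c2

end Cfsg.Agent.Helper10.TM
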