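import Mathlib
import Cfsg.Agent.Lib.Helper10.TMDefs
import Cfsg.Agent.Lib.Helper19.TMCASE1Core
import Cfsg.Agent.Lib.Helper21.TMSTABNE

/-!
# S2930 piece CASE1 (helper19): three orbits of `S` contradict `Unq S`.
-/

set_option autoImplicit false

namespace Cfsg.Agent.Helper10.TM

open Equiv Equiv.Perm Cfsg.Agent.Helper11.AutAlt
open scoped Pointwise

variable {n : ℕ}

/-- CASE1 -/
theorem case1 (hn : 5 ≤ n) (S : Subgroup (Alt n)) (hU : Unq S) (x y z : Fin n)
    (hxy : y ∉ orb S x) (hxz : z ∉ orb S x) (hyz : z ∉ orb S y) : False :=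
  case1_core hn S hU (fun P Q => exists_stab_ne hn P Q) x y z hxy hxz hyz

end Cfsg.Agent.Helper10.TM
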