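import Mathlib
import Cfsg.Agent.Lib.Helper10.TMDefs
import Cfsg.Agent.Lib.Helper19.TMCASE1Core

/-!
# S2930 piece CASE2C (helper19), core: two orbits of sizes `≥ 9`, `≥ 3` contradict `Unq S`.
The statements of the pieces ZETAO, IMP3MAIN, RZ (with NOTIN) and STABNE enter as hypotheses.
-/

set_option autoImplicit false
set_option linter.unusedSectionVars false
set_option linter.unusedVariables false
set_option linter.style.haveILetI false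

namespace Cfsg.Agent.Helper10.TM

open Equiv Equiv.Perm Cfsg.Agent.Helper11.AutAlt
open scoped Pointwise

variable {n : ℕ}

/-- a set with at least four elements has an element different from three given ones -/
theorem case2c_exists_ne3 (A : Set (Fin n)) (hA : 4 ≤ A.ncard) (a b c : Fin n) :
    ∃ e ∈ A, e ≠ a ∧ e ≠ b ∧ e ≠ c := by
  have h1 : ({a, b, c} : Set (Fin n)).ncard ≤ 3 := by
    calc ({a, b, c} : Set (Fin n)).ncard ≤ ({b, c} : Set (Fin n)).ncard + 1 := Set.ncard_insert_le _ _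
      _ ≤ (({c} : Set (Fin n)).ncard + 1) + 1 := Nat.add_le_add_right (Set.ncard_insert_le _ _) 1
      _ = 3 := by rw [Set.ncard_singleton]
  obtain ⟨e, heA, he⟩ := Set.exists_mem_notMem_of_ncard_lt_ncard
    (s := ({a, b, c} : Set (Fin n))) (t := A) (by omega)
  refine ⟨e, heA, ?_, ?_, ?_⟩
  · rintro rfl; exact he (by simp)
  · rintro rfl; exact he (by simp)
  · rintro rfl; exact he (by simp)

/-- the product of two fixed-point-free elements of order three on complementary sets -/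
theorem case2c_zeta (A B : Set (Fin n)) (hAB : Disjoint A B) (hall : ∀ z, z ∈ A ∨ z ∈ B)
    (ζ₁ ζ₂ : Perm (Fin n)) (h1 : ζ₁ ^ 3 = 1) (h2 : ζ₂ ^ 3 = 1)
    (hm1 : ∀ y ∈ A, ζ₁ y ≠ y) (hf1 : ∀ y, y ∉ A → ζ₁ y = y)
    (hm2 : ∀ y ∈ B, ζ₂ y ≠ y) (hf2 : ∀ y, y ∉ B → ζ₂ y = y) :
    (ζ₁ * ζ₂) ^ 3 = 1 ∧ (∀ w, (ζ₁ * ζ₂) w ≠ w) ∧ (∀ w ∈ A, (ζ₁ * ζ₂) w = ζ₁ w) := by
  have hd : Perm.Disjoint ζ₁ ζ₂ := by
    intro w
    by_cases hw : w ∈ A
    · right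
      exact hf2 w (fun hB => (Set.disjoint_left.1 hAB) hw hB)
    · left
      exact hf1 w hw
  have hc : Commute ζ₁ ζ₂ := hd.commute
  have hA : ∀ w ∈ A, (ζ₁ * ζ₂) w = ζ₁ w := by
    intro w hw
    rw [Perm.mul_apply, hf2 w (fun hB => (Set.disjoint_left.1 hAB) hw hB)]
  have hB : ∀ w ∈ B, (ζ₁ * ζ₂) w = ζ₂ w := by
    intro w hw
    rw [hc.eq, Perm.mul_apply, hf1 w (fun hA' => (Set.disjoint_left.1 hAB) hA' hw)]
  refine ⟨?_, ?_, hA⟩
  · rw [hc.mul_pow, h1, h2, one_mul]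
  · intro w
    rcases hall w with hw | hw
    · rw [hA w hw]; exact hm1 w hw
    · rw [hB w hw]; exact hm2 w hw

/-- CASE2C with the statements of ZETAO, IMP3MAIN, RZ, NOTIN, STABNE as hypotheses. -/
theorem case2c_core (S : Subgroup (Alt n)) (hS : IsPGroup 3 S) (hU : Unq S)
    (hzeta : ∀ x : Fin n, (∃ y ∈ orb S x, y ≠ x) →
      ∃ ζ : Perm (Fin n), ζ ^ 3 = 1 ∧ (∀ y ∈ orb S x, ζ y ≠ y) ∧ (∀ y, y ∉ orb S x → ζ y = y) ∧
        ∀ s : Alt n, s ∈ S → (s : Perm (Fin n)) * ζ = ζ * (s : Perm (Fin n)))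
    (hcoatom : 12 ≤ n → ∀ ζ : Perm (Fin n), ζ ^ 3 = 1 → (∀ x, ζ x ≠ x) → IsCoatom (RStab (Rz ζ)))
    (hcomm : ∀ ζ : Perm (Fin n),
      (∀ s : Alt n, s ∈ S → (s : Perm (Fin n)) * ζ = ζ * (s : Perm (Fin n))) → S ≤ RStab (Rz ζ))
    (hnotin : ∀ ζ : Perm (Fin n), ζ ^ 3 = 1 → ∀ x u v : Fin n, x ≠ u → x ≠ v → u ≠ v → ζ x ≠ x →
      ¬ Rz ζ x u → v ≠ ζ x → c3 x u v ∉ RStabP (Rz ζ))
    (hstab : 5 ≤ n → ∀ P Q : Set (Fin n), P.Nonempty → Disjoint P Q → (∃ r, r ∉ P ∧ r ∉ Q) →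
      ∃ g : Alt n, g ∈ SetStab Q ∧ g ∉ SetStab P)
    (hc3 : ∀ (P : Set (Fin n)) (x u v : Fin n), x ≠ u → x ≠ v → u ≠ v → x ∈ P → u ∈ P → v ∈ P →
      ∃ g : Alt n, (g : Perm (Fin n)) = c3 x u v ∧ g ∈ SetStab P)
    (x y : Fin n)
    (hall : ∀ z, z ∈ orb S x ∨ z ∈ orb S y) (hxy : y ∉ orb S x) (hx : 9 ≤ (orb S x).ncard)
    (hy : 3 ≤ (orb S y).ncard) : False := by
  have hdis : Disjoint (orb S x) (orb S y) := case1_disjoint S hxy
  -- `n ≥ 12`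
  have hn : 12 ≤ n := by
    have hun : orb S x ∪ orb S y = Set.univ := by
      ext z
      simp only [Set.mem_union, Set.mem_univ, iff_true]
      exact hall z
    have h1 : (orb S x ∪ orb S y).ncard = (orb S x).ncard + (orb S y).ncard :=
      Set.ncard_union_eq hdis
    rw [hun, Set.ncard_univ, Nat.card_eq_fintype_card, Fintype.card_fin] at h1
    omega
  -- the two partial `ζ`'s
  obtain ⟨x', hx'O, hx'⟩ := Set.exists_ne_of_one_lt_ncard (by omega : 1 < (orb S x).ncard) x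
  obtain ⟨y', hy'O, hy'⟩ := Set.exists_ne_of_one_lt_ncard (by omega : 1 < (orb S y).ncard) y
  obtain ⟨ζ₁, h1, hm1, hf1, hs1⟩ := hzeta x ⟨x', hx'O, hx'⟩
  obtain ⟨ζ₂, h2, hm2, hf2, hs2⟩ := hzeta y ⟨y', hy'O, hy'⟩
  obtain ⟨hζ, hfp, hζA⟩ := case2c_zeta (orb S x) (orb S y) hdis hall ζ₁ ζ₂ h1 h2 hm1 hf1 hm2 hf2
  set ζ : Perm (Fin n) := ζ₁ * ζ₂ with hζdef
  have hsζ : ∀ s : Alt n, s ∈ S → (s : Perm (Fin n)) * ζ = ζ * (s : Perm (Fin n)) := by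
    intro s hs
    rw [hζdef, ← mul_assoc, hs1 s hs, mul_assoc, hs2 s hs, ← mul_assoc]
  -- the two subgroups
  have hH1 : IsCoatom (RStab (Rz ζ)) := hcoatom hn ζ hζ hfp
  have hSH1 : S ≤ RStab (Rz ζ) := hcomm ζ hsζ
  have hSH2 : S ≤ SetStab (orb S x) := case1_le_SetStab S x
  have hH2 : SetStab (orb S x) ≠ ⊤ := by
    obtain ⟨g, -, hg⟩ := hstab (by omega) (orb S x) ∅ ⟨x, case1_mem_self S x⟩
      (Set.disjoint_empty _) ⟨y, hxy, Set.notMem_empty y⟩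
    intro h
    exact hg (h ▸ Subgroup.mem_top g)
  -- the three-cycle
  obtain ⟨u, huO, hux, huz, huzz⟩ := case2c_exists_ne3 (orb S x) (by omega) x (ζ x) (ζ (ζ x))
  obtain ⟨v, hvO, hvx, hvu, hvz⟩ := case2c_exists_ne3 (orb S x) (by omega) x u (ζ x)
  obtain ⟨g, hg, hgH2⟩ := hc3 (orb S x) x u v (Ne.symm hux) (Ne.symm hvx) (Ne.symm hvu)
    (case1_mem_self S x) huO hvO
  have hgH1 : g ∉ RStab (Rz ζ) := by
    intro h
    have h' : (g : Perm (Fin n)) ∈ RStabP (Rz ζ) := h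
    rw [hg] at h'
    refine hnotin ζ hζ x u v (Ne.symm hux) (Ne.symm hvx) (Ne.symm hvu) (hfp x) ?_ hvz h'
    rintro (h | h | h)
    · exact hux h
    · exact huz h
    · exact huzz h
  have hsup : RStab (Rz ζ) ⊔ SetStab (orb S x) = ⊤ := by
    by_contra h
    have e1 : RStab (Rz ζ) ⊔ SetStab (orb S x) = RStab (Rz ζ) := (hH1.le_iff_eq h).1 le_sup_left
    have : SetStab (orb S x) ≤ RStab (Rz ζ) := by
      rw [← e1]
      exact le_sup_right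
    exact hgH1 (this hgH2)
  exact hU _ _ hSH1 hSH2 hH1.1 hH2 hsup

end Cfsg.Agent.Helper10.TM
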