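import Mathlib
import Cfsg.Agent.Lib.Helper10.TMDefs
import Cfsg.Agent.Lib.Helper19.TMCASE2CCore
import Cfsg.Agent.Lib.Helper21.TMSTABNE
import Cfsg.Agent.Lib.Helper21.TMRZ
import Cfsg.Agent.Lib.Helper9.TMZETAO
import Cfsg.Agent.Lib.Helper6.TMIMP3MAIN

/-!
# S2930 piece CASE2C (helper19): two orbits of sizes `≥ 9`, `≥ 3` contradict `Unq S`.
-/

set_option autoImplicit false

namespace Cfsg.Agent.Helper10.TM

open Equiv Equiv.Perm Cfsg.Agent.Helper11.AutAlt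
open scoped Pointwise

variable {n : ℕ}

/-- CASE2C -/
theorem case2c (S : Subgroup (Alt n)) (hS : IsPGroup 3 S) (hU : Unq S) (x y : Fin n)
    (hall : ∀ z, z ∈ orb S x ∨ z ∈ orb S y) (hxy : y ∉ orb S x) (hx : 9 ≤ (orb S x).ncard)
    (hy : 3 ≤ (orb S y).ncard) : False :=
  case2c_core S hS hU (exists_zeta S hS) (fun hn ζ hζ hfp => isCoatom_RStab_Rz hn ζ hζ hfp)
    (le_RStab_of_commute S) c3_not_mem_RStabP (fun hn => exists_stab_ne hn) c3_mem_SetStab
    x y hall hxy hx hy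

end Cfsg.Agent.Helper10.TM
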