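import Mathlib
import Cfsg.Agent.Lib.Helper17.TSLDefs

/-!
# S3366 piece HOM, core (helper19): the collection formula in a group where `z = [x, y]` commutes with
`x` and `y`, and the universal property of `R = ⟨x, y⟩` with the statement of piece NF as a hypothesis.
-/

set_option autoImplicit false
set_option linter.unusedSectionVars false
set_option linter.unusedVariables false
set_option linter.style.haveILetI false

namespace Cfsg.Agent.Helper17.TSL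

open Cfsg.Agent.Helper2.Symp
open scoped Cfsg.Agent.Helper2.Symp

/-! ### the collection formula -/

theorem hom_collect1 {G : Type*} [Group G] (x y : G)
    (hzy : Commute (x * y * x⁻¹ * y⁻¹) y) (b : ℕ) :
    x * y ^ b = (x * y * x⁻¹ * y⁻¹) ^ b * (y ^ b * x) := by
  obtain ⟨z, hz⟩ : ∃ z, z = x * y * x⁻¹ * y⁻¹ := ⟨_, rfl⟩
  rw [← hz] at hzy ⊢
  have hxy : x * y = z * (y * x) := by rw [hz]; group
  induction b with
  | zero => simp
  | succ b ih =>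
    calc x * y ^ (b + 1) = (x * y ^ b) * y := by rw [pow_succ, mul_assoc]
      _ = z ^ b * (y ^ b * x) * y := by rw [ih]
      _ = z ^ b * (y ^ b * (x * y)) := by simp only [mul_assoc]
      _ = z ^ b * (y ^ b * (z * (y * x))) := by rw [hxy]
      _ = z ^ b * ((y ^ b * z) * (y * x)) := by simp only [mul_assoc]
      _ = z ^ b * ((z * y ^ b) * (y * x)) := by rw [← (hzy.pow_right b).eq]
      _ = (z ^ b * z) * ((y ^ b * y) * x) := by simp only [mul_assoc]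
      _ = z ^ (b + 1) * (y ^ (b + 1) * x) := by rw [← pow_succ, ← pow_succ]

theorem hom_collect {G : Type*} [Group G] (x y : G)
    (hzx : Commute (x * y * x⁻¹ * y⁻¹) x) (hzy : Commute (x * y * x⁻¹ * y⁻¹) y) (a b : ℕ) :
    x ^ a * y ^ b = (x * y * x⁻¹ * y⁻¹) ^ (a * b) * (y ^ b * x ^ a) := by
  have h1 := hom_collect1 x y hzy b
  obtain ⟨z, hz⟩ : ∃ z, z = x * y * x⁻¹ * y⁻¹ := ⟨_, rfl⟩
  rw [← hz] at hzx hzy h1 ⊢
  induction a with
  | zero => simp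
  | succ a ih =>
    calc x ^ (a + 1) * y ^ b = x ^ a * (x * y ^ b) := by rw [pow_succ, mul_assoc]
      _ = x ^ a * (z ^ b * (y ^ b * x)) := by rw [h1]
      _ = (x ^ a * z ^ b) * (y ^ b * x) := by rw [mul_assoc]
      _ = (z ^ b * x ^ a) * (y ^ b * x) := by rw [← (hzx.pow_pow b a).eq]
      _ = z ^ b * ((x ^ a * y ^ b) * x) := by simp only [mul_assoc]
      _ = z ^ b * ((z ^ (a * b) * (y ^ b * x ^ a)) * x) := by rw [ih]
      _ = (z ^ b * z ^ (a * b)) * (y ^ b * (x ^ a * x)) := by simp only [mul_assoc]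
      _ = z ^ ((a + 1) * b) * (y ^ b * x ^ (a + 1)) := by
        rw [← pow_add, ← pow_succ]
        congr 2
        ring

theorem hom_swap {G : Type*} [Group G] (x y : G)
    (hzx : Commute (x * y * x⁻¹ * y⁻¹) x) (hzy : Commute (x * y * x⁻¹ * y⁻¹) y)
    (hz3 : (x * y * x⁻¹ * y⁻¹) ^ 3 = 1) (a b : ℕ) :
    y ^ b * x ^ a = (x * y * x⁻¹ * y⁻¹) ^ (2 * (a * b)) * (x ^ a * y ^ b) := by
  rw [hom_collect x y hzx hzy a b, ← mul_assoc, ← pow_add]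
  have e : 2 * (a * b) + a * b = 3 * (a * b) := by ring
  rw [e, pow_mul, hz3, one_pow, one_mul]

theorem hom_mul_nat {G : Type*} [Group G] (x y : G)
    (hzx : Commute (x * y * x⁻¹ * y⁻¹) x) (hzy : Commute (x * y * x⁻¹ * y⁻¹) y)
    (hz3 : (x * y * x⁻¹ * y⁻¹) ^ 3 = 1) (a b c a' b' c' : ℕ) :
    x ^ a * y ^ b * (x * y * x⁻¹ * y⁻¹) ^ c * (x ^ a' * y ^ b' * (x * y * x⁻¹ * y⁻¹) ^ c') =
      x ^ (a + a') * y ^ (b + b') * (x * y * x⁻¹ * y⁻¹) ^ (c + c' + 2 * (a' * b)) := by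
  have hsw := hom_swap x y hzx hzy hz3 a' b
  obtain ⟨z, hz⟩ : ∃ z, z = x * y * x⁻¹ * y⁻¹ := ⟨_, rfl⟩
  rw [← hz] at hzx hzy hz3 hsw ⊢
  have c1 : Commute (z ^ c) (x ^ a' * y ^ b') :=
    (hzx.pow_pow c a').mul_right (hzy.pow_pow c b')
  have c2 : Commute (z ^ (2 * (a' * b))) (x ^ a) := hzx.pow_pow _ _
  have c3 : Commute (z ^ (2 * (a' * b))) (x ^ (a + a') * y ^ (b + b')) :=
    (hzx.pow_pow _ _).mul_right (hzy.pow_pow _ _)
  calc x ^ a * y ^ b * z ^ c * (x ^ a' * y ^ b' * z ^ c')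
      = x ^ a * y ^ b * (z ^ c * (x ^ a' * y ^ b')) * z ^ c' := by simp only [mul_assoc]
    _ = x ^ a * y ^ b * ((x ^ a' * y ^ b') * z ^ c) * z ^ c' := by rw [c1.eq]
    _ = x ^ a * (y ^ b * x ^ a') * y ^ b' * z ^ c * z ^ c' := by simp only [mul_assoc]
    _ = x ^ a * (z ^ (2 * (a' * b)) * (x ^ a' * y ^ b)) * y ^ b' * z ^ c * z ^ c' := by rw [hsw]
    _ = (x ^ a * z ^ (2 * (a' * b))) * (x ^ a' * y ^ b) * y ^ b' * z ^ c * z ^ c' := by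
      simp only [mul_assoc]
    _ = (z ^ (2 * (a' * b)) * x ^ a) * (x ^ a' * y ^ b) * y ^ b' * z ^ c * z ^ c' := by rw [← c2.eq]
    _ = z ^ (2 * (a' * b)) * ((x ^ a * x ^ a') * (y ^ b * y ^ b')) * z ^ c * z ^ c' := by
      simp only [mul_assoc]
    _ = z ^ (2 * (a' * b)) * (x ^ (a + a') * y ^ (b + b')) * z ^ c * z ^ c' := by
      rw [← pow_add, ← pow_add]
    _ = (x ^ (a + a') * y ^ (b + b')) * z ^ (2 * (a' * b)) * z ^ c * z ^ c' := by rw [c3.eq]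
    _ = x ^ (a + a') * y ^ (b + b') * (z ^ (2 * (a' * b)) * z ^ c * z ^ c') := by
      simp only [mul_assoc]
    _ = x ^ (a + a') * y ^ (b + b') * z ^ (c + c' + 2 * (a' * b)) := by
      rw [← pow_add, ← pow_add]
      congr 2
      ring

/-! ### coordinates -/

/-- the element with coordinates `p` -/
def hom_ev {G : Type*} [Group G] (x y : G) (p : Fin 3 × Fin 3 × Fin 3) : G :=
  x ^ (p.1 : ℕ) * y ^ (p.2.1 : ℕ) * (x * y * x⁻¹ * y⁻¹) ^ (p.2.2 : ℕ)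

/-- the multiplication in coordinates -/
def hom_mulT (p q : Fin 3 × Fin 3 × Fin 3) : Fin 3 × Fin 3 × Fin 3 :=
  (⟨((p.1 : ℕ) + (q.1 : ℕ)) % 3, Nat.mod_lt _ (by norm_num)⟩,
   ⟨((p.2.1 : ℕ) + (q.2.1 : ℕ)) % 3, Nat.mod_lt _ (by norm_num)⟩,
   ⟨((p.2.2 : ℕ) + (q.2.2 : ℕ) + 2 * ((q.1 : ℕ) * (p.2.1 : ℕ))) % 3, Nat.mod_lt _ (by norm_num)⟩)

theorem hom_ev_mul {G : Type*} [Group G] (x y : G)
    (hzx : Commute (x * y * x⁻¹ * y⁻¹) x) (hzy : Commute (x * y * x⁻¹ * y⁻¹) y)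
    (hx3 : x ^ 3 = 1) (hy3 : y ^ 3 = 1) (hz3 : (x * y * x⁻¹ * y⁻¹) ^ 3 = 1)
    (p q : Fin 3 × Fin 3 × Fin 3) : hom_ev x y p * hom_ev x y q = hom_ev x y (hom_mulT p q) := by
  unfold hom_ev hom_mulT
  rw [hom_mul_nat x y hzx hzy hz3]
  simp only
  rw [← pow_eq_pow_mod _ hx3, ← pow_eq_pow_mod _ hy3, ← pow_eq_pow_mod _ hz3]

variable {X : Type*} [Group X] [Finite X] (S : Setup X)

/-- PIECE HOM with the statement of NF as a hypothesis -/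
theorem exists_hom_core
    (hNF : ∀ (x y : X), x ∈ S.R → y ∈ S.R → x * y * x⁻¹ * y⁻¹ ≠ 1 → ∀ r ∈ S.R,
      ∃! abc : Fin 3 × Fin 3 × Fin 3,
        r = x ^ (abc.1 : ℕ) * y ^ (abc.2.1 : ℕ) * (x * y * x⁻¹ * y⁻¹) ^ (abc.2.2 : ℕ))
    (x y : X) (hx : x ∈ S.R) (hy : y ∈ S.R) (hxy : x * y * x⁻¹ * y⁻¹ ≠ 1)
    {H : Type*} [Group H] (x' y' : H) (hx' : x' ^ 3 = 1) (hy' : y' ^ 3 = 1)
    (hzx : (x' * y' * x'⁻¹ * y'⁻¹) * x' = x' * (x' * y' * x'⁻¹ * y'⁻¹))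
    (hzy : (x' * y' * x'⁻¹ * y'⁻¹) * y' = y' * (x' * y' * x'⁻¹ * y'⁻¹))
    (hz3 : (x' * y' * x'⁻¹ * y'⁻¹) ^ 3 = 1) :
    ∃ φ : S.R →* H, φ ⟨x, hx⟩ = x' ∧ φ ⟨y, hy⟩ = y' := by
  -- facts in `R`
  have hzZ : x * y * x⁻¹ * y⁻¹ ∈ S.Z := S.comm_mem x hx y hy
  have hzR : x * y * x⁻¹ * y⁻¹ ∈ S.R := ((S.mem_Z _).1 hzZ).1
  have hcx : Commute (x * y * x⁻¹ * y⁻¹) x := (((S.mem_Z _).1 hzZ).2 x hx).symm
  have hcy : Commute (x * y * x⁻¹ * y⁻¹) y := (((S.mem_Z _).1 hzZ).2 y hy).symm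
  have hx3 : x ^ 3 = 1 := S.exp_R x hx
  have hy3 : y ^ 3 = 1 := S.exp_R y hy
  have hzz3 : (x * y * x⁻¹ * y⁻¹) ^ 3 = 1 := S.exp_R _ hzR
  -- the coordinates
  have hNF' : ∀ r : S.R, ∃! abc : Fin 3 × Fin 3 × Fin 3, (r : X) = hom_ev x y abc :=
    fun r => hNF x y hx hy hxy r r.2
  let co : S.R → Fin 3 × Fin 3 × Fin 3 := fun r => (hNF' r).exists.choose
  have hco : ∀ r : S.R, (r : X) = hom_ev x y (co r) := fun r => (hNF' r).exists.choose_spec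
  have huniq : ∀ (r : S.R) (p : Fin 3 × Fin 3 × Fin 3), (r : X) = hom_ev x y p → co r = p :=
    fun r p hp => (hNF' r).unique (hco r) hp
  have hmul : ∀ r s : S.R, co (r * s) = hom_mulT (co r) (co s) := by
    intro r s
    apply huniq
    rw [← hom_ev_mul x y hcx hcy hx3 hy3 hzz3, ← hco r, ← hco s]
    rfl
  refine ⟨MonoidHom.mk' (fun r => hom_ev x' y' (co r)) ?_, ?_, ?_⟩
  · intro r s
    show hom_ev x' y' (co (r * s)) = hom_ev x' y' (co r) * hom_ev x' y' (co s)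
    rw [hmul, hom_ev_mul x' y' hzx hzy hx' hy' hz3]
  · show hom_ev x' y' (co ⟨x, hx⟩) = x'
    have : co ⟨x, hx⟩ = (1, 0, 0) := by
      apply huniq
      unfold hom_ev
      simp
    rw [this]
    unfold hom_ev
    simp
  · show hom_ev x' y' (co ⟨y, hy⟩) = y'
    have : co ⟨y, hy⟩ = (0, 1, 0) := by
      apply huniq
      unfold hom_ev
      simp
    rw [this]
    unfold hom_ev
    simp

end Cfsg.Agent.Helper17.TSL
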