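import Mathlib
import Cfsg.Agent.Lib.Helper17.TSLDefs
import Cfsg.Agent.Lib.Helper19.TSLHOMCore

/-!
# S3366 piece INVNF, core (helper19): the elements inverted by `t` are the `x^a y^b z^(ab)`; the
statements of the pieces NF, LIFT, ZCENT are hypotheses here.
-/

set_option autoImplicit false
set_option linter.unusedSectionVars false
set_option linter.unusedVariables false
set_option linter.style.haveILetI false

namespace Cfsg.Agent.Helper17.TSL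

open Cfsg.Agent.Helper2.Symp
open scoped Cfsg.Agent.Helper2.Symp

/-- abstract form of "`ι(a,b)` is inverted" -/
theorem invnf_inverted {G : Type*} [Group G] (A B W : G) (hAB : A * B = W * (B * A))
    (hWA : Commute W A) (hWB : Commute W B) (hW3 : W ^ 3 = 1) :
    A⁻¹ * B⁻¹ * W * (A * B * W) = 1 := by
  have hWBA : Commute W (B * A) := hWB.mul_right hWA
  calc A⁻¹ * B⁻¹ * W * (A * B * W) = A⁻¹ * B⁻¹ * W * (W * (B * A) * W) := by rw [hAB]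
    _ = A⁻¹ * B⁻¹ * (W * (W * ((B * A) * W))) := by simp only [mul_assoc]
    _ = A⁻¹ * B⁻¹ * (W * (W * (W * (B * A)))) := by rw [← hWBA.eq]
    _ = A⁻¹ * B⁻¹ * (W ^ 3 * (B * A)) := by
      simp only [pow_succ, pow_zero, one_mul, mul_assoc]
    _ = 1 := by rw [hW3, one_mul]; group

variable {X : Type*} [Group X] [Finite X] (S : Setup X)

/-- PIECE INVNF with the statements of NF, LIFT, ZCENT as hypotheses -/
theorem inv_normal_form_core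
    (hNF : ∀ (x y : X), x ∈ S.R → y ∈ S.R → x * y * x⁻¹ * y⁻¹ ≠ 1 → ∀ r ∈ S.R,
      ∃! abc : Fin 3 × Fin 3 × Fin 3,
        r = x ^ (abc.1 : ℕ) * y ^ (abc.2.1 : ℕ) * (x * y * x⁻¹ * y⁻¹) ^ (abc.2.2 : ℕ))
    (hLIFT : ∀ (t : X), t * t = 1 → S.π t = negOne → ∀ r ∈ S.R,
      ∃! i : X, (i ∈ S.R ∧ t * i * t⁻¹ = i⁻¹) ∧ i⁻¹ * r ∈ S.Z)
    (hZC : ∀ (g w : X), w ∈ S.Z → g * w = w * g)
    (t : X) (ht : t * t = 1) (hπ : S.π t = negOne)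
    (x y : X) (hx : x ∈ S.R) (hy : y ∈ S.R) (hxt : t * x * t⁻¹ = x⁻¹) (hyt : t * y * t⁻¹ = y⁻¹)
    (hxy : x * y * x⁻¹ * y⁻¹ ≠ 1) (i : X) (hi : i ∈ S.R) (hit : t * i * t⁻¹ = i⁻¹) :
    ∃ a b : ZMod 3, i = x ^ a.val * y ^ b.val * (x * y * x⁻¹ * y⁻¹) ^ (a * b).val := by
  -- facts in `R`
  have hzZ : x * y * x⁻¹ * y⁻¹ ∈ S.Z := S.comm_mem x hx y hy
  have hzR : x * y * x⁻¹ * y⁻¹ ∈ S.R := ((S.mem_Z _).1 hzZ).1
  have hcx : Commute (x * y * x⁻¹ * y⁻¹) x := (((S.mem_Z _).1 hzZ).2 x hx).symm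
  have hcy : Commute (x * y * x⁻¹ * y⁻¹) y := (((S.mem_Z _).1 hzZ).2 y hy).symm
  have hzz3 : (x * y * x⁻¹ * y⁻¹) ^ 3 = 1 := S.exp_R _ hzR
  have htz : t * (x * y * x⁻¹ * y⁻¹) * t⁻¹ = x * y * x⁻¹ * y⁻¹ := by
    rw [hZC t _ hzZ, mul_assoc, mul_inv_cancel, mul_one]
  obtain ⟨⟨a, b, c⟩, habc, -⟩ := hNF x y hx hy hxy i hi
  simp only at habc
  obtain ⟨z, hz⟩ : ∃ z, z = x * y * x⁻¹ * y⁻¹ := ⟨_, rfl⟩
  rw [← hz] at hzZ hzR hcx hcy hzz3 htz habc ⊢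
  have hcoll : x ^ (a : ℕ) * y ^ (b : ℕ) = z ^ ((a : ℕ) * (b : ℕ)) * (y ^ (b : ℕ) * x ^ (a : ℕ)) := by
    rw [hz]; exact hom_collect x y (hz ▸ hcx) (hz ▸ hcy) a b
  -- the candidate
  obtain ⟨j, hj⟩ : ∃ j, j = x ^ (a : ℕ) * y ^ (b : ℕ) * z ^ ((a : ℕ) * (b : ℕ)) := ⟨_, rfl⟩
  have hjR : j ∈ S.R := by
    rw [hj]
    exact mul_mem (mul_mem (pow_mem hx _) (pow_mem hy _)) (pow_mem hzR _)
  have hjt : t * j * t⁻¹ = j⁻¹ := by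
    have e1 : t * j * t⁻¹ = (t * x * t⁻¹) ^ (a : ℕ) * (t * y * t⁻¹) ^ (b : ℕ) *
        (t * z * t⁻¹) ^ ((a : ℕ) * (b : ℕ)) := by
      rw [conj_pow, conj_pow, conj_pow, hj]; group
    rw [e1, hxt, hyt, htz, inv_pow, inv_pow]
    apply eq_inv_of_mul_eq_one_left
    rw [hj]
    have hW3 : (z ^ ((a : ℕ) * (b : ℕ))) ^ 3 = 1 := by
      rw [← pow_mul, mul_comm, pow_mul, hzz3, one_pow]
    exact invnf_inverted _ _ _ hcoll (hcx.pow_pow _ _) (hcy.pow_pow _ _) hW3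
  have hjZ : j⁻¹ * i ∈ S.Z := by
    have e2 : j⁻¹ * i = (z ^ ((a : ℕ) * (b : ℕ)))⁻¹ * z ^ (c : ℕ) := by
      rw [hj, habc]; group
    rw [e2]
    exact mul_mem (inv_mem (pow_mem hzZ _)) (pow_mem hzZ _)
  have hiZ : i⁻¹ * i ∈ S.Z := by
    rw [inv_mul_cancel]; exact one_mem _
  have hij : i = j := (hLIFT t ht hπ i hi).unique ⟨⟨hi, hit⟩, hiZ⟩ ⟨⟨hjR, hjt⟩, hjZ⟩
  refine ⟨((a : ℕ) : ZMod 3), ((b : ℕ) : ZMod 3), ?_⟩
  have ha : (((a : ℕ) : ZMod 3)).val = (a : ℕ) := ZMod.val_natCast_of_lt a.2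
  have hb : (((b : ℕ) : ZMod 3)).val = (b : ℕ) := ZMod.val_natCast_of_lt b.2
  rw [ZMod.val_mul, ha, hb, ← pow_eq_pow_mod _ hzz3, hij, hj]

end Cfsg.Agent.Helper17.TSL
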