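import Mathlib
import Cfsg.Agent.Lib.Helper17.TSLDefs
import Cfsg.Agent.Lib.Helper16.TSLNF
import Cfsg.Agent.Lib.Helper2.TSLZCENT
import Cfsg.Agent.Lib.Helper2.TSLLIFT
import Cfsg.Agent.Lib.Helper19.TSLINVNFCore

/-!
# S3366 piece INVNF (helper19): the elements of `R` inverted by `t` are the `x^a y^b z^(ab)`.
-/

set_option autoImplicit false
set_option linter.unusedSectionVars false
set_option linter.unusedVariables false

namespace Cfsg.Agent.Helper17.TSL

open Cfsg.Agent.Helper2.Symp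
open scoped Cfsg.Agent.Helper2.Symp

section abstract

variable {X : Type*} [Group X] [Finite X] (S : Setup X)

/-! ## piece INVNF (uses NF, LIFT) -/

theorem inv_normal_form (t : X) (ht : t * t = 1) (hπ : S.π t = negOne)
    (x y : X) (hx : x ∈ S.R) (hy : y ∈ S.R) (hxt : t * x * t⁻¹ = x⁻¹) (hyt : t * y * t⁻¹ = y⁻¹)
    (hxy : x * y * x⁻¹ * y⁻¹ ≠ 1) (i : X) (hi : i ∈ S.R) (hit : t * i * t⁻¹ = i⁻¹) :
    ∃ a b : ZMod 3, i = x ^ a.val * y ^ b.val * (x * y * x⁻¹ * y⁻¹) ^ (a * b).val :=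
  inv_normal_form_core S (fun x y hx hy hxy r hr => normal_form S x y hx hy hxy r hr)
    (fun t ht hπ r hr => lift_unique S t ht hπ r hr)
    (fun g w hw => Z_central S g w hw)
    t ht hπ x y hx hy hxt hyt hxy i hi hit

end abstract

end Cfsg.Agent.Helper17.TSL
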