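import Mathlib
import Cfsg.Agent.Lib.Helper3.BSWDefs

/-!
# S3282 piece FPF (helper19 for helper3): a fixed-point-free involutory action on a finite group inverts it,
and the group is abelian.
-/

set_option autoImplicit false
set_option linter.unusedSectionVars false
set_option linter.unusedVariables false

namespace Cfsg.Agent.Helper3.BSW

universe u

variable {G : Type u} [Group G] [Finite G] {t s : G} {K : Subgroup G}

namespace FPF

/-- `v` inverts every element of the form `a⁻¹ (v a v⁻¹)` -/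
theorem conj_comm_elt {v : G} (hv : v * v = 1) (a : G) :
    v * (a⁻¹ * (v * a * v⁻¹)) * v⁻¹ = (a⁻¹ * (v * a * v⁻¹))⁻¹ := by
  have hvi : v⁻¹ = v := inv_eq_of_mul_eq_one_right hv
  have h2 : (a⁻¹ * (v * a * v⁻¹))⁻¹ = v * a⁻¹ * v⁻¹ * a := by group
  rw [h2, hvi]
  have h1 : v * (a⁻¹ * (v * a * v)) * v = v * a⁻¹ * v * a * (v * v) := by group
  rw [h1, hv, mul_one]

end FPF

/-- PIECE FPF (general, no `Hyp`): a fixed-point-free involutory action on a finite group inverts it, and the group is abelian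
(`a ↦ a⁻¹ (v a v⁻¹)` is injective, hence onto; `v` inverts each `a⁻¹ (v a v⁻¹)`). -/
theorem fpf_invol {A : Subgroup G} {v : G} (hv : v * v = 1) (hN : ∀ a ∈ A, v * a * v⁻¹ ∈ A)
    (hfix : ∀ a ∈ A, v * a * v⁻¹ = a → a = 1) :
    (∀ a ∈ A, v * a * v⁻¹ = a⁻¹) ∧ ∀ a ∈ A, ∀ b ∈ A, a * b = b * a := by
  classical
  have hvi : v⁻¹ = v := inv_eq_of_mul_eq_one_right hv
  -- the map `a ↦ a⁻¹ (v a v⁻¹)` on `A`
  let φ : A → A := fun a => ⟨(a : G)⁻¹ * (v * a * v⁻¹), A.mul_mem (A.inv_mem a.2) (hN a a.2)⟩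
  have hinj : Function.Injective φ := by
    intro a b hab
    have h0 : (a : G)⁻¹ * (v * a * v⁻¹) = (b : G)⁻¹ * (v * b * v⁻¹) := congrArg Subtype.val hab
    -- `b a⁻¹` is fixed
    have hfixed : v * ((b : G) * (a : G)⁻¹) * v⁻¹ = (b : G) * (a : G)⁻¹ := by
      have h1 : v * ((b : G) * (a : G)⁻¹) * v⁻¹ = (v * b * v⁻¹) * (v * a * v⁻¹)⁻¹ := by group
      rw [h1]
      have h2 : v * b * v⁻¹ = (b : G) * ((a : G)⁻¹ * (v * a * v⁻¹)) := by
        rw [h0]; group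
      rw [h2]; group
    have h1 := hfix _ (A.mul_mem b.2 (A.inv_mem a.2)) hfixed
    have : (b : G) = a := by
      have := mul_inv_eq_one.mp h1
      exact this
    exact Subtype.ext this.symm
  have hsurj : Function.Surjective φ := Finite.surjective_of_injective hinj
  have hinvert : ∀ a ∈ A, v * a * v⁻¹ = a⁻¹ := by
    intro a ha
    obtain ⟨c, hc⟩ := hsurj ⟨a, ha⟩
    have hc' : (c : G)⁻¹ * (v * c * v⁻¹) = a := congrArg Subtype.val hc
    rw [← hc']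
    exact FPF.conj_comm_elt hv c
  refine ⟨hinvert, ?_⟩
  intro a ha b hb
  have h1 := hinvert (a * b) (A.mul_mem ha hb)
  have h2 : v * (a * b) * v⁻¹ = (v * a * v⁻¹) * (v * b * v⁻¹) := by group
  rw [h2, hinvert a ha, hinvert b hb] at h1
  -- a⁻¹ b⁻¹ = (a b)⁻¹ = b⁻¹ a⁻¹
  have h3 : a⁻¹ * b⁻¹ = b⁻¹ * a⁻¹ := by rw [h1, mul_inv_rev]
  have h4 : (a⁻¹ * b⁻¹)⁻¹ = (b⁻¹ * a⁻¹)⁻¹ := congrArg _ h3
  simpa [mul_inv_rev] using h4.symm

end Cfsg.Agent.Helper3.BSW
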