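import Mathlib
import Cfsg.Agent.Lib.Helper10.EODefs

/-!
# S2264 piece EO-NT2 (helper19): lcm of `q^e + 1` over a 2-adic class.
-/

set_option autoImplicit false
set_option linter.unusedSectionVars false
set_option linter.unusedVariables false

open Polynomial

namespace Cfsg.Agent.Helper10.EO

theorem eo_nt2_aux (Q : ℕ) (hQ : 2 ≤ Q) (o : ℕ → ℕ) (B : Finset ℕ) :
    B.Nonempty → (∀ e ∈ B, Odd (o e)) →
    (Q + 1 ∣ B.lcm (fun e => Q ^ (o e) + 1)) ∧
      B.lcm (fun e => Q ^ (o e) + 1) ≤ Q ^ (∑ e ∈ B, o e) + 1 := by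
  induction B using Finset.induction_on with
  | empty => intro h; exact absurd h Finset.not_nonempty_empty
  | insert a s ha ih =>
    intro _ ho
    have hoa : Odd (o a) := ho a (Finset.mem_insert_self a s)
    have hda : Q + 1 ∣ Q ^ (o a) + 1 := by
      have := Odd.nat_add_dvd_pow_add_pow Q 1 hoa
      simpa using this
    rcases s.eq_empty_or_nonempty with rfl | hs
    · simp [hda]
    · obtain ⟨hd, hle⟩ := ih hs (fun e he => ho e (Finset.mem_insert_of_mem he))
      rw [Finset.lcm_insert, Finset.sum_insert ha]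
      constructor
      · exact dvd_trans hda (dvd_lcm_left _ _)
      · obtain ⟨c, hc⟩ := hda
        obtain ⟨k, hk⟩ : ∃ k, o a = k + 1 := by
          obtain ⟨j, hj⟩ := hoa
          exact ⟨2 * j, by omega⟩
        set b := s.lcm (fun e => Q ^ (o e) + 1) with hb
        set t := ∑ e ∈ s, o e with ht
        have hdvd : lcm (Q ^ o a + 1) b ∣ c * b := by
          apply lcm_dvd
          · obtain ⟨d, hd'⟩ := hd
            rw [hc, hd']
            exact ⟨d, by ring⟩
          · exact dvd_mul_left b c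
        have hbpos : 0 < b := by
          apply Nat.pos_of_ne_zero
          intro h0
          rw [hb, Finset.lcm_eq_zero_iff] at h0
          obtain ⟨e, -, he⟩ := h0
          exact Nat.succ_ne_zero _ he
        have hcpos : 0 < c := by
          apply Nat.pos_of_ne_zero
          intro h0
          rw [h0, mul_zero] at hc
          exact Nat.succ_ne_zero _ hc
        have h1 : lcm (Q ^ o a + 1) b ≤ c * b :=
          Nat.le_of_dvd (Nat.mul_pos hcpos hbpos) hdvd
        have hQk : 1 ≤ Q ^ k := Nat.one_le_pow _ _ (by omega)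
        have hck : c ≤ Q ^ k := by
          have h2 : (Q + 1) * c ≤ (Q + 1) * Q ^ k := by
            rw [← hc, hk, pow_succ]
            nlinarith
          exact Nat.le_of_mul_le_mul_left h2 (by omega)
        have hQt : 1 ≤ Q ^ t := Nat.one_le_pow _ _ (by omega)
        calc lcm (Q ^ o a + 1) b ≤ c * b := h1
          _ ≤ Q ^ k * (Q ^ t + 1) := Nat.mul_le_mul hck hle
          _ ≤ Q ^ (o a + t) + 1 := by
            rw [hk, show k + 1 + t = (k + t) + 1 by ring, pow_succ, pow_add]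
            nlinarith [Nat.mul_le_mul hQk hQt]

theorem nt_class (q : ℕ) (hq : 2 ≤ q) (v : ℕ) (B : Finset ℕ) (hB : B.Nonempty)
    (hv : ∀ e ∈ B, ∃ o, Odd o ∧ e = 2 ^ v * o) :
    B.lcm (fun e => q ^ e + 1) ≤ q ^ (∑ e ∈ B, e) + 1 := by
  have h2v : 0 < 2 ^ v := Nat.pos_of_ne_zero (by positivity)
  have hQ : 2 ≤ q ^ 2 ^ v := by
    calc 2 ≤ q := hq
      _ = q ^ 1 := (pow_one q).symm
      _ ≤ q ^ 2 ^ v := Nat.pow_le_pow_right (by omega) h2v
  have hdiv : ∀ e ∈ B, Odd (e / 2 ^ v) ∧ e = 2 ^ v * (e / 2 ^ v) := by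
    intro e he
    obtain ⟨o, ho, rfl⟩ := hv e he
    rw [Nat.mul_div_cancel_left _ h2v]
    exact ⟨ho, rfl⟩
  obtain ⟨-, h⟩ := eo_nt2_aux (q ^ 2 ^ v) hQ (fun e => e / 2 ^ v) B hB (fun e he => (hdiv e he).1)
  have e1 : B.lcm (fun e => q ^ e + 1) = B.lcm (fun e => (q ^ 2 ^ v) ^ (e / 2 ^ v) + 1) := by
    apply Finset.lcm_congr rfl
    intro e he
    rw [← pow_mul, ← (hdiv e he).2]
  have e2 : ∑ e ∈ B, e = 2 ^ v * ∑ e ∈ B, e / 2 ^ v := by
    rw [Finset.mul_sum]
    exact Finset.sum_congr rfl (fun e he => (hdiv e he).2)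
  rw [e1, e2, pow_mul]
  exact h

end Cfsg.Agent.Helper10.EO
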