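import Mathlib
import Cfsg.Agent.Lib.Helper10.EODefs

/-!
# S2264 piece EO-NT3 (helper19): the `q^e + 1` part of the lcm bound.
-/

set_option autoImplicit false
set_option linter.unusedSectionVars false
set_option linter.unusedVariables false

open Polynomial

namespace Cfsg.Agent.Helper10.EO

theorem eo_nt3_decomp (e : ℕ) (he : 1 ≤ e) :
    ∃ o, Odd o ∧ e = 2 ^ (padicValNat 2 e) * o := by
  have hdvd : 2 ^ padicValNat 2 e ∣ e := pow_padicValNat_dvd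
  obtain ⟨o, ho⟩ := hdvd
  refine ⟨o, ?_, ho⟩
  rw [← Nat.not_even_iff_odd]
  rintro ⟨j, hj⟩
  have hnd : ¬ 2 ^ (padicValNat 2 e + 1) ∣ e :=
    pow_succ_padicValNat_not_dvd (p := 2) (by omega)
  apply hnd
  refine ⟨j, ?_⟩
  have h3 : 2 ^ padicValNat 2 e * o = 2 ^ (padicValNat 2 e + 1) * j := by
    rw [hj, pow_succ]
    ring
  exact ho.trans h3

theorem nt_plus_of (q : ℕ) (hq : 2 ≤ q)
    (hchain : ∀ (V : ℕ) (C : Finset ℕ), (∀ v ∈ C, v < V) → ∀ s : ℕ → ℕ, (∀ v ∈ C, 2 ^ v ≤ s v) →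
      (q - 1) * (∏ v ∈ C, (q ^ s v + 1)) * q ^ (2 ^ V) ≤
        q ^ ((∑ v ∈ C, s v) + 1) * (q ^ (2 ^ V) - 1))
    (hclass : ∀ (v : ℕ) (B : Finset ℕ), B.Nonempty → (∀ e ∈ B, ∃ o, Odd o ∧ e = 2 ^ v * o) →
      B.lcm (fun e => q ^ e + 1) ≤ q ^ (∑ e ∈ B, e) + 1)
    (B : Finset ℕ) (hB : ∀ e ∈ B, 1 ≤ e) :
    (q - 1) * B.lcm (fun e => q ^ e + 1) ≤ q ^ ((∑ e ∈ B, e) + 1) := by
  classical
  set f : ℕ → ℕ := fun e => q ^ e + 1 with hf
  set C : Finset ℕ := B.image (padicValNat 2) with hC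
  set Bv : ℕ → Finset ℕ := fun v => B.filter (fun e => padicValNat 2 e = v) with hBv
  set s : ℕ → ℕ := fun v => ∑ e ∈ Bv v, e with hs
  have hmaps : ∀ e ∈ B, padicValNat 2 e ∈ C := fun e he => Finset.mem_image_of_mem _ he
  have hsum : ∑ v ∈ C, s v = ∑ e ∈ B, e := Finset.sum_fiberwise_of_maps_to hmaps (fun e => e)
  have hne : ∀ v ∈ C, (Bv v).Nonempty := by
    intro v hv
    obtain ⟨e, he, hev⟩ := Finset.mem_image.1 hv
    exact ⟨e, Finset.mem_filter.2 ⟨he, hev⟩⟩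
  have hcl : ∀ v ∈ C, (Bv v).lcm f ≤ q ^ s v + 1 := by
    intro v hv
    apply hclass v (Bv v) (hne v hv)
    intro e he
    obtain ⟨heB, hev⟩ := Finset.mem_filter.1 he
    obtain ⟨o, ho, h⟩ := eo_nt3_decomp e (hB e heB)
    rw [hev] at h
    exact ⟨o, ho, h⟩
  have hsv : ∀ v ∈ C, 2 ^ v ≤ s v := by
    intro v hv
    obtain ⟨e, he⟩ := hne v hv
    obtain ⟨heB, hev⟩ := Finset.mem_filter.1 he
    have h1 : e ≤ s v := Finset.single_le_sum (f := fun e => e) (fun i _ => Nat.zero_le i) he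
    have h2 : 2 ^ v ≤ e := by
      apply Nat.le_of_dvd (hB e heB)
      rw [← hev]
      exact pow_padicValNat_dvd
    exact le_trans h2 h1
  have hpos : ∀ v, 0 < (Bv v).lcm f := by
    intro v
    apply Nat.pos_of_ne_zero
    intro h0
    rw [Finset.lcm_eq_zero_iff] at h0
    obtain ⟨e, -, he⟩ := h0
    exact Nat.succ_ne_zero _ he
  have hdvd : B.lcm f ∣ ∏ v ∈ C, (Bv v).lcm f := by
    apply Finset.lcm_dvd
    intro e he
    have h1 : f e ∣ (Bv (padicValNat 2 e)).lcm f :=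
      Finset.dvd_lcm (Finset.mem_filter.2 ⟨he, rfl⟩)
    exact dvd_trans h1 (Finset.dvd_prod_of_mem _ (hmaps e he))
  have hle1 : B.lcm f ≤ ∏ v ∈ C, (Bv v).lcm f :=
    Nat.le_of_dvd (Finset.prod_pos (fun v _ => hpos v)) hdvd
  have hle2 : ∏ v ∈ C, (Bv v).lcm f ≤ ∏ v ∈ C, (q ^ s v + 1) :=
    Finset.prod_le_prod (fun v _ => Nat.zero_le _) hcl
  have hCV : ∀ v ∈ C, v < C.sup id + 1 := by
    intro v hv
    have : id v ≤ C.sup id := Finset.le_sup hv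
    exact Nat.lt_succ_of_le this
  have hch := hchain (C.sup id + 1) C hCV s hsv
  set P := q ^ 2 ^ (C.sup id + 1) with hP
  have hPpos : 0 < P := Nat.pos_of_ne_zero (by positivity)
  have h3 : (q - 1) * (∏ v ∈ C, (q ^ s v + 1)) * P ≤ q ^ ((∑ v ∈ C, s v) + 1) * P :=
    le_trans hch (Nat.mul_le_mul_left _ (Nat.sub_le _ _))
  have h4 : (q - 1) * (∏ v ∈ C, (q ^ s v + 1)) ≤ q ^ ((∑ v ∈ C, s v) + 1) :=
    Nat.le_of_mul_le_mul_right h3 hPpos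
  rw [hsum] at h4
  calc (q - 1) * B.lcm f ≤ (q - 1) * ∏ v ∈ C, (q ^ s v + 1) :=
        Nat.mul_le_mul_left _ (le_trans hle1 hle2)
    _ ≤ q ^ ((∑ e ∈ B, e) + 1) := h4

end Cfsg.Agent.Helper10.EO
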