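import Mathlib
import Cfsg.Agent.Lib.Helper3.SmallOrd

/-!
# S0496 piece 720-A1 (helper19), core version with F1/F3 as hypotheses
-/

set_option autoImplicit false
set_option linter.unusedSectionVars false
set_option linter.unusedVariables false
set_option linter.style.haveILetI false
set_option linter.unusedSimpArgs false

namespace Cfsg.Agent.Helper19.Ord720

open Cfsg

variable {G : Type*} [Group G] [Finite G]

/-- arithmetic: multiples of 9 dividing 144 in `[36, 90]` -/
theorem arith_36_72 {n : ℕ} (h9 : 9 ∣ n) (h720 : n ∣ 720) (h5 : ¬ 5 ∣ n) (hlo : 36 ≤ n)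
    (hhi : n ≤ 90) : n = 36 ∨ n = 72 := by
  obtain ⟨k, rfl⟩ := h9
  have hk1 : 4 ≤ k := by omega
  have hk2 : k ≤ 10 := by omega
  interval_cases k <;> simp_all

/-- Sylow 3-subgroups of a group of order 720 have order 9. -/
theorem card_sylow3 (h : Nat.card G = 720) (P : Sylow 3 G) : Nat.card (P : Subgroup G) = 9 := by
  haveI : Fact (Nat.Prime 3) := ⟨by norm_num⟩
  have hc : Nat.card G = 3 ^ 2 * 80 := by rw [h]; norm_num
  have := (Cfsg.Agent.Lead.sylow_facts hc (by norm_num)).1 P
  simpa using this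

/-- a subgroup of order 9 is commutative -/
theorem commute_of_card_nine (P : Subgroup G) (hP : Nat.card P = 9) (x y : G) (hx : x ∈ P)
    (hy : y ∈ P) : x * y = y * x := by
  haveI : Fact (Nat.Prime 3) := ⟨by norm_num⟩
  have h9 : Nat.card P = 3 ^ 2 := by rw [hP]; norm_num
  have hcomm := IsPGroup.isMulCommutative_of_card_eq_prime_sq (p := 3) (G := P) h9
  have := hcomm.is_comm.comm (⟨x, hx⟩ : P) ⟨y, hy⟩
  exact congrArg Subtype.val this

theorem c720_A1_core [IsSimpleGroup G]
    (hF1 : ∀ H : Subgroup G, H ≠ ⊤ → Nat.card H ≤ 90)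
    (hF3 : ∀ X : Subgroup G, Nat.card X = 3 →
      ¬ 5 ∣ Nat.card (Subgroup.normalizer (X : Set G)))
    (h : Nat.card G = 720) (P R : Sylow 3 G) (hPR : P ≠ R)
    (hne : (P : Subgroup G) ⊓ (R : Subgroup G) ≠ ⊥) :
    Nat.card ((P : Subgroup G) ⊓ (R : Subgroup G) : Subgroup G) = 3 ∧
    (P : Subgroup G) ≤ Subgroup.centralizer (((P : Subgroup G) ⊓ (R : Subgroup G) : Subgroup G) : Set G) ∧
    (R : Subgroup G) ≤ Subgroup.centralizer (((P : Subgroup G) ⊓ (R : Subgroup G) : Subgroup G) : Set G) ∧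
    (Nat.card (Subgroup.centralizer (((P : Subgroup G) ⊓ (R : Subgroup G) : Subgroup G) : Set G)) = 36 ∨
      Nat.card (Subgroup.centralizer (((P : Subgroup G) ⊓ (R : Subgroup G) : Subgroup G) : Set G)) = 72) ∧
    (Nat.card (Subgroup.normalizer (((P : Subgroup G) ⊓ (R : Subgroup G) : Subgroup G) : Set G)) = 36 ∨
      Nat.card (Subgroup.normalizer (((P : Subgroup G) ⊓ (R : Subgroup G) : Subgroup G) : Set G)) = 72) := by
  haveI : Fact (Nat.Prime 3) := ⟨by norm_num⟩
  set D : Subgroup G := (P : Subgroup G) ⊓ (R : Subgroup G) with hDdef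
  have hP9 := card_sylow3 h P
  have hR9 := card_sylow3 h R
  have hDP : D ≤ (P : Subgroup G) := inf_le_left
  have hDR : D ≤ (R : Subgroup G) := inf_le_right
  -- |D| = 3
  have hDdvd : Nat.card D ∣ 9 := by rw [← hP9]; exact Subgroup.card_dvd_of_le hDP
  have hD1 : Nat.card D ≠ 1 := by
    intro h1
    exact hne (Subgroup.card_eq_one.1 h1)
  have hD9 : Nat.card D ≠ 9 := by
    intro h9
    have hDP' : D = (P : Subgroup G) :=
      Subgroup.eq_of_le_of_card_ge hDP (by rw [h9, hP9])
    have hPR' : (P : Subgroup G) ≤ (R : Subgroup G) := by rw [← hDP']; exact hDR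
    have hPR'' : (P : Subgroup G) = (R : Subgroup G) :=
      Subgroup.eq_of_le_of_card_ge hPR' (by rw [hP9, hR9])
    exact hPR (Sylow.ext hPR'')
  have hD3 : Nat.card D = 3 := by
    have hle : Nat.card D ≤ 9 := Nat.le_of_dvd (by norm_num) hDdvd
    have hpos : 0 < Nat.card D := Nat.card_pos
    interval_cases hn : Nat.card D <;> simp_all
  -- P, R ≤ C(D)
  have hPC : (P : Subgroup G) ≤ Subgroup.centralizer (D : Set G) := by
    intro x hx
    rw [Subgroup.mem_centralizer_iff]
    intro d hd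
    exact commute_of_card_nine (P : Subgroup G) hP9 d x (hDP hd) hx
  have hRC : (R : Subgroup G) ≤ Subgroup.centralizer (D : Set G) := by
    intro x hx
    rw [Subgroup.mem_centralizer_iff]
    intro d hd
    exact commute_of_card_nine (R : Subgroup G) hR9 d x (hDR hd) hx
  have hCN : Subgroup.centralizer (D : Set G) ≤ Subgroup.normalizer (D : Set G) :=
    Subgroup.centralizer_le_normalizer _
  -- N(D) proper
  have hDtop : D ≠ ⊤ := by
    intro ht
    have : Nat.card D = 720 := by rw [ht, Subgroup.card_top, h]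
    omega
  have hNtop : Subgroup.normalizer (D : Set G) ≠ ⊤ :=
    Cfsg.Agent.Lead.normalizer_ne_top_of_simple D hne hDtop
  have hCtop : Subgroup.centralizer (D : Set G) ≠ ⊤ := by
    intro ht
    apply hNtop
    rw [eq_top_iff, ← ht]
    exact hCN
  have hN5 : ¬ 5 ∣ Nat.card (Subgroup.normalizer (D : Set G)) := hF3 D hD3
  have hC5 : ¬ 5 ∣ Nat.card (Subgroup.centralizer (D : Set G)) := by
    intro h5
    exact hN5 (h5.trans (Subgroup.card_dvd_of_le hCN))
  have hN720 : Nat.card (Subgroup.normalizer (D : Set G)) ∣ 720 := by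
    rw [← h]; exact Subgroup.card_subgroup_dvd_card _
  have hC720 : Nat.card (Subgroup.centralizer (D : Set G)) ∣ 720 := by
    rw [← h]; exact Subgroup.card_subgroup_dvd_card _
  have hC9 : 9 ∣ Nat.card (Subgroup.centralizer (D : Set G)) := by
    rw [← hP9]; exact Subgroup.card_dvd_of_le hPC
  have hN9 : 9 ∣ Nat.card (Subgroup.normalizer (D : Set G)) :=
    hC9.trans (Subgroup.card_dvd_of_le hCN)
  have hC36 : 36 ≤ Nat.card (Subgroup.centralizer (D : Set G)) := by
    have := (Cfsg.Agent.Lead.card_ge_of_two_sylow_le P R hPR _ hPC hRC).2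
    rw [hP9] at this
    omega
  have hN36 : 36 ≤ Nat.card (Subgroup.normalizer (D : Set G)) := by
    have := (Cfsg.Agent.Lead.card_ge_of_two_sylow_le P R hPR _ (hPC.trans hCN)
      (hRC.trans hCN)).2
    rw [hP9] at this
    omega
  exact ⟨hD3, hPC, hRC, arith_36_72 hC9 hC720 hC5 hC36 (hF1 _ hCtop),
    arith_36_72 hN9 hN720 hN5 hN36 (hF1 _ hNtop)⟩

end Cfsg.Agent.Helper19.Ord720
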