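import Mathlib
import Cfsg.Agent.Lib.Helper19.Ord720A1Core

/-!
# S0496, order 720: auxiliary lemmas (helper19)
-/

set_option autoImplicit false
set_option linter.unusedSectionVars false
set_option linter.unusedVariables false
set_option linter.style.haveILetI false
set_option linter.unusedSimpArgs false

namespace Cfsg.Agent.Helper19.Ord720

open Cfsg

variable {G : Type*} [Group G] [Finite G]

/-- In a finite group, `g` normalizes `K` as soon as it conjugates `K` into itself. -/
theorem mem_normalizer_of_conj_mem (K : Subgroup G) (g : G) (h : ∀ x ∈ K, g * x * g⁻¹ ∈ K) :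
    g ∈ Subgroup.normalizer (K : Set G) := by
  rw [Subgroup.mem_normalizer_iff]
  intro x
  refine ⟨h x, fun hx => ?_⟩
  let f : K → K := fun k => ⟨g * k * g⁻¹, h k k.2⟩
  have hf : Function.Injective f := by
    intro a b hab
    have h1 : g * (a : G) * g⁻¹ = g * (b : G) * g⁻¹ := congrArg Subtype.val hab
    apply Subtype.ext
    have h2 : g * (a : G) = g * (b : G) := mul_right_cancel h1
    exact mul_left_cancel h2
  have hs : Function.Surjective f := Finite.injective_iff_surjective.1 hf
  obtain ⟨k, hk⟩ := hs ⟨g * x * g⁻¹, hx⟩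
  have h1 : g * (k : G) * g⁻¹ = g * x * g⁻¹ := congrArg Subtype.val hk
  have h2 : (k : G) = x := mul_left_cancel (mul_right_cancel h1)
  rw [← h2]
  exact k.2

/-- The normalizer of `D` normalizes the centralizer of `D`. -/
theorem normalizer_le_normalizer_centralizer (D : Subgroup G) :
    Subgroup.normalizer (D : Set G) ≤
      Subgroup.normalizer ((Subgroup.centralizer (D : Set G) : Subgroup G) : Set G) := by
  intro g hg
  apply mem_normalizer_of_conj_mem
  intro c hc
  rw [Subgroup.mem_centralizer_iff] at hc ⊢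
  intro d hd
  have hd' : g⁻¹ * d * g ∈ D := by
    have := (Subgroup.mem_normalizer_iff.1 (Subgroup.inv_mem _ hg) d).1 hd
    simpa using this
  have h1 := hc _ hd'
  calc d * (g * c * g⁻¹) = g * ((g⁻¹ * d * g) * c) * g⁻¹ := by group
    _ = g * (c * (g⁻¹ * d * g)) * g⁻¹ := by rw [h1]
    _ = g * c * g⁻¹ * d := by group

/-- A `p`-subgroup commuting elementwise with a Sylow `p`-subgroup lies in it. -/
theorem le_sylow_of_commute {p : ℕ} [Fact p.Prime] (P : Sylow p G) (E : Subgroup G)
    (hE : IsPGroup p E) (hcomm : ∀ e ∈ E, ∀ x ∈ (P : Subgroup G), e * x = x * e) :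
    E ≤ (P : Subgroup G) := by
  have hEN : E ≤ Subgroup.normalizer ((P : Subgroup G) : Set G) := by
    intro e he
    apply mem_normalizer_of_conj_mem
    intro x hx
    have := hcomm e he x hx
    have h2 : e * x * e⁻¹ = x := by rw [this]; group
    rw [h2]; exact hx
  have hsup : IsPGroup p (E ⊔ (P : Subgroup G) : Subgroup G) :=
    hE.to_sup_of_normal_right' P.2 hEN
  have hmax := P.is_maximal' hsup le_sup_right
  calc E ≤ E ⊔ (P : Subgroup G) := le_sup_left
    _ = (P : Subgroup G) := hmax

theorem arith_72 {n : ℕ} (h72 : 72 ∣ n) (h720 : n ∣ 720) (hhi : n ≤ 90) : n = 72 := by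
  obtain ⟨k, rfl⟩ := h72
  have hpos : 0 < 72 * k := Nat.pos_of_dvd_of_pos h720 (by norm_num)
  have hk2 : k ≤ 1 := by omega
  have hk1 : 1 ≤ k := by omega
  interval_cases k
  rfl

/-- conjugate subgroup as a map -/
theorem card_map_conj (K : Subgroup G) (g : G) :
    Nat.card (K.map (MulAut.conj g).toMonoidHom) = Nat.card K :=
  Subgroup.card_map_of_injective (MulAut.conj g).injective

theorem mem_map_conj {K : Subgroup G} {g y : G} :
    y ∈ K.map (MulAut.conj g).toMonoidHom ↔ ∃ x ∈ K, g * x * g⁻¹ = y := by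
  rw [Subgroup.mem_map]
  simp

end Cfsg.Agent.Helper19.Ord720
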