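import Mathlib
import Cfsg.Agent.Lib.Helper19.Ord720Aux

/-!
# S0496 piece 720-A3 (helper19), core version with F1/F3/A2 as hypotheses
-/

set_option autoImplicit false
set_option linter.unusedSectionVars false
set_option linter.unusedVariables false
set_option linter.style.haveILetI false
set_option linter.unusedSimpArgs false

namespace Cfsg.Agent.Helper19.Ord720

open Cfsg

universe u

variable {G : Type u} [Group G] [Finite G]

/-- the statement of piece A2 at universe `u` -/
def A2Hyp : Prop :=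
  ∀ {C : Type u} [Group C] [Finite C], Nat.card C = 36 → ∀ D : Subgroup C, Nat.card D = 3 →
    D ≤ Subgroup.center C → (∃ P R : Sylow 3 C, P ≠ R) → ∀ S T : Sylow 2 C, S = T

theorem sylow_subtype_ne {p : ℕ} [Fact p.Prime] (P R : Sylow p G) (hPR : P ≠ R)
    (H : Subgroup G) (hP : (P : Subgroup G) ≤ H) (hR : (R : Subgroup G) ≤ H) :
    P.subtype hP ≠ R.subtype hR := by
  intro h
  apply hPR
  have h1 : ((P.subtype hP : Sylow p H) : Subgroup H) = ((R.subtype hR : Sylow p H) : Subgroup H) := by
    rw [h]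
  rw [Sylow.coe_subtype, Sylow.coe_subtype, Subgroup.subgroupOf_inj, inf_of_le_left hP,
    inf_of_le_left hR] at h1
  exact Sylow.ext h1

/-- the unique subgroup of order 4 of `C(D)` when `|C(D)| = 36` -/
theorem exists_T_of_card_36 (hA2 : A2Hyp.{u}) (P R : Sylow 3 G) (hPR : P ≠ R) (D : Subgroup G)
    (hD3 : Nat.card D = 3)
    (hPC : (P : Subgroup G) ≤ Subgroup.centralizer (D : Set G))
    (hRC : (R : Subgroup G) ≤ Subgroup.centralizer (D : Set G))
    (hDC : D ≤ Subgroup.centralizer (D : Set G))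
    (hC36 : Nat.card (Subgroup.centralizer (D : Set G)) = 36) :
    ∃ T : Subgroup G, Nat.card T = 4 ∧ T ≤ Subgroup.centralizer (D : Set G) ∧
      ∀ T' : Subgroup G, T' ≤ Subgroup.centralizer (D : Set G) → Nat.card T' = 4 → T' = T := by
  haveI : Fact (Nat.Prime 3) := ⟨by norm_num⟩
  haveI : Fact (Nat.Prime 2) := ⟨by norm_num⟩
  set C : Subgroup G := Subgroup.centralizer (D : Set G) with hCdef
  have hcen : D.subgroupOf C ≤ Subgroup.center C := by
    intro d hd
    rw [Subgroup.mem_center_iff]
    intro c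
    apply Subtype.ext
    have hd' : (d : G) ∈ D := Subgroup.mem_subgroupOf.1 hd
    have hc : (c : G) ∈ Subgroup.centralizer (D : Set G) := c.2
    rw [Subgroup.mem_centralizer_iff] at hc
    have := hc _ hd'
    simpa using this.symm
  have hcard3 : Nat.card (D.subgroupOf C) = 3 := by
    rw [Cfsg.Agent.Lead.card_subgroupOf_eq, inf_of_le_left hDC, hD3]
  have key := hA2 (C := C) hC36 (D.subgroupOf C) hcard3 hcen
    ⟨P.subtype hPC, R.subtype hRC, sylow_subtype_ne P R hPR C hPC hRC⟩
  obtain ⟨T0⟩ : Nonempty (Sylow 2 C) := inferInstance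
  have hT0 : Nat.card (T0 : Subgroup C) = 4 := by
    have hc : Nat.card C = 2 ^ 2 * 9 := by rw [hC36]; norm_num
    have := (Cfsg.Agent.Lead.sylow_facts hc (by norm_num)).1 T0
    simpa using this
  refine ⟨(T0 : Subgroup C).map C.subtype, ?_, ?_, ?_⟩
  · rw [Subgroup.card_map_of_injective C.subtype_injective, hT0]
  · exact Subgroup.map_subtype_le _
  · intro T' hT'C hT'4
    have h4 : Nat.card (T'.subgroupOf C) = 4 := by
      rw [Cfsg.Agent.Lead.card_subgroupOf_eq, inf_of_le_left hT'C, hT'4]
    have hp : IsPGroup 2 (T'.subgroupOf C) := IsPGroup.of_card (n := 2) (by rw [h4]; norm_num)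
    obtain ⟨Q, hQ⟩ := hp.exists_le_sylow
    have hQT : Q = T0 := key Q T0
    rw [hQT] at hQ
    have heq : T'.subgroupOf C = (T0 : Subgroup C) :=
      Subgroup.eq_of_le_of_card_ge hQ (by rw [h4, hT0])
    rw [← heq, Subgroup.subgroupOf_map_subtype, inf_of_le_left hT'C]

/-- `N(C)` normalizes the unique subgroup of order 4 of `C` -/
theorem normalizer_le_of_unique (C T : Subgroup G) (hT4 : Nat.card T = 4) (hTC : T ≤ C)
    (huniq : ∀ T' : Subgroup G, T' ≤ C → Nat.card T' = 4 → T' = T) :
    Subgroup.normalizer (C : Set G) ≤ Subgroup.normalizer (T : Set G) := by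
  intro g hg
  apply mem_normalizer_of_conj_mem
  intro x hx
  have h1 : T.map (MulAut.conj g).toMonoidHom ≤ C := by
    intro y hy
    obtain ⟨x', hx', rfl⟩ := mem_map_conj.1 hy
    exact (Subgroup.mem_normalizer_iff.1 hg x').1 (hTC hx')
  have h2 := huniq _ h1 (by rw [card_map_conj, hT4])
  rw [← h2]
  exact mem_map_conj.2 ⟨x, hx, rfl⟩

theorem card_normalizer_T [IsSimpleGroup G]
    (hF1 : ∀ H : Subgroup G, H ≠ ⊤ → Nat.card H ≤ 90)
    (h : Nat.card G = 720) (T : Subgroup G) (hT4 : Nat.card T = 4) (K : Subgroup G)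
    (hK : K ≤ Subgroup.normalizer (T : Set G)) (h9 : 9 ∣ Nat.card K) :
    Nat.card (Subgroup.normalizer (T : Set G)) = 72 := by
  haveI : Fact (Nat.Prime 2) := ⟨by norm_num⟩
  have hTb : T ≠ ⊥ := by
    intro hb
    rw [hb, Subgroup.card_bot] at hT4
    omega
  have hTt : T ≠ ⊤ := by
    intro ht
    rw [ht, Subgroup.card_top, h] at hT4
    omega
  have hNtop := Cfsg.Agent.Lead.normalizer_ne_top_of_simple T hTb hTt
  have h90 := hF1 _ hNtop
  have h8 : 8 ∣ Nat.card (Subgroup.normalizer (T : Set G)) := by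
    have := Sylow.prime_pow_dvd_card_normalizer (G := G) (p := 2) (n := 2)
      (by rw [h]; norm_num) (H := T) (by rw [hT4]; norm_num)
    simpa using this
  have h9' : 9 ∣ Nat.card (Subgroup.normalizer (T : Set G)) :=
    h9.trans (Subgroup.card_dvd_of_le hK)
  have h72 : 72 ∣ Nat.card (Subgroup.normalizer (T : Set G)) := by
    have hcop : Nat.Coprime 8 9 := by norm_num
    have := hcop.mul_dvd_of_dvd_of_dvd h8 h9'
    simpa using this
  have h720 : Nat.card (Subgroup.normalizer (T : Set G)) ∣ 720 := by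
    rw [← h]; exact Subgroup.card_subgroup_dvd_card _
  exact arith_72 h72 h720 h90

theorem c720_A3_core [IsSimpleGroup G]
    (hF1 : ∀ H : Subgroup G, H ≠ ⊤ → Nat.card H ≤ 90)
    (hF3 : ∀ X : Subgroup G, Nat.card X = 3 →
      ¬ 5 ∣ Nat.card (Subgroup.normalizer (X : Set G)))
    (hA2 : A2Hyp.{u})
    (h : Nat.card G = 720) (P R : Sylow 3 G) (hPR : P ≠ R)
    (hne : (P : Subgroup G) ⊓ (R : Subgroup G) ≠ ⊥) :
    ∃ D : Subgroup G, Nat.card D = 3 ∧ Nat.card (Subgroup.normalizer (D : Set G)) = 72 ∧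
      (Nat.card (Subgroup.centralizer (D : Set G)) = 72 ∨
        (Nat.card (Subgroup.centralizer (D : Set G)) = 36 ∧
          ∃ T : Subgroup G, Nat.card T = 4 ∧ T ≤ Subgroup.centralizer (D : Set G) ∧
            Subgroup.normalizer (T : Set G) = Subgroup.normalizer (D : Set G))) := by
  haveI : Fact (Nat.Prime 3) := ⟨by norm_num⟩
  obtain ⟨hD3, hPC, hRC, hCc, hNc⟩ := c720_A1_core hF1 hF3 h P R hPR hne
  set D : Subgroup G := (P : Subgroup G) ⊓ (R : Subgroup G) with hDdef
  have hDP : D ≤ (P : Subgroup G) := inf_le_left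
  have hDR : D ≤ (R : Subgroup G) := inf_le_right
  have hDC : D ≤ Subgroup.centralizer (D : Set G) := hDP.trans hPC
  have hCN : Subgroup.centralizer (D : Set G) ≤ Subgroup.normalizer (D : Set G) :=
    Subgroup.centralizer_le_normalizer _
  have hP9 := card_sylow3 h P
  have hC9 : 9 ∣ Nat.card (Subgroup.centralizer (D : Set G)) := by
    rw [← hP9]; exact Subgroup.card_dvd_of_le hPC
  rcases hNc with hN36 | hN72
  · -- the case `|N(D)| = 36` is impossible
    exfalso
    have hC36 : Nat.card (Subgroup.centralizer (D : Set G)) = 36 := by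
      have hle := Subgroup.card_le_of_le hCN
      rcases hCc with h1 | h1
      · exact h1
      · omega
    obtain ⟨T, hT4, hTC, huniq⟩ := exists_T_of_card_36 hA2 P R hPR D hD3 hPC hRC hDC hC36
    have hNCT := normalizer_le_of_unique _ T hT4 hTC huniq
    have hCT : Subgroup.centralizer (D : Set G) ≤ Subgroup.normalizer (T : Set G) :=
      Subgroup.le_normalizer.trans hNCT
    have hH72 := card_normalizer_T hF1 h T hT4 _ hCT hC9
    set H : Subgroup G := Subgroup.normalizer (T : Set G) with hHdef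
    set C : Subgroup G := Subgroup.centralizer (D : Set G) with hCdef
    -- `C` is normal in `H` (index 2)
    have hidx : (C.subgroupOf H).index = 2 := by
      have h1 := Subgroup.card_mul_index (C.subgroupOf H)
      rw [Cfsg.Agent.Lead.card_subgroupOf_eq, inf_of_le_left hCT, hC36, hH72] at h1
      omega
    have hnorm : (C.subgroupOf H).Normal := Subgroup.normal_of_index_eq_two hidx
    have hconj : ∀ g ∈ H, ∀ c ∈ C, g * c * g⁻¹ ∈ C := by
      intro g hg c hc
      have hcH : c ∈ H := hCT hc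
      have := hnorm.conj_mem ⟨c, hcH⟩ (Subgroup.mem_subgroupOf.2 hc) ⟨g, hg⟩
      exact Subgroup.mem_subgroupOf.1 this
    -- `H ≤ N(D)`
    have hHN : H ≤ Subgroup.normalizer (D : Set G) := by
      intro g hg
      apply mem_normalizer_of_conj_mem
      intro d hd
      set E : Subgroup G := D.map (MulAut.conj g).toMonoidHom with hEdef
      have hE3 : Nat.card E = 3 := by rw [hEdef, card_map_conj, hD3]
      have hEp : IsPGroup 3 E := IsPGroup.of_card (n := 1) (by rw [hE3]; norm_num)
      have hcomm : ∀ e ∈ E, ∀ x ∈ C, e * x = x * e := by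
        intro e he x hx
        obtain ⟨d', hd', rfl⟩ := mem_map_conj.1 he
        have hx' : g⁻¹ * x * g ∈ C := by
          have := hconj g⁻¹ (Subgroup.inv_mem _ hg) x hx
          simpa using this
        rw [hCdef, Subgroup.mem_centralizer_iff] at hx'
        have h1 := hx' d' hd'
        calc g * d' * g⁻¹ * x = g * (d' * (g⁻¹ * x * g)) * g⁻¹ := by group
          _ = g * ((g⁻¹ * x * g) * d') * g⁻¹ := by rw [h1]
          _ = x * (g * d' * g⁻¹) := by group
      have hEP : E ≤ (P : Subgroup G) :=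
        le_sylow_of_commute P E hEp (fun e he x hx => hcomm e he x (hPC hx))
      have hER : E ≤ (R : Subgroup G) :=
        le_sylow_of_commute R E hEp (fun e he x hx => hcomm e he x (hRC hx))
      have hED : E ≤ D := le_inf hEP hER
      have hEeq : E = D := Subgroup.eq_of_le_of_card_ge hED (by rw [hE3, hD3])
      rw [← hEeq]
      exact mem_map_conj.2 ⟨d, hd, rfl⟩
    have := Subgroup.card_le_of_le hHN
    omega
  · rcases hCc with hC36 | hC72
    · obtain ⟨T, hT4, hTC, huniq⟩ := exists_T_of_card_36 hA2 P R hPR D hD3 hPC hRC hDC hC36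
      have hNCT := normalizer_le_of_unique _ T hT4 hTC huniq
      have hNT : Subgroup.normalizer (D : Set G) ≤ Subgroup.normalizer (T : Set G) :=
        (normalizer_le_normalizer_centralizer D).trans hNCT
      have hCT : Subgroup.centralizer (D : Set G) ≤ Subgroup.normalizer (T : Set G) :=
        hCN.trans hNT
      have hH72 := card_normalizer_T hF1 h T hT4 _ hCT hC9
      have heq : Subgroup.normalizer (D : Set G) = Subgroup.normalizer (T : Set G) :=
        Subgroup.eq_of_le_of_card_ge hNT (by rw [hH72, hN72])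
      exact ⟨D, hD3, hN72, Or.inr ⟨hC36, T, hT4, hTC, heq.symm⟩⟩
    · exact ⟨D, hD3, hN72, Or.inl hC72⟩

end Cfsg.Agent.Helper19.Ord720
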