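import Mathlib
import Cfsg.Agent.Lib.Helper1.Ord720F
import Cfsg.Agent.Lib.Helper1.Ord720A2
import Cfsg.Agent.Lib.Helper19.Ord720A3Core

set_option linter.unusedSectionVars false
set_option linter.unusedVariables false

namespace Cfsg.Agent.Helper3.SmallOrd

variable {G : Type*} [Group G] [Finite G] [IsSimpleGroup G]

/-- A3 (exact skeleton signature). -/
theorem c720_A3 (h : Nat.card G = 720) (P R : Sylow 3 G) (hPR : P ≠ R)
    (hne : (P : Subgroup G) ⊓ (R : Subgroup G) ≠ ⊥) :
    ∃ D : Subgroup G, Nat.card D = 3 ∧ Nat.card (Subgroup.normalizer (D : Set G)) = 72 ∧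
      (Nat.card (Subgroup.centralizer (D : Set G)) = 72 ∨
        (Nat.card (Subgroup.centralizer (D : Set G)) = 36 ∧
          ∃ T : Subgroup G, Nat.card T = 4 ∧ T ≤ Subgroup.centralizer (D : Set G) ∧
            Subgroup.normalizer (T : Set G) = Subgroup.normalizer (D : Set G))) :=
  Cfsg.Agent.Helper19.Ord720.c720_A3_core (fun H hH => c720_card_le h H hH)
    (fun X hX => c720_not_five_dvd h X (Or.inr (Or.inl hX)))
    (fun {C} _ _ hC D hD hDc hn => sylow2_unique_of_card_36 hC D hD hDc hn) h P R hPR hne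

end Cfsg.Agent.Helper3.SmallOrd
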