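import Mathlib
import Cfsg.Agent.Lib.Helper19.Ord720Aux
import Cfsg.Agent.Lib.Helper19.PGroupBasic

/-!
# S0496 piece 720-A4 (helper19), core version with F1 as hypothesis
-/

set_option autoImplicit false
set_option linter.unusedSectionVars false
set_option linter.unusedVariables false
set_option linter.style.haveILetI false
set_option linter.unusedSimpArgs false

namespace Cfsg.Agent.Helper19.Ord720

open Cfsg

variable {G : Type*} [Group G] [Finite G]

/-- index two inside a bigger subgroup, by cardinality -/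
theorem index_subgroupOf_of_card_two (A B : Subgroup G) (hAB : A ≤ B)
    (hc : Nat.card B = 2 * Nat.card A) : (A.subgroupOf B).index = 2 := by
  have h1 := Subgroup.card_mul_index (A.subgroupOf B)
  rw [Cfsg.Agent.Lead.card_subgroupOf_eq, inf_of_le_left hAB, hc] at h1
  have hpos : 0 < Nat.card A := Nat.card_pos
  have : Nat.card A * (A.subgroupOf B).index = Nat.card A * 2 := by rw [h1]; ring
  exact Nat.eq_of_mul_eq_mul_left hpos this

theorem mul_mem_iff_of_card_two (A B : Subgroup G) (hAB : A ≤ B)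
    (hc : Nat.card B = 2 * Nat.card A) {a b : G} (ha : a ∈ B) (hb : b ∈ B) :
    a * b ∈ A ↔ (a ∈ A ↔ b ∈ A) := by
  have h2 := index_subgroupOf_of_card_two A B hAB hc
  have := Subgroup.mul_mem_iff_of_index_two h2 (a := (⟨a, ha⟩ : B)) (b := ⟨b, hb⟩)
  simpa [Subgroup.mem_subgroupOf] using this

theorem conj_mem_of_card_two (A B : Subgroup G) (hAB : A ≤ B)
    (hc : Nat.card B = 2 * Nat.card A) {g x : G} (hg : g ∈ B) (hx : x ∈ A) :
    g * x * g⁻¹ ∈ A := by
  have h2 := index_subgroupOf_of_card_two A B hAB hc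
  have hn : (A.subgroupOf B).Normal := Subgroup.normal_of_index_eq_two h2
  have := hn.conj_mem ⟨x, hAB hx⟩ (Subgroup.mem_subgroupOf.2 hx) ⟨g, hg⟩
  exact Subgroup.mem_subgroupOf.1 this

/-- Sylow 2 set-up: a subgroup `S1` of order 8 of `M` (order 72) containing a given 2-subgroup
`T0`, and a Sylow 2-subgroup `S` of `G` with `S ⊓ M = S1`. -/
theorem exists_S1_S (h : Nat.card G = 720) (M : Subgroup G) (hM : Nat.card M = 72)
    (T0 : Subgroup G) (hT0 : IsPGroup 2 T0) (hT0M : T0 ≤ M) :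
    ∃ S1 : Subgroup G, T0 ≤ S1 ∧ S1 ≤ M ∧ Nat.card S1 = 8 ∧
      ∃ S : Sylow 2 G, S1 ≤ (S : Subgroup G) ∧ Nat.card (S : Subgroup G) = 16 ∧
        (S : Subgroup G) ⊓ M = S1 := by
  haveI : Fact (Nat.Prime 2) := ⟨by norm_num⟩
  have hp : IsPGroup 2 (T0.subgroupOf M) := hT0.comap_subtype
  obtain ⟨S1', hS1'⟩ := hp.exists_le_sylow
  have hS1'8 : Nat.card (S1' : Subgroup M) = 8 := by
    have hc : Nat.card M = 2 ^ 3 * 9 := by rw [hM]; norm_num
    have := (Cfsg.Agent.Lead.sylow_facts hc (by norm_num)).1 S1'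
    simpa using this
  set S1 : Subgroup G := (S1' : Subgroup M).map M.subtype with hS1def
  have hS18 : Nat.card S1 = 8 := by
    rw [hS1def, Subgroup.card_map_of_injective M.subtype_injective, hS1'8]
  have hS1M : S1 ≤ M := Subgroup.map_subtype_le _
  have hT0S1 : T0 ≤ S1 := by
    intro x hx
    rw [hS1def, Subgroup.mem_map]
    exact ⟨⟨x, hT0M hx⟩, hS1' (Subgroup.mem_subgroupOf.2 hx), rfl⟩
  have hS1p : IsPGroup 2 S1 := IsPGroup.of_card (n := 3) (by rw [hS18]; norm_num)
  obtain ⟨S, hS⟩ := hS1p.exists_le_sylow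
  have hS16 : Nat.card (S : Subgroup G) = 16 := by
    have hc : Nat.card G = 2 ^ 4 * 45 := by rw [h]; norm_num
    have := (Cfsg.Agent.Lead.sylow_facts hc (by norm_num)).1 S
    simpa using this
  refine ⟨S1, hT0S1, hS1M, hS18, S, hS, hS16, ?_⟩
  have hle : S1 ≤ (S : Subgroup G) ⊓ M := le_inf hS hS1M
  have hd1 : Nat.card ((S : Subgroup G) ⊓ M : Subgroup G) ∣ 16 := by
    rw [← hS16]; exact Subgroup.card_dvd_of_le inf_le_left
  have hd2 : Nat.card ((S : Subgroup G) ⊓ M : Subgroup G) ∣ 72 := by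
    rw [← hM]; exact Subgroup.card_dvd_of_le inf_le_right
  have hd3 : Nat.card ((S : Subgroup G) ⊓ M : Subgroup G) ∣ 8 := by
    have := Nat.dvd_gcd hd1 hd2
    simpa using this
  have hle8 : Nat.card ((S : Subgroup G) ⊓ M : Subgroup G) ≤ 8 := Nat.le_of_dvd (by norm_num) hd3
  exact (Subgroup.eq_of_le_of_card_ge hle (by rw [hS18]; exact hle8)).symm

/-- the final contradiction from an involution `z ∈ C(D)` centralized by a Sylow 2-subgroup -/
theorem final_contra [IsSimpleGroup G]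
    (hF1 : ∀ H : Subgroup G, H ≠ ⊤ → Nat.card H ≤ 90)
    (h : Nat.card G = 720) (D : Subgroup G) (hD : Nat.card D = 3)
    (hM : Nat.card (Subgroup.normalizer (D : Set G)) = 72)
    (S1 : Subgroup G) (hS1M : S1 ≤ Subgroup.normalizer (D : Set G)) (hS18 : Nat.card S1 = 8)
    (S : Sylow 2 G) (hS1S : S1 ≤ (S : Subgroup G)) (hS16 : Nat.card (S : Subgroup G) = 16)
    (z : G) (hz2 : orderOf z = 2) (hzD : ∀ d ∈ D, d * z = z * d)
    (hzS : ∀ s ∈ (S : Subgroup G), s * z = z * s) : False := by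
  haveI : Fact (Nat.Prime 3) := ⟨by norm_num⟩
  set Z : Subgroup G := Subgroup.zpowers z with hZdef
  have hZ2 : Nat.card Z = 2 := by rw [hZdef, Nat.card_zpowers, hz2]
  set K : Subgroup G := Subgroup.normalizer (Z : Set G) with hKdef
  have hcommK : ∀ g : G, g * z = z * g → g ∈ K := by
    intro g hg
    apply mem_normalizer_of_conj_mem
    intro x hx
    obtain ⟨k, rfl⟩ := Subgroup.mem_zpowers_iff.1 hx
    have hc : Commute g (z ^ k) := (show Commute g z from hg).zpow_right k
    have : g * z ^ k * g⁻¹ = z ^ k := by rw [hc.eq]; group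
    rw [this]
    exact hx
  have hSK : (S : Subgroup G) ≤ K := fun s hs => hcommK s (hzS s hs)
  have hDK : D ≤ K := fun d hd => hcommK d (hzD d hd)
  have hZb : Z ≠ ⊥ := by
    intro hb
    rw [hb, Subgroup.card_bot] at hZ2
    omega
  have hZt : Z ≠ ⊤ := by
    intro ht
    rw [ht, Subgroup.card_top, h] at hZ2
    omega
  have hKtop := Cfsg.Agent.Lead.normalizer_ne_top_of_simple Z hZb hZt
  have hK90 : Nat.card K ≤ 90 := hF1 _ hKtop
  have h16 : 16 ∣ Nat.card K := by rw [← hS16]; exact Subgroup.card_dvd_of_le hSK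
  have h3 : 3 ∣ Nat.card K := by rw [← hD]; exact Subgroup.card_dvd_of_le hDK
  have h48 : 48 ∣ Nat.card K := by
    have hcop : Nat.Coprime 16 3 := by norm_num
    have := hcop.mul_dvd_of_dvd_of_dvd h16 h3
    simpa using this
  have hK48 : Nat.card K = 48 := by
    obtain ⟨k, hk⟩ := h48
    have hpos : 0 < Nat.card K := Nat.card_pos
    have hk1 : k = 1 := by omega
    rw [hk, hk1]
  -- `N_K(D) = K ⊓ N(D)` has order 24
  set M : Subgroup G := Subgroup.normalizer (D : Set G) with hMdef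
  have hDM : D ≤ M := Subgroup.le_normalizer
  have hS1KM : S1 ≤ K ⊓ M := le_inf (hS1S.trans hSK) hS1M
  have hDKM : D ≤ K ⊓ M := le_inf hDK hDM
  have h8' : 8 ∣ Nat.card (K ⊓ M : Subgroup G) := by
    rw [← hS18]; exact Subgroup.card_dvd_of_le hS1KM
  have h3' : 3 ∣ Nat.card (K ⊓ M : Subgroup G) := by
    rw [← hD]; exact Subgroup.card_dvd_of_le hDKM
  have h24 : 24 ∣ Nat.card (K ⊓ M : Subgroup G) := by
    have hcop : Nat.Coprime 8 3 := by norm_num
    have := hcop.mul_dvd_of_dvd_of_dvd h8' h3'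
    simpa using this
  have hd48 : Nat.card (K ⊓ M : Subgroup G) ∣ 48 := by
    rw [← hK48]; exact Subgroup.card_dvd_of_le inf_le_left
  have hd72 : Nat.card (K ⊓ M : Subgroup G) ∣ 72 := by
    rw [← hM]; exact Subgroup.card_dvd_of_le inf_le_right
  have hd24 : Nat.card (K ⊓ M : Subgroup G) ∣ 24 := by
    have := Nat.dvd_gcd hd48 hd72
    simpa using this
  have hKM24 : Nat.card (K ⊓ M : Subgroup G) = 24 := Nat.dvd_antisymm hd24 h24
  -- Sylow counting in `K`
  have hD'3 : Nat.card (D.subgroupOf K) = 3 ^ 1 := by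
    rw [Cfsg.Agent.Lead.card_subgroupOf_eq, inf_of_le_left hDK, hD]; norm_num
  have hmod := Sylow.card_normalizer_modEq_card (G := K) (p := 3) (n := 1) hD'3
  have hnorm : Nat.card (Subgroup.normalizer ((D.subgroupOf K : Subgroup K) : Set K)) = 24 := by
    rw [← Subgroup.subgroupOf_normalizer_eq hDK, Cfsg.Agent.Lead.card_subgroupOf_eq,
      inf_comm, hKM24]
  rw [hnorm, hK48] at hmod
  revert hmod
  decide

end Cfsg.Agent.Helper19.Ord720
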