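import Mathlib
import Cfsg.Agent.Lib.Helper19.Ord720A4Core

/-!
# S0496 piece 720-A4 (helper19): the two cases and the assembly (F1 as hypothesis)
-/

set_option autoImplicit false
set_option linter.unusedSectionVars false
set_option linter.unusedVariables false
set_option linter.style.haveILetI false
set_option linter.unusedSimpArgs false

namespace Cfsg.Agent.Helper19.Ord720

open Cfsg

variable {G : Type*} [Group G] [Finite G]

/-- a nontrivial subgroup `S1` of index 2 in a 2-group `S` contains a central involution of `S` -/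
theorem exists_central_involution (S S1 : Subgroup G) (hS : IsPGroup 2 S) (hS1S : S1 ≤ S)
    (hc : Nat.card S = 2 * Nat.card S1) (hne : S1 ≠ ⊥) :
    ∃ z ∈ S1, orderOf z = 2 ∧ ∀ s ∈ S, s * z = z * s := by
  haveI : Fact (Nat.Prime 2) := ⟨by norm_num⟩
  have h2 := index_subgroupOf_of_card_two S1 S hS1S hc
  haveI hn : (S1.subgroupOf S).Normal := Subgroup.normal_of_index_eq_two h2
  have hNne : S1.subgroupOf S ≠ ⊥ := by
    intro hb
    apply hne
    rw [Subgroup.subgroupOf_eq_bot] at hb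
    rw [disjoint_iff, inf_of_le_left hS1S] at hb
    exact hb
  have hW := normal_inf_center_ne_bot (p := 2) hS (S1.subgroupOf S) hNne
  set W : Subgroup S := S1.subgroupOf S ⊓ Subgroup.center S with hWdef
  have hWp : IsPGroup 2 W := hS.to_subgroup W
  haveI : Nontrivial W := (Subgroup.nontrivial_iff_ne_bot W).2 hW
  obtain ⟨n, hn0, hn⟩ := hWp.nontrivial_iff_card.1 inferInstance
  have hdvd : 2 ∣ Nat.card W := by rw [hn]; exact dvd_pow_self 2 hn0.ne'
  obtain ⟨x, hx⟩ := exists_prime_orderOf_dvd_card' 2 hdvd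
  refine ⟨((x : S) : G), ?_, ?_, ?_⟩
  · have := (Subgroup.mem_inf.1 x.2).1
    exact Subgroup.mem_subgroupOf.1 this
  · rw [Subgroup.orderOf_coe, Subgroup.orderOf_coe, hx]
  · intro s hs
    have hcen := (Subgroup.mem_inf.1 x.2).2
    rw [Subgroup.mem_center_iff] at hcen
    have := hcen ⟨s, hs⟩
    exact congrArg Subtype.val this

/-- Case B: a central involution inside `T ⊓ T^s`. -/
theorem exists_z_caseB (S S1 T M : Subgroup G) (hS1S : S1 ≤ S) (hS16 : Nat.card S = 16)
    (hS18 : Nat.card S1 = 8) (hSM : S ⊓ M = S1) (hT4 : Nat.card T = 4) (hTS1 : T ≤ S1)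
    (hNT : Subgroup.normalizer (T : Set G) = M) :
    ∃ z ∈ T, orderOf z = 2 ∧ ∀ s ∈ S, s * z = z * s := by
  have hc : Nat.card S = 2 * Nat.card S1 := by rw [hS16, hS18]
  have hS1M : S1 ≤ M := by rw [← hSM]; exact inf_le_right
  -- an element of `S` outside `S1`
  have hlt : S1 < S := by
    refine lt_of_le_of_ne hS1S ?_
    intro heq
    rw [heq] at hS18
    omega
  obtain ⟨s, hsS, hsS1⟩ := SetLike.exists_of_lt hlt
  have hsM : s ∉ M := by
    intro hsM
    apply hsS1
    rw [← hSM]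
    exact Subgroup.mem_inf.2 ⟨hsS, hsM⟩
  have hnormT : ∀ g ∈ S1, ∀ x ∈ T, g * x * g⁻¹ ∈ T := by
    intro g hg x hx
    have hgN : g ∈ Subgroup.normalizer (T : Set G) := by rw [hNT]; exact hS1M hg
    exact (Subgroup.mem_normalizer_iff.1 hgN x).1 hx
  set T' : Subgroup G := T.map (MulAut.conj s).toMonoidHom with hT'def
  have hT'4 : Nat.card T' = 4 := by rw [hT'def, card_map_conj, hT4]
  have hT'ne : T' ≠ T := by
    intro heq
    apply hsM
    rw [← hNT]
    apply mem_normalizer_of_conj_mem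
    intro x hx
    rw [← heq]
    exact mem_map_conj.2 ⟨x, hx, rfl⟩
  have hT'S1 : T' ≤ S1 := by
    intro y hy
    obtain ⟨x, hx, rfl⟩ := mem_map_conj.1 hy
    exact conj_mem_of_card_two S1 S hS1S hc hsS (hTS1 hx)
  set Z0 : Subgroup G := T ⊓ T' with hZ0def
  have hZ0T : Z0 ≤ T := inf_le_left
  have hZ0S1 : Z0 ≤ S1 := hZ0T.trans hTS1
  -- `|Z0| = 2`
  have hrT : T.relIndex S1 = 2 := by
    have := Subgroup.relIndex_mul_relIndex (⊥ : Subgroup G) T S1 bot_le hTS1
    rw [Subgroup.relIndex_bot_left, Subgroup.relIndex_bot_left, hT4, hS18] at this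
    omega
  have hrT' : T'.relIndex S1 = 2 := by
    have := Subgroup.relIndex_mul_relIndex (⊥ : Subgroup G) T' S1 bot_le hT'S1
    rw [Subgroup.relIndex_bot_left, Subgroup.relIndex_bot_left, hT'4, hS18] at this
    omega
  have hrZ : Z0.relIndex S1 ≤ 4 := by
    have := Subgroup.relIndex_inf_le (H := T) (K := T') (L := S1)
    rw [hrT, hrT'] at this
    exact this
  have hZmul : Nat.card Z0 * Z0.relIndex S1 = 8 := by
    have := Subgroup.relIndex_mul_relIndex (⊥ : Subgroup G) Z0 S1 bot_le hZ0S1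
    rw [Subgroup.relIndex_bot_left, Subgroup.relIndex_bot_left, hS18] at this
    exact this
  have hZdvd : Nat.card Z0 ∣ 4 := by rw [← hT4]; exact Subgroup.card_dvd_of_le hZ0T
  have hZne4 : Nat.card Z0 ≠ 4 := by
    intro h4
    have h1 : Z0 = T := Subgroup.eq_of_le_of_card_ge hZ0T (by rw [h4, hT4])
    have h2 : T ≤ T' := by rw [← h1]; exact inf_le_right
    have h3 : T = T' := Subgroup.eq_of_le_of_card_ge h2 (by rw [hT'4, hT4])
    exact hT'ne h3.symm
  have hZ2 : Nat.card Z0 = 2 := by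
    have hle : Nat.card Z0 ≤ 4 := Nat.le_of_dvd (by norm_num) hZdvd
    have hpos : 0 < Nat.card Z0 := Nat.card_pos
    interval_cases hn : Nat.card Z0
    · -- 1
      exfalso
      rw [one_mul] at hZmul
      omega
    · rfl
    · exfalso; revert hZdvd; decide
    · exact absurd rfl hZne4
  -- the involution
  have hZ0ne : Z0 ≠ ⊥ := by
    intro hb
    rw [hb, Subgroup.card_bot] at hZ2
    omega
  obtain ⟨⟨z, hzZ⟩, hz1⟩ := (Subgroup.ne_bot_iff_exists_ne_one).1 hZ0ne
  have hz1' : z ≠ 1 := fun h => hz1 (Subtype.ext h)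
  have hzsq : z ^ 2 = 1 := by
    have h := pow_card_eq_one' (G := Z0) (x := ⟨z, hzZ⟩)
    rw [hZ2] at h
    exact congrArg Subtype.val h
  have hz2 : orderOf z = 2 := by
    have hd := orderOf_dvd_of_pow_eq_one hzsq
    have hne1 : orderOf z ≠ 1 := by
      intro h1
      exact hz1' (orderOf_eq_one_iff.1 h1)
    rcases (Nat.dvd_prime Nat.prime_two).1 hd with h | h
    · exact absurd h hne1
    · exact h
  have hzpow : Subgroup.zpowers z = Z0 := by
    apply Subgroup.eq_of_le_of_card_ge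
    · rw [Subgroup.zpowers_le]; exact hzZ
    · rw [Nat.card_zpowers, hz2, hZ2]
  have hmemZ0 : ∀ y ∈ Z0, y = 1 ∨ y = z := by
    intro y hy
    rw [← hzpow] at hy
    obtain ⟨k, rfl⟩ := Subgroup.mem_zpowers_iff.1 hy
    rcases Int.emod_two_eq_zero_or_one k with hk | hk
    · left
      have : k = 2 * (k / 2) := by omega
      rw [this, zpow_mul, zpow_ofNat, hzsq, one_zpow]
    · right
      have : k = 2 * (k / 2) + 1 := by omega
      rw [this, zpow_add, zpow_mul, zpow_ofNat, hzsq, one_zpow, one_mul, zpow_one]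
  -- `S1` normalizes `Z0`
  have hN1 : ∀ g ∈ S1, ∀ y ∈ Z0, g * y * g⁻¹ ∈ Z0 := by
    intro g hg y hy
    refine Subgroup.mem_inf.2 ⟨hnormT g hg y (Subgroup.mem_inf.1 hy).1, ?_⟩
    obtain ⟨t, ht, rfl⟩ := mem_map_conj.1 (Subgroup.mem_inf.1 hy).2
    have hg' : s⁻¹ * g * s ∈ S1 := by
      have := conj_mem_of_card_two S1 S hS1S hc (Subgroup.inv_mem _ hsS) hg
      simpa using this
    have h1 := hnormT _ hg' t ht
    refine mem_map_conj.2 ⟨_, h1, ?_⟩
    group
  -- `s` normalizes `Z0`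
  have hss : s * s ∈ S1 := by
    rw [mul_mem_iff_of_card_two S1 S hS1S hc hsS hsS]
  have hN2 : ∀ y ∈ Z0, s * y * s⁻¹ ∈ Z0 := by
    intro y hy
    refine Subgroup.mem_inf.2 ⟨?_, mem_map_conj.2 ⟨y, (Subgroup.mem_inf.1 hy).1, rfl⟩⟩
    obtain ⟨t, ht, rfl⟩ := mem_map_conj.1 (Subgroup.mem_inf.1 hy).2
    have h1 := hnormT _ hss t ht
    have : s * (s * t * s⁻¹) * s⁻¹ = s * s * t * (s * s)⁻¹ := by group
    rw [this]
    exact h1
  have hN : ∀ g ∈ S, ∀ y ∈ Z0, g * y * g⁻¹ ∈ Z0 := by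
    intro g hg y hy
    by_cases hgS1 : g ∈ S1
    · exact hN1 g hgS1 y hy
    · have hg1 : s⁻¹ * g ∈ S1 := by
        rw [mul_mem_iff_of_card_two S1 S hS1S hc (Subgroup.inv_mem _ hsS) hg]
        constructor
        · intro h
          exact absurd ((Subgroup.inv_mem_iff _).1 h) hsS1
        · intro h
          exact absurd h hgS1
      have h1 := hN1 _ hg1 y hy
      have h2 := hN2 _ h1
      have : s * (s⁻¹ * g * y * (s⁻¹ * g)⁻¹) * s⁻¹ = g * y * g⁻¹ := by group
      rw [this] at h2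
      exact h2
  refine ⟨z, hZ0T hzZ, hz2, ?_⟩
  intro g hg
  have h1 := hN g hg z hzZ
  rcases hmemZ0 _ h1 with h | h
  · exfalso
    apply hz1'
    have : z = g⁻¹ * (g * z * g⁻¹) * g := by group
    rw [this, h]
    group
  · calc g * z = g * z * g⁻¹ * g := by group
      _ = z * g := by rw [h]

theorem c720_A4_core [IsSimpleGroup G]
    (hF1 : ∀ H : Subgroup G, H ≠ ⊤ → Nat.card H ≤ 90)
    (h : Nat.card G = 720) (D : Subgroup G) (hD : Nat.card D = 3)
    (hM : Nat.card (Subgroup.normalizer (D : Set G)) = 72)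
    (hC : Nat.card (Subgroup.centralizer (D : Set G)) = 72 ∨
        (Nat.card (Subgroup.centralizer (D : Set G)) = 36 ∧
          ∃ T : Subgroup G, Nat.card T = 4 ∧ T ≤ Subgroup.centralizer (D : Set G) ∧
            Subgroup.normalizer (T : Set G) = Subgroup.normalizer (D : Set G))) : False := by
  haveI : Fact (Nat.Prime 2) := ⟨by norm_num⟩
  set M : Subgroup G := Subgroup.normalizer (D : Set G) with hMdef
  have hCN : Subgroup.centralizer (D : Set G) ≤ M := Subgroup.centralizer_le_normalizer _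
  rcases hC with hC72 | ⟨hC36, T, hT4, hTC, hNT⟩
  · -- case A
    have hCM : Subgroup.centralizer (D : Set G) = M :=
      Subgroup.eq_of_le_of_card_ge hCN (by rw [hC72, hM])
    obtain ⟨S1, -, hS1M, hS18, S, hS1S, hS16, hSM⟩ :=
      exists_S1_S h M hM ⊥ IsPGroup.of_bot bot_le
    have hS1ne : S1 ≠ ⊥ := by
      intro hb
      rw [hb, Subgroup.card_bot] at hS18
      omega
    obtain ⟨z, hzS1, hz2, hzS⟩ := exists_central_involution (S : Subgroup G) S1 S.2 hS1S
      (by rw [hS16, hS18]) hS1ne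
    have hzC : z ∈ Subgroup.centralizer (D : Set G) := by rw [hCM]; exact hS1M hzS1
    rw [Subgroup.mem_centralizer_iff] at hzC
    exact final_contra hF1 h D hD hM S1 hS1M hS18 S hS1S hS16 z hz2 hzC hzS
  · -- case B
    have hTp : IsPGroup 2 T := IsPGroup.of_card (n := 2) (by rw [hT4]; norm_num)
    have hTM : T ≤ M := by rw [← hNT]; exact Subgroup.le_normalizer
    obtain ⟨S1, hTS1, hS1M, hS18, S, hS1S, hS16, hSM⟩ := exists_S1_S h M hM T hTp hTM
    obtain ⟨z, hzT, hz2, hzS⟩ := exists_z_caseB (S : Subgroup G) S1 T M hS1S hS16 hS18 hSM hT4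
      hTS1 hNT
    have hzC : z ∈ Subgroup.centralizer (D : Set G) := hTC hzT
    rw [Subgroup.mem_centralizer_iff] at hzC
    exact final_contra hF1 h D hD hM S1 hS1M hS18 S hS1S hS16 z hz2 hzC hzS

end Cfsg.Agent.Helper19.Ord720
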