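import Mathlib
import Cfsg.Agent.Lib.Helper1.Ord720F
import Cfsg.Agent.Lib.Helper19.Ord720A4Main

set_option linter.unusedSectionVars false
set_option linter.unusedVariables false

namespace Cfsg.Agent.Helper3.SmallOrd

variable {G : Type*} [Group G] [Finite G] [IsSimpleGroup G]

/-- A4 (exact skeleton signature): the final contradiction in the non-TI case. -/
theorem c720_A4 (h : Nat.card G = 720) (D : Subgroup G) (hD : Nat.card D = 3)
    (hM : Nat.card (Subgroup.normalizer (D : Set G)) = 72)
    (hC : Nat.card (Subgroup.centralizer (D : Set G)) = 72 ∨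
        (Nat.card (Subgroup.centralizer (D : Set G)) = 36 ∧
          ∃ T : Subgroup G, Nat.card T = 4 ∧ T ≤ Subgroup.centralizer (D : Set G) ∧
            Subgroup.normalizer (T : Set G) = Subgroup.normalizer (D : Set G))) : False :=
  Cfsg.Agent.Helper19.Ord720.c720_A4_core (fun H hH => c720_card_le h H hH) h D hD hM hC

end Cfsg.Agent.Helper3.SmallOrd
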