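import Mathlib

set_option autoImplicit false
set_option linter.unusedSectionVars false
set_option linter.unusedVariables false
set_option linter.style.haveILetI false

namespace Cfsg.Agent.Helper19.KInf

/-- Piece P2 for helper10: a minimal normal `p`-subgroup `P` is centralized by every normal
subgroup `D` all of whose elements have a `p`-power in `C_G(P)`. -/
theorem le_centralizer_of_pow_mem {G : Type*} [Group G] [Finite G] {p : ℕ} [Fact p.Prime]
    (P : Subgroup G) [P.Normal] (hP : IsPGroup p P)
    (hmin : ∀ K : Subgroup G, K.Normal → K ≤ P → K = ⊥ ∨ K = P)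
    (D : Subgroup G) [D.Normal]
    (hD : ∀ d ∈ D, ∃ k : ℕ, d ^ p ^ k ∈ Subgroup.centralizer (P : Set G)) :
    D ≤ Subgroup.centralizer (P : Set G) := by
  classical
  by_cases hPbot : P = ⊥
  · intro d _
    rw [Subgroup.mem_centralizer_iff]
    intro x hx
    have hx' : x ∈ P := hx
    rw [hPbot, Subgroup.mem_bot] at hx'
    rw [hx']; simp
  -- W = P ⊓ C_G(D) is normal
  have hW : (P ⊓ Subgroup.centralizer (D : Set G)).Normal := inferInstance
  rcases hmin _ hW inf_le_left with h0 | h1
  · exfalso
    -- the conjugation action of D on P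
    let φ : ↥D →* MulAut ↥P := (MulAut.conjNormal (H := P)).comp D.subtype
    have hφ : ∀ (d : ↥D) (x : ↥P), ((φ d) x : G) = (d : G) * x * (d : G)⁻¹ := by
      intro d x
      simp [φ, MulAut.conjNormal_apply]
    have hrange : IsPGroup p φ.range := by
      rintro ⟨g, d, rfl⟩
      obtain ⟨k, hk⟩ := hD d.1 d.2
      refine ⟨k, ?_⟩
      apply Subtype.ext
      simp only [SubgroupClass.coe_pow, Subgroup.coe_one]
      rw [← map_pow]
      apply MulEquiv.ext
      intro x
      apply Subtype.ext
      rw [hφ]
      simp only [SubgroupClass.coe_pow, MulAut.one_apply]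
      rw [Subgroup.mem_centralizer_iff] at hk
      have := hk x.1 x.2
      rw [← this]; group
    -- P is a nontrivial p-group, so p ∣ card P
    have hPnt : Nontrivial ↥P := by
      rw [Subgroup.nontrivial_iff_ne_bot]; exact hPbot
    obtain ⟨n, hn⟩ := IsPGroup.iff_card.mp hP
    have hn0 : n ≠ 0 := by
      rintro rfl
      have : Nat.card ↥P = 1 := by simpa using hn
      have h1lt := Finite.one_lt_card (α := ↥P)
      omega
    have hdvd : p ∣ Nat.card ↥P := by
      rw [hn]; exact dvd_pow_self p hn0
    have hfix1 : (1 : ↥P) ∈ MulAction.fixedPoints φ.range ↥P := by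
      intro g
      rw [Subgroup.smul_def, MulAut.smul_def]
      simp
    obtain ⟨a, ha, hane⟩ :=
      hrange.exists_fixed_point_of_prime_dvd_card_of_fixed_point ↥P hdvd hfix1
    have haW : (a : G) ∈ P ⊓ Subgroup.centralizer (D : Set G) := by
      refine ⟨a.2, ?_⟩
      show (a : G) ∈ Subgroup.centralizer (D : Set G)
      rw [Subgroup.mem_centralizer_iff]
      intro d hd
      have h := ha ⟨φ ⟨d, hd⟩, ⟨d, hd⟩, rfl⟩
      rw [Subgroup.smul_def, MulAut.smul_def] at h
      have h' : ((φ ⟨d, hd⟩) a : G) = a := congrArg Subtype.val h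
      rw [hφ] at h'
      simp only at h'
      calc d * a = d * a * d⁻¹ * d := by group
        _ = a * d := by rw [h']
    rw [h0, Subgroup.mem_bot] at haW
    apply hane
    apply Subtype.ext
    simpa using haW.symm
  · -- P ≤ C_G(D), hence D ≤ C_G(P)
    intro d hd
    rw [Subgroup.mem_centralizer_iff]
    intro x hx
    have hxW : x ∈ P ⊓ Subgroup.centralizer (D : Set G) := by
      rw [h1]; exact hx
    have := (Subgroup.mem_centralizer_iff.mp hxW.2) d hd
    exact this.symm

end Cfsg.Agent.Helper19.KInf
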