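import Mathlib

set_option autoImplicit false
set_option linter.unusedSectionVars false
set_option linter.unusedVariables false
set_option linter.style.haveILetI false

namespace Cfsg.Agent.Helper19.KInf

/-- Every subgroup of a finite nilpotent group is subnormal. -/
theorem isSubnormal_of_nilpotent {H : Type*} [Group H] [Finite H] [Group.IsNilpotent H]
    (K : Subgroup H) : K.IsSubnormal := by
  induction K using WellFoundedGT.induction with
  | ind K ih =>
    by_cases hK : K = ⊤
    · rw [hK]; exact Subgroup.IsSubnormal.top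
    · have hlt : K < Subgroup.normalizer (K : Set H) :=
        Group.normalizerCondition_of_isNilpotent K (lt_top_iff_ne_top.mpr hK)
      exact Subgroup.IsSubnormal.step K _ Subgroup.le_normalizer (ih _ hlt)
        Subgroup.normal_in_normalizer

/-- Piece P3 for helper10: if `R/C` is a `p`-group (`R`, `C` normal in `G`) then every `M` with
`C ≤ M ≤ R` is subnormal in `G`. -/
theorem isSubnormal_of_pquot {G : Type*} [Group G] [Finite G] {p : ℕ} [Fact p.Prime]
    (R C M : Subgroup G) [R.Normal] [C.Normal] (hCM : C ≤ M) (hMR : M ≤ R)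
    (hp : ∀ x ∈ R, ∃ k : ℕ, x ^ p ^ k ∈ C) : M.IsSubnormal := by
  classical
  -- the quotient `R / (C ∩ R)` is a p-group
  have hpQ : IsPGroup p (↥R ⧸ C.subgroupOf R) := by
    intro y
    obtain ⟨x, rfl⟩ := QuotientGroup.mk_surjective y
    obtain ⟨k, hk⟩ := hp x.1 x.2
    refine ⟨k, ?_⟩
    rw [← QuotientGroup.mk_pow, QuotientGroup.eq_one_iff]
    simpa [Subgroup.mem_subgroupOf] using hk
  haveI : Group.IsNilpotent (↥R ⧸ C.subgroupOf R) := hpQ.isNilpotent
  have h1 : ((M.subgroupOf R).map (QuotientGroup.mk' (C.subgroupOf R))).IsSubnormal :=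
    isSubnormal_of_nilpotent _
  have h2 := Subgroup.IsSubnormal.comap (QuotientGroup.mk' (C.subgroupOf R)) h1
  have h3 : ((M.subgroupOf R).map (QuotientGroup.mk' (C.subgroupOf R))).comap
      (QuotientGroup.mk' (C.subgroupOf R)) = M.subgroupOf R := by
    rw [QuotientGroup.comap_map_mk']
    apply sup_eq_right.mpr
    intro x hx
    rw [Subgroup.mem_subgroupOf] at hx ⊢
    exact hCM hx
  rw [h3] at h2
  exact Subgroup.IsSubnormal.trans hMR h2 (Subgroup.Normal.isSubnormal inferInstance)

end Cfsg.Agent.Helper19.KInf
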