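import Mathlib
import Cfsg.Agent.Lib.Helper10.MixDefs
import Cfsg.Agent.Lib.Helper10.Friendship
import Cfsg.Agent.Lib.Lead.SylowTools
import Cfsg.Agent.Lib.Lead.PermTools
import Cfsg.Agent.Lib.Helper19.Ord720Aux

set_option autoImplicit false
set_option linter.unusedSectionVars false
set_option linter.unusedVariables false
set_option linter.style.haveILetI false
set_option linter.unusedSimpArgs false

/-!
# S4017 piece W3: the friendship graph contradiction (helper19)
-/

namespace Cfsg.Agent.Helper10.Mix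

variable {G : Type*} [Group G]

theorem w3_mul_self {s : G} (h : orderOf s = 2) : s * s = 1 := by
  have := pow_orderOf_eq_one s
  rw [h, pow_two] at this
  exact this

theorem w3_ne_one {s : G} (h : orderOf s = 2) : s ≠ 1 := by
  intro h1
  rw [h1, orderOf_one] at h
  omega

theorem w3_inv {s : G} (h : orderOf s = 2) : s⁻¹ = s :=
  inv_eq_of_mul_eq_one_left (w3_mul_self h)

theorem w3_order_two {s : G} (h1 : s * s = 1) (h2 : s ≠ 1) : orderOf s = 2 :=
  orderOf_eq_prime (by rw [pow_two]; exact h1) h2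

/-- a number all of whose prime divisors are `2` or `p` is `2^i p^j` -/
theorem w3_two_p_pow (p : ℕ) : ∀ n : ℕ, n ≠ 0 → (∀ r : ℕ, r.Prime → r ∣ n → r = 2 ∨ r = p) →
    ∃ i j : ℕ, n = 2 ^ i * p ^ j := by
  intro n
  induction n using Nat.strong_induction_on with
  | _ n ih =>
    intro hn h
    by_cases h1 : n = 1
    · exact ⟨0, 0, by rw [h1]; norm_num⟩
    · obtain ⟨r, hr, hrn⟩ := Nat.exists_prime_and_dvd h1
      obtain ⟨m, rfl⟩ := hrn
      have hm0 : m ≠ 0 := by
        rintro rfl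
        exact hn (mul_zero r)
      have hlt : m < r * m := by
        have := hr.two_le
        nlinarith [Nat.pos_of_ne_zero hm0]
      obtain ⟨i, j, hij⟩ := ih m hlt hm0 (fun r' hr' hd => h r' hr' (Dvd.dvd.mul_left hd r))
      rcases h r hr (Dvd.intro m rfl) with h2 | h2
      · exact ⟨i + 1, j, by rw [h2, hij]; ring⟩
      · exact ⟨i, j + 1, by rw [h2, hij]; ring⟩

variable [Finite G] {p : ℕ}

theorem w3_p_eq (c : Cfg G p 2) : p = 3 := by
  have := c.hpa
  omega

theorem w3_card_sylow (c : Cfg G p 2) (Q : Sylow 2 G) : Nat.card (Q : Subgroup G) = 4 := by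
  haveI : Fact (Nat.Prime 2) := ⟨Nat.prime_two⟩
  rw [Sylow.card_eq_multiplicity, c.card2]
  norm_num

theorem w3_four_dvd (c : Cfg G p 2) : 4 ∣ Nat.card G := by
  haveI : Fact (Nat.Prime 2) := ⟨Nat.prime_two⟩
  obtain ⟨Q⟩ : Nonempty (Sylow 2 G) := inferInstance
  rw [← w3_card_sylow c Q]
  exact Subgroup.card_subgroup_dvd_card _

theorem w3_nonab (c : Cfg G p 2) : ∃ x y : G, x * y ≠ y * x := by
  haveI := c.simple
  apply Cfsg.Agent.Lead.nonabelian_of_not_prime
  intro hprime
  have h4 := w3_four_dvd c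
  have h2 : 2 ∣ Nat.card G := dvd_trans (by norm_num) h4
  have := (Nat.prime_dvd_prime_iff_eq Nat.prime_two hprime).mp h2
  rw [← this] at h4
  omega

/-- elements of a 2-subgroup commute (Sylow 2-subgroups have exponent 2) -/
theorem w3_comm_of_two_group (hexp : ∀ Q : Sylow 2 G, ∀ s ∈ Q, s * s = 1) (H : Subgroup G)
    (hH : IsPGroup 2 H) {a b : G} (ha : a ∈ H) (hb : b ∈ H) : a * b = b * a := by
  haveI : Fact (Nat.Prime 2) := ⟨Nat.prime_two⟩
  obtain ⟨Q, hHQ⟩ := hH.exists_le_sylow
  have h1 := hexp Q a (hHQ ha)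
  have h2 := hexp Q b (hHQ hb)
  have h3 := hexp Q (a * b) (Q.mul_mem (hHQ ha) (hHQ hb))
  calc a * b = a * (a * b * (a * b)) * b := by rw [h3, mul_one]
    _ = (a * a) * (b * a) * (b * b) := by group
    _ = b * a := by rw [h1, h2, one_mul, mul_one]

/-- the graph of commuting involutions -/
def w3Graph (G : Type*) [Group G] : SimpleGraph {s : G // orderOf s = 2} where
  Adj a b := a ≠ b ∧ Commute (a : G) (b : G)
  symm := ⟨fun a b h => ⟨h.1.symm, h.2.symm⟩⟩
  loopless := ⟨fun a h => h.1 rfl⟩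

/-- case (i): commuting involutions -/
theorem w3_common_comm (c : Cfg G p 2) (hexp : ∀ Q : Sylow 2 G, ∀ s ∈ Q, s * s = 1)
    {s s' : G} (hs : orderOf s = 2) (hs' : orderOf s' = 2) (hne : s ≠ s') (hc : Commute s s') :
    orderOf (s * s') = 2 ∧ s * s' ≠ s ∧ s * s' ≠ s' ∧ Commute s (s * s') ∧ Commute s' (s * s') ∧
      ∀ s3 : G, orderOf s3 = 2 → s3 ≠ s → s3 ≠ s' → Commute s s3 → Commute s' s3 →
        s3 = s * s' := by
  haveI : Fact (Nat.Prime 2) := ⟨Nat.prime_two⟩
  have e1 := w3_mul_self hs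
  have e2 := w3_mul_self hs'
  have hss1 : s * s' ≠ 1 := by
    intro h
    apply hne
    have : s' = s⁻¹ := (inv_eq_of_mul_eq_one_right h).symm
    rw [this, w3_inv hs]
  have hsq : s * s' * (s * s') = 1 := by
    calc s * s' * (s * s') = s * (s' * s) * s' := by group
      _ = s * (s * s') * s' := by rw [hc.eq]
      _ = (s * s) * (s' * s') := by group
      _ = 1 := by rw [e1, e2, one_mul]
  have hnes : s * s' ≠ s := by
    intro h
    exact w3_ne_one hs' (mul_left_cancel (a := s) (by rw [h, mul_one]))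
  have hnes' : s * s' ≠ s' := by
    intro h
    exact w3_ne_one hs (mul_right_cancel (b := s') (by rw [h, one_mul]))
  refine ⟨w3_order_two hsq hss1, hnes, hnes', ?_, ?_, ?_⟩
  · exact (Commute.refl s).mul_right hc
  · exact hc.symm.mul_right (Commute.refl s')
  · intro s3 hs3 h3s h3s' hc1 hc2
    -- the 2-group generated by s, s'
    have hZs : IsPGroup 2 (Subgroup.zpowers s) := by
      apply IsPGroup.of_card (n := 1)
      rw [Nat.card_zpowers, hs, pow_one]
    have hZs' : IsPGroup 2 (Subgroup.zpowers s') := by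
      apply IsPGroup.of_card (n := 1)
      rw [Nat.card_zpowers, hs', pow_one]
    have hnorm : Subgroup.zpowers s ≤ Subgroup.normalizer ((Subgroup.zpowers s' : Subgroup G) : Set G) := by
      rw [Subgroup.zpowers_le]
      apply Cfsg.Agent.Helper19.Ord720.mem_normalizer_of_conj_mem
      intro y hy
      obtain ⟨k, rfl⟩ := Subgroup.mem_zpowers_iff.mp hy
      have := (hc.zpow_right k).eq
      rw [this]
      have h2 : s' ^ k * s * s⁻¹ = s' ^ k := by group
      rw [h2]
      exact Subgroup.zpow_mem_zpowers s' k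
    have hK : IsPGroup 2 (Subgroup.zpowers s ⊔ Subgroup.zpowers s' : Subgroup G) :=
      IsPGroup.to_sup_of_normal_right' hZs hZs' hnorm
    obtain ⟨Q, hKQ⟩ := hK.exists_le_sylow
    have hsQ : s ∈ (Q : Subgroup G) := hKQ (Subgroup.mem_sup_left (Subgroup.mem_zpowers s))
    have hs'Q : s' ∈ (Q : Subgroup G) := hKQ (Subgroup.mem_sup_right (Subgroup.mem_zpowers s'))
    -- Q = {1, s, s', s s'}
    have hsub : ({1, s, s', s * s'} : Set G) ⊆ ((Q : Subgroup G) : Set G) := by
      intro x hx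
      simp only [Set.mem_insert_iff, Set.mem_singleton_iff] at hx
      rcases hx with rfl | rfl | rfl | rfl
      · exact Q.one_mem
      · exact hsQ
      · exact hs'Q
      · exact Q.mul_mem hsQ hs'Q
    have hcard : ({1, s, s', s * s'} : Set G).ncard = 4 := by
      rw [Set.ncard_insert_of_notMem, Set.ncard_insert_of_notMem, Set.ncard_pair]
      · exact fun h => hnes' h.symm
      · simp only [Set.mem_insert_iff, Set.mem_singleton_iff, not_or]
        exact ⟨hne, fun h => hnes h.symm⟩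
      · simp only [Set.mem_insert_iff, Set.mem_singleton_iff, not_or]
        exact ⟨fun h => w3_ne_one hs h.symm, fun h => w3_ne_one hs' h.symm, fun h => hss1 h.symm⟩
    have hQeq : ({1, s, s', s * s'} : Set G) = ((Q : Subgroup G) : Set G) := by
      apply Set.eq_of_subset_of_ncard_le hsub _ (Set.toFinite _)
      rw [hcard, ← Nat.card_coe_set_eq]
      exact le_of_eq (w3_card_sylow c Q)
    -- s3 normalizes Q
    have hcent : ∀ x ∈ (Q : Subgroup G), s3 * x * s3⁻¹ = x := by
      intro x hx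
      have hx' : x ∈ ({1, s, s', s * s'} : Set G) := by rw [hQeq]; exact hx
      simp only [Set.mem_insert_iff, Set.mem_singleton_iff] at hx'
      rcases hx' with h | h | h | h
      · rw [h]; group
      · rw [h, ← hc1.eq]; group
      · rw [h, ← hc2.eq]; group
      · rw [h]
        have : s3 * (s * s') * s3⁻¹ = (s3 * s * s3⁻¹) * (s3 * s' * s3⁻¹) := by group
        rw [this, ← hc1.eq, ← hc2.eq]; group
    have hs3N : s3 ∈ Subgroup.normalizer ((Q : Subgroup G) : Set G) := by
      apply Cfsg.Agent.Helper19.Ord720.mem_normalizer_of_conj_mem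
      intro x hx
      rw [hcent x hx]; exact hx
    have hs3Q : s3 ∈ (Q : Subgroup G) :=
      Cfsg.Agent.Lead.mem_sylow_of_mem_normalizer_of_pow Q hs3N (k := 1)
        (by rw [pow_one, pow_two]; exact w3_mul_self hs3)
    have hs3' : s3 ∈ ({1, s, s', s * s'} : Set G) := by rw [hQeq]; exact hs3Q
    simp only [Set.mem_insert_iff, Set.mem_singleton_iff] at hs3'
    rcases hs3' with h | h | h | h
    · exact absurd h (w3_ne_one hs3)
    · exact absurd h h3s
    · exact absurd h h3s'
    · exact h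

/-- case (ii): non-commuting involutions -/
theorem w3_common_noncomm (c : Cfg G p 2) (hexp : ∀ Q : Sylow 2 G, ∀ s ∈ Q, s * s = 1)
    (hU : ∀ z : G, z ≠ 1 → IsPElt p z → ∃! s : G, orderOf s = 2 ∧ Commute s z)
    {s s' : G} (hs : orderOf s = 2) (hs' : orderOf s' = 2) (hnc : ¬ Commute s s') :
    ∃ σ : G, orderOf σ = 2 ∧ σ ≠ s ∧ σ ≠ s' ∧ Commute s σ ∧ Commute s' σ ∧
      ∀ τ : G, orderOf τ = 2 → Commute s τ → Commute s' τ → τ = σ := by
  haveI : Fact (Nat.Prime 2) := ⟨Nat.prime_two⟩
  haveI := c.simple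
  have hp3 := w3_p_eq c
  have e1 := w3_mul_self hs
  have e2 := w3_mul_self hs'
  have i1 := w3_inv hs
  have i2 := w3_inv hs'
  obtain ⟨d, hd⟩ : ∃ d, d = s * s' := ⟨_, rfl⟩
  have hdinv : d⁻¹ = s' * s := by rw [hd, mul_inv_rev, i1, i2]
  have hinv : s * d * s⁻¹ = d⁻¹ := by
    rw [hdinv, hd, i1]
    calc s * (s * s') * s = (s * s) * (s' * s) := by group
      _ = s' * s := by rw [e1, one_mul]
  have hinv' : s' * d * s'⁻¹ = d⁻¹ := by
    rw [hdinv, hd, i2]
    calc s' * (s * s') * s' = s' * s * (s' * s') := by group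
      _ = s' * s := by rw [e2, mul_one]
  have hd1 : d ≠ 1 := by
    intro h
    apply hnc
    have : s' = s⁻¹ := by
      rw [hd] at h
      exact (inv_eq_of_mul_eq_one_right h).symm
    rw [this]
    exact (Commute.refl s).inv_right
  have hZb : Subgroup.zpowers d ≠ ⊥ := by
    intro h
    exact hd1 (Subgroup.zpowers_eq_bot.mp h)
  have hZt : Subgroup.zpowers d ≠ ⊤ := by
    intro h
    apply hnc
    have h1 : s ∈ Subgroup.zpowers d := by rw [h]; trivial
    have h2 : s' ∈ Subgroup.zpowers d := by rw [h]; trivial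
    obtain ⟨k, rfl⟩ := Subgroup.mem_zpowers_iff.mp h1
    obtain ⟨l, rfl⟩ := Subgroup.mem_zpowers_iff.mp h2
    exact ((Commute.refl d).zpow_right l).zpow_left k
  have hNt := Cfsg.Agent.Lead.normalizer_ne_top_of_simple (Subgroup.zpowers d) hZb hZt
  have hconjk : ∀ k : ℤ, s * d ^ k * s⁻¹ = (d ^ k)⁻¹ := by
    intro k
    rw [← conj_zpow, hinv, inv_zpow]
  have hsN : s ∈ Subgroup.normalizer ((Subgroup.zpowers d : Subgroup G) : Set G) := by
    apply Cfsg.Agent.Helper19.Ord720.mem_normalizer_of_conj_mem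
    intro y hy
    obtain ⟨k, rfl⟩ := Subgroup.mem_zpowers_iff.mp hy
    rw [hconjk]
    exact (Subgroup.zpowers d).inv_mem (Subgroup.zpow_mem_zpowers d k)
  have h2N : 2 ∣ Nat.card (Subgroup.normalizer ((Subgroup.zpowers d : Subgroup G) : Set G)) := by
    rw [← hs]
    exact Subgroup.orderOf_dvd_natCard _ hsN
  have hdN : orderOf d ∣ Nat.card (Subgroup.normalizer ((Subgroup.zpowers d : Subgroup G) : Set G)) :=
    Subgroup.orderOf_dvd_natCard _ (Subgroup.le_normalizer (Subgroup.mem_zpowers d))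
  have hprimes : ∀ r : ℕ, r.Prime → r ∣ orderOf d → r = 2 ∨ r = p :=
    fun r hr h => c.even _ hNt h2N r hr (dvd_trans h hdN)
  obtain ⟨i, j, hij⟩ := w3_two_p_pow p (orderOf d) (orderOf_pos d).ne' hprimes
  have hj : j ≠ 0 := by
    intro hj0
    rw [hj0, pow_zero, mul_one] at hij
    apply hnc
    have hZ2 : IsPGroup 2 (Subgroup.zpowers d) := by
      apply IsPGroup.of_card (n := i)
      rw [Nat.card_zpowers, hij]
    have hZs : IsPGroup 2 (Subgroup.zpowers s) := by
      apply IsPGroup.of_card (n := 1)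
      rw [Nat.card_zpowers, hs, pow_one]
    have hnorm : Subgroup.zpowers s ≤
        Subgroup.normalizer ((Subgroup.zpowers d : Subgroup G) : Set G) := by
      rw [Subgroup.zpowers_le]; exact hsN
    have hK : IsPGroup 2 (Subgroup.zpowers s ⊔ Subgroup.zpowers d : Subgroup G) :=
      IsPGroup.to_sup_of_normal_right' hZs hZ2 hnorm
    have hsK : s ∈ (Subgroup.zpowers s ⊔ Subgroup.zpowers d : Subgroup G) :=
      Subgroup.mem_sup_left (Subgroup.mem_zpowers s)
    have hdK : d ∈ (Subgroup.zpowers s ⊔ Subgroup.zpowers d : Subgroup G) :=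
      Subgroup.mem_sup_right (Subgroup.mem_zpowers d)
    have hs'K : s' ∈ (Subgroup.zpowers s ⊔ Subgroup.zpowers d : Subgroup G) := by
      have : s' = s⁻¹ * d := by rw [hd]; group
      rw [this]
      exact Subgroup.mul_mem _ (Subgroup.inv_mem _ hsK) hdK
    exact w3_comm_of_two_group hexp _ hK hsK hs'K
  -- the p-part of d
  obtain ⟨z, hzdef⟩ : ∃ z, z = d ^ (2 ^ i) := ⟨_, rfl⟩
  have hzord : orderOf z = p ^ j := by
    rw [hzdef, orderOf_pow_of_dvd (by positivity) (by rw [hij]; exact Dvd.intro _ rfl), hij]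
    exact Nat.mul_div_cancel_left _ (by positivity)
  have hzp : IsPElt p z := ⟨j, hzord⟩
  have hz1 : z ≠ 1 := by
    intro h
    rw [h, orderOf_one] at hzord
    have : p ^ j = 1 := hzord.symm
    rw [hp3] at this
    have h3 : 3 ∣ 3 ^ j := dvd_pow_self 3 hj
    rw [this] at h3
    omega
  have hzz : z * z ≠ 1 := by
    intro h
    have h2 : orderOf z ∣ 2 := orderOf_dvd_of_pow_eq_one (by rw [pow_two]; exact h)
    rw [hzord, hp3] at h2
    have h3 : 3 ∣ 3 ^ j := dvd_pow_self 3 hj
    have := Nat.le_of_dvd (by norm_num) (dvd_trans h3 h2)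
    omega
  obtain ⟨σ, ⟨hσ2, hσz⟩, hσuniq⟩ := hU z hz1 hzp
  have hsz : s * z * s⁻¹ = z⁻¹ := by
    rw [hzdef, ← conj_pow, hinv, inv_pow]
  have hs'z : s' * z * s'⁻¹ = z⁻¹ := by
    rw [hzdef, ← conj_pow, hinv', inv_pow]
  -- an involution inverting z commutes with σ and differs from it
  have key : ∀ u : G, orderOf u = 2 → u * z * u⁻¹ = z⁻¹ → Commute u σ ∧ σ ≠ u := by
    intro u hu huz
    have iu := w3_inv hu
    have eu := w3_mul_self hu
    have huz' : u * z⁻¹ * u⁻¹ = z := by
      have : u * z⁻¹ * u⁻¹ = (u * z * u⁻¹)⁻¹ := by group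
      rw [this, huz, inv_inv]
    have hσz' : σ * z⁻¹ = z⁻¹ * σ := (hσz.inv_right).eq
    have h1 : orderOf (u * σ * u⁻¹) = 2 := by
      apply w3_order_two
      · calc u * σ * u⁻¹ * (u * σ * u⁻¹) = u * (σ * σ) * u⁻¹ := by group
          _ = 1 := by rw [w3_mul_self hσ2]; group
      · intro h
        apply w3_ne_one hσ2
        have : σ = u⁻¹ * (u * σ * u⁻¹) * u := by group
        rw [this, h]; group
    have h2 : Commute (u * σ * u⁻¹) z := by
      show u * σ * u⁻¹ * z = z * (u * σ * u⁻¹)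
      calc u * σ * u⁻¹ * z = u * σ * u⁻¹ * (u * z⁻¹ * u⁻¹) := by rw [huz']
        _ = u * (σ * z⁻¹) * u⁻¹ := by group
        _ = u * (z⁻¹ * σ) * u⁻¹ := by rw [hσz']
        _ = (u * z⁻¹ * u⁻¹) * (u * σ * u⁻¹) := by group
        _ = z * (u * σ * u⁻¹) := by rw [huz']
    have h3 := hσuniq (u * σ * u⁻¹) ⟨h1, h2⟩
    constructor
    · show u * σ = σ * u
      calc u * σ = (u * σ * u⁻¹) * u := by group
        _ = σ * u := by rw [h3]
    · intro he
      apply hzz
      rw [he] at hσz
      have : u * z * u⁻¹ = z := by rw [hσz.eq]; group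
      rw [this] at huz
      calc z * z = z * z⁻¹ := by rw [← huz]
        _ = 1 := mul_inv_cancel z
  obtain ⟨hc1, hn1⟩ := key s hs hsz
  obtain ⟨hc2, hn2⟩ := key s' hs' hs'z
  refine ⟨σ, hσ2, hn1, hn2, hc1, hc2, ?_⟩
  intro τ hτ h1 h2
  apply hσuniq τ ⟨hτ, ?_⟩
  have hτd : Commute τ d := by
    rw [hd]; exact h1.symm.mul_right h2.symm
  rw [hzdef]
  exact hτd.pow_right _

/-! ### PIECE W3 : friendship graph contradiction -/
theorem friendship_false (c : Cfg G p 2) (hexp : ∀ Q : Sylow 2 G, ∀ s ∈ Q, s * s = 1)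
    (hU : ∀ z : G, z ≠ 1 → IsPElt p z → ∃! s : G, orderOf s = 2 ∧ Commute s z) : False := by
  classical
  haveI : Fact (Nat.Prime 2) := ⟨Nat.prime_two⟩
  haveI := c.simple
  haveI : Fintype {s : G // orderOf s = 2} := Fintype.ofFinite _
  obtain ⟨x0, hx0⟩ := exists_prime_orderOf_dvd_card' (G := G) 2
    (dvd_trans (by norm_num) (w3_four_dvd c))
  haveI : Nonempty {s : G // orderOf s = 2} := ⟨⟨x0, hx0⟩⟩
  have hF : Friend.Friendship (w3Graph G) := by
    intro v w hvw
    have hvw' : (v : G) ≠ (w : G) := fun h => hvw (Subtype.ext h)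
    rw [Fintype.card_eq_one_iff]
    by_cases hc : Commute (v : G) (w : G)
    · obtain ⟨h2, hnv, hnw, hcv, hcw, huniq⟩ := w3_common_comm c hexp v.2 w.2 hvw' hc
      refine ⟨⟨⟨(v : G) * (w : G), h2⟩, ?_⟩, ?_⟩
      · rw [SimpleGraph.mem_commonNeighbors]
        exact ⟨⟨fun h => hnv (congrArg Subtype.val h).symm, hcv⟩,
          ⟨fun h => hnw (congrArg Subtype.val h).symm, hcw⟩⟩
      · rintro ⟨y, hy⟩
        rw [SimpleGraph.mem_commonNeighbors] at hy
        apply Subtype.ext
        apply Subtype.ext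
        exact huniq y.1 y.2 (fun h => hy.1.1 (Subtype.ext h.symm))
          (fun h => hy.2.1 (Subtype.ext h.symm)) hy.1.2 hy.2.2
    · obtain ⟨σ, hσ2, hn1, hn2, hc1, hc2, huniq⟩ := w3_common_noncomm c hexp hU v.2 w.2 hc
      refine ⟨⟨⟨σ, hσ2⟩, ?_⟩, ?_⟩
      · rw [SimpleGraph.mem_commonNeighbors]
        exact ⟨⟨fun h => hn1 (congrArg Subtype.val h).symm, hc1⟩,
          ⟨fun h => hn2 (congrArg Subtype.val h).symm, hc2⟩⟩
      · rintro ⟨y, hy⟩
        rw [SimpleGraph.mem_commonNeighbors] at hy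
        apply Subtype.ext
        apply Subtype.ext
        exact huniq y.1 y.2 hy.1.2 hy.2.2
  obtain ⟨t0, ht0⟩ := Friend.friendship_theorem hF
  -- t0 commutes with every involution
  have hall : ∀ u : G, orderOf u = 2 → Commute (t0 : G) u := by
    intro u hu
    by_cases h : t0 = ⟨u, hu⟩
    · rw [h]
    · exact (ht0 ⟨u, hu⟩ h).2
  -- the centralizer of the set of involutions is normal
  let C : Subgroup G := Subgroup.centralizer {x : G | orderOf x = 2}
  have hCn : C.Normal := by
    refine ⟨fun g hg x => ?_⟩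
    rw [Subgroup.mem_centralizer_iff] at hg ⊢
    intro u hu
    have hu' : orderOf (x⁻¹ * u * x) = 2 := by
      apply w3_order_two
      · calc x⁻¹ * u * x * (x⁻¹ * u * x) = x⁻¹ * (u * u) * x := by group
          _ = 1 := by rw [w3_mul_self hu]; group
      · intro h
        apply w3_ne_one hu
        have : u = x * (x⁻¹ * u * x) * x⁻¹ := by group
        rw [this, h]; group
    have h1 := hg (x⁻¹ * u * x) hu'
    calc u * (x * g * x⁻¹) = x * ((x⁻¹ * u * x) * g) * x⁻¹ := by group
      _ = x * (g * (x⁻¹ * u * x)) * x⁻¹ := by rw [h1]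
      _ = x * g * x⁻¹ * u := by group
  have ht0C : (t0 : G) ∈ C := by
    rw [Subgroup.mem_centralizer_iff]
    intro u hu
    exact (hall u hu).eq.symm
  have hCtop : C = ⊤ := by
    rcases hCn.eq_bot_or_eq_top with h | h
    · rw [h, Subgroup.mem_bot] at ht0C
      exact absurd ht0C (w3_ne_one t0.2)
    · exact h
  have ht0cen : (t0 : G) ∈ Subgroup.center G := by
    rw [Subgroup.mem_center_iff]
    intro g
    have hg : g ∈ C := by rw [hCtop]; trivial
    rw [Subgroup.mem_centralizer_iff] at hg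
    exact (hg t0 t0.2).symm
  have hcen : Subgroup.center G = ⊤ := by
    rcases (inferInstance : (Subgroup.center G).Normal).eq_bot_or_eq_top with h | h
    · rw [h, Subgroup.mem_bot] at ht0cen
      exact absurd ht0cen (w3_ne_one t0.2)
    · exact h
  obtain ⟨x, y, hxy⟩ := w3_nonab c
  apply hxy
  have hx : x ∈ Subgroup.center G := by rw [hcen]; trivial
  rw [Subgroup.mem_center_iff] at hx
  exact (hx y).symm

end Cfsg.Agent.Helper10.Mix
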