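import Mathlib
import Cfsg.Agent.Lib.Helper10.MixDefs
import Cfsg.Agent.Lib.Lead.SimpleTools
import Cfsg.Agent.Lib.Helper19.MixW3

set_option autoImplicit false
set_option linter.unusedSectionVars false
set_option linter.unusedVariables false
set_option linter.style.haveILetI false
set_option linter.unusedSimpArgs false

/-!
# S4017 piece W2 (core): every nontrivial p-element commutes with exactly one involution (helper19)
-/

namespace Cfsg.Agent.Helper10.Mix

open Pointwise

variable {G : Type*} [Group G] [Finite G] {p : ℕ}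

/-- elements of a Sylow `p`-subgroup are `p`-elements -/
theorem w2_isPElt_of_mem [Fact p.Prime] (P : Sylow p G) {y : G} (hy : y ∈ P) : IsPElt p y := by
  obtain ⟨k, hk⟩ := (IsPGroup.iff_orderOf.mp P.isPGroup') ⟨y, hy⟩
  exact ⟨k, by rw [← hk, Subgroup.orderOf_mk]⟩

/-- a `p`-element (`p` odd) with `y * y = 1` is trivial -/
theorem w2_eq_one_of_sq (hp3 : p = 3) {y : G} (hy : IsPElt p y) (h : y * y = 1) : y = 1 := by
  obtain ⟨k, hk⟩ := hy
  have h2 : orderOf y ∣ 2 := orderOf_dvd_of_pow_eq_one (by rw [pow_two]; exact h)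
  rw [hk, hp3] at h2
  rcases Nat.eq_zero_or_pos k with hk0 | hk0
  · rw [hk0, pow_zero] at hk
    exact orderOf_eq_one_iff.mp hk
  · have h3 : 3 ∣ 3 ^ k := dvd_pow_self 3 hk0.ne'
    have := Nat.le_of_dvd (by norm_num) (dvd_trans h3 h2)
    omega

/-- every `p`-element lies in a conjugate of a given Sylow `p`-subgroup -/
theorem w2_exists_conj_mem [Fact p.Prime] (P : Sylow p G) {z : G} (hz : IsPElt p z) :
    ∃ g : G, g⁻¹ * z * g ∈ P := by
  obtain ⟨k, hk⟩ := hz
  have hZ : IsPGroup p (Subgroup.zpowers z) := by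
    apply IsPGroup.of_card (n := k)
    rw [Nat.card_zpowers, hk]
  obtain ⟨P1, hP1⟩ := hZ.exists_le_sylow
  obtain ⟨g, hg⟩ := MulAction.exists_smul_eq G P P1
  refine ⟨g, ?_⟩
  have hz1 : z ∈ (P1 : Subgroup G) := hP1 (Subgroup.mem_zpowers z)
  rw [← hg, Sylow.coe_subgroup_smul] at hz1
  exact Cfsg.Agent.Lead.mem_conj_smul'.mp hz1

/-- the statement of piece USYL for `a = 2` -/
def W2Hyp (G : Type*) [Group G] [Finite G] (p : ℕ) : Prop :=
  ∀ {Q : Sylow 2 G}, (∀ s ∈ Q, s * s = 1) → ∀ {b : G}, b ≠ 1 → IsPElt p b → Eig Q b →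
    ∃ P : Sylow p G, b ∈ P ∧ (∀ P' : Sylow p G, b ∈ P' → P' = P) ∧
      (Q : Subgroup G) ≤ Subgroup.normalizer ((P : Subgroup G) : Set G) ∧
      (∀ g ∈ Subgroup.normalizer ((P : Subgroup G) : Set G), IsPElt p g → g ∈ P) ∧
      (∀ g ∈ Subgroup.normalizer ((P : Subgroup G) : Set G), ∃ y ∈ P, ∃ s ∈ Q, g = y * s)

/-- there is an element of `Q` other than `1`, `t` -/
theorem w2_exists_third (c : Cfg G p 2) (Q : Sylow 2 G) (t : G) :
    ∃ s ∈ Q, s ≠ 1 ∧ s ≠ t := by
  by_contra hcon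
  push Not at hcon
  have hsub : ((Q : Subgroup G) : Set G) ⊆ ({1, t} : Set G) := by
    intro s hs
    by_cases h1 : s = 1
    · rw [h1]; exact Set.mem_insert _ _
    · have := hcon s hs h1
      rw [this]; exact Set.mem_insert_of_mem _ rfl
  have h1 := Set.ncard_le_ncard hsub (Set.toFinite _)
  have h2 : ({1, t} : Set G).ncard ≤ 2 := by
    have := Set.ncard_insert_le (1 : G) ({t} : Set G)
    rw [Set.ncard_singleton] at this
    exact this
  rw [← Nat.card_coe_set_eq] at h1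
  have h3 : Nat.card ((Q : Subgroup G) : Set G) = 4 := w3_card_sylow c Q
  omega

theorem unique_involution_core (c : Cfg G p 2) (B : ∀ Q : Sylow 2 G, Base G p 2 Q)
    (hUS : W2Hyp G p)
    (hS : ∃ (Q : Sylow 2 G) (t : G) (P : Sylow p G), t ∈ Q ∧ t ≠ 1 ∧ (∀ y ∈ P, Commute y t) ∧
      (Q : Subgroup G) ≤ Subgroup.normalizer ((P : Subgroup G) : Set G) ∧
      (∀ s ∈ Q, s ≠ 1 → s ≠ t → ∀ y ∈ P, s * y * s⁻¹ = y⁻¹) ∧
      (∀ g ∈ Subgroup.normalizer ((P : Subgroup G) : Set G), ∃ y ∈ P, ∃ s ∈ Q, g = y * s)) :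
    ∀ z : G, z ≠ 1 → IsPElt p z → ∃! s : G, orderOf s = 2 ∧ Commute s z := by
  haveI : Fact p.Prime := ⟨c.hp⟩
  have hp3 := w3_p_eq c
  obtain ⟨Q, t, P, htQ, ht1, hPt, hQN, hinvP, hNP⟩ := hS
  have hexp := (B Q).exp2
  have ht2 : orderOf t = 2 := w3_order_two (hexp t htQ) ht1
  -- the key claim inside `P`
  have key : ∀ z' ∈ P, z' ≠ 1 → ∀ s2 : G, orderOf s2 = 2 → Commute s2 z' → s2 = t := by
    intro z' hz'P hz'1 s2 hs2 hcomm
    have hz'p : IsPElt p z' := w2_isPElt_of_mem P hz'P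
    have hz'sq : z' * z' ≠ 1 := fun h => hz'1 (w2_eq_one_of_sq hp3 hz'p h)
    -- Eig Q z'
    have hEig : Eig Q z' := by
      constructor
      · intro s hs
        by_cases h1 : s = 1
        · left; rw [h1]; exact Commute.one_left z'
        · by_cases h2 : s = t
          · left; rw [h2]; exact (hPt z' hz'P).symm
          · right; exact hinvP s hs h1 h2 z' hz'P
      · obtain ⟨s, hs, h1, h2⟩ := w2_exists_third c Q t
        exact ⟨s, hs, hinvP s hs h1 h2 z' hz'P⟩
    obtain ⟨P0, hz'P0, huniq, -, -, -⟩ := hUS hexp hz'1 hz'p hEig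
    have hPP0 : P = P0 := huniq P hz'P
    -- s2 normalizes P
    have hmem : z' ∈ (s2 • P : Sylow p G) := by
      show z' ∈ ((s2 • P : Sylow p G) : Subgroup G)
      rw [Sylow.coe_subgroup_smul, Cfsg.Agent.Lead.mem_conj_smul']
      have : s2⁻¹ * z' * s2 = z' := by rw [mul_assoc, ← hcomm.eq]; group
      rw [this]; exact hz'P
    have hs2P : s2 • P = P := by rw [huniq (s2 • P) hmem, hPP0]
    have hs2N : s2 ∈ Subgroup.normalizer ((P : Subgroup G) : Set G) :=
      Sylow.smul_eq_iff_mem_normalizer.mp hs2P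
    obtain ⟨y, hyP, s, hsQ, hs2eq⟩ := hNP s2 hs2N
    have hyp : IsPElt p y := w2_isPElt_of_mem P hyP
    -- y commutes with z'
    have hyz : y * z' = z' * y := c.abel P P.isPGroup' y hyP z' hz'P
    -- s commutes with z'
    have hsz : Commute s z' := by
      have hs_eq : s = y⁻¹ * s2 := by rw [hs2eq]; group
      rw [hs_eq]
      exact (Commute.inv_left hyz).mul_left hcomm
    -- s = 1 or s = t
    have hs1t : s = 1 ∨ s = t := by
      by_contra hcon
      push Not at hcon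
      have h1 := hinvP s hsQ hcon.1 hcon.2 z' hz'P
      have h2 : s * z' * s⁻¹ = z' := by rw [hsz.eq]; group
      rw [h2] at h1
      apply hz'sq
      calc z' * z' = z' * z'⁻¹ := by rw [← h1]
        _ = 1 := mul_inv_cancel z'
    rcases hs1t with h | h
    · exfalso
      rw [h, mul_one] at hs2eq
      rw [hs2eq] at hs2
      exact w3_ne_one hs2 (w2_eq_one_of_sq hp3 hyp (w3_mul_self hs2))
    · rw [h] at hs2eq
      have hyt : Commute y t := hPt y hyP
      have hsq := w3_mul_self hs2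
      rw [hs2eq] at hsq
      have hyy : y * y = 1 := by
        calc y * y = y * y * (t * t) := by rw [hexp t htQ, mul_one]
          _ = y * (y * t) * t := by group
          _ = y * (t * y) * t := by rw [hyt.eq]
          _ = y * t * (y * t) := by group
          _ = 1 := hsq
      have hy1 := w2_eq_one_of_sq hp3 hyp hyy
      rw [hs2eq, hy1, one_mul]
  -- general z
  intro z hz1 hzp
  obtain ⟨g, hg⟩ := w2_exists_conj_mem P hzp
  have hz'1 : g⁻¹ * z * g ≠ 1 := by
    intro h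
    apply hz1
    have : z = g * (g⁻¹ * z * g) * g⁻¹ := by group
    rw [this, h]; group
  refine ⟨g * t * g⁻¹, ⟨?_, ?_⟩, ?_⟩
  · apply w3_order_two
    · calc g * t * g⁻¹ * (g * t * g⁻¹) = g * (t * t) * g⁻¹ := by group
        _ = 1 := by rw [hexp t htQ]; group
    · intro h
      apply ht1
      have : t = g⁻¹ * (g * t * g⁻¹) * g := by group
      rw [this, h]; group
  · have h1 : Commute (g⁻¹ * z * g) t := hPt _ hg
    show g * t * g⁻¹ * z = z * (g * t * g⁻¹)
    calc g * t * g⁻¹ * z = g * (t * (g⁻¹ * z * g)) * g⁻¹ := by group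
      _ = g * ((g⁻¹ * z * g) * t) * g⁻¹ := by rw [h1.eq]
      _ = z * (g * t * g⁻¹) := by group
  · rintro s ⟨hs2, hsz⟩
    have h1 : orderOf (g⁻¹ * s * g) = 2 := by
      apply w3_order_two
      · calc g⁻¹ * s * g * (g⁻¹ * s * g) = g⁻¹ * (s * s) * g := by group
          _ = 1 := by rw [w3_mul_self hs2]; group
      · intro h
        apply w3_ne_one hs2
        have : s = g * (g⁻¹ * s * g) * g⁻¹ := by group
        rw [this, h]; group
    have h2 : Commute (g⁻¹ * s * g) (g⁻¹ * z * g) := by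
      show g⁻¹ * s * g * (g⁻¹ * z * g) = g⁻¹ * z * g * (g⁻¹ * s * g)
      calc g⁻¹ * s * g * (g⁻¹ * z * g) = g⁻¹ * (s * z) * g := by group
        _ = g⁻¹ * (z * s) * g := by rw [hsz.eq]
        _ = g⁻¹ * z * g * (g⁻¹ * s * g) := by group
    have h3 := key _ hg hz'1 _ h1 h2
    have : s = g * (g⁻¹ * s * g) * g⁻¹ := by group
    rw [this, h3]

end Cfsg.Agent.Helper10.Mix
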