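import Mathlib
import Cfsg.Agent.Lib.Helper10.MixDefs
import Cfsg.Agent.Lib.Lead.SimpleTools
import Cfsg.Agent.S0105
import Cfsg.Agent.Lib.Helper19.MixW2Core

set_option autoImplicit false
set_option linter.unusedSectionVars false
set_option linter.unusedVariables false
set_option linter.style.haveILetI false
set_option linter.unusedSimpArgs false

/-!
# S4017 piece W1 (core): the structure in the case `a = 2`, not Good (helper19)
-/

namespace Cfsg.Agent.Helper10.Mix

open Pointwise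

variable {G : Type*} [Group G] [Finite G] {p : ℕ}

/-- the statement of piece EIG for `a = 2` -/
def W1Eig (G : Type*) [Group G] [Finite G] (p : ℕ) : Prop :=
  ∀ {Q : Sylow 2 G}, Base G p 2 Q → ∀ {t : G}, t ∈ Q → t ≠ 1 → ∀ {y : G}, IsPElt p y →
    Commute y t → y ∉ Subgroup.centralizer ((Q : Subgroup G) : Set G) →
    ∃ b : G, b ≠ 1 ∧ IsPElt p b ∧ Commute b t ∧ Eig Q b

/-- the four elements of `Q` -/
theorem w1_four_elems (c : Cfg G p 2) (Q : Sylow 2 G) (hexp : ∀ s ∈ Q, s * s = 1) {t v : G}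
    (ht : t ∈ Q) (hv : v ∈ Q) (ht1 : t ≠ 1) (hv1 : v ≠ 1) (hvt : v ≠ t) :
    ∀ s ∈ Q, s = 1 ∨ s = t ∨ s = v ∨ s = t * v := by
  have htv1 : t * v ≠ 1 := by
    intro h
    apply hvt
    have h1 : v = t⁻¹ := (inv_eq_of_mul_eq_one_right h).symm
    rw [h1]
    exact inv_eq_of_mul_eq_one_left (hexp t ht)
  have htvt : t * v ≠ t := fun h => hv1 (mul_left_cancel (a := t) (by rw [h, mul_one]))
  have htvv : t * v ≠ v := fun h => ht1 (mul_right_cancel (b := v) (by rw [h, one_mul]))
  have hsub : ({1, t, v, t * v} : Set G) ⊆ ((Q : Subgroup G) : Set G) := by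
    intro x hx
    simp only [Set.mem_insert_iff, Set.mem_singleton_iff] at hx
    rcases hx with rfl | rfl | rfl | rfl
    · exact Q.one_mem
    · exact ht
    · exact hv
    · exact Q.mul_mem ht hv
  have hcard : ({1, t, v, t * v} : Set G).ncard = 4 := by
    rw [Set.ncard_insert_of_notMem, Set.ncard_insert_of_notMem, Set.ncard_pair]
    · exact fun h => htvv h.symm
    · simp only [Set.mem_insert_iff, Set.mem_singleton_iff, not_or]
      exact ⟨fun h => hvt h.symm, fun h => htvt h.symm⟩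
    · simp only [Set.mem_insert_iff, Set.mem_singleton_iff, not_or]
      exact ⟨fun h => ht1 h.symm, fun h => hv1 h.symm, fun h => htv1 h.symm⟩
  have hQeq : ({1, t, v, t * v} : Set G) = ((Q : Subgroup G) : Set G) := by
    apply Set.eq_of_subset_of_ncard_le hsub _ (Set.toFinite _)
    rw [hcard, ← Nat.card_coe_set_eq]
    exact le_of_eq (w3_card_sylow c Q)
  intro s hs
  have hs' : s ∈ ({1, t, v, t * v} : Set G) := by rw [hQeq]; exact hs
  simpa only [Set.mem_insert_iff, Set.mem_singleton_iff] using hs'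

/-- elements of `Q` commute -/
theorem w1_comm (Q : Sylow 2 G) (hexp : ∀ s ∈ Q, s * s = 1) {a b : G} (ha : a ∈ Q) (hb : b ∈ Q) :
    a * b = b * a := by
  have h1 := hexp a ha
  have h2 := hexp b hb
  have h3 := hexp (a * b) (Q.mul_mem ha hb)
  calc a * b = a * (a * b * (a * b)) * b := by rw [h3, mul_one]
    _ = (a * a) * (b * a) * (b * b) := by group
    _ = b * a := by rw [h1, h2, one_mul, mul_one]

theorem w1_inv (Q : Sylow 2 G) (hexp : ∀ s ∈ Q, s * s = 1) {a : G} (ha : a ∈ Q) : a⁻¹ = a :=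
  inv_eq_of_mul_eq_one_left (hexp a ha)

theorem bad_two_structure_core (c : Cfg G p 2) (B : ∀ Q : Sylow 2 G, Base G p 2 Q)
    (hEIG : W1Eig G p) (hUS : W2Hyp G p) (hbad : ¬ Good G p) :
    ∃ (Q : Sylow 2 G) (t : G) (P : Sylow p G), t ∈ Q ∧ t ≠ 1 ∧ (∀ y ∈ P, Commute y t) ∧
      (Q : Subgroup G) ≤ Subgroup.normalizer ((P : Subgroup G) : Set G) ∧
      (∀ s ∈ Q, s ≠ 1 → s ≠ t → ∀ y ∈ P, s * y * s⁻¹ = y⁻¹) ∧
      (∀ g ∈ Subgroup.normalizer ((P : Subgroup G) : Set G), ∃ y ∈ P, ∃ s ∈ Q, g = y * s) := by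
  haveI : Fact p.Prime := ⟨c.hp⟩
  haveI := c.simple
  have hp3 := w3_p_eq c
  unfold Good at hbad
  push Not at hbad
  obtain ⟨Q, t, htQ, ht1, y0, hy0p, hy0t, hy0Q⟩ := hbad
  have BQ := B Q
  have hexp := BQ.exp2
  obtain ⟨b, hb1, hbp, hbt, hE⟩ := hEIG BQ htQ ht1 hy0p hy0t hy0Q
  obtain ⟨P, hbP, huniqP, hQN, hpN, hNP⟩ := hUS hexp hb1 hbp hE
  have hPab : ∀ x ∈ P, ∀ y ∈ P, x * y = y * x := c.abel P P.isPGroup'
  -- conjugation by elements of Q preserves P
  have hQconj : ∀ s ∈ Q, ∀ y ∈ P, s * y * s⁻¹ ∈ P := by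
    intro s hs y hy
    have := hQN hs
    rw [Subgroup.mem_normalizer_iff] at this
    exact (this y).mp hy
  -- Q ⊓ P = ⊥
  have hQP : ∀ x : G, x ∈ Q → x ∈ P → x = 1 := by
    intro x hxQ hxP
    exact w2_eq_one_of_sq hp3 (w2_isPElt_of_mem P hxP) (hexp x hxQ)
  -- (0) p-elements commuting with t lie in P
  have h0 : ∀ y' : G, IsPElt p y' → Commute y' t → y' ∈ P := by
    intro y' hy'p hy't
    let K : Subgroup G :=
      { carrier := {g | IsPElt p g ∧ Commute g t}
        mul_mem' := by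
          rintro a b' ⟨ha1, ha2⟩ ⟨hb1', hb2'⟩
          exact ⟨(BQ.pc t htQ ht1 a b' ha1 hb1' ha2 hb2').2, ha2.mul_left hb2'⟩
        one_mem' := ⟨⟨0, by rw [orderOf_one, pow_zero]⟩, Commute.one_left t⟩
        inv_mem' := by
          rintro a ⟨⟨k, hk⟩, ha2⟩
          exact ⟨⟨k, by rw [orderOf_inv, hk]⟩, ha2.inv_left⟩ }
    have hK : IsPGroup p K := by
      rintro ⟨g, ⟨k, hk⟩, -⟩
      refine ⟨k, ?_⟩
      apply Subtype.ext
      simp only [Subgroup.coe_pow, Subgroup.coe_one]
      rw [← hk]; exact pow_orderOf_eq_one g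
    obtain ⟨P', hKP'⟩ := hK.exists_le_sylow
    have hbK : b ∈ K := ⟨hbp, hbt⟩
    have hy'K : y' ∈ K := ⟨hy'p, hy't⟩
    have := huniqP P' (hKP' hbK)
    rw [← this]
    exact hKP' hy'K
  -- (1) C_P(Q) = 1
  have h1 : ∀ y ∈ P, (∀ s ∈ Q, s * y = y * s) → y = 1 := by
    intro y hyP hyQ
    have hPc : IsMulCommutative (P : Subgroup G) :=
      ⟨⟨fun a b' => Subtype.ext (hPab a a.2 b' b'.2)⟩⟩
    obtain ⟨N, hN, ⟨e⟩⟩ := Cfsg.Agent.S0105.result P hPc
    have hymem : y ∈ ((P : Subgroup G) ⊓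
        Subgroup.centralizer (Subgroup.normalizer ((P : Subgroup G) : Set G) : Set G) :
          Subgroup G) := by
      refine Subgroup.mem_inf.mpr ⟨hyP, ?_⟩
      rw [Subgroup.mem_centralizer_iff]
      intro g hg
      obtain ⟨y', hy'P, s, hsQ, rfl⟩ := hNP g hg
      calc y' * s * y = y' * (s * y) := by group
        _ = y' * (y * s) := by rw [hyQ s hsQ]
        _ = (y' * y) * s := by group
        _ = (y * y') * s := by rw [hPab y' hy'P y hyP]
        _ = y * (y' * s) := by group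
    have hcard : Nat.card (G ⧸ N) = Nat.card ((P : Subgroup G) ⊓
        Subgroup.centralizer (Subgroup.normalizer ((P : Subgroup G) : Set G) : Set G) :
          Subgroup G) := Nat.card_congr e.toEquiv
    rcases hN.eq_bot_or_eq_top with hNb | hNt
    · exfalso
      have h2 : Nat.card (G ⧸ N) = Nat.card G := by
        rw [hNb]
        exact Subgroup.index_bot
      have h3 : Nat.card ((P : Subgroup G) ⊓
          Subgroup.centralizer (Subgroup.normalizer ((P : Subgroup G) : Set G) : Set G) :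
            Subgroup G) ∣ Nat.card (P : Subgroup G) := Subgroup.card_dvd_of_le inf_le_left
      obtain ⟨k, hk⟩ := P.isPGroup'.exists_card_eq
      rw [← hcard, h2, hk, hp3] at h3
      have h4 : 2 ∣ Nat.card G := dvd_trans (by norm_num) (w3_four_dvd c)
      have h5 := Nat.Prime.dvd_of_dvd_pow Nat.prime_two (dvd_trans h4 h3)
      omega
    · have h2 : Nat.card (G ⧸ N) = 1 := by
        rw [hNt]
        exact Subgroup.index_top
      rw [h2] at hcard
      have h3 := Subgroup.card_eq_one.mp hcard.symm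
      rw [h3, Subgroup.mem_bot] at hymem
      exact hymem
  -- (2) C_P(v) = 1 for v ∈ Q, v ≠ 1, v ≠ t
  have h2 : ∀ v ∈ Q, v ≠ 1 → v ≠ t → ∀ b' ∈ P, b' * v = v * b' → b' = 1 := by
    intro v hvQ hv1 hvt b' hb'P hb'v
    by_contra hb'1
    have hfour := w1_four_elems c Q hexp htQ hvQ ht1 hv1 hvt
    have it := w1_inv Q hexp htQ
    have iv := w1_inv Q hexp hvQ
    have htv : t * v = v * t := w1_comm Q hexp htQ hvQ
    have htb'P : t * b' * t⁻¹ ∈ P := hQconj t htQ b' hb'P
    -- w := b' * (t b' t⁻¹) is centralized by Q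
    have hw1 : b' * (t * b' * t⁻¹) = 1 := by
      apply h1 _ (P.mul_mem hb'P htb'P)
      have hwt : t * (b' * (t * b' * t⁻¹)) = b' * (t * b' * t⁻¹) * t := by
        have hab := hPab b' hb'P _ htb'P
        calc t * (b' * (t * b' * t⁻¹)) = (t * b' * t⁻¹) * (t * t) * b' * t⁻¹ := by group
          _ = (t * b' * t⁻¹) * b' * t⁻¹ := by rw [hexp t htQ, mul_one]
          _ = b' * (t * b' * t⁻¹) * t⁻¹ := by rw [← hab]
          _ = b' * (t * b' * t⁻¹) * t := by rw [it]
      have hwv : v * (b' * (t * b' * t⁻¹)) = b' * (t * b' * t⁻¹) * v := by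
        calc v * (b' * (t * b' * t⁻¹)) = (v * b') * t * b' * t⁻¹ := by group
          _ = (b' * v) * t * b' * t⁻¹ := by rw [hb'v]
          _ = b' * (v * t) * b' * t⁻¹ := by group
          _ = b' * (t * v) * b' * t⁻¹ := by rw [htv]
          _ = b' * t * (v * b') * t⁻¹ := by group
          _ = b' * t * (b' * v) * t⁻¹ := by rw [hb'v]
          _ = b' * t * b' * (v * t⁻¹) := by group
          _ = b' * t * b' * (v * t) := by rw [it]
          _ = b' * t * b' * (t * v) := by rw [htv]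
          _ = b' * t * b' * (t⁻¹ * v) := by rw [it]
          _ = b' * (t * b' * t⁻¹) * v := by group
      intro s hs
      rcases hfour s hs with h | h | h | h
      · rw [h]; group
      · rw [h]; exact hwt
      · rw [h]; exact hwv
      · rw [h]
        calc t * v * (b' * (t * b' * t⁻¹)) = t * (v * (b' * (t * b' * t⁻¹))) := by group
          _ = t * (b' * (t * b' * t⁻¹) * v) := by rw [hwv]
          _ = (t * (b' * (t * b' * t⁻¹))) * v := by group
          _ = (b' * (t * b' * t⁻¹) * t) * v := by rw [hwt]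
          _ = b' * (t * b' * t⁻¹) * (t * v) := by group
    have htinv : t * b' * t⁻¹ = b'⁻¹ := (inv_eq_of_mul_eq_one_right hw1).symm
    have hb'p : IsPElt p b' := w2_isPElt_of_mem P hb'P
    -- Eig Q b'
    have hEig : Eig Q b' := by
      constructor
      · intro s hs
        rcases hfour s hs with h | h | h | h
        · left; rw [h]; exact Commute.one_left b'
        · right; rw [h]; exact htinv
        · left; rw [h]; exact hb'v.symm
        · right
          rw [h]
          calc t * v * b' * (t * v)⁻¹ = t * (v * b') * v⁻¹ * t⁻¹ := by group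
            _ = t * (b' * v) * v⁻¹ * t⁻¹ := by rw [hb'v]
            _ = t * b' * t⁻¹ := by group
            _ = b'⁻¹ := htinv
      · exact ⟨t, htQ, htinv⟩
    obtain ⟨P0, hb'P0, huniq', -, -, -⟩ := hUS hexp hb'1 hb'p hEig
    have hPP0 : P = P0 := huniq' P hb'P
    obtain ⟨h, hhN, hhp, hht⟩ := BQ.singer t htQ ht1 v hvQ hv1
    -- h⁻¹ b' h commutes with t
    have hcomm : Commute (h⁻¹ * b' * h) t := by
      show h⁻¹ * b' * h * t = t * (h⁻¹ * b' * h)
      have hv_eq : v = h * t * h⁻¹ := hht.symm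
      have e1 : h * t = v * h := by rw [hv_eq]; group
      have e2 : t * h⁻¹ = h⁻¹ * v := by rw [hv_eq]; group
      calc h⁻¹ * b' * h * t = h⁻¹ * b' * (h * t) := by group
        _ = h⁻¹ * b' * (v * h) := by rw [e1]
        _ = h⁻¹ * (b' * v) * h := by group
        _ = h⁻¹ * (v * b') * h := by rw [hb'v]
        _ = (h⁻¹ * v) * b' * h := by group
        _ = (t * h⁻¹) * b' * h := by rw [e2]
        _ = t * (h⁻¹ * b' * h) := by group
    have hconjp : IsPElt p (h⁻¹ * b' * h) := by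
      obtain ⟨k, hk⟩ := hb'p
      refine ⟨k, ?_⟩
      have := MulEquiv.orderOf_eq (MulAut.conj h⁻¹) b'
      rw [MulAut.conj_apply, inv_inv] at this
      rw [this, hk]
    have hmemP := h0 _ hconjp hcomm
    have hmem : b' ∈ (h • P : Sylow p G) := by
      show b' ∈ ((h • P : Sylow p G) : Subgroup G)
      rw [Sylow.coe_subgroup_smul, Cfsg.Agent.Lead.mem_conj_smul']
      exact hmemP
    have hhP : h • P = P := by rw [huniq' (h • P) hmem, hPP0]
    have hhNP : h ∈ Subgroup.normalizer ((P : Subgroup G) : Set G) :=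
      Sylow.smul_eq_iff_mem_normalizer.mp hhP
    have hhinP : h ∈ P := hpN h hhNP hhp
    -- h centralizes t
    have hcommt : h * t * h⁻¹ * t⁻¹ = 1 := by
      apply hQP
      · have : h * t * h⁻¹ ∈ Q := by rw [hht]; exact hvQ
        exact Q.mul_mem this (Q.inv_mem htQ)
      · have h1' : t * h⁻¹ * t⁻¹ ∈ P := hQconj t htQ h⁻¹ (P.inv_mem hhinP)
        have : h * t * h⁻¹ * t⁻¹ = h * (t * h⁻¹ * t⁻¹) := by group
        rw [this]
        exact P.mul_mem hhinP h1'
    apply hvt
    rw [← hht]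
    calc h * t * h⁻¹ = (h * t * h⁻¹ * t⁻¹) * t := by group
      _ = t := by rw [hcommt, one_mul]
  -- (3) such v inverts P
  have h3 : ∀ v ∈ Q, v ≠ 1 → v ≠ t → ∀ y ∈ P, v * y * v⁻¹ = y⁻¹ := by
    intro v hvQ hv1 hvt y hyP
    have iv := w1_inv Q hexp hvQ
    have hvyP : v * y * v⁻¹ ∈ P := hQconj v hvQ y hyP
    have hw : y * (v * y * v⁻¹) = 1 := by
      apply h2 v hvQ hv1 hvt _ (P.mul_mem hyP hvyP)
      have hab := hPab y hyP _ hvyP
      calc y * (v * y * v⁻¹) * v = y * v * y * (v⁻¹ * v) := by group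
        _ = y * v * y := by rw [inv_mul_cancel, mul_one]
        _ = y * (v * y * v⁻¹) * v := by group
        _ = (v * y * v⁻¹) * y * v := by rw [hab]
        _ = v * y * (v⁻¹ * y * v) := by group
        _ = v * y * (v * y * v⁻¹) := by rw [iv]
        _ = v * (y * (v * y * v⁻¹)) := by group
    exact (inv_eq_of_mul_eq_one_right hw).symm
  -- t centralizes P
  obtain ⟨u, huQ, hu1, hut⟩ := w2_exists_third c Q t
  have htuQ : t * u ∈ Q := Q.mul_mem htQ huQ
  have htu1 : t * u ≠ 1 := by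
    intro h
    apply hut
    have : u = t⁻¹ := (inv_eq_of_mul_eq_one_right h).symm
    rw [this, w1_inv Q hexp htQ]
  have htut : t * u ≠ t := fun h => hu1 (mul_left_cancel (a := t) (by rw [h, mul_one]))
  have htcent : ∀ y ∈ P, Commute y t := by
    intro y hyP
    have e1 := h3 u huQ hu1 hut y hyP
    have e2 := h3 (t * u) htuQ htu1 htut y⁻¹ (P.inv_mem hyP)
    rw [inv_inv] at e2
    have iu := w1_inv Q hexp huQ
    have htu : t * u = u * t := w1_comm Q hexp htQ huQ
    -- (t u) y⁻¹ (t u)⁻¹ = y and u y u⁻¹ = y⁻¹ give t y t⁻¹ = y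
    have e3 : u * y⁻¹ * u⁻¹ = y := by
      have : u * y⁻¹ * u⁻¹ = (u * y * u⁻¹)⁻¹ := by group
      rw [this, e1, inv_inv]
    have e4 : t * y * t⁻¹ = y := by
      calc t * y * t⁻¹ = t * (u * y⁻¹ * u⁻¹) * t⁻¹ := by rw [e3]
        _ = t * u * y⁻¹ * (t * u)⁻¹ := by group
        _ = y := e2
    show y * t = t * y
    calc y * t = (t * y * t⁻¹) * t := by rw [e4]
      _ = t * y := by group
  exact ⟨Q, t, P, htQ, ht1, htcent, hQN, h3, hNP⟩

end Cfsg.Agent.Helper10.Mix
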