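import Mathlib
import Cfsg.Agent.Lib.Helper10.MixDefs
import Cfsg.Agent.Lib.Helper19.MixW1Core
import Cfsg.Agent.Lib.Helper2.MixUSYL
import Cfsg.Agent.Lib.Helper2.MixEIG

/-!
# S4017 piece W1 (helper19): structure of the bad case `a = 2`
Wrapper with the exact skeleton signature, combining `bad_two_structure_core` with pieces
EIG and USYL.
-/

set_option autoImplicit false
set_option linter.unusedSectionVars false
set_option linter.unusedVariables false

namespace Cfsg.Agent.Helper10.Mix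

variable {G : Type*} [Group G] [Finite G] {p a : ℕ}

theorem bad_two_structure (c : Cfg G p 2) (B : ∀ Q : Sylow 2 G, Base G p 2 Q)
    (hbad : ¬ Good G p) :
    ∃ (Q : Sylow 2 G) (t : G) (P : Sylow p G), t ∈ Q ∧ t ≠ 1 ∧ (∀ y ∈ P, Commute y t) ∧
      (Q : Subgroup G) ≤ Subgroup.normalizer ((P : Subgroup G) : Set G) ∧
      (∀ s ∈ Q, s ≠ 1 → s ≠ t → ∀ y ∈ P, s * y * s⁻¹ = y⁻¹) ∧
      (∀ g ∈ Subgroup.normalizer ((P : Subgroup G) : Set G), ∃ y ∈ P, ∃ s ∈ Q, g = y * s) :=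
  bad_two_structure_core c B
    (fun BQ _ ht ht1 _ hy hyt hyQ => exists_eig c BQ ht ht1 hy hyt hyQ)
    (fun hexp _ hb1 hb hE => eig_sylow c hexp hb1 hb hE) hbad

end Cfsg.Agent.Helper10.Mix
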