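import Mathlib
import Cfsg.Agent.Lib.Helper10.MixDefs
import Cfsg.Agent.Lib.Helper19.MixW2Core
import Cfsg.Agent.Lib.Helper2.MixUSYL

/-!
# S4017 piece W2 (helper19): every nontrivial `p`-element commutes with exactly one involution
Wrapper with the exact skeleton signature, combining `unique_involution_core` with piece USYL.
-/

set_option autoImplicit false
set_option linter.unusedSectionVars false
set_option linter.unusedVariables false

namespace Cfsg.Agent.Helper10.Mix

variable {G : Type*} [Group G] [Finite G] {p a : ℕ}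

theorem unique_involution (c : Cfg G p 2) (B : ∀ Q : Sylow 2 G, Base G p 2 Q)
    (hS : ∃ (Q : Sylow 2 G) (t : G) (P : Sylow p G), t ∈ Q ∧ t ≠ 1 ∧ (∀ y ∈ P, Commute y t) ∧
      (Q : Subgroup G) ≤ Subgroup.normalizer ((P : Subgroup G) : Set G) ∧
      (∀ s ∈ Q, s ≠ 1 → s ≠ t → ∀ y ∈ P, s * y * s⁻¹ = y⁻¹) ∧
      (∀ g ∈ Subgroup.normalizer ((P : Subgroup G) : Set G), ∃ y ∈ P, ∃ s ∈ Q, g = y * s)) :
    ∀ z : G, z ≠ 1 → IsPElt p z → ∃! s : G, orderOf s = 2 ∧ Commute s z :=
  unique_involution_core c B (fun hexp _ hb1 hb hE => eig_sylow c hexp hb1 hb hE) hS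

end Cfsg.Agent.Helper10.Mix
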