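import Mathlib
import Cfsg.Agent.Lib.Helper10.PCDefs

/-!
# S2276 piece CERTP (helper19): two certificates about `p`-elements.
-/

set_option autoImplicit false
set_option linter.unusedSectionVars false
set_option linter.unusedVariables false
set_option linter.style.haveILetI false

namespace Cfsg.Agent.Helper10.PC

open Equiv Equiv.Perm

universe u

section general
variable {Ω : Type u} [Fintype Ω] [DecidableEq Ω]

/-! ## piece CERTP -/

theorem not_isPElt_of_two_cycle (p : ℕ) (hp : Odd p) (σ : Perm Ω) (x y : Ω) (hxy : x ≠ y)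
    (h1 : σ x = y) (h2 : σ y = x) : ¬ IsPElt p σ := by
  rintro ⟨k, hk⟩
  obtain ⟨m, hm⟩ := (Odd.pow hp : Odd (p ^ k))
  have hsq : (σ ^ 2) x = x := by
    rw [pow_two, Perm.mul_apply, h1, h2]
  have hm2 : ((σ ^ 2) ^ m) x = x := Equiv.Perm.pow_apply_eq_self_of_apply_eq_self hsq m
  have e : σ ^ (p ^ k) = σ * (σ ^ 2) ^ m := by
    rw [hm, pow_succ', pow_mul]
  have h3 : (σ ^ (p ^ k)) x = y := by
    rw [e, Perm.mul_apply, hm2, h1]
  rw [hk, Perm.one_apply] at h3
  exact hxy h3

theorem fixed_of_isPElt_card_prime (p : ℕ) (hp : p.Prime) (σ : Perm Ω) (hσ : IsPElt p σ)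
    (D : Finset Ω) (hD : D.card = p) (hinv : ∀ x ∈ D, σ x ∈ D) (x₀ : Ω) (hx₀ : x₀ ∈ D)
    (hfix : σ x₀ = x₀) : ∀ y ∈ D, σ y = y := by
  intro y hy
  by_cases hyx : y = x₀
  · rw [hyx]; exact hfix
  obtain ⟨k, hk⟩ := hσ
  -- the minimal period of `y` is a power of `p`
  have hper : Function.IsPeriodicPt σ (p ^ k) y := by
    unfold Function.IsPeriodicPt Function.IsFixedPt
    rw [Equiv.Perm.iterate_eq_pow, hk, Perm.one_apply]
  have hdvd : Function.minimalPeriod σ y ∣ p ^ k := hper.minimalPeriod_dvd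
  obtain ⟨j, hjk, hj⟩ := (Nat.dvd_prime_pow hp).1 hdvd
  rcases Nat.eq_zero_or_pos j with hj0 | hj0
  · rw [hj0, pow_zero] at hj
    exact Function.minimalPeriod_eq_one_iff_isFixedPt.1 hj
  exfalso
  have hpm : p ≤ Function.minimalPeriod σ y := by
    rw [hj]
    calc p = p ^ 1 := (pow_one p).symm
      _ ≤ p ^ j := Nat.pow_le_pow_right hp.pos hj0
  -- the orbit lies in `D` minus the fixed point
  have hmemD : ∀ i : ℕ, (σ ^ i) y ∈ D := by
    intro i
    induction i with
    | zero => simpa using hy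
    | succ i ih =>
      rw [pow_succ', Perm.mul_apply]
      exact hinv _ ih
  have hne : ∀ i : ℕ, (σ ^ i) y ≠ x₀ := by
    intro i hi
    have h0 : (σ ^ i) x₀ = x₀ := Equiv.Perm.pow_apply_eq_self_of_apply_eq_self hfix i
    rw [← h0] at hi
    exact hyx ((σ ^ i).injective hi)
  have hle : (Finset.range (Function.minimalPeriod σ y)).card ≤ (D.erase x₀).card := by
    apply Finset.card_le_card_of_injOn (fun i => (σ ^ i) y)
    · intro i _
      exact Finset.mem_erase.2 ⟨hne i, hmemD i⟩
    · intro a ha b hb hab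
      have ha' : a ∈ Set.Iio (Function.minimalPeriod σ y) := by
        simpa using ha
      have hb' : b ∈ Set.Iio (Function.minimalPeriod σ y) := by
        simpa using hb
      apply Function.iterate_injOn_Iio_minimalPeriod ha' hb'
      simp only [Equiv.Perm.iterate_eq_pow]
      exact hab
  rw [Finset.card_range, Finset.card_erase_of_mem hx₀, hD] at hle
  have := hp.pos
  omega

end general

end Cfsg.Agent.Helper10.PC
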