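import Mathlib
import Cfsg.Agent.Lib.Helper10.PCDefs

/-!
# S2276 piece NSROT, core (helper19): non-solvability certificate from a rotation; the statements of
the pieces NSCERT and GALOIS are hypotheses of `not_solvable_of_rot_core`.  `rot12_not_mem`,
`rot01_not_mem` are complete here.
-/

set_option autoImplicit false
set_option linter.unusedSectionVars false
set_option linter.unusedVariables false
set_option linter.style.haveILetI false

namespace Cfsg.Agent.Helper10.PC

open Equiv Equiv.Perm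

theorem nsrot_rot_pow (n k : ℕ) (x : ZMod n) : ((rot n) ^ k) x = x + (k : ZMod n) := by
  induction k with
  | zero => simp
  | succ k ih =>
    rw [pow_succ', Perm.mul_apply, ih, rot_apply]
    push_cast
    ring

theorem nsrot_ne (p a b : ℕ) (ha : a < p) (hb : b < p) (hab : a ≠ b) :
    ((a : ℕ) : ZMod p) ≠ ((b : ℕ) : ZMod p) := by
  intro h
  rw [ZMod.natCast_eq_natCast_iff', Nat.mod_eq_of_lt ha, Nat.mod_eq_of_lt hb] at h
  exact hab h

theorem nsrot_dmap_injective (p q n : ℕ) (hn : n = p * q) [NeZero n] :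
    Function.Injective (dmap p q n) := by
  have hn0 : n ≠ 0 := NeZero.ne n
  have hq : 0 < q := by
    rcases Nat.eq_zero_or_pos q with h | h
    · subst h
      rw [Nat.mul_zero] at hn
      exact absurd hn hn0
    · exact h
  have hp0 : 0 < p := by
    rcases Nat.eq_zero_or_pos p with h | h
    · subst h
      rw [Nat.zero_mul] at hn
      exact absurd hn hn0
    · exact h
  haveI : NeZero p := ⟨hp0.ne'⟩
  intro a b hab
  unfold dmap at hab
  rw [ZMod.natCast_eq_natCast_iff'] at hab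
  have ha : a.val * q < n := by
    rw [hn]; exact Nat.mul_lt_mul_of_pos_right (ZMod.val_lt a) hq
  have hb : b.val * q < n := by
    rw [hn]; exact Nat.mul_lt_mul_of_pos_right (ZMod.val_lt b) hq
  rw [Nat.mod_eq_of_lt ha, Nat.mod_eq_of_lt hb] at hab
  exact ZMod.val_injective p (Nat.eq_of_mul_eq_mul_right hq hab)

theorem nsrot_rot_dmap (p q n : ℕ) (hn : n = p * q) [NeZero n] (j : ZMod p) :
    ((rot n) ^ q) (dmap p q n j) = dmap p q n (rot p j) := by
  have hn0 : n ≠ 0 := NeZero.ne n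
  have hp0 : 0 < p := by
    rcases Nat.eq_zero_or_pos p with h | h
    · subst h
      rw [Nat.zero_mul] at hn
      exact absurd hn hn0
    · exact h
  haveI : NeZero p := ⟨hp0.ne'⟩
  rw [nsrot_rot_pow, rot_apply]
  unfold dmap
  rw [← Nat.cast_add, ZMod.natCast_eq_natCast_iff']
  have hval : (j + 1).val = (j.val + 1) % p := by
    rw [ZMod.val_add, ZMod.val_one_eq_one_mod, Nat.add_mod_mod]
  rw [hval, hn]
  have e1 : j.val * q + q = (j.val + 1) * q := by ring
  rw [e1, Nat.mul_mod_mul_right, Nat.mul_mod_mul_right, Nat.mod_mod]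

theorem nsrot_orderOf_rot (p : ℕ) (hp : p.Prime) : orderOf (rot p) = p := by
  haveI : Fact p.Prime := ⟨hp⟩
  apply orderOf_eq_prime
  · ext x
    rw [nsrot_rot_pow]
    simp
  · intro h
    have h1 := congrArg (fun σ : Perm (ZMod p) => σ 0) h
    simp only [rot_apply, Perm.one_apply, zero_add] at h1
    exact one_ne_zero h1

/-- PIECE NSROT, with the statements of NSCERT and GALOIS as hypotheses -/
theorem not_solvable_of_rot_core (p q n : ℕ) (hp : p.Prime) (hn : n = p * q) [NeZero n]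
    (hcert : ∀ (d : ZMod p → ZMod n), Function.Injective d →
      ∀ (H : Subgroup (Perm (ZMod n))) (k₁ k₂ : Perm (ZMod n)), k₁ ∈ H → k₂ ∈ H →
      ∀ (σ₁ σ₂ : Perm (ZMod p)), (∀ j, k₁ (d j) = d (σ₁ j)) → (∀ j, k₂ (d j) = d (σ₂ j)) →
      ¬ Group.IsSolvable ↥(Subgroup.closure ({σ₁, σ₂} : Set (Perm (ZMod p)))) →
      ¬ Group.IsSolvable ↥H)
    (hgal : ∀ (σ τ : Perm (ZMod p)), orderOf σ = p → orderOf τ = p → τ ∉ Subgroup.zpowers σ →
      ¬ Group.IsSolvable ↥(Subgroup.closure ({σ, τ} : Set (Perm (ZMod p)))))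
    (w' : Perm (ZMod n)) (m : ℕ) (s : Perm (ZMod p))
    (hm : ∀ k : ZMod p, (w' ^ m) (dmap p q n (s k)) = dmap p q n (s (k + 1)))
    (hs : s * rot p * s⁻¹ ∉ Subgroup.zpowers (rot p)) :
    ¬ Group.IsSolvable ↥(Subgroup.closure ({rot n, w'} : Set (Perm (ZMod n)))) := by
  apply hcert (dmap p q n) (nsrot_dmap_injective p q n hn) _ ((rot n) ^ q) (w' ^ m)
    (Subgroup.pow_mem _ (Subgroup.subset_closure (by simp)) q)
    (Subgroup.pow_mem _ (Subgroup.subset_closure (by simp)) m)
    (rot p) (s * rot p * s⁻¹) (nsrot_rot_dmap p q n hn)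
  · intro j
    have h1 := hm (s⁻¹ j)
    have e : s (s⁻¹ j) = j := Equiv.apply_symm_apply s j
    rw [e] at h1
    rw [h1, Perm.mul_apply, Perm.mul_apply, rot_apply]
  · apply hgal (rot p) (s * rot p * s⁻¹) (nsrot_orderOf_rot p hp) _ hs
    show orderOf (MulAut.conj s (rot p)) = p
    rw [MulEquiv.orderOf_eq]
    exact nsrot_orderOf_rot p hp

/-- if a conjugate of the rotation is a power of the rotation, its values are translates -/
theorem nsrot_apply_of_mem (p : ℕ) (hp : p.Prime) (τ : Perm (ZMod p))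
    (h : τ ∈ Subgroup.zpowers (rot p)) : ∃ k : ℕ, ∀ x, τ x = x + (k : ZMod p) := by
  haveI : NeZero p := ⟨hp.ne_zero⟩
  rw [← mem_powers_iff_mem_zpowers] at h
  obtain ⟨k, hk⟩ := (Submonoid.mem_powers_iff _ _).1 h
  refine ⟨k, fun x => ?_⟩
  rw [← hk, nsrot_rot_pow]

theorem rot12_not_mem (p : ℕ) (hp : p.Prime) (hp5 : 5 ≤ p) :
    (Equiv.swap (1 : ZMod p) 2) * rot p * (Equiv.swap (1 : ZMod p) 2)⁻¹ ∉
      Subgroup.zpowers (rot p) := by
  intro h
  obtain ⟨k, hk⟩ := nsrot_apply_of_mem p hp _ h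
  have h01 : (0 : ZMod p) ≠ 1 := by
    have := nsrot_ne p 0 1 (by omega) (by omega) (by norm_num); exact_mod_cast this
  have h02 : (0 : ZMod p) ≠ 2 := by
    have := nsrot_ne p 0 2 (by omega) (by omega) (by norm_num); exact_mod_cast this
  have h31 : (3 : ZMod p) ≠ 1 := by
    have := nsrot_ne p 3 1 (by omega) (by omega) (by norm_num); exact_mod_cast this
  have h32 : (3 : ZMod p) ≠ 2 := by
    have := nsrot_ne p 3 2 (by omega) (by omega) (by norm_num); exact_mod_cast this
  have h41 : (4 : ZMod p) ≠ 1 := by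
    have := nsrot_ne p 4 1 (by omega) (by omega) (by norm_num); exact_mod_cast this
  have h42 : (4 : ZMod p) ≠ 2 := by
    have := nsrot_ne p 4 2 (by omega) (by omega) (by norm_num); exact_mod_cast this
  have h21 : (2 : ZMod p) ≠ 1 := by
    have := nsrot_ne p 2 1 (by omega) (by omega) (by norm_num); exact_mod_cast this
  have e0 := hk 0
  have e3 := hk 3
  rw [Perm.mul_apply, Perm.mul_apply, Equiv.swap_inv, rot_apply] at e0 e3
  rw [Equiv.swap_apply_of_ne_of_ne h01 h02, zero_add, Equiv.swap_apply_left, zero_add] at e0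
  rw [Equiv.swap_apply_of_ne_of_ne h31 h32] at e3
  have e34 : (3 : ZMod p) + 1 = 4 := by norm_num
  rw [e34, Equiv.swap_apply_of_ne_of_ne h41 h42, ← e34] at e3
  have e1 : (1 : ZMod p) = (k : ZMod p) := add_left_cancel e3
  rw [← e1] at e0
  exact h21 e0

theorem rot01_not_mem (p : ℕ) (hp : p.Prime) (hp5 : 5 ≤ p) :
    (Equiv.swap (0 : ZMod p) 1) * rot p * (Equiv.swap (0 : ZMod p) 1)⁻¹ ∉
      Subgroup.zpowers (rot p) := by
  intro h
  obtain ⟨k, hk⟩ := nsrot_apply_of_mem p hp _ h
  have h20 : (2 : ZMod p) ≠ 0 := by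
    have := nsrot_ne p 2 0 (by omega) (by omega) (by norm_num); exact_mod_cast this
  have h21 : (2 : ZMod p) ≠ 1 := by
    have := nsrot_ne p 2 1 (by omega) (by omega) (by norm_num); exact_mod_cast this
  have h30 : (3 : ZMod p) ≠ 0 := by
    have := nsrot_ne p 3 0 (by omega) (by omega) (by norm_num); exact_mod_cast this
  have h31 : (3 : ZMod p) ≠ 1 := by
    have := nsrot_ne p 3 1 (by omega) (by omega) (by norm_num); exact_mod_cast this
  have e0 := hk 0
  have e2 := hk 2
  rw [Perm.mul_apply, Perm.mul_apply, Equiv.swap_inv, rot_apply] at e0 e2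
  have e12 : (1 : ZMod p) + 1 = 2 := by norm_num
  have e23 : (2 : ZMod p) + 1 = 3 := by norm_num
  rw [Equiv.swap_apply_left, e12, Equiv.swap_apply_of_ne_of_ne h20 h21, zero_add] at e0
  rw [Equiv.swap_apply_of_ne_of_ne h20 h21, e23, Equiv.swap_apply_of_ne_of_ne h30 h31, ← e23] at e2
  have e1 : (1 : ZMod p) = (k : ZMod p) := add_left_cancel e2
  rw [← e1] at e0
  exact h21 e0

end Cfsg.Agent.Helper10.PC
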