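import Mathlib
import Cfsg.Agent.Lib.Helper10.PCDefs
import Cfsg.Agent.Lib.Helper11.PCNSCERT
import Cfsg.Agent.Lib.Lead.PCGALOIS
import Cfsg.Agent.Lib.Helper19.PCNSROTCore

/-!
# S2276 piece NSROT (helper19): `not_solvable_of_rot` (the other two statements of the piece,
`rot12_not_mem` and `rot01_not_mem`, are in `PCNSROTCore.lean`).
-/

set_option autoImplicit false
set_option linter.unusedSectionVars false
set_option linter.unusedVariables false
set_option linter.style.haveILetI false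

namespace Cfsg.Agent.Helper10.PC

open Equiv Equiv.Perm

/-! ## piece NSROT (uses NSCERT, GALOIS) -/

theorem not_solvable_of_rot (p q n : ℕ) (hp : p.Prime) (hn : n = p * q) [NeZero n]
    (w' : Perm (ZMod n)) (m : ℕ) (s : Perm (ZMod p))
    (hm : ∀ k : ZMod p, (w' ^ m) (dmap p q n (s k)) = dmap p q n (s (k + 1)))
    (hs : s * rot p * s⁻¹ ∉ Subgroup.zpowers (rot p)) :
    ¬ Group.IsSolvable ↥(Subgroup.closure ({rot n, w'} : Set (Perm (ZMod n)))) := by
  haveI : NeZero p := ⟨hp.ne_zero⟩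
  exact not_solvable_of_rot_core p q n hp hn
    (fun d hd H k₁ k₂ hk₁ hk₂ σ₁ σ₂ h₁ h₂ hns =>
      not_solvable_of_restrict d hd H k₁ k₂ hk₁ hk₂ σ₁ σ₂ h₁ h₂ hns)
    (fun σ τ hσ hτ hne => not_solvable_of_two_pcycles p hp (ZMod.card p) σ τ hσ hτ hne)
    w' m s hm hs

end Cfsg.Agent.Helper10.PC
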