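import Mathlib
import Cfsg.Agent.Lib.Helper10.PCDefs

/-!
# S2276 piece EVENMAP (helper19): an even permutation carrying one Finset onto another of equal size.
-/

set_option autoImplicit false
set_option linter.unusedSectionVars false
set_option linter.unusedVariables false
set_option linter.style.haveILetI false

namespace Cfsg.Agent.Helper10.PC

open Equiv Equiv.Perm

universe u

section general
variable {Ω : Type u} [Fintype Ω] [DecidableEq Ω]

/-- some permutation carrying `Dw` onto `Du` -/
theorem evenmap_exists_map (Du Dw : Finset Ω) (hcard : Du.card = Dw.card) :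
    ∃ g : Perm Ω, ∀ x, x ∈ Dw ↔ g x ∈ Du := by
  have hc : Fintype.card {x // x ∈ Dw} = Fintype.card {x // x ∈ Du} := by
    rw [Fintype.card_coe, Fintype.card_coe, hcard]
  let e : {x // x ∈ Dw} ≃ {x // x ∈ Du} := Fintype.equivOfCardEq hc
  refine ⟨e.extendSubtype, fun x => ?_⟩
  constructor
  · intro hx
    exact e.extendSubtype_mem x hx
  · intro hx
    by_contra hn
    exact e.extendSubtype_not_mem x hn hx

/-! ## piece EVENMAP -/

theorem exists_even_map (Du Dw : Finset Ω) (hcard : Du.card = Dw.card) (h2 : 2 ≤ Du.card) :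
    ∃ g : Perm Ω, Perm.sign g = 1 ∧ ∀ x, x ∈ Dw ↔ g x ∈ Du := by
  obtain ⟨g0, hg0⟩ := evenmap_exists_map Du Dw hcard
  rcases Int.units_eq_one_or (Perm.sign g0) with hs | hs
  · exact ⟨g0, hs, hg0⟩
  · obtain ⟨a, ha, b, hb, hab⟩ := Finset.one_lt_card.1 (by omega : 1 < Du.card)
    refine ⟨Equiv.swap a b * g0, ?_, fun x => ?_⟩
    · rw [Perm.sign_mul, Perm.sign_swap hab, hs]
      rfl
    · rw [hg0 x, Perm.mul_apply]
      constructor
      · intro hx
        by_cases h1 : g0 x = a
        · rw [h1, Equiv.swap_apply_left]; exact hb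
        · by_cases h3 : g0 x = b
          · rw [h3, Equiv.swap_apply_right]; exact ha
          · rw [Equiv.swap_apply_of_ne_of_ne h1 h3]; exact hx
      · intro hx
        by_cases h1 : g0 x = a
        · rw [h1]; exact ha
        · by_cases h3 : g0 x = b
          · rw [h3]; exact hb
          · rw [Equiv.swap_apply_of_ne_of_ne h1 h3] at hx; exact hx

end general

end Cfsg.Agent.Helper10.PC
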