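import Mathlib
import Cfsg.Agent.Lib.Helper10.PCDefs
import Cfsg.Agent.Lib.Helper23.PCGOODCONJ
import Cfsg.Agent.Lib.Helper19.PCEVENMAP

/-!
# S2276 piece REDUCE, core (helper19): reduction to an invariant subset; the statement of piece GOODSUB
is a hypothesis here.
-/

set_option autoImplicit false
set_option linter.unusedSectionVars false
set_option linter.unusedVariables false
set_option linter.style.haveILetI false

namespace Cfsg.Agent.Helper10.PC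

open Equiv Equiv.Perm

universe u

section general
variable {Ω : Type u} [Fintype Ω] [DecidableEq Ω]

/-- powers of a restriction -/
theorem reduce_pow_coe (D : Finset Ω) (σ : Perm Ω) (σ' : Perm {x // x ∈ D})
    (h : ∀ x : {x // x ∈ D}, (σ' x : Ω) = σ x) (m : ℕ) (x : {x // x ∈ D}) :
    (((σ' ^ m) x : {x // x ∈ D}) : Ω) = (σ ^ m) x := by
  induction m with
  | zero => simp
  | succ m ih => rw [pow_succ', pow_succ', Perm.mul_apply, Perm.mul_apply, h, ih]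

theorem reduce_isPElt (p : ℕ) (D : Finset Ω) (σ : Perm Ω) (σ' : Perm {x // x ∈ D})
    (h : ∀ x : {x // x ∈ D}, (σ' x : Ω) = σ x) (hσ : IsPElt p σ) : IsPElt p σ' := by
  obtain ⟨k, hk⟩ := hσ
  refine ⟨k, ?_⟩
  ext x
  rw [reduce_pow_coe D σ σ' h, hk]
  rfl

theorem reduce_ne_one (D : Finset Ω) (σ : Perm Ω) (σ' : Perm {x // x ∈ D})
    (h : ∀ x : {x // x ∈ D}, (σ' x : Ω) = σ x) (hn : ∃ x ∈ D, σ x ≠ x) : σ' ≠ 1 := by
  obtain ⟨x, hx, hne⟩ := hn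
  intro h1
  apply hne
  have := h ⟨x, hx⟩
  rw [h1] at this
  exact this.symm

/-- PIECE REDUCE with the statement of GOODSUB as a hypothesis -/
theorem good_of_reducible_core (p : ℕ)
    (hsub : ∀ (u w : Perm Ω) (D : Finset Ω), (∀ x ∈ D, u x ∈ D) → (∀ x ∈ D, w x ∈ D) →
      ∀ (u' w' : Perm {x // x ∈ D}), (∀ x : {x // x ∈ D}, (u' x : Ω) = u x) →
      (∀ x : {x // x ∈ D}, (w' x : Ω) = w x) → Good p u' w' → Good p u w)
    (hp : p.Prime) (u w : Perm Ω) (hu : IsPElt p u)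
    (hw : IsPElt p w) (Du Dw : Finset Ω) (hcard : Du.card = Dw.card) (h2 : 2 ≤ Du.card)
    (hDu : ∀ x ∈ Du, u x ∈ Du) (hDw : ∀ x ∈ Dw, w x ∈ Dw)
    (hnu : ∃ x ∈ Du, u x ≠ x) (hnw : ∃ x ∈ Dw, w x ≠ x)
    (IH : ∀ u' w' : Perm {x // x ∈ Du}, IsPElt p u' → IsPElt p w' → u' ≠ 1 → w' ≠ 1 →
      Good p u' w') : Good p u w := by
  obtain ⟨g₀, hsign, hg₀⟩ := exists_even_map Du Dw hcard h2
  have hinvmem : ∀ x ∈ Du, g₀⁻¹ x ∈ Dw := by
    intro x hx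
    rw [hg₀]
    show g₀ (g₀.symm x) ∈ Du
    rw [Equiv.apply_symm_apply]
    exact hx
  have hDw₁ : ∀ x ∈ Du, (g₀ * w * g₀⁻¹) x ∈ Du := by
    intro x hx
    rw [Perm.mul_apply, Perm.mul_apply]
    exact (hg₀ _).1 (hDw _ (hinvmem x hx))
  have hw₁ : IsPElt p (g₀ * w * g₀⁻¹) := (goodconj_isPElt_conj_iff p g₀ w).2 hw
  have hnw₁ : ∃ x ∈ Du, (g₀ * w * g₀⁻¹) x ≠ x := by
    obtain ⟨x, hx, hne⟩ := hnw
    refine ⟨g₀ x, (hg₀ x).1 hx, ?_⟩
    rw [Perm.mul_apply, Perm.mul_apply]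
    have e : g₀⁻¹ (g₀ x) = x := Equiv.symm_apply_apply g₀ x
    rw [e]
    intro h
    exact hne (g₀.injective h)
  let u' : Perm {x // x ∈ Du} := u.subtypePermOfFintype hDu
  let w' : Perm {x // x ∈ Du} := (g₀ * w * g₀⁻¹).subtypePermOfFintype hDw₁
  have hu' : ∀ x : {x // x ∈ Du}, (u' x : Ω) = u x := fun x => rfl
  have hw' : ∀ x : {x // x ∈ Du}, (w' x : Ω) = (g₀ * w * g₀⁻¹) x := fun x => rfl
  have H := IH u' w' (reduce_isPElt p Du u u' hu' hu) (reduce_isPElt p Du _ w' hw' hw₁)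
    (reduce_ne_one Du u u' hu' hnu) (reduce_ne_one Du _ w' hw' hnw₁)
  exact good_conj_right p u w g₀ hsign (hsub u (g₀ * w * g₀⁻¹) Du hDu hDw₁ u' w' hu' hw' H)

end general

end Cfsg.Agent.Helper10.PC
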