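import Mathlib
import Cfsg.Agent.Lib.Helper10.PCDefs
import Cfsg.Agent.Lib.Helper2.PCGOODSUB
import Cfsg.Agent.Lib.Helper19.PCREDUCECore

/-!
# S2276 piece REDUCE (helper19): reduction to an invariant subset.
-/

set_option autoImplicit false
set_option linter.unusedSectionVars false
set_option linter.unusedVariables false

namespace Cfsg.Agent.Helper10.PC

open Equiv Equiv.Perm

universe u

section general
variable {Ω : Type u} [Fintype Ω] [DecidableEq Ω]

/-! ## piece REDUCE (uses EVENMAP, GOODCONJ, GOODSUB) -/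

theorem good_of_reducible (p : ℕ) (hp : p.Prime) (u w : Perm Ω) (hu : IsPElt p u)
    (hw : IsPElt p w) (Du Dw : Finset Ω) (hcard : Du.card = Dw.card) (h2 : 2 ≤ Du.card)
    (hDu : ∀ x ∈ Du, u x ∈ Du) (hDw : ∀ x ∈ Dw, w x ∈ Dw)
    (hnu : ∃ x ∈ Du, u x ≠ x) (hnw : ∃ x ∈ Dw, w x ≠ x)
    (IH : ∀ u' w' : Perm {x // x ∈ Du}, IsPElt p u' → IsPElt p w' → u' ≠ 1 → w' ≠ 1 →
      Good p u' w') : Good p u w :=
  good_of_reducible_core p
    (fun u w D hu hw u' w' hu' hw' H => good_of_sub p u w D hu hw u' w' hu' hw' H)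
    hp u w hu hw Du Dw hcard h2 hDu hDw hnu hnw IH

end general

end Cfsg.Agent.Helper10.PC
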