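import Mathlib
import Cfsg.Agent.Lib.Helper11.D4IDefs

/-!
# S2183 (helper11's farm-out), PIECE FIELDA (helper19): finite-field lemmas for the cubic extension
`K / Fix f`, `f t = t ^ q`, `|K| = q ^ 3`, characteristic `2`
-/

set_option autoImplicit false
set_option linter.unusedSectionVars false
set_option linter.unusedSimpArgs false
set_option linter.unusedVariables false

namespace Cfsg.Agent.Helper11.D4I

open Cfsg Polynomial

variable {K : Type*} [Field K] [Fintype K] [CharP K 2] {q : ℕ} (hK : Fintype.card K = q ^ 3)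
  (f : K ≃+* K) (hf : ∀ t, f t = t ^ q)
include hK hf

theorem fieldA_two_le_q : 2 ≤ q := by
  have h1 : 1 < Fintype.card K := Fintype.one_lt_card
  rw [hK] at h1
  by_contra hcon
  push Not at hcon
  interval_cases q <;> simp at h1

theorem fieldA_f3 (t : K) : f (f (f t)) = t := by
  rw [hf, hf, hf, ← pow_mul, ← pow_mul]
  have : q * (q * q) = Fintype.card K := by rw [hK]; ring
  rw [this, FiniteField.pow_card]

theorem fieldA_tr_fix (x : K) : f (Tr f x) = Tr f x := by
  simp only [Tr, map_add, fieldA_f3 hK f hf]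
  ring

theorem fieldA_exists_tr_ne_zero : ∃ x : K, Tr f x ≠ 0 := by
  by_contra hcon
  push Not at hcon
  have hq := fieldA_two_le_q hK f hf
  set p : Polynomial K := (Polynomial.X : Polynomial K) + (Polynomial.X : Polynomial K) ^ q + (Polynomial.X : Polynomial K) ^ (q ^ 2) with hp
  have heval : ∀ x : K, p.eval (id x) = 0 := by
    intro x
    have := hcon x
    simp only [Tr, hf] at this
    simp only [hp, eval_add, eval_X, eval_pow, id]
    rw [← this, ← pow_mul, pow_two]
  have hq2 : q < q ^ 2 := by nlinarith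
  have hdeg : p.natDegree ≤ q ^ 2 := by
    rw [hp]
    refine le_trans (natDegree_add_le _ _) (max_le (le_trans (natDegree_add_le _ _) (max_le ?_ ?_)) ?_)
    · rw [natDegree_X]
      nlinarith
    · rw [natDegree_X_pow]
      exact hq2.le
    · rw [natDegree_X_pow]
  have hcard : p.natDegree < Fintype.card K := by
    rw [hK]
    have : q ^ 2 < q ^ 3 := Nat.pow_lt_pow_right (by omega) (by norm_num)
    omega
  have hp0 := eq_zero_of_natDegree_lt_card_of_eval_eq_zero p Function.injective_id heval hcard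
  have hcoef : p.coeff (q ^ 2) = 1 := by
    rw [hp, coeff_add, coeff_add, coeff_X, coeff_X_pow, coeff_X_pow]
    have h1 : (1 : ℕ) ≠ q ^ 2 := by nlinarith
    have h2 : q ^ 2 ≠ q := hq2.ne'
    simp [h1, h2]
  rw [hp0, coeff_zero] at hcoef
  exact zero_ne_one hcoef

/-- PIECE FIELDA -/
theorem exists_tr_one : ∃ θ : K, Tr f θ = 1 := by
  obtain ⟨x, hx⟩ := fieldA_exists_tr_ne_zero hK f hf
  have hfix := fieldA_tr_fix hK f hf x
  refine ⟨x / Tr f x, ?_⟩
  have h1 : Tr f (x / Tr f x) = Tr f x / Tr f x := by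
    generalize hc : Tr f x = c at hfix hx
    have e : Tr f (x / c) = x / c + f x / c + f (f x) / c := by
      simp only [Tr, map_div₀, hfix]
    rw [e, ← hc]
    simp only [Tr]
    ring
  rw [h1, div_self hx]

/-- PIECE FIELDA -/
theorem tr_surj (t c : K) (ht : t ≠ 0) (hc : f c = c) : ∃ s : K, Tr f (s * t) = c := by
  obtain ⟨θ, hθ⟩ := exists_tr_one hK f hf
  refine ⟨c * θ / t, ?_⟩
  have h1 : c * θ / t * t = c * θ := by field_simp
  rw [h1]
  simp only [Tr, map_mul, hc] at hθ ⊢
  rw [← mul_add, ← mul_add, hθ, mul_one]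

end Cfsg.Agent.Helper11.D4I
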