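import Mathlib
import Cfsg.Agent.Lib.Helper11.D4IDefs
import Cfsg.Agent.Lib.Helper19.D4IFIELDA
/-!
# S2183 (helper11's farm-out), PIECE FIELDB (helper19): finite-field lemmas for the cubic extension
`K / Fix f`, `f t = t ^ q`, `|K| = q ^ 3`, characteristic `2`
-/

set_option autoImplicit false
set_option linter.unusedSectionVars false
set_option linter.unusedSimpArgs false
set_option linter.unusedVariables false

namespace Cfsg.Agent.Helper11.D4I

open Cfsg Polynomial

variable {K : Type*} [Field K] [Fintype K] [CharP K 2] {q : ℕ} (hK : Fintype.card K = q ^ 3)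
  (f : K ≃+* K) (hf : ∀ t, f t = t ^ q)
include hK hf

/-- PIECE FIELDB -/
theorem sqrt_fix (c : K) (hc : f c = c) : ∃ l : K, f l = l ∧ l * l = c := by
  obtain ⟨l, hl⟩ := isSquare_of_charTwo' c
  refine ⟨l, ?_, hl.symm⟩
  have h1 : f l * f l = l * l := by rw [← map_mul, ← hl, hc]
  have h2 : (f l - l) * (f l - l) = 0 := by
    have e : (f l - l) * (f l - l) = f l * f l + l * l - 2 * (f l * l) := by ring
    rw [e, h1, CharTwo.two_eq_zero, zero_mul, sub_zero, CharTwo.add_self_eq_zero]
  have h3 : f l - l = 0 := mul_self_eq_zero.1 h2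
  exact sub_eq_zero.1 h3

/-- PIECE FIELDB -/
theorem fix_of_ratio (t1 t3 : K) (h1 : t1 ≠ 0) (h : t1 * f (f t3) + f (f t1) * t3 = 0) :
    ∃ l : K, f l = l ∧ t3 = l * t1 := by
  refine ⟨t3 / t1, ?_, by field_simp⟩
  have hff1 : f (f t1) ≠ 0 := by
    intro h0
    apply h1
    have := fieldA_f3 hK f hf t1
    rw [h0, map_zero] at this
    exact this.symm
  have h2 : t1 * f (f t3) = f (f t1) * t3 := by
    have := CharTwo.add_eq_zero.1 h
    exact this
  have h3 : f (f (t3 / t1)) = t3 / t1 := by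
    rw [map_div₀, map_div₀, div_eq_div_iff hff1 h1]
    rw [mul_comm, h2, mul_comm]
  have h4 := congrArg f h3
  rw [fieldA_f3 hK f hf] at h4
  exact h4.symm

end Cfsg.Agent.Helper11.D4I
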