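import Mathlib
import Cfsg.Agent.Lib.Helper11.F4IE7
import Cfsg.Agent.Lib.Lead.TwReeBorel

/-!
# `²F₄(q)`: the central involution `U4 0 c` is not conjugate to `U1 t`

Piece NCONJ of S2184, core version: the surjectivity of the normal form is a hypothesis.  Bruhat decomposition of the
conjugating element, the orbit of the pair `(44, 47)` under the twisted Weyl group, and invariance of the first
coordinate of the normal form under conjugation by `U¹`.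
-/

set_option autoImplicit false
set_option linter.unusedSectionVars false
set_option linter.unusedSimpArgs false
set_option linter.unusedVariables false

namespace Cfsg.Agent.Helper11.F4I

open Cfsg Cfsg.Lie Cfsg.Agent.Lead.Chev Cfsg.Agent.Lead.Tw

namespace NCJ

theorem pos_list : ∀ r < 48, chevF4.IsPosRoot r → r ∈ [24, 25, 26, 27, 28, 29, 30, 31, 32, 33, 34, 35, 36, 37, 38, 39, 40, 41, 42, 43, 44, 45, 46, 47] := by
  decide +kernel

/-- the orbit of the pair `(44, 47)` under the twisted Weyl group -/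
def orbP : List (ℕ × ℕ) := [(36, 42), (44, 47), (40, 46), (28, 30), (11, 5), (3, 0), (7, 1), (19, 17)]

theorem neg_list : ∀ r ∈ [11, 5, 3, 0, 7, 1, 19, 17], chevF4.IsNegRoot r := by decide +kernel

theorem orb_step : ∀ p ∈ orbP, ∀ v ∈ F4.S, (reflWord chevF4 v p.1, reflWord chevF4 v p.2) ∈ orbP := by
  decide +kernel

theorem orb (l : List (List ℕ)) (hl : ∀ v ∈ l, v ∈ F4.S) :
    ∀ p ∈ orbP, (reflWord chevF4 (wordOf l) p.1, reflWord chevF4 (wordOf l) p.2) ∈ orbP := by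
  induction l with
  | nil => intro p hp; simpa [wordOf, reflWord] using hp
  | cons v l ih =>
    intro p hp
    simp only [wordOf]
    rw [reflWord_append, reflWord_append]
    exact ih (fun x hx => hl x (List.mem_cons_of_mem _ hx)) _ (orb_step p hp v (hl v List.mem_cons_self))

variable {K : Type*} [Field K]

/-- a generator of `U` -/
theorem gen_cases (g : GL chevF4.Idx K)
    (hg : ∃ (r : ℕ) (t : K), chevF4.IsPosRoot r ∧ (g : Matrix chevF4.Idx chevF4.Idx K) = chevF4.x K r t) :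
    ∃ r ∈ [24, 25, 26, 27, 28, 29, 30, 31, 32, 33, 34, 35, 36, 37, 38, 39, 40, 41, 42, 43, 44, 45, 46, 47], ∃ t : K, g = X r t := by
  obtain ⟨r, t, hr, e⟩ := hg
  have h48 : r < 48 := by
    have := hr.1
    rwa [nroots48] at this
  exact ⟨r, pos_list r h48 hr, t, Units.ext e⟩

/-- an element commuting with the generators of `U` is central in `U` -/
theorem central_of_gens (z : GL chevF4.Idx K)
    (hz : ∀ r ∈ [24, 25, 26, 27, 28, 29, 30, 31, 32, 33, 34, 35, 36, 37, 38, 39, 40, 41, 42, 43, 44, 45, 46, 47], ∀ c : K, X r c * z = z * X r c)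
    (u : GL chevF4.Idx K) (hu : u ∈ chevF4.posUnipotent K) : u * z = z * u := by
  unfold ChevalleyDatum.posUnipotent at hu
  induction hu using Subgroup.closure_induction with
  | mem x hx =>
    obtain ⟨r, hr, c, rfl⟩ := gen_cases x hx
    exact hz r hr c
  | one => rw [one_mul, mul_one]
  | mul x y _ _ hx hy => rw [mul_assoc, hy, ← mul_assoc, hx, mul_assoc]
  | inv x _ hx =>
    have : x⁻¹ * z = x⁻¹ * (z * x) * x⁻¹ := by group
    rw [this, ← hx]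
    group

/-- the first coordinate of the normal form of `y` is `t1` -/
def T1 (f : K ≃+* K) (t1 : K) (y : GL chevF4.Idx K) : Prop :=
  ∃ t2 u2 t3 t4 u4 t5 t6 u6 t7 t8 u8 : K, y = NF f t1 t2 u2 t3 t4 u4 t5 t6 u6 t7 t8 u8

variable [CharP K 2]

theorem c44 : ∀ r ∈ [24, 25, 26, 27, 28, 29, 30, 31, 32, 33, 34, 35, 36, 37, 38, 39, 40, 41, 42, 43, 44, 45, 46, 47], ∀ c t : K, X r c * X 44 t = X 44 t * X r c := by
  intro r hr c t
  simp only [List.mem_cons, List.mem_nil_iff, or_false] at hr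
  rcases hr with rfl | rfl | rfl | rfl | rfl | rfl | rfl | rfl | rfl | rfl | rfl | rfl | rfl | rfl | rfl | rfl | rfl | rfl | rfl | rfl | rfl | rfl | rfl | rfl
  · exact (sw_44_24 c t).symm
  · exact sw_25_44 t c
  · exact (sw_44_26 c t).symm
  · exact sw_27_44 t c
  · exact sw_28_44 t c
  · exact (sw_44_29 c t).symm
  · exact sw_30_44 t c
  · exact sw_31_44 t c
  · exact sw_32_44 t c
  · exact (sw_44_33 c t).symm
  · exact (sw_44_34 c t).symm
  · exact sw_35_44 t c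
  · exact (sw_44_36 c t).symm
  · exact sw_37_44 t c
  · exact (sw_44_38 c t).symm
  · exact sw_39_44 t c
  · exact sw_40_44 t c
  · exact (sw_44_41 c t).symm
  · exact (sw_44_42 c t).symm
  · exact (sw_44_43 c t).symm
  · rw [X_mul, X_mul, add_comm]
  · exact sw_45_44 t c
  · exact sw_46_44 t c
  · exact sw_47_44 t c

theorem c47 : ∀ r ∈ [24, 25, 26, 27, 28, 29, 30, 31, 32, 33, 34, 35, 36, 37, 38, 39, 40, 41, 42, 43, 44, 45, 46, 47], ∀ c t : K, X r c * X 47 t = X 47 t * X r c := by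
  intro r hr c t
  simp only [List.mem_cons, List.mem_nil_iff, or_false] at hr
  rcases hr with rfl | rfl | rfl | rfl | rfl | rfl | rfl | rfl | rfl | rfl | rfl | rfl | rfl | rfl | rfl | rfl | rfl | rfl | rfl | rfl | rfl | rfl | rfl | rfl
  · exact (sw_47_24 c t).symm
  · exact sw_25_47 t c
  · exact (sw_47_26 c t).symm
  · exact sw_27_47 t c
  · exact sw_28_47 t c
  · exact (sw_47_29 c t).symm
  · exact sw_30_47 t c
  · exact sw_31_47 t c
  · exact sw_32_47 t c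
  · exact (sw_47_33 c t).symm
  · exact (sw_47_34 c t).symm
  · exact sw_35_47 t c
  · exact (sw_47_36 c t).symm
  · exact sw_37_47 t c
  · exact (sw_47_38 c t).symm
  · exact sw_39_47 t c
  · exact sw_40_47 t c
  · exact (sw_47_41 c t).symm
  · exact (sw_47_42 c t).symm
  · exact (sw_47_43 c t).symm
  · exact (sw_47_44 c t).symm
  · exact sw_45_47 t c
  · exact sw_46_47 t c
  · rw [X_mul, X_mul, add_comm]

/-- `x₄₄(a) x₄₇(b)` is central in `U` -/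
theorem z_central (a b : K) (u : GL chevF4.Idx K) (hu : u ∈ chevF4.posUnipotent K) :
    u * (X 44 a * X 47 b) = X 44 a * X 47 b * u := by
  refine central_of_gens _ (fun r hr c => ?_) u hu
  rw [← mul_assoc, c44 r hr c a, mul_assoc, c47 r hr c b, mul_assoc]

variable (f : K ≃+* K) (hff : ∀ x : K, (f (f x)) ^ 2 = x)
include hff

theorem T1_s1 (s : K) {t1 : K} {y : GL chevF4.Idx K} (hy : T1 f t1 y) :
    T1 f t1 (U1 f s * y * U1 f s) := by
  obtain ⟨t2, u2, t3, t4, u4, t5, t6, u6, t7, t8, u8, rfl⟩ := hy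
  exact ⟨_, _, _, _, _, _, _, _, _, _, _, cj_1 f hff t1 t2 u2 t3 t4 u4 t5 t6 u6 t7 t8 u8 s⟩

theorem T1_s2 (s v : K) {t1 : K} {y : GL chevF4.Idx K} (hy : T1 f t1 y) :
    T1 f t1 (U2 f s v * y * U2 f s (s * f s + v)) := by
  obtain ⟨t2, u2, t3, t4, u4, t5, t6, u6, t7, t8, u8, rfl⟩ := hy
  exact ⟨_, _, _, _, _, _, _, _, _, _, _, cj_2 f hff t1 t2 u2 t3 t4 u4 t5 t6 u6 t7 t8 u8 s v⟩

theorem T1_s3 (s : K) {t1 : K} {y : GL chevF4.Idx K} (hy : T1 f t1 y) :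
    T1 f t1 (U3 f s * y * U3 f s) := by
  obtain ⟨t2, u2, t3, t4, u4, t5, t6, u6, t7, t8, u8, rfl⟩ := hy
  exact ⟨_, _, _, _, _, _, _, _, _, _, _, cj_3 f hff t1 t2 u2 t3 t4 u4 t5 t6 u6 t7 t8 u8 s⟩

theorem T1_s4 (s v : K) {t1 : K} {y : GL chevF4.Idx K} (hy : T1 f t1 y) :
    T1 f t1 (U4 f s v * y * U4 f s (s * f s + v)) := by
  obtain ⟨t2, u2, t3, t4, u4, t5, t6, u6, t7, t8, u8, rfl⟩ := hy
  exact ⟨_, _, _, _, _, _, _, _, _, _, _, cj_4 f hff t1 t2 u2 t3 t4 u4 t5 t6 u6 t7 t8 u8 s v⟩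

theorem T1_s5 (s : K) {t1 : K} {y : GL chevF4.Idx K} (hy : T1 f t1 y) :
    T1 f t1 (U5 f s * y * U5 f s) := by
  obtain ⟨t2, u2, t3, t4, u4, t5, t6, u6, t7, t8, u8, rfl⟩ := hy
  exact ⟨_, _, _, _, _, _, _, _, _, _, _, cj_5 f hff t1 t2 u2 t3 t4 u4 t5 t6 u6 t7 t8 u8 s⟩

theorem T1_s6 (s v : K) {t1 : K} {y : GL chevF4.Idx K} (hy : T1 f t1 y) :
    T1 f t1 (U6 f s v * y * U6 f s (s * f s + v)) := by
  obtain ⟨t2, u2, t3, t4, u4, t5, t6, u6, t7, t8, u8, rfl⟩ := hy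
  exact ⟨_, _, _, _, _, _, _, _, _, _, _, cj_6 f hff t1 t2 u2 t3 t4 u4 t5 t6 u6 t7 t8 u8 s v⟩

theorem T1_s7 (s : K) {t1 : K} {y : GL chevF4.Idx K} (hy : T1 f t1 y) :
    T1 f t1 (U7 f s * y * U7 f s) := by
  obtain ⟨t2, u2, t3, t4, u4, t5, t6, u6, t7, t8, u8, rfl⟩ := hy
  exact ⟨_, _, _, _, _, _, _, _, _, _, _, cj_7 f hff t1 t2 u2 t3 t4 u4 t5 t6 u6 t7 t8 u8 s⟩

theorem T1_s8 (s v : K) {t1 : K} {y : GL chevF4.Idx K} (hy : T1 f t1 y) :
    T1 f t1 (U8 f s v * y * U8 f s (s * f s + v)) := by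
  obtain ⟨t2, u2, t3, t4, u4, t5, t6, u6, t7, t8, u8, rfl⟩ := hy
  exact ⟨_, _, _, _, _, _, _, _, _, _, _, cj_8 f hff t1 t2 u2 t3 t4 u4 t5 t6 u6 t7 t8 u8 s v⟩

/-- conjugation by an element of `U¹` preserves the first coordinate -/
theorem T1_conj (t1 a1 a2 b2 a3 a4 b4 a5 a6 b6 a7 a8 b8 : K) (y : GL chevF4.Idx K) (hy : T1 f t1 y) :
    T1 f t1 (NF f a1 a2 b2 a3 a4 b4 a5 a6 b6 a7 a8 b8 * y * (NF f a1 a2 b2 a3 a4 b4 a5 a6 b6 a7 a8 b8)⁻¹) := by
  have s := T1_s1 f hff a1 (T1_s2 f hff a2 b2 (T1_s3 f hff a3 (T1_s4 f hff a4 b4 (T1_s5 f hff a5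
    (T1_s6 f hff a6 b6 (T1_s7 f hff a7 (T1_s8 f hff a8 b8 hy)))))))
  have e : NF f a1 a2 b2 a3 a4 b4 a5 a6 b6 a7 a8 b8 * y * (NF f a1 a2 b2 a3 a4 b4 a5 a6 b6 a7 a8 b8)⁻¹ =
      U1 f a1 * (U2 f a2 b2 * (U3 f a3 * (U4 f a4 b4 * (U5 f a5 * (U6 f a6 b6 * (U7 f a7 *
        (U8 f a8 b8 * y * U8 f a8 (a8 * f a8 + b8)) * U7 f a7) * U6 f a6 (a6 * f a6 + b6)) * U5 f a5) *
        U4 f a4 (a4 * f a4 + b4)) * U3 f a3) * U2 f a2 (a2 * f a2 + b2)) * U1 f a1 := by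
    have i1 : (NF f a1 a2 b2 a3 a4 b4 a5 a6 b6 a7 a8 b8)⁻¹ =
        U8 f a8 (a8 * f a8 + b8) * (U7 f a7 * (U6 f a6 (a6 * f a6 + b6) * (U5 f a5 * (U4 f a4 (a4 * f a4 + b4) *
          (U3 f a3 * (U2 f a2 (a2 * f a2 + b2) * U1 f a1)))))) := by
      unfold NF
      simp only [mul_inv_rev, U1_inv f hff, U2_inv f hff, U3_inv f hff, U4_inv f hff, U5_inv f hff, U6_inv f hff,
        U7_inv f hff, U8_inv f hff, mul_assoc]
    rw [i1]
    unfold NF
    simp only [mul_assoc]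
  rw [e]
  exact s

end NCJ

variable {K : Type*} [Field K] [Fintype K] [CharP K 2] {m : ℕ} (hK : Fintype.card K = 2 ^ (2 * m + 1))
  (hperf : ∀ x : K, ∃ y : K, y ^ 2 = x) (f : K ≃+* K) (hf : ∀ t, f t = t ^ (2 ^ m))
include hK hperf hf

/-- PIECE NCONJ, with the surjectivity of the normal form as a hypothesis -/
theorem not_conj_core (hsurj : ∀ u ∈ chevF4.posUnipotent K ⊓ twistedF4 K (2 ^ m),
      ∃ t1 t2 u2 t3 t4 u4 t5 t6 u6 t7 t8 u8 : K, u = NF f t1 t2 u2 t3 t4 u4 t5 t6 u6 t7 t8 u8)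
    (c t : K) (hc : c ≠ 0) (ht : t ≠ 0) : ¬ CJ (2 ^ m) (U4 f 0 c) (U1 f t) := by
  rintro ⟨g, hg, e⟩
  have hcd := F4.clsData hK hperf f hf
  obtain ⟨l, hl, hred, b, hb, u, hu, hfix, rfl⟩ := hcd.exists_bruhat F4.hS F4.hC g hg
  obtain ⟨hbB, hbG⟩ := Subgroup.mem_inf.1 hb
  have hw : ∀ i ∈ wordOf l, i < chevF4.rank := wordOf_valid F4.S l hcd.gen.valid hl
  have hu' : u ∈ chevF4.posUnipotent K := (F4.hF (K := K)).negPart_le_posUnipotent (wordOf l) hu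
  have h3 := hff hK f hf
  have hU1 : U1 f t = NF f t 0 0 0 0 0 0 0 0 0 0 0 := (NF_U1 f t).symm
  have hU1_ne : U1 f t ≠ 1 := by
    intro h1
    rw [hU1, ← NF_zero f] at h1
    exact ht (NF_inj f h3 h1).1
  have hz : U4 f 0 c = X 44 c * X 47 ((f c) ^ 2) := by
    simp only [U4, UB, map_zero, X_zero, one_mul, zero_mul, zero_add]
  generalize hd : (f c) ^ 2 = d at hz
  have h44 : (44 : ℕ) < chevF4.nroots := by rw [nroots48]; norm_num
  have h47 : (47 : ℕ) < chevF4.nroots := by rw [nroots48]; norm_num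
  -- reduce to `b * (x_r(c) x_r'(d)) * b⁻¹ = U1 t`
  have e1 : b * (X (reflWord chevF4 (wordOf l) 44) c * X (reflWord chevF4 (wordOf l) 47) d) * b⁻¹ = U1 f t := by
    rw [← e, hz]
    have h1 : u * (X 44 c * X 47 d) * u⁻¹ = X 44 c * X 47 d := by
      rw [NCJ.z_central c d u hu']; group
    rw [← nconj (wordOf l) hw 44 h44 c, ← nconj (wordOf l) hw 47 h47 d]
    generalize nWordGL chevF4 (F4.hF (K := K)).xadd (wordOf l) = n at *
    calc b * (n * X 44 c * n⁻¹ * (n * X 47 d * n⁻¹)) * b⁻¹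
        = b * (n * (u * (X 44 c * X 47 d) * u⁻¹) * n⁻¹) * b⁻¹ := by rw [h1]; group
      _ = b * n * u * (X 44 c * X 47 d) * (b * n * u)⁻¹ := by group
  have hor := NCJ.orb l hl (44, 47) (by simp [NCJ.orbP])
  have hneg : ∀ r r', chevF4.IsNegRoot r → chevF4.IsNegRoot r' → reflWord chevF4 (wordOf l) 44 = r →
      reflWord chevF4 (wordOf l) 47 = r' → False := by
    intro r r' hr hr' hrr hrr'
    have hV : X r c * X r' d ∈ chevF4.negUnipotent K :=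
      mul_mem (Subgroup.subset_closure ⟨r, c, hr, by rw [xGL_val]⟩)
        (Subgroup.subset_closure ⟨r', d, hr', by rw [xGL_val]⟩)
    have hB : X r c * X r' d ∈ chevF4.borelSubgroup K := by
      have : X r c * X r' d = b⁻¹ * U1 f t * b := by rw [← e1, hrr, hrr']; group
      rw [this]
      exact mul_mem (mul_mem (inv_mem hbB) (posUnipotent_le_borel chevF4 (U1_posU f t))) hbB
    have h1 : X r c * X r' d ∈ chevF4.borelSubgroup K ⊓ chevF4.negUnipotent K := ⟨hB, hV⟩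
    rw [(F4.hF (K := K)).borel_inf_negUnipotent, Subgroup.mem_bot] at h1
    rw [hrr, hrr', h1] at e1
    apply hU1_ne
    rw [← e1]; group
  have hpos : ∀ r r', r < 48 → r' < 48 → reflWord chevF4 (wordOf l) 44 = r → reflWord chevF4 (wordOf l) 47 = r' →
      (∀ a a' : K, ∃ c25 c26 c27 c28 c29 c30 c31 c32 c33 c34 c35 c36 c37 c38 c39 c40 c41 c42 c43 c44 c45 c46 c47 : K,
        X r a * X r' a' = Q24 0 c25 c26 c27 c28 c29 c30 c31 c32 c33 c34 c35 c36 c37 c38 c39 c40 c41 c42 c43 c44 c45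
          c46 c47) → False := by
    intro r r' hr48 hr'48 hrr hrr' hQ
    obtain ⟨u₁, hu₁, dd, hdd, hbe⟩ := hcd.borel_decomp F4.hS F4.hC b hbB hbG
    obtain ⟨hddD, hddG⟩ := Subgroup.mem_inf.1 hdd
    have hrlt : r < chevF4.nroots := by rw [nroots48]; exact hr48
    have hr'lt : r' < chevF4.nroots := by rw [nroots48]; exact hr'48
    obtain ⟨c1, hc1, hconj1⟩ := (F4.hF (K := K)).diagonal_conj_xGL dd hddD r hrlt
    obtain ⟨c2, hc2, hconj2⟩ := (F4.hF (K := K)).diagonal_conj_xGL dd hddD r' hr'lt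
    have e3 : u₁ * (X r (c1 * c) * X r' (c2 * d)) * u₁⁻¹ = U1 f t := by
      rw [← e1, hrr, hrr', hbe]
      show u₁ * (xGL chevF4 (F4.hF (K := K)).xadd r (c1 * c) * xGL chevF4 (F4.hF (K := K)).xadd r' (c2 * d)) *
        u₁⁻¹ = _
      rw [← hconj1 c, ← hconj2 d]
      group
    have hEm : X r (c1 * c) * X r' (c2 * d) ∈ chevF4.posUnipotent K ⊓ twistedF4 K (2 ^ m) := by
      have : X r (c1 * c) * X r' (c2 * d) = u₁⁻¹ * U1 f t * u₁ := by rw [← e3]; group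
      rw [this]
      exact mul_mem (mul_mem (inv_mem hu₁) (Subgroup.mem_inf.2 ⟨U1_posU f t, U1_mem f hf t⟩)) hu₁
    obtain ⟨q1, q2, v2, q3, q4, v4, q5, q6, v6, q7, q8, v8, eE⟩ := hsurj _ hEm
    obtain ⟨c25, c26, c27, c28, c29, c30, c31, c32, c33, c34, c35, c36, c37, c38, c39, c40, c41, c42, c43, c44, c45,
      c46, c47, eQ⟩ := hQ (c1 * c) (c2 * d)
    have hq1 : q1 = 0 := by
      have h5 := eE.symm.trans eQ
      rw [NF_std f h3] at h5
      exact (Q24_inj h5).1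
    obtain ⟨p1, p2, w2, p3, p4, w4, p5, p6, w6, p7, p8, w8, eu⟩ := hsurj u₁ hu₁
    have hT : NCJ.T1 f 0 (X r (c1 * c) * X r' (c2 * d)) :=
      ⟨q2, v2, q3, q4, v4, q5, q6, v6, q7, q8, v8, by rw [eE, hq1]⟩
    have hT' := NCJ.T1_conj f h3 0 p1 p2 w2 p3 p4 w4 p5 p6 w6 p7 p8 w8 _ hT
    rw [← eu, e3] at hT'
    obtain ⟨s2, x2, s3, s4, x4, s5, s6, x6, s7, s8, x8, e4⟩ := hT'
    rw [hU1] at e4
    exact ht (NF_inj f h3 e4).1
  simp only [NCJ.orbP, List.mem_cons, Prod.mk.injEq, List.mem_nil_iff, or_false] at hor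
  rcases hor with ⟨h0, h0'⟩ | ⟨h0, h0'⟩ | ⟨h0, h0'⟩ | ⟨h0, h0'⟩ | ⟨h0, h0'⟩ | ⟨h0, h0'⟩ | ⟨h0, h0'⟩ | ⟨h0, h0'⟩
  · refine hpos 36 42 (by norm_num) (by norm_num) h0 h0' (fun a a' => ⟨0, 0, 0, 0, 0, 0, 0, 0, 0, 0, 0, a, 0, 0, 0, 0, 0, a', 0, 0, 0, 0, 0, ?_⟩)
    simp only [Q24, X_zero, one_mul, mul_one]
  · refine hpos 44 47 (by norm_num) (by norm_num) h0 h0' (fun a a' => ⟨0, 0, 0, 0, 0, 0, 0, 0, 0, 0, 0, 0, 0, 0, 0, 0, 0, 0, 0, a, 0, 0, a', ?_⟩)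
    simp only [Q24, X_zero, one_mul, mul_one]
  · refine hpos 40 46 (by norm_num) (by norm_num) h0 h0' (fun a a' => ⟨0, 0, 0, 0, 0, 0, 0, 0, 0, 0, 0, 0, 0, 0, 0, a, 0, 0, 0, 0, 0, a', 0, ?_⟩)
    simp only [Q24, X_zero, one_mul, mul_one]
  · refine hpos 28 30 (by norm_num) (by norm_num) h0 h0' (fun a a' => ⟨0, 0, 0, a, 0, a', 0, 0, 0, 0, 0, 0, 0, 0, 0, 0, 0, 0, 0, 0, 0, 0, 0, ?_⟩)
    simp only [Q24, X_zero, one_mul, mul_one]
  · exact hneg 11 5 (NCJ.neg_list 11 (by simp)) (NCJ.neg_list 5 (by simp)) h0 h0'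
  · exact hneg 3 0 (NCJ.neg_list 3 (by simp)) (NCJ.neg_list 0 (by simp)) h0 h0'
  · exact hneg 7 1 (NCJ.neg_list 7 (by simp)) (NCJ.neg_list 1 (by simp)) h0 h0'
  · exact hneg 19 17 (NCJ.neg_list 19 (by simp)) (NCJ.neg_list 17 (by simp)) h0 h0'

end Cfsg.Agent.Helper11.F4I
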