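import Mathlib
import Cfsg.Agent.Lib.Helper11.F4IE7

/-!
# S2184 (helper11's farm-out), PIECE REDA1 (helper19)

An involution `NF t1 … t7 0 0` with `t1 ≠ 0` is conjugate to a form `NF t1 0 u2' t3' 0 u4' t5' 0 0 0 0 0`.
-/

set_option autoImplicit false
set_option linter.unusedSectionVars false
set_option linter.unusedSimpArgs false
set_option linter.unusedVariables false
set_option maxHeartbeats 1000000

namespace Cfsg.Agent.Helper11.F4I

open Cfsg Cfsg.Lie Cfsg.Agent.Lead.Chev Cfsg.Agent.Lead.Tw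

variable {K : Type*} [Field K] [Fintype K] [CharP K 2] {m : ℕ} (hK : Fintype.card K = 2 ^ (2 * m + 1))
  (hperf : ∀ x : K, ∃ y : K, y ^ 2 = x) (f : K ≃+* K) (hf : ∀ t, f t = t ^ (2 ^ m))
include hK hperf hf

theorem red_A1 (t1 t2 u2 t3 t4 u4 t5 t6 u6 t7 : K) (h1 : t1 ≠ 0)
    (hinv : NF f t1 t2 u2 t3 t4 u4 t5 t6 u6 t7 0 0 * NF f t1 t2 u2 t3 t4 u4 t5 t6 u6 t7 0 0 = 1) :
    ∃ u2' t3' u4' t5' : K, CJ (2 ^ m) (NF f t1 t2 u2 t3 t4 u4 t5 t6 u6 t7 0 0)
      (NF f t1 0 u2' t3' 0 u4' t5' 0 0 0 0 0) := by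
  have hff := hff hK f hf
  have hff' := hff' hK f hf
  have hf1 : f t1 ≠ 0 := (map_ne_zero f).2 h1
  -- A1: kill t2 by U8(s, 0), s * t1 = t2
  have e1 : ∃ u2a t3a t4a u4a t5a t6a u6a t7a : K, CJ (2 ^ m) (NF f t1 t2 u2 t3 t4 u4 t5 t6 u6 t7 0 0)
      (NF f t1 0 u2a t3a t4a u4a t5a t6a u6a t7a 0 0) := by
    refine ⟨?_, ?_, ?_, ?_, ?_, ?_, ?_, ?_, ?_⟩
    pick_goal 9
    refine (step_8 hK hperf f hf t1 t2 u2 t3 t4 u4 t5 t6 u6 t7 0 0 (t2 / t1) 0).trans (CJ.of_eq ?_)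
    apply NF_congr f
    case h2' => rfl
    case h3 => rfl
    case h4 => rfl
    case h4' => rfl
    case h5 => rfl
    case h6 => rfl
    case h6' => rfl
    case h7 => rfl
    all_goals (try simp only [map_zero, mul_zero, zero_mul, add_zero, zero_add, ne_eq, OfNat.ofNat_ne_zero,
        not_false_eq_true, zero_pow, hff])
    all_goals (try field_simp)
    all_goals (try grind)
  obtain ⟨u2a, t3a, t4a, u4a, t5a, t6a, u6a, t7a, k1⟩ := e1
  -- A2: kill t6 by U8(0, v), t1 * (f v)^2 = t6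
  have e2 : ∃ u2b t3b t4b u4b t5b u6b t7b : K, CJ (2 ^ m) (NF f t1 0 u2a t3a t4a u4a t5a t6a u6a t7a 0 0)
      (NF f t1 0 u2b t3b t4b u4b t5b 0 u6b t7b 0 0) := by
    refine ⟨?_, ?_, ?_, ?_, ?_, ?_, ?_, ?_⟩
    pick_goal 8
    refine (step_8 hK hperf f hf t1 0 u2a t3a t4a u4a t5a t6a u6a t7a 0 0 0 (f (t6a / t1))).trans (CJ.of_eq ?_)
    apply NF_congr f
    case h2' => rfl
    case h3 => rfl
    case h4 => rfl
    case h4' => rfl
    case h5 => rfl
    case h6' => rfl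
    case h7 => rfl
    all_goals (try simp only [map_zero, mul_zero, zero_mul, add_zero, zero_add, ne_eq, OfNat.ofNat_ne_zero,
        not_false_eq_true, zero_pow, hff])
    all_goals (try field_simp)
    all_goals (try grind)
  obtain ⟨u2b, t3b, t4b, u4b, t5b, u6b, t7b, k2⟩ := e2
  have k12 := k1.trans k2
  have hsq := k12.sq_eq_one hinv
  obtain ⟨-, c2, c3, -, c5, -, -, -, -, -⟩ := invol_facts f hff _ _ _ _ _ _ _ _ _ _ _ _ hsq
  simp only [map_zero, mul_zero, zero_mul, add_zero, zero_add, ne_eq, OfNat.ofNat_ne_zero,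
    not_false_eq_true, zero_pow] at c2 c3 c5
  have h4 : t4b = 0 := by
    rcases mul_eq_zero.1 c2 with h | h
    · exact absurd h hf1
    · exact (map_eq_zero f).1 h
  have h7 : t7b = 0 := by
    rcases mul_eq_zero.1 c3 with h | h
    · exact absurd ((pow_eq_zero_iff two_ne_zero).1 h) hf1
    · exact h
  subst h4 h7
  simp only [map_zero, mul_zero, zero_mul, add_zero, zero_add, ne_eq, OfNat.ofNat_ne_zero,
    not_false_eq_true, zero_pow] at c5
  have h6 : u6b = 0 := by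
    rcases mul_eq_zero.1 c5 with h | h
    · exact absurd h hf1
    · exact h
  subst h6
  exact ⟨u2b, t3b, u4b, t5b, k12⟩

end Cfsg.Agent.Helper11.F4I
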