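import Mathlib
import Cfsg.Agent.Lib.Helper11.G2TTab

/-!
# S2371 piece COREW2 (helper19): a regular character fixed by a Weyl group element forces the identity
-/

set_option autoImplicit false
set_option linter.unusedSectionVars false
set_option linter.unusedVariables false
set_option linter.style.haveILetI false
set_option linter.unusedSimpArgs false

namespace Cfsg.Agent.Helper11.G2T

theorem g2tcorew2_chi_pow {K : Type*} [Field K] (r : ℕ) (ξ η : Kˣ) (hξ : ξ ^ r = 1)
    (hη : η ^ r = 1) (u : ℕ) : chiXY ξ η u ^ r = 1 := by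
  unfold chiXY
  rw [mul_pow, ← zpow_natCast, ← zpow_natCast, ← zpow_mul, ← zpow_mul, mul_comm (rcA u), mul_comm (rcB u),
    zpow_mul, zpow_mul, zpow_natCast, zpow_natCast, hξ, hη, one_zpow, one_zpow, one_mul]

theorem g2tcorew2_key {K : Type*} [Field K] (r : ℕ) (hr : r.Prime) (h2 : r ≠ 2) (ξ η : Kˣ)
    (hξ : ξ ^ r = 1) (hη : η ^ r = 1) (hreg : ∀ v < 12, chiXY ξ η v ≠ 1) (L : List ℕ)
    (h : ∀ v < 12, chiXY ξ η (L.getD v 0) = chiXY ξ η v) (v u : ℕ) (hv : v < 12) (hu : u < 12)
    (e : ℕ) (he : e = 1 ∨ e = 2)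
    (hA : rcA v - rcA (L.getD v 0) = e * rcA u) (hB : rcB v - rcB (L.getD v 0) = e * rcB u) :
    False := by
  have h1 : chiXY ξ η v * (chiXY ξ η (L.getD v 0))⁻¹ = chiXY ξ η u ^ e := by
    unfold chiXY
    rw [mul_pow, ← zpow_natCast, ← zpow_natCast, ← zpow_mul, ← zpow_mul, mul_comm (rcA u),
      mul_comm (rcB u), ← hA, ← hB, zpow_sub, zpow_sub, mul_inv]
    exact mul_mul_mul_comm _ _ _ _
  rw [h v hv, mul_inv_cancel] at h1
  have h3 := g2tcorew2_chi_pow r ξ η hξ hη u
  rcases he with rfl | rfl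
  · rw [pow_one] at h1
    exact hreg u hu h1.symm
  · have hodd : Odd r := hr.odd_of_ne_two h2
    obtain ⟨k, hk⟩ := hodd
    apply hreg u hu
    have : chiXY ξ η u ^ r = (chiXY ξ η u ^ 2) ^ k * chiXY ξ η u := by
      rw [hk, pow_succ, pow_mul]
    rw [this, ← h1, one_pow, one_mul] at h3
    exact h3

theorem corew2 {K : Type*} [Field K] (r : ℕ) (hr : r.Prime) (h2 : r ≠ 2) (ξ η : Kˣ) (hξ : ξ ^ r = 1)
    (hη : η ^ r = 1) (hreg : ∀ v < 12, chiXY ξ η v ≠ 1) (L : List ℕ) (hL : L ∈ wActs)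
    (h : ∀ v < 12, chiXY ξ η (L.getD v 0) = chiXY ξ η v) : L = List.range 12 := by
  have key := g2tcorew2_key r hr h2 ξ η hξ hη hreg L h
  simp only [wActs, List.mem_cons, List.not_mem_nil, or_false] at hL
  rcases hL with rfl | rfl | rfl | rfl | rfl | rfl | rfl | rfl | rfl | rfl | rfl | rfl
  · rfl
  · exact (key 2 4 (by norm_num) (by norm_num) 1 (Or.inl rfl) (by decide) (by decide)).elim
  · exact (key 0 5 (by norm_num) (by norm_num) 1 (Or.inl rfl) (by decide) (by decide)).elim
  · exact (key 0 1 (by norm_num) (by norm_num) 1 (Or.inl rfl) (by decide) (by decide)).elim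
  · exact (key 0 5 (by norm_num) (by norm_num) 1 (Or.inl rfl) (by decide) (by decide)).elim
  · exact (key 0 1 (by norm_num) (by norm_num) 1 (Or.inl rfl) (by decide) (by decide)).elim
  · exact (key 2 3 (by norm_num) (by norm_num) 1 (Or.inl rfl) (by decide) (by decide)).elim
  · exact (key 2 1 (by norm_num) (by norm_num) 1 (Or.inl rfl) (by decide) (by decide)).elim
  · exact (key 2 0 (by norm_num) (by norm_num) 1 (Or.inl rfl) (by decide) (by decide)).elim
  · exact (key 3 2 (by norm_num) (by norm_num) 1 (Or.inl rfl) (by decide) (by decide)).elim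
  · exact (key 1 0 (by norm_num) (by norm_num) 1 (Or.inl rfl) (by decide) (by decide)).elim
  · exact (key 0 0 (by norm_num) (by norm_num) 2 (Or.inr rfl) (by decide) (by decide)).elim

end Cfsg.Agent.Helper11.G2T
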