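import Mathlib
import Cfsg.Agent.Lib.Helper11.G2TDefs

/-!
# S2371 piece WEYL (helper19): the twelve actions of the Weyl group of `G₂` on the roots
-/

set_option autoImplicit false
set_option linter.unusedSectionVars false
set_option linter.unusedVariables false
set_option linter.style.haveILetI false
set_option linter.unusedSimpArgs false

namespace Cfsg.Agent.Helper11.G2T

open Cfsg Cfsg.Lie Cfsg.Agent.Lead.Chev Cfsg.Agent.Lead.Tw

/-- the two fundamental reflections as lists -/
def g2tweyl_tab (i : ℕ) : List ℕ :=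
  if i = 0 then [0, 5, 3, 2, 7, 1, 10, 4, 9, 8, 6, 11] else [1, 0, 2, 4, 3, 6, 5, 8, 7, 9, 11, 10]

theorem g2tweyl_refl : ∀ i < 2, ∀ v < 12, chevG2.reflectRoot i v = (g2tweyl_tab i).getD v 0 := by
  decide

theorem g2tweyl_lt : ∀ L ∈ wActs, ∀ v < 12, L.getD v 0 < 12 := by
  decide

theorem g2tweyl_step : ∀ L ∈ wActs, ∀ i < 2, ∃ L' ∈ wActs,
    ∀ v < 12, (g2tweyl_tab i).getD (L.getD v 0) 0 = L'.getD v 0 := by
  decide

theorem g2tweyl_range : ∀ v < 12, (List.range 12).getD v 0 = v := by
  decide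

theorem acts_cases (w : List ℕ) (hw : ∀ i ∈ w, i < 2) : ∃ L ∈ wActs, ActsAs w L := by
  induction w with
  | nil =>
    refine ⟨List.range 12, by decide, ?_⟩
    intro v hv
    rw [g2tweyl_range v hv]
    rfl
  | cons i w ih =>
    have hw' : ∀ j ∈ w, j < 2 := fun j hj => hw j (List.mem_cons_of_mem _ hj)
    have hi : i < 2 := hw i List.mem_cons_self
    obtain ⟨L, hL, hact⟩ := ih hw'
    obtain ⟨L', hL', hstep⟩ := g2tweyl_step L hL i hi
    refine ⟨L', hL', ?_⟩
    intro v hv
    show chevG2.reflectRoot i (reflWord chevG2 w v) = L'.getD v 0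
    rw [hact v hv, g2tweyl_refl i hi _ (g2tweyl_lt L hL v hv)]
    exact hstep v hv

theorem acts_id_pos (w : List ℕ) (hw : ∀ i ∈ w, i < 2) (h : ActsAs w (List.range 12)) :
    (∀ r, chevG2.IsPosRoot r → chevG2.IsPosRoot (reflWord chevG2 w r)) ∧
      (∀ r, chevG2.IsPosRoot r → chevG2.IsPosRoot (reflWord chevG2 w.reverse r)) := by
  have hfix : ∀ r < 12, reflWord chevG2 w r = r := by
    intro r hr
    rw [h r hr, g2tweyl_range r hr]
  have hfa : ∀ i < chevG2.rank, NXFacts chevG2 (etaOf chevG2 i) i := fun i hi => (g2F ℚ).facts i hi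
  have hfix' : ∀ r < 12, reflWord chevG2 w.reverse r = r := by
    intro r hr
    have h1 := reflWord_reverse_cancel' chevG2 (etaOf chevG2) hfa w hw r hr
    rwa [hfix r hr] at h1
  constructor
  · intro r hr
    have hr12 : r < 12 := hr.1
    rw [hfix r hr12]
    exact hr
  · intro r hr
    have hr12 : r < 12 := hr.1
    rw [hfix' r hr12]
    exact hr

end Cfsg.Agent.Helper11.G2T
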