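import Mathlib
import Cfsg.Agent.Lib.Helper11.OGDefs
import Cfsg.Agent.Lib.Helper1.OGBASE
import Cfsg.Agent.Lib.Helper1.OGFRAME
import Cfsg.Agent.Lib.Helper4.OGNW
import Cfsg.Agent.Lib.Helper28.OGLG

/-!
# S2413-S2415 (OG farm-out), piece MINUSC3 (helper19): the generation lemma for
`c' = E(f_2, w2) nW(e_2, f_2, w1, 1) E(f_2, w2)⁻¹` (type `²D`, odd characteristic)
-/

set_option autoImplicit false
set_option linter.unusedSectionVars false
set_option linter.unusedVariables false
set_option linter.style.haveILetI false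
set_option linter.unusedSimpArgs false
set_option maxHeartbeats 1000000

namespace Cfsg.Agent.Helper11.OG

open QuadraticMap Matrix Cfsg.Agent.Helper2.Orth Cfsg.Agent.Helper28.WittQuad

variable {F : Type*} [Field F] {ι : Type} [Fintype ι] [DecidableEq ι]
variable {Q : QuadraticForm F (ι → F)}

section frame
variable {r : ℕ} {e f : Fin r → (ι → F)}

theorem minus_hgen_c3 (h2 : (2 : F) ≠ 0) (hQ : (polarBilin Q).Nondegenerate)
    (fr : HypFrame Q e f) (H : Subgroup (Cfsg.isometryGroup F (⇑Q)))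
    (hL : ∀ i j, i ≠ j → ∀ c : F, eichG Q (e i) (c • f j) ∈ H)
    (i0 i1 i2 : Fin r) (h10 : i1 ≠ i0) (h20 : i2 ≠ i0) (h12 : i1 ≠ i2)
    (w1 w2 : ι → F) (hw1 : Perp Q e f w1) (hw2 : Perp Q e f w2) (hQ1 : Q w1 = 1)
    (hb : polar Q w1 w2 ≠ 0)
    (hW : ∀ x, Perp Q e f x → ∃ s t : F, x = s • w1 + t • w2)
    (han : ∀ x, Perp Q e f x → Q x = 0 → x = 0)
    (hind : ∀ s t : F, s • w1 + t • w2 = 0 → s = 0 ∧ t = 0)
    (hc : eichG Q (f i2) w2 * nW Q (e i2) (f i2) w1 1 * (eichG Q (f i2) w2)⁻¹ ∈ H) :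
    eichGroup Q ≤ H := by
  -- notation
  set e2 := e i2 with he2
  set f2 := f i2 with hf2
  set v := w2 with hv
  set a : F := Q v with ha
  set β : F := polar Q w1 v with hβ
  have qe2 : Q e2 = 0 := fr.qe i2
  have qf2 : Q f2 = 0 := fr.qf i2
  have hef2 : polar Q e2 f2 = 1 := by rw [fr.ef]; simp
  have hfe2 : polar Q f2 e2 = 1 := by rw [fr.fe]; simp
  have hee2 : polar Q e2 e2 = 0 := fr.ee i2 i2
  have hff2 : polar Q f2 f2 = 0 := fr.ff i2 i2
  have he2v : polar Q e2 v = 0 := (hw2 i2).1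
  have hf2v : polar Q f2 v = 0 := (hw2 i2).2
  have hve2 : polar Q v e2 = 0 := by rw [polar_comm]; exact he2v
  have hvf2 : polar Q v f2 = 0 := by rw [polar_comm]; exact hf2v
  have he2w : polar Q e2 w1 = 0 := (hw1 i2).1
  have hf2w : polar Q f2 w1 = 0 := (hw1 i2).2
  have hwe2 : polar Q w1 e2 = 0 := by rw [polar_comm]; exact he2w
  have hwf2 : polar Q w1 f2 = 0 := by rw [polar_comm]; exact hf2w
  have hvv : polar Q v v = 2 * a := by rw [polar_self, ha]; simp [two_mul, two_smul]
  have hww : polar Q w1 w1 = 2 := by rw [polar_self, hQ1]; simp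
  have hvw : polar Q v w1 = β := by rw [polar_comm]
  have h1F : (1 : F) ≠ 0 := one_ne_zero
  set g := eichG Q f2 v with hg
  set nw := nW Q e2 f2 w1 1 with hnw
  set c' := g * nw * g⁻¹ with hc'
  have hginv : g⁻¹ = eichG Q f2 (-v) := eichG_inv qf2 hf2v
  have hf2nv : polar Q f2 (-v) = 0 := by rw [polar_neg_right, hf2v, neg_zero]
  have hc'smul : ∀ x : ι → F, c' • x = g • (nw • (g⁻¹ • x)) := by
    intro x
    rw [hc', mul_smul, mul_smul]
  -- the action of `g`
  have G1 : g • e2 = e2 - v - a • f2 := by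
    rw [hg, eichG_apply qf2 hf2v, hve2, hfe2]
    module
  have G2 : g • f2 = f2 := eichG_fix qf2 hf2v hff2 hvf2
  have G3 : g • v = v + (2 * a) • f2 := by
    rw [hg, eichG_apply qf2 hf2v, hvv, hf2v]
    module
  have G4 : g • w1 = w1 + β • f2 := by
    rw [hg, eichG_apply qf2 hf2v, hvw, hf2w]
    module
  -- the action of `g⁻¹`
  have I1 : g⁻¹ • e2 = e2 + v - a • f2 := by
    rw [hginv, eichG_apply qf2 hf2nv, polar_neg_left, hve2, hfe2, QuadraticMap.map_neg]
    module
  have I2 : g⁻¹ • f2 = f2 := by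
    rw [hginv]
    exact eichG_fix qf2 hf2nv hff2 (by rw [polar_neg_left, hvf2, neg_zero])
  have I3 : g⁻¹ • v = v - (2 * a) • f2 := by
    rw [hginv, eichG_apply qf2 hf2nv, polar_neg_left, hvv, hf2v]
    module
  -- the action of `nw`
  have N1 : nw • e2 = -f2 := by
    rw [hnw, nW_smul_u qe2 qf2 hef2 he2w hf2w hQ1 h1F]
    simp
  have N2 : nw • f2 = -e2 := by
    rw [hnw, nW_smul_v qe2 qf2 hef2 he2w hf2w hQ1 h1F]
    simp
  have N3 : nw • w1 = -w1 := nW_smul_w qe2 qf2 hef2 he2w hf2w hQ1 h1F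
  have N4 : nw • v = v - β • w1 := by
    have h1 : v = (v - (β / 2) • w1) + (β / 2) • w1 := by module
    have h3 : nw • (v - (β / 2) • w1) = v - (β / 2) • w1 := by
      rw [hnw]
      apply nW_smul_perp qe2 qf2 he2w hf2w
      · rw [polar_sub_right, polar_smul_right, he2v, he2w]; simp
      · rw [polar_sub_right, polar_smul_right, hf2v, hf2w]; simp
      · rw [polar_sub_right, polar_smul_right, hww]
        show β - (β / 2) • (2 : F) = 0
        rw [smul_eq_mul, div_mul_cancel₀ β h2, sub_self]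
    have h4 : nw • v = nw • ((v - (β / 2) • w1) + (β / 2) • w1) := by rw [← h1]
    rw [h4, smul_add_vec, h3, smul_smul_vec, N3]
    have h5 : (β / 2 + β / 2 : F) = β := by
      field_simp
      ring
    calc v - (β / 2) • w1 + (β / 2) • -w1 = v - (β / 2 + β / 2) • w1 := by module
      _ = v - β • w1 := by rw [h5]
  -- the action of `c'`
  have C1 : c' • f2 = v - e2 + a • f2 := by
    rw [hc'smul, I2, N2, smul_neg_vec, G1]
    module
  have C2 : c' • v = (1 - 2 * a) • v - β • w1 + (2 * a) • e2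
      + (2 * a - β * β - 2 * a * a) • f2 := by
    rw [hc'smul, I3, smul_sub_vec, smul_smul_vec, N4, N2, smul_sub_vec, smul_sub_vec,
      smul_smul_vec, smul_smul_vec, smul_neg_vec, G3, G4, G1]
    module
  have C3 : c' • e2 = a • e2 + ((1 - a) • v - β • w1)
      + (-1 + 2 * a - β * β - a * a) • f2 := by
    rw [hc'smul, I1, smul_sub_vec, smul_add_vec, smul_smul_vec, N1, N4, N2, smul_sub_vec,
      smul_add_vec, smul_sub_vec, smul_smul_vec, smul_smul_vec, smul_neg_vec, smul_neg_vec,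
      G2, G3, G4, G1]
    module
  -- `c'` fixes `e i0`
  have hpi0 : ∀ x, Perp Q e f x → polar Q x (e i0) = 0 := fun x hx => by
    rw [polar_comm]; exact (hx i0).1
  have hfi0 : polar Q f2 (e i0) = 0 := by rw [hf2, fr.fe, if_neg h20]
  have hei0 : polar Q e2 (e i0) = 0 := fr.ee i2 i0
  have hc0 : c' • e i0 = e i0 := by
    rw [hc'smul]
    have h1 : g⁻¹ • e i0 = e i0 := by
      rw [hginv]
      exact eichG_fix qf2 hf2nv hfi0 (by rw [polar_neg_left, hpi0 v hw2, neg_zero])
    have h3 : nw • e i0 = e i0 := by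
      rw [hnw]
      exact nW_smul_perp qe2 qf2 he2w hf2w hei0 hfi0 (hpi0 w1 hw1)
    have h4 : g • e i0 = e i0 := eichG_fix qf2 hf2v hfi0 (hpi0 v hw2)
    rw [h1, h3, h4]
  set K0 := KS H (e i0) (fr.qe i0) with hK0
  have hinv : ∀ b, b ∈ K0 → c' • b ∈ K0 := fun b hb => KS_smul_mem hc hc0 hb
  have hf : ∀ j, j ≠ i0 → ∀ c : F, c • f j ∈ K0 := KS_f_of_levi fr H hL i0
  -- `c (v - e2) ∈ K0`
  have hstar : ∀ c : F, c • (v - e2) ∈ K0 := by
    intro c
    have h1 := hinv _ (hf i2 h20 c)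
    rw [smul_smul_vec, ← hf2, C1] at h1
    have h3 : c • (v - e2) = c • (v - e2 + a • f2) - (c * a) • f2 := by module
    rw [h3]
    exact K0.sub_mem h1 (hf i2 h20 (c * a))
  -- `F e_{i1} ⊆ K0`
  have he1 : ∀ c : F, c • e i1 ∈ K0 := by
    intro c
    have hz : Q (e i1) = 0 := fr.qe i1
    have hzb : polar Q (e i1) (c • f2) = 0 := by
      rw [polar_smul_right, hf2, fr.ef, if_neg h12, smul_zero]
    have hE : eichG Q (e i1) (c • f2) ∈ H := hL i1 i2 h12 c
    have hE0 : eichG Q (e i1) (c • f2) • e i0 = e i0 := by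
      apply eichG_fix hz hzb
      · exact fr.ee i1 i0
      · rw [polar_smul_left, hfi0, smul_zero]
    have hEv : eichG Q (e i1) (c • f2) • v = v := by
      apply eichG_fix hz hzb
      · exact (hw2 i1).1
      · rw [polar_smul_left, hf2v, smul_zero]
    have hEe : eichG Q (e i1) (c • f2) • e2 = e2 + c • e i1 := by
      rw [eichG_apply hz hzb, polar_smul_left, hfe2, he2, fr.ee i1 i2]
      module
    have h1 : (1 : F) • (v - e2) ∈ K0 := hstar 1
    rw [one_smul] at h1
    have h3 := KS_smul_mem hE hE0 h1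
    rw [smul_sub_vec, hEv, hEe] at h3
    have h4 : c • e i1 = (v - e2) - (v - (e2 + c • e i1)) := by module
    rw [h4]
    exact K0.sub_mem h1 h3
  have he : ∀ j, j ≠ i0 → ∀ c : F, c • e j ∈ K0 :=
    KS_e_of_levi fr H hL i0 ⟨i1, h10, he1⟩
  have hvK : ∀ c : F, c • v ∈ K0 := by
    intro c
    have h3 : c • v = c • (v - e2) + c • e2 := by module
    rw [h3]
    exact K0.add_mem (hstar c) (he i2 h20 c)
  have hβ0 : β ≠ 0 := hb
  have hw1K : ∀ c : F, c • w1 ∈ K0 := by
    intro c
    have h1 := hinv _ (hvK (c / β))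
    rw [smul_smul_vec, C2] at h1
    have h3 : c • w1 = ((c / β) * (1 - 2 * a)) • v + ((c / β) * (2 * a)) • e2
        + ((c / β) * (2 * a - β * β - 2 * a * a)) • f2
        - (c / β) • ((1 - 2 * a) • v - β • w1 + (2 * a) • e2
          + (2 * a - β * β - 2 * a * a) • f2) := by
      have h5 : (c / β) * β = c := div_mul_cancel₀ c hβ0
      calc c • w1 = ((c / β) * β) • w1 := by rw [h5]
        _ = _ := by module
    rw [h3]
    exact K0.sub_mem (K0.add_mem (K0.add_mem (hvK _) (he i2 h20 _)) (hf i2 h20 _)) h1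
  have hA2 : ∀ x, Perp Q e f x → x ∈ K0 := by
    intro x hx
    obtain ⟨s, t, rfl⟩ := hW x hx
    exact K0.add_mem (hw1K s) (hvK t)
  -- A3
  have hA3a : polar Q (e i0) (c' • e2) = 0 := by
    have h1 := polar_smul_smul Q c' (e i0) e2
    rw [hc0] at h1
    rw [h1, polar_comm]
    exact hei0
  have hA3b : polar Q e2 (c' • e2) ≠ 0 := by
    intro h0
    set x := (1 - a) • v - β • w1 with hx
    have hxP : Perp Q e f x := by
      intro i
      constructor
      · rw [hx, polar_sub_right, polar_smul_right, polar_smul_right, (hw2 i).1, (hw1 i).1]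
        simp
      · rw [hx, polar_sub_right, polar_smul_right, polar_smul_right, (hw2 i).2, (hw1 i).2]
        simp
    have he2x : polar Q e2 x = 0 := (hxP i2).1
    have hb0 : (-1 + 2 * a - β * β - a * a : F) = 0 := by
      have h1 : polar Q e2 (c' • e2) = (-1 + 2 * a - β * β - a * a : F) := by
        rw [C3, polar_add_right, polar_add_right, polar_smul_right, polar_smul_right, hee2,
          he2x, hef2]
        simp
      rw [← h1]
      exact h0
    have hQy : Q (c' • e2) = 0 := by rw [Q_smul Q, qe2]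
    rw [C3, hb0, zero_smul, add_zero, QuadraticMap.map_add (⇑Q), QuadraticMap.map_smul, qe2,
      polar_smul_left, he2x] at hQy
    have hQx : Q x = 0 := by
      simpa using hQy
    have hx0 := han x hxP hQx
    have hx' : (-β) • w1 + (1 - a) • w2 = 0 := by
      rw [← hx0, hx]
      module
    exact hβ0 (neg_eq_zero.mp (hind _ _ hx').1)
  exact levi_gen hQ fr H hL i0 ⟨i1, h10, he1⟩ hA2
    ⟨c', hc, i2, i2, h20, h20, hc0, hA3a, hA3b⟩

end frame

end Cfsg.Agent.Helper11.OG
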