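import Mathlib
import Cfsg.Agent.Lib.Helper11.OGDefs
import Cfsg.Agent.Lib.Helper1.OGBASE
import Cfsg.Agent.Lib.Helper1.OGFRAME
import Cfsg.Agent.Lib.Helper1.OGCRIT

/-!
# S2413-S2415 (OG farm-out), piece MG (helper19): monomial generation
-/

set_option autoImplicit false
set_option linter.unusedSectionVars false
set_option linter.unusedVariables false
set_option linter.style.haveILetI false
set_option linter.unusedSimpArgs false

namespace Cfsg.Agent.Helper11.OG

open QuadraticMap Matrix Cfsg.Agent.Helper2.Orth Cfsg.Agent.Helper28.WittQuad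

variable {F : Type*} [Field F] {ι : Type} [Fintype ι] [DecidableEq ι]
variable {Q : QuadraticForm F (ι → F)}

/-- `E(z, w) w = w + 2 z` for `z` singular, `z ⊥ w`, `Q w = 1` -/
theorem mg_apply_w {z w : ι → F} (hz : Q z = 0) (hzw : polar Q z w = 0) (hw : Q w = 1) :
    eichG Q z w • w = w + (2 : F) • z := by
  rw [eichG_apply hz hzw, hzw, polar_self, hw]
  module

/-- `E(z, w) x = x - w - z` when `B(z, x) = 1`, `w ⊥ x`, `Q w = 1` -/
theorem mg_apply_pair {z w x : ι → F} (hz : Q z = 0) (hzw : polar Q z w = 0) (hw : Q w = 1)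
    (hzx : polar Q z x = 1) (hwx : polar Q w x = 0) :
    eichG Q z w • x = x - w - z := by
  rw [eichG_apply hz hzw, hzx, hwx, hw]
  module

section frame
variable {r : ℕ} {e f : Fin r → (ι → F)}

/-- scalar multiples: if `(2 c) • v ∈ K` for all `c` then `c • v ∈ K` for all `c` -/
theorem mg_half (h2 : (2 : F) ≠ 0) (K : AddSubgroup (ι → F)) (v : ι → F)
    (h : ∀ c : F, ((2 : F) * c) • v ∈ K) (c : F) : c • v ∈ K := by
  have h1 := h (c / 2)
  rwa [mul_div_cancel₀ c h2] at h1

/-- **Monomial generation** (one-dimensional anisotropic kernel spanned by `w0`, `Q w0 = 1`,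
characteristic not two). -/
theorem mono_gen (h2 : (2 : F) ≠ 0) (hQ : (polarBilin Q).Nondegenerate) (fr : HypFrame Q e f)
    (w0 : ι → F) (hw0 : Perp Q e f w0) (hQw : Q w0 = 1)
    (hW : ∀ x, Perp Q e f x → ∃ c : F, x = c • w0)
    (H : Subgroup (Cfsg.isometryGroup F (⇑Q)))
    (hS : ∀ i, eichG Q (e i) w0 ∈ H ∧ eichG Q (f i) w0 ∈ H)
    (i0 i1 : Fin r) (h01 : i0 ≠ i1) (σ : Cfsg.isometryGroup F (⇑Q)) (hσ : σ ∈ H) (μ : F)
    (hσ0 : σ • e i0 = e i0) (hσ1 : σ • e i1 = μ • e i1)
    (hμ : ∀ A : AddSubgroup F, (∃ c ∈ A, c ≠ 0) → (∀ c ∈ A, μ * c ∈ A) → A = ⊤) :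
    eichGroup Q ≤ H := by
  have hpe : ∀ i, polar Q (e i) w0 = 0 := fun i => (hw0 i).1
  have hpf : ∀ i, polar Q (f i) w0 = 0 := fun i => (hw0 i).2
  have hpe' : ∀ i, polar Q w0 (e i) = 0 := fun i => by rw [polar_comm]; exact hpe i
  have hpf' : ∀ i, polar Q w0 (f i) = 0 := fun i => by rw [polar_comm]; exact hpf i
  have hww : polar Q w0 w0 = 2 := by
    rw [polar_self, hQw]
    simp
  set K0 := KS H (e i0) (fr.qe i0) with hK0
  -- elements of `H` fixing `e i0` preserve `K0`
  have hinv : ∀ g : Cfsg.isometryGroup F (⇑Q), g ∈ H → g • e i0 = e i0 →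
      ∀ b, b ∈ K0 → g • b ∈ K0 := fun g hg hg0 b hb => KS_smul_mem hg hg0 hb
  -- the seed: `-2 e_{i1} ∈ K0`
  have hseed : (-(2 : F)) • e i1 ∈ K0 := by
    have h1 := eichG_comm_perp (Q := Q) (z := e i0) (z' := e i1) (b := w0) (b' := w0)
      (fr.qe i0) (fr.qe i1) (fr.ee i0 i1) (hpe i0) (hpe i1) (hpe i0) (hpe i1)
    rw [hww] at h1
    rw [hK0, mem_KS]
    refine ⟨by rw [polar_smul_right, fr.ee, smul_zero], ?_⟩
    rw [← h1]
    exact H.mul_mem (H.mul_mem (H.mul_mem (hS i0).1 (hS i1).1) (H.inv_mem (hS i0).1))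
      (H.inv_mem (hS i1).1)
  -- `F e_{i1} ⊆ K0`
  have he1 : ∀ c : F, c • e i1 ∈ K0 := by
    let A : AddSubgroup F :=
      { carrier := {c | c • e i1 ∈ K0}
        zero_mem' := by
          show (0 : F) • e i1 ∈ K0
          rw [zero_smul]
          exact K0.zero_mem
        add_mem' := by
          intro a b ha hb
          show (a + b) • e i1 ∈ K0
          rw [add_smul]
          exact K0.add_mem ha hb
        neg_mem' := by
          intro a ha
          show (-a) • e i1 ∈ K0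
          rw [neg_smul]
          exact K0.neg_mem ha }
    have hA : A = ⊤ := by
      apply hμ A
      · exact ⟨-(2 : F), hseed, neg_ne_zero.mpr h2⟩
      · intro c hc
        have h1 : σ • (c • e i1) ∈ K0 := hinv σ hσ hσ0 _ hc
        rw [smul_smul_vec, hσ1, smul_smul, mul_comm] at h1
        exact h1
    intro c
    have : c ∈ A := by rw [hA]; exact AddSubgroup.mem_top c
    exact this
  -- the element `E(f_{i1}, w0)`
  have hg1 : eichG Q (f i1) w0 • e i0 = e i0 := by
    apply eichG_fix (fr.qf i1) (hpf i1)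
    · rw [fr.fe]; simp [h01.symm]
    · exact hpe' i0
  have hg1e : eichG Q (f i1) w0 • e i1 = e i1 - w0 - f i1 := by
    apply mg_apply_pair (fr.qf i1) (hpf i1) hQw
    · rw [fr.fe]; simp
    · exact hpe' i1
  have hg1f : eichG Q (f i1) w0 • f i1 = f i1 := by
    apply eichG_fix (fr.qf i1) (hpf i1)
    · exact fr.ff i1 i1
    · exact hpf' i1
  have hg1w : eichG Q (f i1) w0 • w0 = w0 + (2 : F) • f i1 :=
    mg_apply_w (fr.qf i1) (hpf i1) hQw
  have h4 : ∀ c : F, c • (w0 + f i1) ∈ K0 := by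
    intro c
    have h1 := hinv _ (hS i1).2 hg1 _ (he1 c)
    rw [smul_smul_vec, hg1e] at h1
    have h3 : c • (w0 + f i1) = c • e i1 - c • (e i1 - w0 - f i1) := by module
    rw [h3]
    exact K0.sub_mem (he1 c) h1
  have hf1 : ∀ c : F, c • f i1 ∈ K0 := by
    apply mg_half h2
    intro c
    have h1 := hinv _ (hS i1).2 hg1 _ (h4 c)
    rw [smul_smul_vec, smul_add_vec, hg1w, hg1f] at h1
    have h3 : ((2 : F) * c) • f i1 = c • (w0 + (2 : F) • f i1 + f i1) - c • (w0 + f i1) := by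
      module
    rw [h3]
    exact K0.sub_mem h1 (h4 c)
  have hw : ∀ c : F, c • w0 ∈ K0 := by
    intro c
    have h3 : c • w0 = c • (w0 + f i1) - c • f i1 := by module
    rw [h3]
    exact K0.sub_mem (h4 c) (hf1 c)
  -- all `e_j`, `f_j`, `j ≠ i0`
  have he : ∀ j, j ≠ i0 → ∀ c : F, c • e j ∈ K0 := by
    intro j hj
    apply mg_half h2
    intro c
    have hfix : eichG Q (e j) w0 • e i0 = e i0 := by
      apply eichG_fix (fr.qe j) (hpe j)
      · exact fr.ee j i0
      · exact hpe' i0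
    have h1 := hinv _ (hS j).1 hfix _ (hw c)
    rw [smul_smul_vec, mg_apply_w (fr.qe j) (hpe j) hQw] at h1
    have h3 : ((2 : F) * c) • e j = c • (w0 + (2 : F) • e j) - c • w0 := by module
    rw [h3]
    exact K0.sub_mem h1 (hw c)
  have hf : ∀ j, j ≠ i0 → ∀ c : F, c • f j ∈ K0 := by
    intro j hj
    apply mg_half h2
    intro c
    have hfix : eichG Q (f j) w0 • e i0 = e i0 := by
      apply eichG_fix (fr.qf j) (hpf j)
      · rw [fr.fe]; simp [hj]
      · exact hpe' i0
    have h1 := hinv _ (hS j).2 hfix _ (hw c)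
    rw [smul_smul_vec, mg_apply_w (fr.qf j) (hpf j) hQw] at h1
    have h3 : ((2 : F) * c) • f j = c • (w0 + (2 : F) • f j) - c • w0 := by module
    rw [h3]
    exact K0.sub_mem h1 (hw c)
  have hwp : ∀ x, Perp Q e f x → x ∈ K0 := by
    intro x hx
    obtain ⟨c, rfl⟩ := hW x hx
    exact hw c
  have hK := KS_of_frame fr H i0 he hf hwp
  have hef : polar Q (e i0) (f i0) = 1 := by rw [fr.ef]; simp
  refine eichGroup_le_of_KS hQ H (fr.qe i0) (fr.qf i0) hef hK ⟨eichG Q (f i0) w0, (hS i0).2, ?_⟩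
  have h1 : eichG Q (f i0) w0 • e i0 = e i0 - w0 - f i0 := by
    apply mg_apply_pair (fr.qf i0) (hpf i0) hQw
    · rw [fr.fe]; simp
    · exact hpe' i0
  rw [h1, polar_sub_right, polar_sub_right, fr.ee, hpe, hef]
  simp

end frame

end Cfsg.Agent.Helper11.OG
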