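import Mathlib
import Cfsg.Agent.Lib.Helper11.OGDefs
import Cfsg.Agent.Lib.Helper1.OGBASE
import Cfsg.Agent.Lib.Helper4.OGNW
import Cfsg.Agent.Lib.Helper25.OGLEVI
import Cfsg.Agent.Lib.Helper26.OGSL

/-!
# S2413-S2415 (OG farm-out), piece ODDORBIT (helper19): the orbit of `E(e_0, w0)` under the
Coxeter-type element `leviG w * nW(e_n, f_n, w0, 1)`
-/

set_option autoImplicit false
set_option linter.unusedSectionVars false
set_option linter.unusedVariables false
set_option linter.style.haveILetI false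
set_option linter.unusedSimpArgs false

namespace Cfsg.Agent.Helper11.OG

open QuadraticMap Matrix Cfsg.Agent.Helper2.Orth Cfsg.Agent.Helper28.WittQuad

variable {F : Type*} [Field F] {ι : Type} [Fintype ι] [DecidableEq ι]
variable {Q : QuadraticForm F (ι → F)}

section gen2
variable {n : ℕ} {e f : Fin (n + 1) → (ι → F)}

open Cfsg.Agent.Helper12 in
theorem oddorbit_coxW_col {w : Matrix.SpecialLinearGroup (Fin (n + 1)) F} (hw : IsCoxW w)
    (b i : Fin (n + 1)) :
    (w : Matrix (Fin (n + 1)) (Fin (n + 1)) F) i (b + 1) = if i = b then epsW n F b else 0 := by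
  rw [hw i (b + 1)]
  by_cases h : i = b
  · subst h
    simp
  · rw [if_neg h, if_neg]
    intro h'
    exact h (add_right_cancel h').symm

open Cfsg.Agent.Helper12 in
theorem leviG_coxW_e (fr : HypFrame Q e f) {w : Matrix.SpecialLinearGroup (Fin (n + 1)) F}
    (hw : IsCoxW w) (b : Fin (n + 1)) : leviG fr w • e (b + 1) = epsW n F b • e b := by
  rw [leviG_smul_e, Finset.sum_eq_single b]
  · rw [oddorbit_coxW_col hw, if_pos rfl]
  · intro i _ hi
    rw [oddorbit_coxW_col hw, if_neg hi, zero_smul]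
  · intro h
    exact absurd (Finset.mem_univ b) h

open Cfsg.Agent.Helper12 in
theorem leviG_coxW_f (fr : HypFrame Q e f) {w : Matrix.SpecialLinearGroup (Fin (n + 1)) F}
    (hw : IsCoxW w) (b : Fin (n + 1)) : leviG fr w • f (b + 1) = epsW n F b • f b := by
  rw [leviG_smul_f, Finset.sum_eq_single b]
  · rw [coxW_inv_apply hw, oddorbit_coxW_col hw, if_pos rfl]
  · intro i _ hi
    rw [coxW_inv_apply hw, oddorbit_coxW_col hw, if_neg hi, zero_smul]
  · intro h
    exact absurd (Finset.mem_univ b) h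

theorem oddorbit_fin_succ {k : ℕ} (hk : k < n) :
    (⟨k, by omega⟩ : Fin (n + 1)) + 1 = ⟨k + 1, by omega⟩ := by
  apply Fin.ext
  rw [Fin.val_add]
  have h1 : (1 : Fin (n + 1)).val = 1 := by
    rw [Fin.val_one']
    exact Nat.mod_eq_of_lt (by omega)
  rw [h1]
  show (k + 1) % (n + 1) = k + 1
  exact Nat.mod_eq_of_lt (by omega)

open Cfsg.Agent.Helper12 in
theorem odd_orbit (fr : HypFrame Q e f) (hn : 1 ≤ n) (w0 : ι → F) (hw0 : Perp Q e f w0)
    (hQw : Q w0 = 1) {w : Matrix.SpecialLinearGroup (Fin (n + 1)) F} (hw : IsCoxW w)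
    (H : Subgroup (Cfsg.isometryGroup F (⇑Q)))
    (hnH : leviG fr w * nW Q (e (Fin.last n)) (f (Fin.last n)) w0 1 ∈ H)
    (hu : eichG Q (e 0) w0 ∈ H) :
    ∀ i, eichG Q (e i) w0 ∈ H ∧ eichG Q (f i) w0 ∈ H := by
  have hpe : ∀ i, polar Q (e i) w0 = 0 := fun i => (hw0 i).1
  have hpf : ∀ i, polar Q (f i) w0 = 0 := fun i => (hw0 i).2
  have hpe' : ∀ i, polar Q w0 (e i) = 0 := fun i => by rw [polar_comm]; exact hpe i
  have hpf' : ∀ i, polar Q w0 (f i) = 0 := fun i => by rw [polar_comm]; exact hpf i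
  set L := Fin.last n with hL
  have hef : polar Q (e L) (f L) = 1 := by rw [fr.ef]; simp
  have h1F : (1 : F) ≠ 0 := one_ne_zero
  set nw := nW Q (e L) (f L) w0 1 with hnw
  set N := leviG fr w * nw with hN
  -- the action of `N`
  have hNw0 : N • w0 = -w0 := by
    rw [hN, mul_smul, hnw, nW_smul_w (fr.qe L) (fr.qf L) hef (hpe L) (hpf L) hQw h1F,
      smul_neg_vec, leviG_smul_perp fr w hw0]
  have hNeA : ∀ b : Fin (n + 1), b + 1 ≠ L → N • e (b + 1) = epsW n F b • e b := by
    intro b hb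
    have h1 : nw • e (b + 1) = e (b + 1) := by
      rw [hnw]
      apply nW_smul_perp (fr.qe L) (fr.qf L) (hpe L) (hpf L)
      · exact fr.ee L (b + 1)
      · rw [fr.fe, if_neg (fun h => hb h.symm)]
      · exact hpe' _
    rw [hN, mul_smul, h1, leviG_coxW_e fr hw]
  have hNfA : ∀ b : Fin (n + 1), b + 1 ≠ L → N • f (b + 1) = epsW n F b • f b := by
    intro b hb
    have h1 : nw • f (b + 1) = f (b + 1) := by
      rw [hnw]
      apply nW_smul_perp (fr.qe L) (fr.qf L) (hpe L) (hpf L)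
      · rw [fr.ef, if_neg (fun h => hb h.symm)]
      · exact fr.ff L (b + 1)
      · exact hpf' _
    rw [hN, mul_smul, h1, leviG_coxW_f fr hw]
  have hNeB : ∀ b : Fin (n + 1), b + 1 = L → N • e (b + 1) = (-1 : F) • (epsW n F b • f b) := by
    intro b hb
    have h1 : nw • e L = (-1 : F) • f L := by
      rw [hnw, nW_smul_u (fr.qe L) (fr.qf L) hef (hpe L) (hpf L) hQw h1F]
      simp
    rw [hN, mul_smul, hb, h1, smul_smul_vec, ← hb, leviG_coxW_f fr hw]
  have hNfB : ∀ b : Fin (n + 1), b + 1 = L → N • f (b + 1) = (-1 : F) • (epsW n F b • e b) := by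
    intro b hb
    have h1 : nw • f L = (-1 : F) • e L := by
      rw [hnw, nW_smul_v (fr.qe L) (fr.qf L) hef (hpe L) (hpf L) hQw h1F]
      simp
    rw [hN, mul_smul, hb, h1, smul_smul_vec, ← hb, leviG_coxW_e fr hw]
  -- the predicate
  let Pz : (ι → F) → Prop := fun z => Q z = 0 ∧ polar Q z w0 = 0 ∧ eichG Q z w0 ∈ H
  have hPN : ∀ z, Pz z → Pz (N • z) := by
    rintro z ⟨hz, hzw, hzH⟩
    have hQN : Q (N • z) = 0 := by rw [Q_smul Q, hz]
    have hpN : polar Q (N • z) w0 = 0 := by
      have h1 : w0 = N • (-w0) := by rw [smul_neg_vec, hNw0, neg_neg]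
      rw [h1, polar_smul_smul Q, polar_neg_right, hzw, neg_zero]
    refine ⟨hQN, hpN, ?_⟩
    have h2 : N * eichG Q z w0 * N⁻¹ = (eichG Q (N • z) w0)⁻¹ := by
      rw [eichG_conj N hz hzw, hNw0, eichG_inv hQN hpN]
    have h3 : eichG Q (N • z) w0 = (N * eichG Q z w0 * N⁻¹)⁻¹ := by rw [h2, inv_inv]
    rw [h3]
    exact H.inv_mem (H.mul_mem (H.mul_mem hnH hzH) (H.inv_mem hnH))
  have hPneg : ∀ z, Pz z → Pz ((-1 : F) • z) := by
    rintro z ⟨hz, hzw, hzH⟩
    refine ⟨by rw [QuadraticMap.map_smul, hz, smul_zero],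
      by rw [polar_smul_left, hzw, smul_zero], ?_⟩
    rw [eichG_smul_left hz hzw, neg_one_smul, ← eichG_inv hz hzw]
    exact H.inv_mem hzH
  have hPc : ∀ (c : F) z, c * c = 1 → Pz z → Pz (c • z) := by
    intro c z hc hP
    rcases mul_self_eq_one_iff.mp hc with h | h
    · rw [h, one_smul]; exact hP
    · rw [h]; exact hPneg z hP
  have hPc' : ∀ (c : F) z, c * c = 1 → Pz (c • z) → Pz z := by
    intro c z hc hP
    have h1 := hPc c _ hc hP
    rwa [smul_smul, hc, one_smul] at h1
  have hm1 : (-1 : F) * (-1) = 1 := by ring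
  -- the steps
  have stepAe : ∀ b : Fin (n + 1), b + 1 ≠ L → Pz (e (b + 1)) → Pz (e b) := by
    intro b hb hP
    have h1 := hPN _ hP
    rw [hNeA b hb] at h1
    exact hPc' _ _ (epsW_mul_self b) h1
  have stepAf : ∀ b : Fin (n + 1), b + 1 ≠ L → Pz (f (b + 1)) → Pz (f b) := by
    intro b hb hP
    have h1 := hPN _ hP
    rw [hNfA b hb] at h1
    exact hPc' _ _ (epsW_mul_self b) h1
  have stepBe : ∀ b : Fin (n + 1), b + 1 = L → Pz (e (b + 1)) → Pz (f b) := by
    intro b hb hP
    have h1 := hPN _ hP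
    rw [hNeB b hb] at h1
    exact hPc' _ _ (epsW_mul_self b) (hPc' _ _ hm1 h1)
  have stepBf : ∀ b : Fin (n + 1), b + 1 = L → Pz (f (b + 1)) → Pz (e b) := by
    intro b hb hP
    have h1 := hPN _ hP
    rw [hNfB b hb] at h1
    exact hPc' _ _ (epsW_mul_self b) (hPc' _ _ hm1 h1)
  -- index facts
  have hL1 : L + 1 = 0 := Fin.last_add_one n
  have h0L : (0 : Fin (n + 1)) ≠ L := by
    intro h
    have h1 := congrArg Fin.val h
    rw [hL, Fin.val_last, Fin.val_zero] at h1
    omega
  have hLval : ∀ k (hk : k < n + 1), (⟨k, hk⟩ : Fin (n + 1)) = L ↔ k = n := by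
    intro k hk
    rw [hL, Fin.ext_iff, Fin.val_last]
  -- the chain
  have h0 : Pz (e 0) := ⟨fr.qe 0, hpe 0, hu⟩
  have heL : Pz (e L) := by
    apply stepAe L
    · rw [hL1]; exact h0L
    · rw [hL1]; exact h0
  have hfpred : ∀ k (hk : k + 1 = n), Pz (f ⟨k, by omega⟩) := by
    intro k hk
    have hb : (⟨k, by omega⟩ : Fin (n + 1)) + 1 = L := by
      rw [oddorbit_fin_succ (by omega), hLval]
      exact hk
    apply stepBe _ hb
    rw [hb]
    exact heL
  have hfall : ∀ d k (hk : k + d + 1 = n), Pz (f ⟨k, by omega⟩) := by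
    intro d
    induction d with
    | zero => intro k hk; exact hfpred k (by omega)
    | succ d ih =>
      intro k hk
      have h1 := ih (k + 1) (by omega)
      have hb : (⟨k, by omega⟩ : Fin (n + 1)) + 1 = ⟨k + 1, by omega⟩ :=
        oddorbit_fin_succ (by omega)
      apply stepAf ⟨k, by omega⟩
      · rw [hb, Ne, hLval]; omega
      · rw [hb]; exact h1
  have hf0 : Pz (f 0) := by
    have h1 := hfall (n - 1) 0 (by omega)
    exact h1
  have hfL : Pz (f L) := by
    apply stepAf L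
    · rw [hL1]; exact h0L
    · rw [hL1]; exact hf0
  have hepred : ∀ k (hk : k + 1 = n), Pz (e ⟨k, by omega⟩) := by
    intro k hk
    have hb : (⟨k, by omega⟩ : Fin (n + 1)) + 1 = L := by
      rw [oddorbit_fin_succ (by omega), hLval]
      exact hk
    apply stepBf _ hb
    rw [hb]
    exact hfL
  have heall : ∀ d k (hk : k + d + 1 = n), Pz (e ⟨k, by omega⟩) := by
    intro d
    induction d with
    | zero => intro k hk; exact hepred k (by omega)
    | succ d ih =>
      intro k hk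
      have h1 := ih (k + 1) (by omega)
      have hb : (⟨k, by omega⟩ : Fin (n + 1)) + 1 = ⟨k + 1, by omega⟩ :=
        oddorbit_fin_succ (by omega)
      apply stepAe ⟨k, by omega⟩
      · rw [hb, Ne, hLval]; omega
      · rw [hb]; exact h1
  intro i
  by_cases hi : i.val = n
  · have hiL : i = L := by
      apply Fin.ext
      rw [hi, hL, Fin.val_last]
    rw [hiL]
    exact ⟨heL.2.2, hfL.2.2⟩
  · have hlt : i.val < n := by
      have := i.2
      omega
    have h1 := heall (n - 1 - i.val) i.val (by omega)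
    have h2 := hfall (n - 1 - i.val) i.val (by omega)
    exact ⟨h1.2.2, h2.2.2⟩

end gen2

end Cfsg.Agent.Helper11.OG
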