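import Mathlib
import Cfsg.Agent.Lib.Helper15.S62Defs

/-!
S2362 farm-out (helper15), piece S62-CENTL: an endomorphism commuting with `t` acts on `W ≅ L = F[ζ]`
as a multiplication.
-/

set_option autoImplicit false
set_option linter.unusedSectionVars false
set_option linter.unusedVariables false

open Polynomial

namespace Cfsg.Agent.Helper15.S62

universe u

section linalg

variable {F : Type u} [Field F] {V : Type u} [AddCommGroup V] [Module F V]

/-- PIECE S62-CENTL. -/
theorem exists_mul_of_commute {L : Type u} [Field L] [Algebra F L] (t a : Module.End F V) (r : ℕ)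
    (hcomm : Commute a t) (φ : L ≃ₗ[F] Wpart t r) (ζ : L) (hζ : Algebra.adjoin F {ζ} = ⊤)
    (hφ : ∀ x : L, ((φ (ζ * x) : Wpart t r) : V) = t (φ x)) :
    ∃ μ : L, ∀ x : L, a (φ x : V) = (φ (μ * x) : Wpart t r) := by
  have hinv : ∀ x : L, a (φ x : V) ∈ Wpart t r := fun x => Wpart_invariant hcomm (φ x).2
  let a' : L →ₗ[F] L :=
    { toFun := fun x => φ.symm ⟨a (φ x : V), hinv x⟩
      map_add' := by
        intro x y
        rw [← map_add]
        congr 1
        apply Subtype.ext
        simp [map_add]
      map_smul' := by
        intro c x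
        rw [RingHom.id_apply, ← map_smul]
        congr 1
        apply Subtype.ext
        simp [map_smul] }
  have ha' : ∀ x, ((φ (a' x) : Wpart t r) : V) = a (φ x : V) := by
    intro x
    show ((φ (φ.symm ⟨a (φ x : V), hinv x⟩) : Wpart t r) : V) = _
    rw [LinearEquiv.apply_symm_apply]
  have hζa : ∀ x, a' (ζ * x) = ζ * a' x := by
    intro x
    apply φ.injective
    apply Subtype.ext
    rw [ha', hφ, hφ, ha']
    have h1 := congrArg (fun f : Module.End F V => f (φ x : V)) hcomm.eq
    simpa [Module.End.mul_apply] using h1
  have hall : ∀ y : L, ∀ x, a' (y * x) = y * a' x := by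
    intro y
    have hy : y ∈ Algebra.adjoin F {ζ} := by
      rw [hζ]
      exact Algebra.mem_top
    induction hy using Algebra.adjoin_induction with
    | mem z hz =>
      rw [Set.mem_singleton_iff] at hz
      subst hz
      exact hζa
    | algebraMap c =>
      intro x
      rw [← Algebra.smul_def, ← Algebra.smul_def, map_smul]
    | add y z _ _ hy hz =>
      intro x
      rw [add_mul, map_add, hy, hz, add_mul]
    | mul y z _ _ hy hz =>
      intro x
      rw [mul_assoc, hy, hz, mul_assoc]
  refine ⟨a' 1, fun x => ?_⟩
  have h1 : a' x = a' 1 * x := by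
    have h2 := hall x 1
    rw [mul_one] at h2
    rw [h2, mul_comm]
  rw [← ha', h1]

end linalg

end Cfsg.Agent.Helper15.S62
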