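import Mathlib
import Cfsg.Agent.Lib.Helper15.S62Defs

/-!
S2362 farm-out (helper15), piece S62-COMPL: `V = ker (t - 1) ⊕ ker (1 + t + ... + t^(r-1))`.
-/

set_option autoImplicit false
set_option linter.unusedSectionVars false
set_option linter.unusedVariables false

open Polynomial

namespace Cfsg.Agent.Helper15.S62

universe u

section linalg

variable {F : Type u} [Field F] {V : Type u} [AddCommGroup V] [Module F V]

theorem s62_compl_pow_fixed (t : Module.End F V) {x : V} (hx : t x = x) (i : ℕ) :
    (t ^ i) x = x := by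
  induction i with
  | zero => simp
  | succ i ih => rw [pow_succ, Module.End.mul_apply, hx, ih]

theorem s62_compl_sum_fixed (t : Module.End F V) {x : V} (hx : t x = x) (r : ℕ) :
    ∑ i ∈ Finset.range r, (t ^ i) x = (r : F) • x := by
  rw [Finset.sum_congr rfl (fun i _ => s62_compl_pow_fixed t hx i), Finset.sum_const,
    Finset.card_range, Nat.cast_smul_eq_nsmul]

theorem s62_compl_fixed_sum (t : Module.End F V) (r : ℕ) (ht : t ^ r = 1) (v : V) :
    t (∑ i ∈ Finset.range r, (t ^ i) v) = ∑ i ∈ Finset.range r, (t ^ i) v := by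
  have h1 : (t - 1) * ∑ i ∈ Finset.range r, t ^ i = 0 := by rw [mul_geom_sum, ht, sub_self]
  have h2 := congrArg (fun f : Module.End F V => f v) h1
  simp only [Module.End.mul_apply, LinearMap.sub_apply, Module.End.one_apply,
    LinearMap.sum_apply, LinearMap.zero_apply] at h2
  exact sub_eq_zero.1 h2

/-- PIECE S62-COMPL. -/
theorem isCompl_Cpart_Wpart (t : Module.End F V) (r : ℕ) (hr : 0 < r) (hrF : (r : F) ≠ 0)
    (ht : t ^ r = 1) : IsCompl (Cpart t) (Wpart t r) := by
  constructor
  · rw [Submodule.disjoint_def]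
    intro x hx hx'
    rw [mem_Cpart] at hx
    rw [mem_Wpart, s62_compl_sum_fixed t hx r] at hx'
    exact (smul_eq_zero.1 hx').resolve_left hrF
  · rw [Submodule.codisjoint_iff_exists_add_eq]
    intro v
    have hfix : t (∑ i ∈ Finset.range r, (t ^ i) v) = ∑ i ∈ Finset.range r, (t ^ i) v :=
      s62_compl_fixed_sum t r ht v
    refine ⟨(r : F)⁻¹ • ∑ i ∈ Finset.range r, (t ^ i) v,
      v - (r : F)⁻¹ • ∑ i ∈ Finset.range r, (t ^ i) v, ?_, ?_, by abel⟩
    · rw [mem_Cpart, map_smul, hfix]
    · rw [mem_Wpart]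
      simp only [map_sub, map_smul]
      rw [Finset.sum_sub_distrib, ← Finset.smul_sum, s62_compl_sum_fixed t hfix r, smul_smul,
        inv_mul_cancel₀ hrF, one_smul, sub_self]

end linalg

end Cfsg.Agent.Helper15.S62
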