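import Mathlib
import Cfsg.Agent.Lib.Helper15.S62Defs

/-!
S2362 farm-out (helper15), piece S62-BRIDGE: the sign of a permutation all of whose nontrivial cycles
have the same even length, with an odd number of cycles.
-/

set_option autoImplicit false
set_option linter.unusedSectionVars false
set_option linter.unusedVariables false

open Polynomial

namespace Cfsg.Agent.Helper15.S62

universe u

/-- abstract core -/
theorem s62_bridge_sign {α : Type*} [Fintype α] [DecidableEq α] (π : Equiv.Perm α) (m d : ℕ)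
    (hm : Even m) (hm0 : 0 < m)
    (hper : ∀ x, π x = x ∨ ∀ j : ℕ, (π ^ j) x = x → m ∣ j) (hpow : π ^ m = 1) (hd : Odd d)
    (hcard : π.support.card = m * d) : Equiv.Perm.sign π = -1 := by
  have hall : ∀ k ∈ π.cycleType, k = m := by
    intro k hk
    apply Nat.dvd_antisymm
    · exact (Equiv.Perm.dvd_of_mem_cycleType hk).trans (orderOf_dvd_of_pow_eq_one hpow)
    · rw [Equiv.Perm.cycleType_def, Multiset.mem_map] at hk
      obtain ⟨c, hc, rfl⟩ := hk
      have hc' : c ∈ π.cycleFactorsFinset := hc
      have hcyc := (Equiv.Perm.mem_cycleFactorsFinset_iff.1 hc').1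
      obtain ⟨x, hx⟩ := hcyc.nonempty_support
      have hceq := Equiv.Perm.cycle_is_cycleOf hx hc'
      have hxs : x ∈ π.support := Equiv.Perm.mem_cycleFactorsFinset_support_le hc' hx
      rcases hper x with h | h
      · exact absurd h (Equiv.Perm.mem_support.1 hxs)
      · apply h
        have h1 := Equiv.Perm.pow_mod_card_support_cycleOf_self_apply π (c.support.card) x
        rw [← hceq, Nat.mod_self, pow_zero, Equiv.Perm.one_apply] at h1
        exact h1.symm
  have hrep : π.cycleType = Multiset.replicate (Multiset.card π.cycleType) m :=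
    Multiset.eq_replicate.2 ⟨rfl, hall⟩
  have hsum : Multiset.card π.cycleType * m = m * d := by
    rw [← hcard, ← Equiv.Perm.sum_cycleType]
    conv_rhs => rw [hrep]
    rw [Multiset.sum_replicate, smul_eq_mul]
  have hk : Multiset.card π.cycleType = d := by
    rw [mul_comm] at hsum
    exact Nat.eq_of_mul_eq_mul_left hm0 hsum
  rw [Equiv.Perm.sign_of_cycleType', hrep, Multiset.map_replicate, Multiset.prod_replicate, hk,
    hm.neg_one_pow, hd.neg_one_pow]

section bridge

variable {F : Type u} [Field F]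

theorem s62_bridge_pow_apply (n : ℕ) (c : F)
    (g : Cfsg.isometryGroup F (Cfsg.quadFormOdd n F)) (j : ℕ)
    (v : {v : Idx n → F // Cfsg.quadFormOdd n F v = c}) :
    (((lvlPerm (Cfsg.quadFormOdd n F) c g ^ j) v :
      {v : Idx n → F // Cfsg.quadFormOdd n F v = c}) : Idx n → F) = (toEnd g ^ j) v.1 := by
  induction j with
  | zero => simp
  | succ j ih =>
    rw [pow_succ', Equiv.Perm.mul_apply, lvlPerm_apply, ih, pow_succ', Module.End.mul_apply,
      toEnd_apply]

/-- PIECE S62-BRIDGE. -/
theorem sign_lvlPerm_eq_neg_one (n : ℕ) (h2 : (2 : F) ≠ 0)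
    (hdiag : ∀ x : Idx n → F, bstd n F x x = 2 * Cfsg.quadFormOdd n F x) (c : F)
    [Fintype {v : Idx n → F // Cfsg.quadFormOdd n F v = c}]
    [DecidableEq {v : Idx n → F // Cfsg.quadFormOdd n F v = c}]
    (g : Cfsg.isometryGroup F (Cfsg.quadFormOdd n F)) (m d : ℕ) (hm : Even m) (hm0 : 0 < m)
    (hper : ∀ v : Idx n → F, toEnd g v = v ∨ ∀ j : ℕ, (toEnd g ^ j) v = v → m ∣ j)
    (hpow : toEnd g ^ m = 1) (hd : Odd d)
    (hcard : Nat.card {v : Idx n → F // bstd n F v v = 2 * c ∧ toEnd g v ≠ v} = m * d) :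
    Equiv.Perm.sign (lvlPerm (Cfsg.quadFormOdd n F) c g) = -1 := by
  have hfix : ∀ v : {v : Idx n → F // Cfsg.quadFormOdd n F v = c},
      lvlPerm (Cfsg.quadFormOdd n F) c g v = v ↔ toEnd g v.1 = v.1 := by
    intro v
    rw [toEnd_apply, ← lvlPerm_apply (Cfsg.quadFormOdd n F) c g v]
    exact ⟨fun h => congrArg Subtype.val h, fun h => Subtype.ext h⟩
  apply s62_bridge_sign _ m d hm hm0 _ _ hd
  · -- the number of moved points
    rw [← hcard, ← Fintype.card_coe, ← Nat.card_eq_fintype_card]
    apply Nat.card_congr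
    refine
      { toFun := fun x => ⟨x.1.1, ?_, ?_⟩
        invFun := fun y => ⟨⟨y.1, ?_⟩, ?_⟩
        left_inv := fun x => rfl
        right_inv := fun y => rfl }
    · rw [hdiag, x.1.2]
    · intro h
      exact (Equiv.Perm.mem_support.1 x.2) ((hfix x.1).2 h)
    · have h1 := y.2.1
      rw [hdiag] at h1
      exact mul_left_cancel₀ h2 h1
    · rw [Equiv.Perm.mem_support]
      intro h
      exact y.2.2 ((hfix _).1 h)
  · intro v
    rcases hper v.1 with h | h
    · left
      exact (hfix v).2 h
    · right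
      intro j hj
      apply h
      rw [← s62_bridge_pow_apply, hj]
  · ext v
    rw [s62_bridge_pow_apply, hpow]
    rfl

end bridge

end Cfsg.Agent.Helper15.S62
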