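import Mathlib
import Cfsg.Agent.Lib.Helper15.S62Defs
import Cfsg.Agent.Lib.Helper2.SpCenter

/-!
# S2362 piece S62-PSPORD (helper19): order of the image in `PSp`.
-/

set_option autoImplicit false
set_option linter.unusedSectionVars false
set_option linter.unusedVariables false

open Polynomial

namespace Cfsg.Agent.Helper15.S62

universe u

section model

variable {F : Type u} [Field F]

theorem orderOf_mk_PSp (n : ℕ) (hn : 1 ≤ n) (A : Matrix.symplecticGroup (Fin n) F)
    (h : ∀ j : ℕ, A ^ j ≠ Cfsg.Agent.Helper2.Sp.negOne (Fin n) F) :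
    orderOf (QuotientGroup.mk A : Cfsg.PSp n F) = orderOf A := by
  have hne : Nonempty (Fin n) := ⟨⟨0, hn⟩⟩
  apply Nat.dvd_antisymm
  · exact orderOf_map_dvd
      (QuotientGroup.mk' (Subgroup.center (Matrix.symplecticGroup (Fin n) F))) A
  · apply orderOf_dvd_of_pow_eq_one
    have h1 : (QuotientGroup.mk A : Cfsg.PSp n F) ^
        orderOf (QuotientGroup.mk A : Cfsg.PSp n F) = 1 := pow_orderOf_eq_one _
    have h2 : (QuotientGroup.mk (A ^ orderOf (QuotientGroup.mk A : Cfsg.PSp n F)) :
        Cfsg.PSp n F) = 1 := h1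
    have h3 : A ^ orderOf (QuotientGroup.mk A : Cfsg.PSp n F) ∈
        Subgroup.center (Matrix.symplecticGroup (Fin n) F) :=
      (QuotientGroup.eq_one_iff _).1 h2
    rcases (Cfsg.Agent.Helper2.Sp.mem_center_iff _).1 h3 with h4 | h4
    · exact h4
    · exact absurd h4 (h _)

end model

end Cfsg.Agent.Helper15.S62
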