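import Mathlib
import Cfsg.Agent.Lib.Helper15.S62Defs
import Cfsg.Agent.Lib.Helper2.SpCenter
import Cfsg.Agent.Lib.Helper28.SympIso

/-!
# S2362 piece S62-TRANSFER (helper19): a model isometry gives a symplectic matrix.
-/

set_option autoImplicit false
set_option linter.unusedSectionVars false
set_option linter.unusedVariables false

open Polynomial

namespace Cfsg.Agent.Helper15.S62

universe u

section model

variable {F : Type u} [Field F]

open Cfsg.Agent.Helper28.SympIso Cfsg.Agent.Helper28.IsoGrp in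
theorem s62_transfer_congr_apply {U V : Type*} [AddCommGroup U] [Module F U]
    [AddCommGroup V] [Module F V]
    {B : LinearMap.BilinForm F U} {B' : LinearMap.BilinForm F V} (e : U ≃ₗ[F] V)
    (he : ∀ x y, B' (e x) (e y) = B x y) (h : isoGrp B) (x : V) :
    ((isoGrpCongr e he h : isoGrp B') : V ≃ₗ[F] V) x = e ((h : U ≃ₗ[F] U) (e.symm x)) := rfl

open Cfsg.Agent.Helper28.SympIso Cfsg.Agent.Helper28.IsoGrp in
theorem exists_symplectic_of_model {U : Type*} [AddCommGroup U] [Module F U]
    [FiniteDimensional F U] (ω : LinearMap.BilinForm F U) (g : U ≃ₗ[F] U)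
    (halt : ∀ x, ω x x = 0) (hnd : ∀ x, (∀ y, ω x y = 0) → x = 0) (n : ℕ)
    (hfin : Module.finrank F U = 2 * n) (hg : ∀ x y, ω (g x) (g y) = ω x y) :
    ∃ A : Matrix.symplecticGroup (Fin n) F, orderOf A = orderOf g ∧
      ∀ j : ℕ, (∃ x, (g ^ j) x ≠ -x) → A ^ j ≠ Cfsg.Agent.Helper2.Sp.negOne (Fin n) F := by
  have hA : ω.IsAlt := halt
  have hskew : ∀ x y, ω y x = - ω x y := fun x y => by
    exact (LinearMap.IsAlt.neg hA x y).symm
  have hB : ω.Nondegenerate := by
    constructor
    · intro x hx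
      exact hnd x hx
    · intro x hx
      apply hnd x
      intro y
      rw [hskew y x, hx y, neg_zero]
  obtain ⟨e, he⟩ := exists_symp_equiv ω hA hB n hfin
  let g0 : isoGrp ω := ⟨g, hg⟩
  let h0 : isoGrp (sympBil n F) := isoGrpCongr e he g0
  refine ⟨(sympMulEquiv n).symm h0, ?_, ?_⟩
  · rw [MulEquiv.orderOf_eq, MulEquiv.orderOf_eq]
    exact Subgroup.orderOf_mk (H := isoGrp ω) g hg
  · rintro j ⟨x, hx⟩ hAj
    apply hx
    have h1 : (sympMulEquiv n) (((sympMulEquiv n).symm h0) ^ j) = h0 ^ j := by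
      rw [map_pow, MulEquiv.apply_symm_apply]
    have h2 : h0 ^ j = isoGrpCongr e he (g0 ^ j) := by
      rw [map_pow]
    have h3 := sympMulEquiv_apply n (((sympMulEquiv n).symm h0) ^ j) (e x)
    rw [h1, h2, s62_transfer_congr_apply, hAj, Cfsg.Agent.Helper2.Sp.negOne_coe,
      Matrix.neg_mulVec, Matrix.one_mulVec, e.symm_apply_apply] at h3
    have h4 : ((g0 ^ j : isoGrp ω) : U ≃ₗ[F] U) = g ^ j := by
      rw [Subgroup.coe_pow]
    rw [h4, ← map_neg] at h3
    exact e.injective h3

end model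

end Cfsg.Agent.Helper15.S62
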