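import Mathlib
import Cfsg.Agent.Lib.Helper13.InvNDefs

/-!
# Piece FORM (core): the form `t = v h n_w` of an involution in the cell of `w`

`cell_unique` and `invol_of_sq` enter as hypotheses.
-/

set_option autoImplicit false
set_option linter.unusedSectionVars false
set_option linter.unusedVariables false

namespace Cfsg.Agent.Helper13.InvN

open Cfsg Cfsg.Lie Cfsg.Agent.Lead.Chev Cfsg.Agent.Helper6.ChevL

variable {F : Type*} [Field F] {D : ChevalleyDatum} (hF : ChevFacts D F) (hS : CorSize D) (hI : CorInj D)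
include hF hS hI

/-- `n_w U ⊆ (U ∩ n_w U n_w⁻¹) n_w U_w⁻`: the sharp form of `nWordGL_mul_posUnipotent` -/
theorem form_mul_posUnipotent (w : List ℕ) (hw : ∀ i ∈ w, i < D.rank)
    (u : GL D.Idx F) (hu : u ∈ D.posUnipotent F) :
    ∃ b ∈ D.posUnipotent F, ∃ u' ∈ negPart D hF.xadd w,
      nWordGL D hF.xadd w * u = b * nWordGL D hF.xadd w * u' := by
  induction h : (negSet D w).card using Nat.strong_induction_on generalizing w u with
  | _ n ih =>
    by_cases hall : ∀ j < D.rank, D.IsPosRoot (reflWord D w (D.simple j))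
    · have hpos := reflWord_pos_of_simple D (etaOf D) hF.facts hF.refl hS hF.simple_lt w hw hall
      refine ⟨_, hF.nWordGL_conj_mem_posUnipotent w hw hpos u hu, 1, one_mem _, ?_⟩
      group
    · push Not at hall
      obtain ⟨p, hp, hnp⟩ := hall
      have hneg : D.IsNegRoot (reflWord D w (D.simple p)) := by
        rcases hF.sign.pos_or_neg _ (reflWord_lt D (etaOf D) hF.facts w hw _ (hF.simple_lt p hp)) with h1 | h1
        · exact absurd h1 hnp
        · exact h1
      have hw' : ∀ i ∈ w ++ [p], i < D.rank := by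
        intro i hi
        rcases List.mem_append.1 hi with h1 | h1
        · exact hw i h1
        · rw [List.mem_singleton.1 h1]; exact hp
      have hlt := hF.card_negSet_snoc_lt w hw p hp hneg
      obtain ⟨u₁, hu₁, t, rfl⟩ := (hF.mem_posUnipotent_iff p hp u).1 hu
      have hu₂ := hF.nGL_inv_conj_posExcept p hp u₁ hu₁
      obtain ⟨b, hb, u₃, hu₃, e⟩ := ih _ (h ▸ hlt) (w ++ [p]) hw' _
        (hF.posExcept_le_posUnipotent p hp hu₂) rfl
      have en : nWordGL D hF.xadd (w ++ [p]) = nWordGL D hF.xadd w * nGL D hF.xadd (D.simple p) := by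
        rw [nWordGL_append, nWordGL_cons, nWordGL_nil, mul_one]
      rw [en] at e
      refine ⟨b, hb, nGL D hF.xadd (D.simple p) * u₃ * (nGL D hF.xadd (D.simple p))⁻¹ *
        xGL D hF.xadd (D.simple p) t,
        mul_mem (hF.nGL_conj_negPart w hw p hp hneg u₃ hu₃)
          (Subgroup.subset_closure ⟨_, t, hF.simple_pos p hp, hneg, rfl⟩), ?_⟩
      have e1 : nWordGL D hF.xadd w * (u₁ * xGL D hF.xadd (D.simple p) t) =
          (nWordGL D hF.xadd w * nGL D hF.xadd (D.simple p) *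
            ((nGL D hF.xadd (D.simple p))⁻¹ * u₁ * nGL D hF.xadd (D.simple p))) *
              ((nGL D hF.xadd (D.simple p))⁻¹ * xGL D hF.xadd (D.simple p) t) := by group
      rw [e1, e]
      group

/-- the square of `n_w` lies in `H` when `w` acts as an involution -/
theorem form_sq_mem_diagonal (w : List ℕ) (hw : WOK D w) (hinv : Invol D w)
    (hrev : ∀ r < D.nroots, reflWord D w.reverse r = reflWord D w r) :
    nWordGL D hF.xadd w * nWordGL D hF.xadd w ∈ D.diagonalSubgroup F := by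
  have hww : ∀ i ∈ w ++ w, i < D.rank := WOK.append hw hw
  have h1 : ∀ r, D.IsPosRoot r → D.IsPosRoot (reflWord D (w ++ w) r) := by
    intro r hr
    rw [reflWord_append, hinv r hr.1]
    exact hr
  have h2 : ∀ r, D.IsPosRoot r → D.IsPosRoot (reflWord D (w ++ w).reverse r) := by
    intro r hr
    rw [List.reverse_append, reflWord_append, hrev r hr.1,
      hrev _ (reflWord_lt D (etaOf D) hF.facts w hw r hr.1), hinv r hr.1]
    exact hr
  have h3 := hF.nWordGL_mem_diagonal_of_pos (w ++ w) hww h1 h2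
  rwa [nWordGL_append] at h3

/-- `H` normalises `U` -/
theorem form_diag_conj (k u : GL D.Idx F) (hk : k ∈ D.diagonalSubgroup F) (hu : u ∈ D.posUnipotent F) :
    k * u * k⁻¹ ∈ D.posUnipotent F := by
  have hle := diagonalSubgroup_le_normalizer D hF.hall hF.hconj
  have := (Subgroup.mem_normalizer_iff.1 (hle hk) u).1 hu
  exact this

/-- PIECE FORM, with `cell_unique` and `invol_of_sq` as hypotheses -/
theorem good_form_core (g : GL D.Idx F) (hg : g ∈ D.group F) (hgg : g * g = 1) (w : List ℕ) (hw : WOK D w)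
    (hcu : ∀ w' : List ℕ, WOK D w' → InCell hF g w' → ∀ r < D.nroots, reflWord D w r = reflWord D w' r)
    (hinv : Invol D w) (hrev : ∀ r < D.nroots, reflWord D w.reverse r = reflWord D w r) :
    ∃ u ∈ D.posUnipotent F, ∃ v h', Good hF (u * g * u⁻¹) w v h' := by
  obtain ⟨b, hb, w₁, hw₁, u₀, hu₀, e⟩ := hF.exists_bruhat hS g hg
  have hu₀U := hF.negPart_le_posUnipotent w₁ hu₀
  have hcell : InCell hF g w₁ := ⟨b, hb, u₀, posUnipotent_le_borel D hu₀U, e⟩
  have hsame := hcu w₁ hw₁ hcell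
  have hk := hF.nWordGL_inv_mul_mem_diagonal w w₁ hw hw₁ hsame
  have hnn := form_sq_mem_diagonal hF hS hI w hw hinv hrev
  generalize hn : nWordGL D hF.xadd w = n at *
  generalize hkdef : n⁻¹ * nWordGL D hF.xadd w₁ = k at *
  have en1 : nWordGL D hF.xadd w₁ = n * k := by rw [← hkdef]; group
  have hk' : n * k * n⁻¹ ∈ D.diagonalSubgroup F := by
    rw [← hn]
    exact nWordGL_conj_mem_diagonal D hF.xadd (etaOf D) hF.nsimple w hw k hk
  have et : u₀ * g * u₀⁻¹ = (u₀ * b * (n * k * n⁻¹)) * n := by rw [e, en1]; group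
  have hb₁ : u₀ * b * (n * k * n⁻¹) ∈ D.borelSubgroup F :=
    mul_mem (mul_mem (posUnipotent_le_borel D hu₀U) hb) (diagonal_le_borel D hk')
  obtain ⟨v₁, hv₁, h₁, hh₁, eb₁⟩ := (hF.mem_borel_iff _).1 hb₁
  refine ⟨u₀, hu₀U, v₁, h₁, ?_, hv₁, hh₁, ?_⟩
  · rw [et, eb₁, hn]
  · rw [hn]
    have htt : (u₀ * g * u₀⁻¹) * (u₀ * g * u₀⁻¹) = 1 := by
      have : (u₀ * g * u₀⁻¹) * (u₀ * g * u₀⁻¹) = u₀ * (g * g) * u₀⁻¹ := by group
      rw [this, hgg]; group
    rw [et, eb₁] at htt
    obtain ⟨b₂, hb₂, a, ha, e2⟩ := form_mul_posUnipotent hF hS hI w hw v₁ hv₁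
    have haN := hF.conj_negPartN_mem _ a (hF.negPart_le_negPartN w hw ha)
    rw [hn] at e2 haN
    have hh₁' : n * h₁ * n⁻¹ ∈ D.diagonalSubgroup F := by
      rw [← hn]
      exact nWordGL_conj_mem_diagonal D hF.xadd (etaOf D) hF.nsimple w hw h₁ hh₁
    have haB : n * a * n⁻¹ ∈ D.borelSubgroup F := by
      have e4 : h₁⁻¹ * v₁⁻¹ = n * v₁ * h₁ * n := by
        have h5 : (v₁ * h₁)⁻¹ = n * (v₁ * h₁ * n) := by
          rw [inv_eq_iff_mul_eq_one]
          rw [← htt]; group
        rw [← mul_inv_rev, h5]; group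
      have e3 : n * a * n⁻¹ = b₂⁻¹ * (h₁⁻¹ * v₁⁻¹) * (n * n)⁻¹ * (n * h₁ * n⁻¹)⁻¹ := by
        rw [e4]
        have : n * v₁ * h₁ * n = b₂ * n * a * h₁ * n := by rw [← e2]
        rw [this]; group
      rw [e3]
      exact mul_mem (mul_mem (mul_mem (inv_mem (posUnipotent_le_borel D hb₂))
        (mul_mem (inv_mem (diagonal_le_borel D hh₁)) (inv_mem (posUnipotent_le_borel D hv₁))))
        (inv_mem (diagonal_le_borel D hnn))) (inv_mem (diagonal_le_borel D hh₁'))
    have ha1 : n * a * n⁻¹ = 1 := by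
      have h6 : n * a * n⁻¹ ∈ D.borelSubgroup F ⊓ D.negUnipotent F := Subgroup.mem_inf.2 ⟨haB, haN⟩
      rw [hF.borel_inf_negUnipotent, Subgroup.mem_bot] at h6
      exact h6
    have ha1' : a = 1 := by
      have : a = n⁻¹ * (n * a * n⁻¹) * n := by group
      rw [this, ha1]; group
    rw [ha1', mul_one] at e2
    have e5 : n⁻¹ * v₁ * n = (n * n)⁻¹ * b₂ * ((n * n)⁻¹)⁻¹ := by
      have : b₂ = n * v₁ * n⁻¹ := by rw [e2]; group
      rw [this]; group
    rw [e5]
    exact form_diag_conj hF hS hI _ _ (inv_mem hnn) hb₂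

end Cfsg.Agent.Helper13.InvN
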