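import Mathlib
import Cfsg.Agent.Lib.Helper19.InvNFORMCore
import Cfsg.Agent.Lib.Helper15.InvNCELLUPre
import Cfsg.Agent.Lib.Helper15.InvNINVOL

/-!
# Piece FORM: the form `t = v h n_w` of an involution in the cell of `w`
-/

set_option autoImplicit false
set_option linter.unusedSectionVars false
set_option linter.unusedVariables false

namespace Cfsg.Agent.Helper13.InvN

open Cfsg Cfsg.Lie Cfsg.Agent.Lead.Chev Cfsg.Agent.Helper6.ChevL

variable {F : Type*} [Field F] {D : ChevalleyDatum} (hF : ChevFacts D F) (hS : CorSize D) (hI : CorInj D)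
include hF hS hI

/-- PIECE FORM -/
theorem good_form (g : GL D.Idx F) (hg : g ∈ D.group F) (hgg : g * g = 1) (w : List ℕ) (hw : WOK D w)
    (h : InCell hF g w) :
    ∃ u ∈ D.posUnipotent F, ∃ v h', Good hF (u * g * u⁻¹) w v h' :=
  good_form_core hF hS hI g hg hgg w hw
    (fun w' hw' h' => invol_cell_unique hF hS hI g w w' hw hw' h h')
    (invol_of_sq hF hS hI g hgg w hw h).1 (invol_of_sq hF hS hI g hgg w hw h).2

end Cfsg.Agent.Helper13.InvN
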