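import Mathlib
import Cfsg.Agent.Lib.Helper15.ThreeCyc3

/-!
# S0690 piece E3G (helper4): in a perfect group with at most eight elements of order three,
these elements are central
-/

set_option autoImplicit false
set_option linter.unusedSectionVars false
set_option linter.unusedVariables false
set_option linter.style.haveILetI false

namespace Cfsg.Agent.Helper19.Zass

open scoped Pointwise

/-- a perfect group has trivial homomorphisms into solvable groups -/
theorem hom_trivial_of_perfect_of_solvable {H S : Type*} [Group H] [Group S]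
    (hperf : commutator H = ⊤) [hS : Group.IsSolvable S] (f : H →* S) (h : H) : f h = 1 := by
  have hder : ∀ n, derivedSeries H n = ⊤ := by
    intro n
    induction n with
    | zero => rfl
    | succ n ih => rw [derivedSeries_succ, ih, ← commutator_def, hperf]
  obtain ⟨n, hn⟩ := (Group.isSolvable_def S).mp hS
  have h1 := map_derivedSeries_le_derivedSeries f n
  rw [hder n, hn] at h1
  have h2 : f h ∈ (⊤ : Subgroup H).map f := Subgroup.mem_map_of_mem f (Subgroup.mem_top h)
  exact Subgroup.mem_bot.mp (h1 h2)

/-- a perfect group has trivial homomorphisms into commutative groups -/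
theorem hom_trivial_of_perfect_of_comm {H S : Type*} [Group H] [Group S]
    (hperf : commutator H = ⊤) (hS : ∀ a b : S, a * b = b * a) (f : H →* S) (h : H) :
    f h = 1 := by
  haveI : Group.IsSolvable S := Group.isSolvable_of_comm hS
  exact hom_trivial_of_perfect_of_solvable hperf f h

section

variable {H : Type*} [Group H]

/-- the subgroups generated by an element of order three -/
def Y3 (H : Type*) [Group H] : Type _ := {K : Subgroup H // ∃ g : H, orderOf g = 3 ∧ K = Subgroup.zpowers g}

theorem conj_smul_zpowers (h g : H) :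
    MulAut.conj h • Subgroup.zpowers g = Subgroup.zpowers (h * g * h⁻¹) := by
  change (Subgroup.zpowers g).map ((MulAut.conj h).toMonoidHom) = _
  rw [MonoidHom.map_zpowers]
  rfl

theorem orderOf_conj' (h g : H) : orderOf (h * g * h⁻¹) = orderOf g := by
  have : h * g * h⁻¹ = MulAut.conj h g := rfl
  rw [this, MulEquiv.orderOf_eq]

instance : MulAction H (Y3 H) where
  smul h K := ⟨MulAut.conj h • K.1, by
    obtain ⟨g, hg, hK⟩ := K.2
    exact ⟨h * g * h⁻¹, by rw [orderOf_conj', hg], by rw [hK, conj_smul_zpowers]⟩⟩
  one_smul K := by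
    apply Subtype.ext
    show MulAut.conj (1 : H) • K.1 = K.1
    rw [map_one, one_smul]
  mul_smul a b K := by
    apply Subtype.ext
    show MulAut.conj (a * b) • K.1 = MulAut.conj a • (MulAut.conj b • K.1)
    rw [map_mul, mul_smul]

theorem Y3_smul_val (h : H) (K : Y3 H) : (h • K).1 = MulAut.conj h • K.1 := rfl

end

theorem central_of_card_le_eight {H : Type*} [Group H] [Finite H] (hperf : commutator H = ⊤)
    (h8 : Nat.card {g : H // orderOf g = 3} ≤ 8) (g : H) (hg : orderOf g = 3) :
    g ∈ Subgroup.center H := by
  classical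
  haveI : Finite (Y3 H) := by unfold Y3; infer_instance
  letI : Fintype (Y3 H) := Fintype.ofFinite _
  -- choose generators
  have hgen : ∀ K : Y3 H, ∃ x : H, orderOf x = 3 ∧ K.1 = Subgroup.zpowers x := fun K => K.2
  choose gen hgen3 hgenK using hgen
  -- the injection `Y3 × Bool → X`
  let ι : Y3 H × Bool → {g : H // orderOf g = 3} := fun p =>
    if p.2 then ⟨gen p.1, hgen3 p.1⟩ else ⟨(gen p.1)⁻¹, by rw [orderOf_inv]; exact hgen3 p.1⟩
  have hne_inv : ∀ x : H, orderOf x = 3 → x ≠ x⁻¹ := by
    intro x hx h
    have h1 : x ^ 2 = 1 := by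
      rw [pow_two]
      nth_rw 2 [h]
      exact mul_inv_cancel x
    have h2 : orderOf x ∣ 2 := orderOf_dvd_of_pow_eq_one h1
    rw [hx] at h2
    omega
  have hι : Function.Injective ι := by
    rintro ⟨K, b⟩ ⟨K', b'⟩ h
    have hval := congrArg Subtype.val h
    have hKK : K = K' := by
      apply Subtype.ext
      rw [hgenK K, hgenK K']
      cases b <;> cases b' <;> simp only [ι, if_true, if_false, Bool.false_eq_true] at hval
      · rw [inv_inj] at hval; rw [hval]
      · rw [← hval, Subgroup.zpowers_inv]
      · rw [hval, Subgroup.zpowers_inv]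
      · rw [hval]
    subst hKK
    cases b <;> cases b' <;> simp only [ι, if_true, if_false, Bool.false_eq_true] at hval
    · rfl
    · exact absurd hval.symm (hne_inv _ (hgen3 K))
    · exact absurd hval (hne_inv _ (hgen3 K))
    · rfl
  have hcardY : Fintype.card (Y3 H) ≤ 4 := by
    have h1 := Nat.card_le_card_of_injective ι hι
    rw [Nat.card_prod, Nat.card_eq_fintype_card (α := Bool), Fintype.card_bool,
      Nat.card_eq_fintype_card] at h1
    omega
  haveI := Cfsg.Agent.Helper15.ThreeCyc.perm_isSolvable_of_card_le_four hcardY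
  -- the action is trivial
  have htriv : ∀ (h : H) (K : Y3 H), h • K = K := by
    intro h K
    have := hom_trivial_of_perfect_of_solvable hperf (MulAction.toPermHom H (Y3 H)) h
    have h2 := congrArg (fun σ : Equiv.Perm (Y3 H) => σ K) this
    simpa using h2
  -- `⟨g⟩` is normal
  let K₀ : Y3 H := ⟨Subgroup.zpowers g, g, hg, rfl⟩
  haveI hnorm : (Subgroup.zpowers g).Normal := by
    constructor
    intro n hn h
    have h1 := congrArg Subtype.val (htriv h K₀)
    rw [Y3_smul_val] at h1
    have h2 : h * n * h⁻¹ ∈ MulAut.conj h • Subgroup.zpowers g :=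
      Subgroup.smul_mem_pointwise_smul n (MulAut.conj h) _ hn
    rw [h1] at h2
    exact h2
  -- the conjugation action on `⟨g⟩` is trivial
  have hcard : Nat.card (MulAut (Subgroup.zpowers g)) = 2 := by
    rw [IsCyclic.card_mulAut, Nat.card_zpowers, hg]
    rfl
  haveI : Fact (Nat.Prime 2) := ⟨Nat.prime_two⟩
  haveI hcyc : IsCyclic (MulAut (Subgroup.zpowers g)) := isCyclic_of_prime_card hcard
  letI : CommGroup (MulAut (Subgroup.zpowers g)) := IsCyclic.commGroup
  have hconj : ∀ h : H, (MulAut.conjNormal h : MulAut (Subgroup.zpowers g)) = 1 := fun h =>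
    hom_trivial_of_perfect_of_comm hperf (fun a b => mul_comm a b) MulAut.conjNormal h
  rw [Subgroup.mem_center_iff]
  intro h
  have h1 := congrArg (fun σ : MulAut (Subgroup.zpowers g) =>
    ((σ ⟨g, Subgroup.mem_zpowers g⟩ : Subgroup.zpowers g) : H)) (hconj h)
  simp only [MulAut.conjNormal_apply, MulAut.one_apply] at h1
  calc h * g = (h * g * h⁻¹) * h := by group
    _ = g * h := by rw [h1]

end Cfsg.Agent.Helper19.Zass
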