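import Mathlib
import Cfsg.Agent.Lib.Helper25.ZassOut
import Cfsg.Agent.Lib.Helper27.ZassIso

/-!
# S0690 piece END (helper4): a normal `SL(2,5)` containing all elements of order three is everything
-/

set_option autoImplicit false
set_option linter.unusedSectionVars false
set_option linter.unusedVariables false
set_option linter.style.haveILetI false

namespace Cfsg.Agent.Helper19.Zass

open Cfsg.Agent.Helper12.BinIco

/-- the perfect core of a nonsolvable finite group (copy of helper20's lemma, light imports) -/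
theorem exists_perfect_core' {G : Type*} [Group G] [Finite G] (hns : ¬ Group.IsSolvable G) :
    ∃ D : Subgroup G, D ≠ ⊥ ∧ ⁅D, D⁆ = D := by
  let f : ℕ → ℕ := fun n => Nat.card (derivedSeries G n)
  have hmem : sInf (Set.range f) ∈ Set.range f := Nat.sInf_mem (Set.range_nonempty f)
  obtain ⟨n, hn⟩ := hmem
  refine ⟨derivedSeries G n, ?_, ?_⟩
  · intro h
    exact hns ((Group.isSolvable_def G).mpr ⟨n, h⟩)
  · have h1 : derivedSeries G (n + 1) = ⁅derivedSeries G n, derivedSeries G n⁆ :=
      derivedSeries_succ G n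
    rw [← h1]
    apply Subgroup.eq_of_le_of_card_ge (derivedSeries_antitone G (Nat.le_succ n))
    have h2 : sInf (Set.range f) ≤ f (n + 1) := Nat.sInf_le ⟨n + 1, rfl⟩
    rw [← hn] at h2
    exact h2

theorem mx_my_ne : mx * my ≠ my * mx := by decide

theorem eq_top_of_normal_sl25 {H : Type*} [Group H] [Finite H] (hperf : commutator H = ⊤)
    (N : Subgroup H) [N.Normal]
    (e : Nonempty (N ≃* Matrix.SpecialLinearGroup (Fin 2) (ZMod 5)))
    (h3 : ∀ g : H, orderOf g = 3 → g ∈ N)
    (hIH : ∀ P : Subgroup H, P ≠ ⊤ → P ≠ ⊥ → ⁅P, P⁆ = P → ∃ g ∈ P, orderOf g = 3) : N = ⊤ := by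
  have hsup := Cfsg.Agent.Helper25.ZassOut.eq_sup_centralizer hperf N e
  obtain ⟨e⟩ := e
  set C := Subgroup.centralizer (N : Set H) with hC
  -- `C` is solvable
  have hCsol : Group.IsSolvable C := by
    by_contra hns
    obtain ⟨D, hD1, hD2⟩ := exists_perfect_core' hns
    set P := D.map C.subtype with hP
    have hP1 : P ≠ ⊥ := by
      intro h
      exact hD1 ((Subgroup.map_eq_bot_iff_of_injective D C.subtype_injective).mp h)
    have hP2 : ⁅P, P⁆ = P := by
      rw [hP, ← Subgroup.map_commutator, hD2]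
    have hPC : P ≤ C := Subgroup.map_subtype_le D
    have hPtop : P ≠ ⊤ := by
      intro h
      have hCtop : C = ⊤ := top_le_iff.mp (h ▸ hPC)
      have hmem : ((e.symm mx : N) : H) ∈ C := by rw [hCtop]; exact Subgroup.mem_top _
      have h1 := Subgroup.mem_centralizer_iff.mp hmem _ (e.symm my).2
      have h2 : (e.symm my : N) * (e.symm mx) = (e.symm mx) * (e.symm my) := Subtype.ext h1
      have h3' : my * mx = mx * my := by
        have := congrArg e h2
        simpa using this
      exact mx_my_ne h3'.symm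
    obtain ⟨g, hgP, hg3⟩ := hIH P hPtop hP1 hP2
    have hgN := h3 g hg3
    have hgC := hPC hgP
    have hcen : (⟨g, hgN⟩ : N) ∈ Subgroup.center N := by
      rw [Subgroup.mem_center_iff]
      intro n
      apply Subtype.ext
      exact Subgroup.mem_centralizer_iff.mp hgC n n.2
    have hcen' : e ⟨g, hgN⟩ ∈ Subgroup.center S25 := by
      rw [Subgroup.mem_center_iff]
      intro y
      obtain ⟨n, rfl⟩ := e.surjective y
      rw [← map_mul, ← map_mul, Subgroup.mem_center_iff.mp hcen n]
    have ho : orderOf (e ⟨g, hgN⟩) = 3 := by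
      rw [MulEquiv.orderOf_eq, Subgroup.orderOf_mk]
      exact hg3
    rcases Cfsg.Agent.Helper27.Zass.center_S25 _ hcen' with h1 | h1
    · rw [h1, orderOf_one] at ho
      omega
    · rw [h1] at ho
      have h2 : orderOf mz ∣ 2 := orderOf_dvd_of_pow_eq_one mz_pow
      rw [ho] at h2
      omega
  -- the quotient `H ⧸ N` is solvable and perfect
  by_contra hne
  have hsurj : Function.Surjective ((QuotientGroup.mk' N).comp C.subtype) := by
    intro q
    obtain ⟨h, rfl⟩ := QuotientGroup.mk'_surjective N q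
    have hh : h ∈ N ⊔ C := by rw [hsup]; exact Subgroup.mem_top h
    have hh' : h ∈ ((N ⊔ C : Subgroup H) : Set H) := hh
    rw [Subgroup.normal_mul] at hh'
    obtain ⟨n, hn, c, hc, rfl⟩ := Set.mem_mul.mp hh'
    refine ⟨⟨c, hc⟩, ?_⟩
    simp only [MonoidHom.comp_apply, Subgroup.coe_subtype, QuotientGroup.mk'_apply]
    rw [QuotientGroup.eq]
    have hcj := Subgroup.Normal.conj_mem (inferInstance : N.Normal) n hn c⁻¹
    simpa [mul_assoc] using hcj
  haveI : Group.IsSolvable (H ⧸ N) := Group.isSolvable_of_surjective hsurj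
  haveI : Nontrivial (H ⧸ N) := by
    by_contra hnt
    rw [not_nontrivial_iff_subsingleton] at hnt
    exact hne (QuotientGroup.subgroup_eq_top_of_subsingleton N hnt)
  have hlt := Group.IsSolvable.commutator_lt_top_of_nontrivial (H ⧸ N)
  have hperf' : commutator (H ⧸ N) = ⊤ := by
    rw [commutator_def]
    have h1 : (⊤ : Subgroup (H ⧸ N)) = (⊤ : Subgroup H).map (QuotientGroup.mk' N) := by
      rw [← MonoidHom.range_eq_map]
      exact (MonoidHom.range_eq_top.mpr (QuotientGroup.mk'_surjective N)).symm
    rw [h1, ← Subgroup.map_commutator, ← commutator_def, hperf]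
  rw [hperf'] at hlt
  exact lt_irrefl _ hlt

end Cfsg.Agent.Helper19.Zass
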