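import Mathlib
import Cfsg.Agent.Lib.Helper4.ZassB

/-!
# S0690 piece N1B (helper4): the values of `bt x y` for two elements of order three
-/

set_option autoImplicit false
set_option linter.unusedSectionVars false
set_option linter.unusedVariables false
set_option linter.style.haveILetI false
set_option linter.unusedSimpArgs false

namespace Cfsg.Agent.Helper19.ZassN1B

open Cfsg.Agent.Helper4.Zass

variable {R : Type*} [Ring R]

theorem two_eq : (2 : R) = 1 + 1 := by norm_num
theorem three_eq : (3 : R) = 1 + 1 + 1 := by norm_num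
theorem four_eq : (4 : R) = 1 + 1 + 1 + 1 := by norm_num
theorem five_eq : (5 : R) = 1 + 1 + 1 + 1 + 1 := by norm_num
theorem six_eq : (6 : R) = 1 + 1 + 1 + 1 + 1 + 1 := by norm_num
theorem twelve_eq : (12 : R) = 1 + 1 + 1 + 1 + 1 + 1 + 1 + 1 + 1 + 1 + 1 + 1 := by norm_num
theorem twenty_eq : (20 : R) =
    1 + 1 + 1 + 1 + 1 + 1 + 1 + 1 + 1 + 1 + 1 + 1 + 1 + 1 + 1 + 1 + 1 + 1 + 1 + 1 := by norm_num

theorem rel' {x : R} (hx : x * x + x + 1 = 0) : x * x = -1 - x := by
  have : x * x = (x * x + x + 1) - x - 1 := by abel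
  rw [this, hx]; abel

theorem rel'' {x : R} (hx : x * x + x + 1 = 0) (z : R) : x * (x * z) = -z - x * z := by
  rw [← mul_assoc, rel' hx]; noncomm_ring

theorem pow4 (a : R) : a ^ 4 = (a * a) * (a * a) := by
  simp only [pow_succ, pow_zero, one_mul, mul_assoc]

theorem pow6 (a : R) : a ^ 6 = (a * (a * a)) * (a * (a * a)) := by
  simp only [pow_succ, pow_zero, one_mul, mul_assoc]

theorem pow10 (a : R) :
    a ^ 10 = (a * (a * (a * (a * a)))) * (a * (a * (a * (a * a)))) := by
  simp only [pow_succ, pow_zero, one_mul, mul_assoc]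

/-- uniqueness of inverses -/
theorem inv_unique {a b c : R} (h1 : b * a = 1) (h2 : a * c = 1) : c = b := by
  calc c = (b * a) * c := by rw [h1, one_mul]
    _ = b * (a * c) := mul_assoc _ _ _
    _ = b := by rw [h2, mul_one]

theorem cube_eq_one {x : R} (hx : x * x + x + 1 = 0) : x ^ 3 = 1 := by
  have hxx := rel' hx
  have hxx' := rel'' hx
  have : x ^ 3 = x * (x * x) := by noncomm_ring
  rw [this, hxx]
  simp only [mul_sub, mul_neg, mul_one, hxx]
  abel

section basic

variable {M : Submonoid R} (hM : Fpf M)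
include hM

theorem isUnit_four : IsUnit (4 : R) := by
  have : (4 : R) = 2 * 2 := by norm_num
  rw [this]; exact hM.u2.mul hM.u2

/-- involutions of `M` -/
theorem invol {a : R} (ha : a ∈ M) (h : a * a = 1) : a = 1 ∨ a = -1 := by
  by_cases h1 : a = 1
  · exact Or.inl h1
  · right
    have hu := hM.fpf a ha 1 M.one_mem h1
    have h2 : (a - 1) * (a + 1) = 0 := by
      have : (a - 1) * (a + 1) = a * a - 1 := by noncomm_ring
      rw [this, h, sub_self]
    have h3 := (hu.mul_right_eq_zero).mp h2
    exact eq_neg_of_add_eq_zero_left h3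

/-- an element of `M` with `a ≠ 1` annihilated on the left by a unit difference -/
theorem cancel_sub_one {a s : R} (ha : a ∈ M) (h1 : a ≠ 1) (h : (a - 1) * s = 0) : s = 0 :=
  ((hM.fpf a ha 1 M.one_mem h1).mul_right_eq_zero).mp h

theorem order3 {a : R} (ha : a ∈ M) (h1 : a ≠ 1) (h : a * (a * a) = 1) : a * a + a + 1 = 0 := by
  apply cancel_sub_one hM ha h1
  have : (a - 1) * (a * a + a + 1) = a * (a * a) - 1 := by noncomm_ring
  rw [this, h, sub_self]

theorem order5 {a : R} (ha : a ∈ M) (h1 : a ≠ 1) (h : a * (a * (a * (a * a))) = 1) :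
    a * (a * (a * a)) + a * (a * a) + a * a + a + 1 = 0 := by
  apply cancel_sub_one hM ha h1
  have : (a - 1) * (a * (a * (a * a)) + a * (a * a) + a * a + a + 1)
      = a * (a * (a * (a * a))) - 1 := by noncomm_ring
  rw [this, h, sub_self]

/-- five is a unit as soon as `M` has an element of order five -/
theorem isUnit_five {a : R} (ha : a ∈ M) (h1 : a ≠ 1) (h : a * (a * (a * (a * a))) = 1) :
    IsUnit (5 : R) := by
  have h5 := order5 hM ha h1 h
  have r4 : a * (a * (a * a)) = -1 - a - a * a - a * (a * a) := by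
    have : a * (a * (a * a)) = (a * (a * (a * a)) + a * (a * a) + a * a + a + 1)
        - 1 - a - a * a - a * (a * a) := by abel
    rw [this, h5]; abel
  have r4' : ∀ z, a * (a * (a * (a * z))) = -z - a * z - a * (a * z) - a * (a * (a * z)) := by
    intro z
    have : a * (a * (a * (a * z))) = (a * (a * (a * a))) * z := by noncomm_ring
    rw [this, r4]; noncomm_ring
  have h2 : a * a ≠ 1 := by
    intro h2
    apply h1
    have : a * (a * (a * (a * a))) = a := by rw [h2, mul_one, h2, mul_one]
    rw [← this, h]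
  have h3 : a * (a * a) ≠ 1 := by
    intro h3
    apply h2
    have : a * (a * (a * (a * a))) = a * a := by
      have : a * (a * (a * (a * a))) = (a * (a * a)) * (a * a) := by noncomm_ring
      rw [this, h3, one_mul]
    rw [← this, h]
  have h4 : a * (a * (a * a)) ≠ 1 := by
    intro h4
    apply h1
    have : a * (a * (a * (a * a))) = a := by
      have : a * (a * (a * (a * a))) = (a * (a * (a * a))) * a := by noncomm_ring
      rw [this, h4, one_mul]
    rw [← this, h]
  have u1 : IsUnit (1 - a) := hM.fpf 1 M.one_mem a ha (Ne.symm h1)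
  have u2 : IsUnit (1 - a * a) := hM.fpf 1 M.one_mem _ (M.mul_mem ha ha) (Ne.symm h2)
  have u3 : IsUnit (1 - a * (a * a)) :=
    hM.fpf 1 M.one_mem _ (M.mul_mem ha (M.mul_mem ha ha)) (Ne.symm h3)
  have u4 : IsUnit (1 - a * (a * (a * a))) :=
    hM.fpf 1 M.one_mem _ (M.mul_mem ha (M.mul_mem ha (M.mul_mem ha ha))) (Ne.symm h4)
  have hprod : (1 - a) * (1 - a * a) * (1 - a * (a * a)) * (1 - a * (a * (a * a))) = 5 := by
    simp only [five_eq]
    simp only [mul_add, add_mul, mul_sub, sub_mul, mul_one, one_mul, mul_assoc, r4, r4',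
      mul_neg, neg_mul, neg_neg, neg_add_rev, neg_sub]
    abel
  rw [← hprod]
  exact ((u1.mul u2).mul u3).mul u4

end basic

/-- `g + g⁻¹` for `g = x y` -/
def tt (x y : R) : R := x * y + (1 + y) * (1 + x)

theorem bt_eq_tt (x y : R) : bt x y = 4 * tt x y - 2 := by
  unfold bt sv tt
  simp only [two_eq, four_eq]
  noncomm_ring

theorem gold_minus {g : R} (h : g * (g * (g * g)) - g * (g * g) + g * g - g + 1 = 0) :
    (g - g * (g * (g * g))) * (g - g * (g * (g * g))) - (g - g * (g * (g * g))) - 1 = 0 := by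
  have r4 : g * (g * (g * g)) = g * (g * g) - g * g + g - 1 := by
    have : g * (g * (g * g)) = (g * (g * (g * g)) - g * (g * g) + g * g - g + 1)
        + g * (g * g) - g * g + g - 1 := by abel
    rw [this, h]; abel
  have r4' : ∀ z, g * (g * (g * (g * z))) = g * (g * (g * z)) - g * (g * z) + g * z - z := by
    intro z
    have : g * (g * (g * (g * z))) = (g * (g * (g * g))) * z := by noncomm_ring
    rw [this, r4]; noncomm_ring
  simp only [mul_add, add_mul, mul_sub, sub_mul, mul_one, one_mul, mul_assoc, r4, r4',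
    mul_neg, neg_mul, neg_neg, neg_add_rev, neg_sub]
  abel

theorem gold_plus {g : R} (h : g * (g * (g * g)) + g * (g * g) + g * g + g + 1 = 0) :
    (g + g * (g * (g * g))) * (g + g * (g * (g * g))) + (g + g * (g * (g * g))) - 1 = 0 := by
  have r4 : g * (g * (g * g)) = -1 - g - g * g - g * (g * g) := by
    have : g * (g * (g * g)) = (g * (g * (g * g)) + g * (g * g) + g * g + g + 1)
        - 1 - g - g * g - g * (g * g) := by abel
    rw [this, h]; abel
  have r4' : ∀ z, g * (g * (g * (g * z))) = -z - g * z - g * (g * z) - g * (g * (g * z)) := by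
    intro z
    have : g * (g * (g * (g * z))) = (g * (g * (g * g))) * z := by noncomm_ring
    rw [this, r4]; noncomm_ring
  simp only [mul_add, add_mul, mul_sub, sub_mul, mul_one, one_mul, mul_assoc, r4, r4',
    mul_neg, neg_mul, neg_neg, neg_add_rev, neg_sub]
  abel

section main

variable [Nontrivial R] {M : Submonoid R} (hM : Fpf M)
include hM

theorem two_ne_zero' : (2 : R) ≠ 0 := hM.u2.ne_zero

theorem mul_ne_neg_one {x y : R} (hx : IsX M x) (hy : IsX M y) : x * y ≠ -1 := by
  obtain ⟨hxM, hx0⟩ := hx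
  obtain ⟨hyM, hy0⟩ := hy
  intro h
  have hxx := rel' hx0
  have hxx' := rel'' hx0
  -- `y = 1 + x`
  have hy1 : y = 1 + x := by
    have h1 : (x * x) * (x * y) = y := by
      have : (x * x) * (x * y) = x * (x * (x * y)) := by noncomm_ring
      rw [this]
      simp only [hxx', mul_sub, mul_neg]
      abel
    rw [h, hxx] at h1
    rw [← h1]; noncomm_ring
  rw [hy1] at hy0
  have h2 : (2 : R) * (1 + x) = 0 := by
    rw [← hy0]
    simp only [two_eq, mul_add, add_mul, mul_one, one_mul, hxx]
    abel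
  have h3 : 1 + x = 0 := (hM.u2.mul_right_eq_zero).mp h2
  have h4 : x = -1 := eq_neg_of_add_eq_zero_right h3
  rw [h4] at hx0
  have : (1 : R) = 0 := by
    rw [← hx0]; noncomm_ring
  exact one_ne_zero this

/-- the basic case analysis -/
theorem n1a {x y : R} (hx : IsX M x) (hy : IsX M y) :
    (x * y = 1 ∧ tt x y = 2) ∨ tt x y = 0 ∨ (tt x y = -1 ∧ y = x) ∨ tt x y = 1 ∨
      (tt x y * tt x y - tt x y - 1 = 0 ∧ IsUnit (5 : R)) ∨
      (tt x y * tt x y + tt x y - 1 = 0 ∧ IsUnit (5 : R)) := by
  have hgne := mul_ne_neg_one hM hx hy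
  obtain ⟨hxM, hx0⟩ := hx
  obtain ⟨hyM, hy0⟩ := hy
  have hxx := rel' hx0
  have hxx' := rel'' hx0
  have hyy := rel' hy0
  have hyy' := rel'' hy0
  have hg1 : (x * y) * ((1 + y) * (1 + x)) = 1 := by
    simp only [mul_add, add_mul, mul_sub, sub_mul, mul_one, one_mul, mul_assoc, hxx, hxx', hyy,
      hyy', mul_neg, neg_mul, neg_neg]
    abel
  have hg2 : ((1 + y) * (1 + x)) * (x * y) = 1 := by
    simp only [mul_add, add_mul, mul_sub, sub_mul, mul_one, one_mul, mul_assoc, hxx, hxx', hyy,
      hyy', mul_neg, neg_mul, neg_neg]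
    abel
  have hgM : x * y ∈ M := M.mul_mem hxM hyM
  set g := x * y with hg
  set gi := (1 + y) * (1 + x) with hgi
  have htt : tt x y = g + gi := rfl
  -- the six relation types
  have R1 : g = 1 → (g = 1 ∧ tt x y = 2) := by
    intro h
    refine ⟨h, ?_⟩
    have : gi = 1 := inv_unique (a := g) (b := 1) (by rw [h, one_mul]) hg1
    rw [htt, this, h]; norm_num
  have R2 : g * g = -1 → tt x y = 0 := by
    intro h
    have : -g = gi := inv_unique (a := g) hg2 (by rw [mul_neg, h, neg_neg])
    rw [htt, ← this]; abel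
  have R3 : g * g + g + 1 = 0 → tt x y = -1 := by
    intro h
    have : -1 - g = gi := inv_unique (a := g) hg2 (by
      rw [mul_sub, mul_neg, mul_one, rel' h]; abel)
    rw [htt, ← this]; abel
  have R4 : g * g - g + 1 = 0 → tt x y = 1 := by
    intro h
    have h' : g * g = g - 1 := by
      have : g * g = (g * g - g + 1) + g - 1 := by abel
      rw [this, h]; abel
    have : 1 - g = gi := inv_unique (a := g) hg2 (by rw [mul_sub, mul_one, h']; abel)
    rw [htt, ← this]; abel
  have R5 : g * (g * (g * (g * g))) = -1 → g * (g * (g * g)) - g * (g * g) + g * g - g + 1 = 0 →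
      tt x y * tt x y - tt x y - 1 = 0 := by
    intro h5 h
    have : -(g * (g * (g * g))) = gi := inv_unique (a := g) hg2 (by rw [mul_neg, h5, neg_neg])
    have e : tt x y = g - g * (g * (g * g)) := by rw [htt, ← this]; abel
    rw [e]
    exact gold_minus h
  have R6 : g * (g * (g * (g * g))) = 1 → g * (g * (g * g)) + g * (g * g) + g * g + g + 1 = 0 →
      tt x y * tt x y + tt x y - 1 = 0 := by
    intro h5 h
    have : g * (g * (g * g)) = gi := inv_unique (a := g) hg2 h5
    have e : tt x y = g + g * (g * (g * g)) := by rw [htt, ← this]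
    rw [e]
    exact gold_plus h
  -- `y = x` in the case `R3`
  have R3' : tt x y = -1 → y = x := by
    intro h
    by_contra hne
    have hu := hM.fpf x hxM y hyM (Ne.symm hne)
    have h1 : (4 : R) * ((x - y) * (x - y)) = -6 - bt x y := by
      unfold bt sv
      simp only [two_eq, four_eq, six_eq]
      simp only [mul_add, add_mul, mul_sub, sub_mul, mul_one, one_mul, mul_assoc, hxx, hxx', hyy,
        hyy', mul_neg, neg_mul, neg_neg, neg_add_rev, neg_sub]
      abel
    rw [bt_eq_tt, h] at h1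
    have h2 : (4 : R) * ((x - y) * (x - y)) = 0 := by rw [h1]; norm_num
    have h3 := ((isUnit_four hM).mul_right_eq_zero).mp h2
    have h4 := (hu.mul_right_eq_zero).mp h3
    exact hne (sub_eq_zero.mp h4).symm
  -- now the cases
  have hx3 := cube_eq_one hx0
  have hy3 := cube_eq_one hy0
  have hneg1 : ∀ a ∈ M, a * a = 1 → a ≠ 1 → ((-1 : R) ∈ M ∧ a = -1) := by
    intro a ha h h1
    rcases invol hM ha h with h2 | h2
    · exact absurd h2 h1
    · exact ⟨h2 ▸ ha, h2⟩
  rcases hM.n1 x hxM y hyM hx3 hy3 with h | h | h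
  · -- order dividing 4
    have h' : (g * g) * (g * g) = 1 := by
      rw [← pow4]; exact h
    rcases invol hM (M.mul_mem hgM hgM) h' with h2 | h2
    · rcases invol hM hgM h2 with h3 | h3
      · exact Or.inl (R1 h3)
      · exact absurd h3 hgne
    · exact Or.inr (Or.inl (R2 h2))
  · -- order dividing 6
    have h' : (g * (g * g)) * (g * (g * g)) = 1 := by
      rw [← pow6]; exact h
    have hg3M : g * (g * g) ∈ M := M.mul_mem hgM (M.mul_mem hgM hgM)
    rcases invol hM hg3M h' with h2 | h2
    · by_cases h1 : g = 1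
      · exact Or.inl (R1 h1)
      · have h3 := order3 hM hgM h1 h2
        exact Or.inr (Or.inr (Or.inl ⟨R3 h3, R3' (R3 h3)⟩))
    · have hm1 : (-1 : R) ∈ M := h2 ▸ hg3M
      have haM : -g ∈ M := by
        have := M.mul_mem hm1 hgM
        simpa using this
      have ha1 : -g ≠ 1 := fun h => hgne (by rw [← h, neg_neg])
      have ha3 : (-g) * ((-g) * (-g)) = 1 := by
        simp only [neg_mul, mul_neg, neg_neg, h2]
      have h3 := order3 hM haM ha1 ha3
      have h4 : g * g - g + 1 = 0 := by
        rw [← h3]; noncomm_ring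
      exact Or.inr (Or.inr (Or.inr (Or.inl (R4 h4))))
  · -- order dividing 10
    have h' : (g * (g * (g * (g * g)))) * (g * (g * (g * (g * g)))) = 1 := by
      rw [← pow10]; exact h
    have hg5M : g * (g * (g * (g * g))) ∈ M :=
      M.mul_mem hgM (M.mul_mem hgM (M.mul_mem hgM (M.mul_mem hgM hgM)))
    rcases invol hM hg5M h' with h2 | h2
    · by_cases h1 : g = 1
      · exact Or.inl (R1 h1)
      · have h3 := order5 hM hgM h1 h2
        exact Or.inr (Or.inr (Or.inr (Or.inr (Or.inr ⟨R6 h2 h3, isUnit_five hM hgM h1 h2⟩))))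
    · have hm1 : (-1 : R) ∈ M := h2 ▸ hg5M
      have haM : -g ∈ M := by
        have := M.mul_mem hm1 hgM
        simpa using this
      have ha1 : -g ≠ 1 := fun h => hgne (by rw [← h, neg_neg])
      have ha5 : (-g) * ((-g) * ((-g) * ((-g) * (-g)))) = 1 := by
        simp only [neg_mul, mul_neg, neg_neg, h2]
      have h3 := order5 hM haM ha1 ha5
      have h4 : g * (g * (g * g)) - g * (g * g) + g * g - g + 1 = 0 := by
        rw [← h3]; noncomm_ring
      exact Or.inr (Or.inr (Or.inr (Or.inr (Or.inl ⟨R5 h2 h4, isUnit_five hM haM ha1 ha5⟩))))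

end main

theorem sixteen_eq : (16 : R) =
    1 + 1 + 1 + 1 + 1 + 1 + 1 + 1 + 1 + 1 + 1 + 1 + 1 + 1 + 1 + 1 := by norm_num

theorem isX_sq {M : Submonoid R} {y : R} (hy : IsX M y) : IsX M (y * y) := by
  obtain ⟨hyM, hy0⟩ := hy
  refine ⟨M.mul_mem hyM hyM, ?_⟩
  have hyy := rel' hy0
  have hyy' := rel'' hy0
  simp only [mul_add, add_mul, mul_sub, sub_mul, mul_one, one_mul, mul_assoc, hyy, hyy',
    mul_neg, neg_mul, neg_neg, neg_add_rev, neg_sub]
  abel

theorem bt_sq_right {x y : R} (hy0 : y * y + y + 1 = 0) : bt x (y * y) = - bt x y := by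
  have hyy := rel' hy0
  have hyy' := rel'' hy0
  unfold bt sv
  simp only [two_eq]
  simp only [mul_add, add_mul, mul_sub, sub_mul, mul_one, one_mul, mul_assoc, hyy, hyy',
    mul_neg, neg_mul, neg_neg, neg_add_rev, neg_sub]
  abel

theorem isX_conj {M : Submonoid R} {x y : R} (hx : IsX M x) (hy : IsX M y) :
    IsX M (x * y * (x * x)) := by
  obtain ⟨hxM, hx0⟩ := hx
  obtain ⟨hyM, hy0⟩ := hy
  refine ⟨M.mul_mem (M.mul_mem hxM hyM) (M.mul_mem hxM hxM), ?_⟩
  have hxx := rel' hx0
  have hxx' := rel'' hx0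
  have hyy := rel' hy0
  have hyy' := rel'' hy0
  simp only [mul_add, add_mul, mul_sub, sub_mul, mul_one, one_mul, mul_assoc, hxx, hxx', hyy, hyy',
    mul_neg, neg_mul, neg_neg, neg_add_rev, neg_sub]
  abel

theorem bt_conj {x y : R} (hx : x * x + x + 1 = 0) (hy : y * y + y + 1 = 0) :
    4 * bt y (x * y * (x * x)) + bt x y * bt x y = 12 := by
  have hxx := rel' hx
  have hxx' := rel'' hx
  have hyy := rel' hy
  have hyy' := rel'' hy
  unfold bt sv
  simp only [two_eq, four_eq, twelve_eq]
  simp only [mul_add, add_mul, mul_sub, sub_mul, mul_one, one_mul, mul_assoc, hxx, hxx', hyy, hyy',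
    mul_neg, neg_mul, neg_neg, neg_add_rev, neg_sub]
  abel

/-- PIECE N1B, first part -/
theorem n1b {M : Submonoid R} (hM : Fpf M) {x y : R} (hx : IsX M x) (hy : IsX M y) :
    (bt x y = -6 ∧ y = x) ∨ (bt x y = 6 ∧ x * y = 1) ∨ bt x y = 2 ∨ bt x y = -2 ∨
      (bt x y * bt x y = 20 ∧ IsUnit (5 : R)) := by
  rcases subsingleton_or_nontrivial R with hs | hn
  · exact Or.inr (Or.inr (Or.inl (Subsingleton.elim _ _)))
  have hbt := bt_eq_tt x y
  have hneg : (-1 : R) ≠ 0 := by
    intro h
    exact one_ne_zero (neg_eq_zero.mp h)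
  rcases n1a hM hx hy with ⟨h1, h2⟩ | h2 | ⟨h2, h3⟩ | h2 | ⟨h2, h5⟩ | ⟨h2, h5⟩
  · refine Or.inr (Or.inl ⟨?_, h1⟩)
    rw [hbt, h2]; norm_num
  · refine Or.inr (Or.inr (Or.inr (Or.inl ?_)))
    rw [hbt, h2]; norm_num
  · refine Or.inl ⟨?_, h3⟩
    rw [hbt, h2]; norm_num
  · refine Or.inr (Or.inr (Or.inl ?_))
    rw [hbt, h2]; norm_num
  · refine Or.inr (Or.inr (Or.inr (Or.inr ⟨?_, h5⟩)))
    rw [hbt]
    set t := tt x y with ht
    have htt : t * t = t + 1 := by
      have : t * t = (t * t - t - 1) + t + 1 := by abel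
      rw [this, h2]; abel
    have htt' : ∀ z, t * (t * z) = t * z + z := by
      intro z
      rw [← mul_assoc, htt]; noncomm_ring
    simp only [two_eq, four_eq, twenty_eq]
    simp only [mul_add, add_mul, mul_sub, sub_mul, mul_one, one_mul, mul_assoc, htt, htt',
      mul_neg, neg_mul, neg_neg, neg_add_rev, neg_sub]
    abel
  · -- the impossible case: `x y` of order five
    exfalso
    obtain ⟨hyM, hy0⟩ := hy
    have hy' := isX_sq (M := M) ⟨hyM, hy0⟩
    have hb' := bt_sq_right (x := x) hy0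
    have hbt' := bt_eq_tt x (y * y)
    set t := tt x y with ht
    set t' := tt x (y * y) with ht'
    -- `t' = 1 - t`
    have e0 : (4 : R) * (t' + t - 1) = 0 := by
      have : (4 : R) * (t' + t - 1) = (4 * t' - 2) + (4 * t - 2) := by
        simp only [two_eq, four_eq]; noncomm_ring
      rw [this, ← hbt', ← hbt, hb']; abel
    have e1 : t' + t - 1 = 0 := ((isUnit_four hM).mul_right_eq_zero).mp e0
    have e2 : t' = 1 - t := by
      have : t' = (t' + t - 1) + (1 - t) := by abel
      rw [this, e1, zero_add]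
    have e3 : t = 1 - t' := by rw [e2]; abel
    rcases n1a hM hx hy' with ⟨-, h⟩ | h | ⟨h, -⟩ | h | ⟨h, -⟩ | ⟨h, -⟩
    · -- t' = 2
      rw [e3, show t' = _ from h] at h2
      apply hneg
      rw [← h2]; norm_num
    · -- t' = 0
      rw [e3, show t' = _ from h] at h2
      apply one_ne_zero (α := R)
      rw [← h2]; norm_num
    · -- t' = -1
      rw [e3, show t' = _ from h] at h2
      apply h5.ne_zero
      rw [← h2]; norm_num
    · -- t' = 1
      rw [e3, show t' = _ from h] at h2
      apply hneg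
      rw [← h2]; norm_num
    · -- t'^2 - t' - 1 = 0
      have h' : t' * t' - t' - 1 = 0 := h
      have e4 : t * t - t - 1 = 0 := by
        rw [← h', e2]; noncomm_ring
      have e5 : (2 : R) * t = 0 := by
        have : (2 : R) * t = (t * t + t - 1) - (t * t - t - 1) := by
          simp only [two_eq]; noncomm_ring
        rw [this, h2, e4, sub_zero]
      have e6 : t = 0 := (hM.u2.mul_right_eq_zero).mp e5
      rw [e6] at h2
      apply hneg
      rw [← h2]; norm_num
    · -- t'^2 + t' - 1 = 0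
      have h' : t' * t' + t' - 1 = 0 := h
      have e4 : t * t - 3 * t + 1 = 0 := by
        rw [← h', e2]; simp only [three_eq]; noncomm_ring
      have e5 : (2 : R) * (2 * t - 1) = 0 := by
        have : (2 : R) * (2 * t - 1) = (t * t + t - 1) - (t * t - 3 * t + 1) := by
          simp only [two_eq, three_eq]; noncomm_ring
        rw [this, h2, e4, sub_zero]
      have e6 : 2 * t - 1 = 0 := (hM.u2.mul_right_eq_zero).mp e5
      have e7 : (2 : R) * t = 1 := sub_eq_zero.mp e6
      have e8 : (4 : R) * (t * t + t - 1) = (2 * t) * (2 * t) + 2 * (2 * t) - 4 := by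
        simp only [two_eq, four_eq]; noncomm_ring
      rw [h2, e7] at e8
      apply hneg
      have : (-1 : R) = 1 * 1 + 2 * 1 - 4 := by norm_num
      rw [this, ← e8, mul_zero]

/-- PIECE N1B, second part -/
theorem exists_pair_neg_two {M : Submonoid R} (hM : Fpf M) {x y : R} (hx : IsX M x)
    (hy : IsX M y) (hne : y ≠ x) (hne' : x * y ≠ 1) :
    ∃ x' y' : R, IsX M x' ∧ IsX M y' ∧ bt x' y' = -2 := by
  rcases n1b hM hx hy with ⟨-, h⟩ | ⟨-, h⟩ | h | h | ⟨h, h5⟩
  · exact absurd h hne
  · exact absurd h hne'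
  · refine ⟨x, y * y, hx, isX_sq hy, ?_⟩
    rw [bt_sq_right hy.2, h]
  · exact ⟨x, y, hx, hy, h⟩
  · refine ⟨y, x * y * (x * x), hy, isX_conj hx hy, ?_⟩
    have h1 := bt_conj hx.2 hy.2
    rw [h] at h1
    have h2 : (4 : R) * (bt y (x * y * (x * x)) + 2) = 0 := by
      have : (4 : R) * (bt y (x * y * (x * x)) + 2) = (4 * bt y (x * y * (x * x)) + 20) - 12 := by
        rw [mul_add, add_sub_assoc]
        congr 1
        norm_num
      rw [this, h1, sub_self]
    have h3 := ((isUnit_four hM).mul_right_eq_zero).mp h2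
    exact eq_neg_of_add_eq_zero_left h3

end Cfsg.Agent.Helper19.ZassN1B
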