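import Mathlib
import Cfsg.Agent.Lib.Helper3.BSWDefs

/-!
# S3282 piece CENTB1, core (helper19 for helper3): `y ∈ R1` ⟹ `C(y)` is self-centralizing, abelian of order `k-1`,
inverted by an involution, and `C(y)# ⊆ R1`.  The inputs from the pieces REALC, RCENT, VALSB are hypotheses.
-/

set_option autoImplicit false
set_option linter.unusedSectionVars false
set_option linter.unusedVariables false
set_option linter.style.haveILetI false

namespace Cfsg.Agent.Helper3.BSW

universe u

variable {G : Type u} [Group G] [Fintype G] {t s : G} {K : Subgroup G} {St : G → ℤ}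

namespace CENTB1

theorem two_le_card_K (h : Hyp t s K) : 2 ≤ Nat.card K := by
  have hnt : Nontrivial K := by
    refine ⟨⟨⟨t, h.htK⟩, 1, ?_⟩⟩
    intro h1
    have : t = 1 := congrArg Subtype.val h1
    have h2 := h.ht
    rw [this, orderOf_one] at h2
    omega
  exact Finite.one_lt_card_iff_nontrivial.mpr hnt

theorem rc_pos_of_inverts {x u : G} (hu : orderOf u = 2) (hux : u * x * u⁻¹ = x⁻¹) : 0 < rc x := by
  unfold rc
  haveI : Nonempty {u : G // orderOf u = 2 ∧ u * x * u⁻¹ = x⁻¹} := ⟨⟨u, hu, hux⟩⟩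
  exact Nat.card_pos

theorem exists_of_rc_pos {x : G} (hpos : 0 < rc x) : ∃ u : G, orderOf u = 2 ∧ u * x * u⁻¹ = x⁻¹ := by
  unfold rc at hpos
  by_contra hne
  haveI : IsEmpty {u : G // orderOf u = 2 ∧ u * x * u⁻¹ = x⁻¹} := ⟨fun u => hne ⟨u.1, u.2⟩⟩
  rw [Nat.card_of_isEmpty] at hpos
  exact lt_irrefl 0 hpos

/-- CENTB1 with the inputs from REALC (`real_cent`), RCENT (`inR_of_mem_cent`), VALSB (`stB_vals`) as hypotheses -/
theorem cent_B1_core (h : Hyp t s K) (hB : StB K St)
    (hreal : ∀ {y u : G}, InR K y → orderOf u = 2 → u * y * u⁻¹ = y⁻¹ →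
      (∀ c ∈ Subgroup.centralizer ({y} : Set G), u * c * u⁻¹ = c⁻¹) ∧
      (∀ a ∈ Subgroup.centralizer ({y} : Set G), ∀ b ∈ Subgroup.centralizer ({y} : Set G),
        a * b = b * a) ∧
      rc y = Nat.card (Subgroup.centralizer ({y} : Set G)))
    (hrcent : ∀ {y x : G}, InR K y → x ∈ Subgroup.centralizer ({y} : Set G) → x ≠ 1 → InR K x)
    (hvals : ∀ {y : G}, InR K y → St y = 0 ∨ St y = 1)
    {y : G} (hy : InR K y) (h1 : St y = 1) :
    ∃ u : G, orderOf u = 2 ∧ (∀ c ∈ Subgroup.centralizer ({y} : Set G), u * c * u⁻¹ = c⁻¹) ∧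
      SelfCent (Subgroup.centralizer ({y} : Set G)) ∧
      Nat.card (Subgroup.centralizer ({y} : Set G)) + 1 = Nat.card K ∧
      ∀ x ∈ Subgroup.centralizer ({y} : Set G), x ≠ 1 → InR K x ∧ St x = 1 := by
  have hk := two_le_card_K h
  have hrcy : (rc y : ℤ) = (Nat.card K : ℤ) - 1 := by
    have := hB.rform y hy
    rw [h1, mul_one] at this
    exact this
  have hpos : 0 < rc y := by
    have : (0 : ℤ) < (rc y : ℤ) := by rw [hrcy]; omega
    exact_mod_cast this
  obtain ⟨u, hu, huy⟩ := exists_of_rc_pos hpos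
  obtain ⟨hinv, hab, hrc⟩ := hreal hy hu huy
  have hcardy : (Nat.card (Subgroup.centralizer ({y} : Set G)) : ℤ) = (Nat.card K : ℤ) - 1 := by
    rw [← hrc]; exact hrcy
  -- elements of `C(y)#`
  have hx_all : ∀ x ∈ Subgroup.centralizer ({y} : Set G), x ≠ 1 →
      InR K x ∧ St x = 1 ∧ u * x * u⁻¹ = x⁻¹ := by
    intro x hx hx1
    have hxR := hrcent hy hx hx1
    have hux := hinv x hx
    have hposx := rc_pos_of_inverts hu hux
    refine ⟨hxR, ?_, hux⟩
    rcases hvals hxR with h0 | h1'
    · exfalso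
      have := hB.rform x hxR
      rw [h0, mul_zero] at this
      have : rc x = 0 := by exact_mod_cast this
      omega
    · exact h1'
  refine ⟨u, hu, hinv, ?_, by omega, fun x hx hx1 => ⟨(hx_all x hx hx1).1, (hx_all x hx hx1).2.1⟩⟩
  -- self-centralizing
  intro x hx hx1
  obtain ⟨hxR, hSt, hux⟩ := hx_all x hx hx1
  obtain ⟨-, -, hrcx⟩ := hreal hxR hu hux
  have hcardx : (Nat.card (Subgroup.centralizer ({x} : Set G)) : ℤ) = (Nat.card K : ℤ) - 1 := by
    rw [← hrcx]
    have := hB.rform x hxR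
    rw [hSt, mul_one] at this
    exact this
  have hle : Subgroup.centralizer ({y} : Set G) ≤ Subgroup.centralizer ({x} : Set G) := by
    intro c hc
    rw [Subgroup.mem_centralizer_singleton_iff]
    exact hab c hc x hx
  have hcard : Nat.card (Subgroup.centralizer ({x} : Set G)) ≤
      Nat.card (Subgroup.centralizer ({y} : Set G)) := by
    have : (Nat.card (Subgroup.centralizer ({x} : Set G)) : ℤ) =
        (Nat.card (Subgroup.centralizer ({y} : Set G)) : ℤ) := by rw [hcardx, hcardy]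
    have : Nat.card (Subgroup.centralizer ({x} : Set G)) =
        Nat.card (Subgroup.centralizer ({y} : Set G)) := by exact_mod_cast this
    exact this.le
  exact (Subgroup.eq_of_le_of_card_ge hle hcard).symm

end CENTB1

end Cfsg.Agent.Helper3.BSW
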