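import Mathlib
import Cfsg.Agent.Lib.Helper3.BSWDefs

/-!
# S3282 piece CARDKK, core (helper19 for helper3): `2k |KK| = |G| (k-1)`, with `|C(t)| = 2k` as a hypothesis.
-/

set_option autoImplicit false
set_option linter.unusedSectionVars false
set_option linter.unusedVariables false

namespace Cfsg.Agent.Helper3.BSW

universe u

variable {G : Type u} [Group G] [Finite G] {t s : G} {K : Subgroup G}

namespace CARDKK

/-- the TI property: `x ∈ K#`, `g x g⁻¹ ∈ K` gives `g ∈ C(t)` -/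
theorem mem_cent_of_conj_mem (h : Hyp t s K) {x g : G} (hx : x ∈ K) (h1 : x ≠ 1)
    (hg : g * x * g⁻¹ ∈ K) : g ∈ Subgroup.centralizer ({t} : Set G) := by
  by_contra hn
  have hti := h.hTI g hn
  have hmem : g * x * g⁻¹ ∈ K ⊓ K.map (MulAut.conj g).toMonoidHom := by
    rw [Subgroup.mem_inf]
    refine ⟨hg, ?_⟩
    rw [Subgroup.mem_map]
    exact ⟨x, hx, by simp [MulAut.conj_apply]⟩
  rw [hti, Subgroup.mem_bot] at hmem
  apply h1
  have : x = g⁻¹ * (g * x * g⁻¹) * g := by group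
  rw [this, hmem]; group

theorem s_inv (h : Hyp t s K) : s⁻¹ = s := by
  have h2 : s ^ 2 = 1 := by rw [← h.hs]; exact pow_orderOf_eq_one s
  have : s * s = 1 := by rw [← pow_two]; exact h2
  exact inv_eq_of_mul_eq_one_right this

/-- `C(t)` normalizes `K` -/
theorem cent_le_normalizer (h : Hyp t s K) :
    Subgroup.centralizer ({t} : Set G) ≤ Subgroup.normalizer (K : Set G) := by
  rw [← h.hH]
  refine sup_le Subgroup.le_normalizer ?_
  rw [Subgroup.zpowers_le]
  rw [Subgroup.mem_normalizer_iff]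
  intro x
  constructor
  · intro hx
    rw [h.hinv x hx]; exact K.inv_mem hx
  · intro hx
    have h1 := h.hinv _ hx
    have hsi := s_inv h
    rw [hsi] at h1 hx
    have h2 : s * (s * x * s) * s = (s * s) * x * (s * s) := by group
    have hss : s * s = 1 := by
      have := mul_inv_cancel s
      rwa [hsi] at this
    rw [h2, hss, one_mul, mul_one] at h1
    have : x = (s * x * s)⁻¹ := h1
    rw [this]; exact K.inv_mem hx

theorem conj_mem_of_mem_cent (h : Hyp t s K) {c x : G} (hc : c ∈ Subgroup.centralizer ({t} : Set G))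
    (hx : x ∈ K) : c⁻¹ * x * c ∈ K := by
  have hn := cent_le_normalizer h hc
  have hn' := (Subgroup.normalizer (K : Set G)).inv_mem hn
  rw [Subgroup.mem_normalizer_iff] at hn'
  have := (hn' x).mp hx
  simpa using this

/-- `|K#| = k - 1` -/
theorem card_KS (K : Subgroup G) : Nat.card {x : G // x ∈ K ∧ x ≠ 1} = Nat.card K - 1 := by
  classical
  have e1 : {x : G // x ∈ K ∧ x ≠ 1} ≃ {b : K // b ≠ 1} :=
    { toFun := fun x => ⟨⟨x.1, x.2.1⟩, fun hb => x.2.2 (congrArg Subtype.val hb)⟩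
      invFun := fun b => ⟨b.1.1, b.1.2, fun hb => b.2 (Subtype.ext hb)⟩
      left_inv := fun x => rfl
      right_inv := fun b => rfl }
  have e2 : Option {b : K // b ≠ 1} ≃ K := Equiv.optionSubtypeNe 1
  have h2 : Nat.card K = Nat.card {b : K // b ≠ 1} + 1 := by
    rw [← Nat.card_congr e2, Finite.card_option]
  rw [Nat.card_congr e1, h2, Nat.add_sub_cancel]

/-- chosen conjugating element -/
noncomputable def cf (K : Subgroup G) (y : {y : G // InKK K y}) : G := Classical.choose y.2.2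

theorem cf_spec (K : Subgroup G) (y : {y : G // InKK K y}) : cf K y * y.1 * (cf K y)⁻¹ ∈ K :=
  Classical.choose_spec y.2.2

theorem cf_ne_one (K : Subgroup G) (y : {y : G // InKK K y}) : cf K y * y.1 * (cf K y)⁻¹ ≠ 1 := by
  intro h1
  apply y.2.1
  have : y.1 = (cf K y)⁻¹ * (cf K y * y.1 * (cf K y)⁻¹) * cf K y := by group
  rw [this, h1]; group

/-- the bijection `G × K# ≃ KK × C(t)` -/
noncomputable def mainEquiv (h : Hyp t s K) :
    (G × {x : G // x ∈ K ∧ x ≠ 1}) ≃
      ({y : G // InKK K y} × Subgroup.centralizer ({t} : Set G)) where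
  toFun p :=
    let y : {y : G // InKK K y} := ⟨p.1 * p.2.1 * p.1⁻¹, by
      refine ⟨?_, p.1⁻¹, ?_⟩
      · intro h1
        apply p.2.2.2
        have : p.2.1 = p.1⁻¹ * (p.1 * p.2.1 * p.1⁻¹) * p.1 := by group
        rw [this, h1]; group
      · have : p.1⁻¹ * (p.1 * p.2.1 * p.1⁻¹) * p.1⁻¹⁻¹ = p.2.1 := by group
        rw [this]; exact p.2.2.1⟩
    (y, ⟨cf K y * p.1, by
      apply mem_cent_of_conj_mem h p.2.2.1 p.2.2.2
      have : cf K y * p.1 * p.2.1 * (cf K y * p.1)⁻¹ = cf K y * y.1 * (cf K y)⁻¹ := by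
        show cf K y * p.1 * p.2.1 * (cf K y * p.1)⁻¹ = cf K y * (p.1 * p.2.1 * p.1⁻¹) * (cf K y)⁻¹
        group
      rw [this]; exact cf_spec K y⟩)
  invFun q :=
    ((cf K q.1)⁻¹ * q.2.1,
      ⟨q.2.1⁻¹ * (cf K q.1 * q.1.1 * (cf K q.1)⁻¹) * q.2.1,
        conj_mem_of_mem_cent h q.2.2 (cf_spec K q.1), by
        intro h1
        apply cf_ne_one K q.1
        have : cf K q.1 * q.1.1 * (cf K q.1)⁻¹ =
            q.2.1 * (q.2.1⁻¹ * (cf K q.1 * q.1.1 * (cf K q.1)⁻¹) * q.2.1) * q.2.1⁻¹ := by group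
        rw [this, h1]; group⟩)
  left_inv p := by
    obtain ⟨g, x, hxK, hx1⟩ := p
    refine Prod.ext ?_ (Subtype.ext ?_)
    · show (cf K _)⁻¹ * (cf K _ * g) = g
      group
    · show (cf K _ * g)⁻¹ * (cf K _ * (g * x * g⁻¹) * (cf K _)⁻¹) * (cf K _ * g) = x
      group
  right_inv q := by
    obtain ⟨y, c, hc⟩ := q
    have hy : (⟨(cf K y)⁻¹ * c * (c⁻¹ * (cf K y * y.1 * (cf K y)⁻¹) * c) * ((cf K y)⁻¹ * c)⁻¹, by
        rw [show (cf K y)⁻¹ * c * (c⁻¹ * (cf K y * y.1 * (cf K y)⁻¹) * c) * ((cf K y)⁻¹ * c)⁻¹ = y.1 by group]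
        exact y.2⟩ : {y : G // InKK K y}) = y := by
      apply Subtype.ext
      show (cf K y)⁻¹ * c * (c⁻¹ * (cf K y * y.1 * (cf K y)⁻¹) * c) * ((cf K y)⁻¹ * c)⁻¹ = y.1
      group
    refine Prod.ext ?_ (Subtype.ext ?_)
    · exact hy
    · show cf K _ * ((cf K y)⁻¹ * c) = c
      have := congrArg (cf K) hy
      rw [this]; group

/-- CARDKK with `|C(t)| = 2k` as a hypothesis -/
theorem card_KK_core (h : Hyp t s K)
    (hH : Nat.card (Subgroup.centralizer ({t} : Set G)) = 2 * Nat.card K) :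
    2 * Nat.card K * Nat.card {y : G // InKK K y} = Nat.card G * (Nat.card K - 1) := by
  have e := Nat.card_congr (mainEquiv h)
  rw [Nat.card_prod, Nat.card_prod, card_KS K, hH] at e
  rw [e]; ring

end CARDKK

end Cfsg.Agent.Helper3.BSW
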