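import Mathlib
import Cfsg.Agent.Lib.Helper3.BSWDefs
import Cfsg.Agent.Lib.Helper8.BSWREALC
import Cfsg.Agent.Lib.Helper8.BSWRCENT
import Cfsg.Agent.Lib.Helper19.BSWCENTB1Core
import Cfsg.Agent.Lib.Helper25.BSWVALSB

/-!
# S3282 piece CENTB1 (helper19 for helper3)
-/

set_option autoImplicit false
set_option linter.unusedSectionVars false
set_option linter.unusedVariables false

namespace Cfsg.Agent.Helper3.BSW

universe u

variable {G : Type u} [Group G] [Fintype G] {t s : G} {K : Subgroup G} {St : G → ℤ}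

/-- PIECE CENTB1 (IIB2). -/
theorem cent_B1 (h : Hyp t s K) (hB : StB K St) {y : G} (hy : InR K y) (h1 : St y = 1) :
    ∃ u : G, orderOf u = 2 ∧ (∀ c ∈ Subgroup.centralizer ({y} : Set G), u * c * u⁻¹ = c⁻¹) ∧
      SelfCent (Subgroup.centralizer ({y} : Set G)) ∧
      Nat.card (Subgroup.centralizer ({y} : Set G)) + 1 = Nat.card K ∧
      ∀ x ∈ Subgroup.centralizer ({y} : Set G), x ≠ 1 → InR K x ∧ St x = 1 :=
  CENTB1.cent_B1_core h hB (fun hy hu huy => real_cent h hy hu huy)
    (fun hy hx hx1 => inR_of_mem_cent h hy hx hx1) (fun hy => stB_vals h hB hy) hy h1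

end Cfsg.Agent.Helper3.BSW
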