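import Mathlib
import Cfsg.Agent.Lib.Helper13.G2IDefs
import Cfsg.Agent.Lib.Helper13.G2I_BASE1B
import Cfsg.Agent.Lib.Helper13.G2TCHIA
import Cfsg.Agent.Lib.Helper28.G2TCHIC
import Cfsg.Agent.Lib.Lead.TwCore

/-!
# S4278 / S4279 (helper13's farm-out), PIECE BASE2B (helper19): the two `SL₂`'s embed

`phiL`, `phiS` are injective: by the explicit Bruhat formula of `phi`, an element of the kernel with lower left
entry `0` gives `x_r(ab) h_r(a) = 1`, hence `a = 1`, `b = 0` (`U ∩ T = 1`); lower left entry `c ≠ 0` gives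
`n_r ∈ T X_r`, hence `x_{-r}(-1) = x_r(c²)`, which is absurd.
-/

set_option autoImplicit false
set_option linter.unusedSectionVars false
set_option linter.unusedVariables false
set_option linter.style.haveILetI false

namespace Cfsg.Agent.Helper13.G2I

open Cfsg Cfsg.Lie Cfsg.Agent.Lead.Chev Cfsg.Agent.Helper11.G2T Cfsg.Agent.Helper6.SL2Hom
  Cfsg.Agent.Helper6.ChevL Matrix

variable {F : Type*} [Field F]

/-- abstract injectivity criterion for helper6's `RankOne.hom` -/
theorem base2b_inj {G : Type*} [Group G] {X Y : F → G} (h : RankOne X Y)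
    (ha : ∀ t s : F, s ≠ 0 → X t * hh X Y s = 1 → s = 1 ∧ t = 0)
    (hb : ∀ w : F, Y (-1) ≠ X w) : Function.Injective h.hom := by
  rw [injective_iff_map_eq_one]
  intro A hA
  have hA' : phi X Y A = 1 := hA
  have hd := det_eq A
  unfold phi at hA'
  by_cases hc : A 1 0 = 0
  · rw [if_pos hc] at hA'
    rw [hc, mul_zero, sub_zero] at hd
    have ha0 : A 0 0 ≠ 0 := by
      intro h0
      rw [h0, zero_mul] at hd
      exact zero_ne_one hd
    obtain ⟨h1, h2⟩ := ha _ _ ha0 hA'
    rw [h1, one_mul] at h2 hd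
    apply Matrix.SpecialLinearGroup.ext
    intro i j
    fin_cases i <;> fin_cases j
    · simpa using h1
    · simpa using h2
    · simpa using hc
    · simpa using hd
  · exfalso
    rw [if_neg hc] at hA'
    set c := A 1 0 with hcdef
    set s : F := -c⁻¹ with hs
    have hs0 : s ≠ 0 := neg_ne_zero.2 (inv_ne_zero hc)
    -- `n = H⁻¹ X(p)`
    have e1 : nn X Y = (hh X Y s)⁻¹ * X (-(A 0 0 / c) + -(A 1 1 / c)) := by
      rw [← h.xadd, ← h.x_inv, ← h.x_inv]
      have : X (A 0 0 / c) * hh X Y s * nn X Y * X (A 1 1 / c) * (X (A 1 1 / c))⁻¹ = (X (A 1 1 / c))⁻¹ := by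
        rw [hA', one_mul]
      rw [mul_inv_cancel_right] at this
      rw [← this]
      group
    set p : F := -(A 0 0 / c) + -(A 1 1 / c) with hp
    have e2 : Y (-1) = (hh X Y s)⁻¹ * X 1 * hh X Y s := by
      rw [← h.nconj 1]
      rw [e1]
      have e3 : X p * X 1 * (X p)⁻¹ = X 1 := by
        rw [h.x_inv, h.xadd, h.xadd]
        congr 1
        ring
      calc (hh X Y s)⁻¹ * X p * X 1 * ((hh X Y s)⁻¹ * X p)⁻¹
          = (hh X Y s)⁻¹ * (X p * X 1 * (X p)⁻¹) * hh X Y s := by group
        _ = (hh X Y s)⁻¹ * X 1 * hh X Y s := by rw [e3]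
    have e4 : (hh X Y s)⁻¹ * X 1 * hh X Y s = X ((s ^ 2)⁻¹) := by
      have := h.hconj s hs0 ((s ^ 2)⁻¹)
      rw [mul_inv_cancel₀ (pow_ne_zero 2 hs0)] at this
      rw [← this]
      group
    exact hb _ (e2.trans e4)

theorem base2b_pos11 : chevG2.IsPosRoot 11 := by decide
theorem base2b_pos7 : chevG2.IsPosRoot 7 := by decide

/-- `x_r(t) h = 1` with `r` positive and `h ∈ T` forces `t = 0`, `h = 1` -/
theorem base2b_xh (r : ℕ) (hr : chevG2.IsPosRoot r) (t : F) (h : GL chevG2.Idx F) (hh' : h ∈ TT F)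
    (e : X F r t * h = 1) : t = 0 ∧ h = 1 := by
  have e1 : X F r t = h⁻¹ := eq_inv_of_mul_eq_one_left e
  have hU : X F r t ∈ chevG2.posUnipotent F := xGL_mem_posUnipotent chevG2 (g2F F).xadd r hr t
  have hT : X F r t ∈ TT F := by
    rw [e1]
    exact inv_mem hh'
  have h1 : X F r t = 1 := Cfsg.Agent.Lead.Tw.ChevFacts'.eq_one_of_mem_posUnipotent_of_mem_diagonal (g2F F) _ hU hT
  constructor
  · have : X F r t = X F r 0 := by
      rw [h1]
      exact (xGL_zero chevG2 (g2F F).xadd r).symm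
    exact g2tchic_xGL_inj r hr.1 _ _ this
  · rw [h1, one_mul] at e
    exact e

theorem base2b_neg (p : ℕ) (hp : chevG2.IsPosRoot p) (w : F) : X F (chevG2.neg p) (-1) ≠ X F p w := by
  intro e
  have hU : X F p w ∈ chevG2.borelSubgroup F :=
    posUnipotent_le_borel chevG2 (xGL_mem_posUnipotent chevG2 (g2F F).xadd p hp w)
  rw [← e] at hU
  have := (g2F F).eq_zero_of_xGL_neg_mem_borel p hp _ hU
  exact one_ne_zero (neg_eq_zero.1 this)

theorem phiL_injective : Function.Injective (phiL F) := by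
  apply base2b_inj (rkL F)
  · intro t s hs e
    have e' : X F 11 t * hGLt chevG2 (g2F F).xadd 11 s = 1 := by
      have := hh_eq (g2F F) 11 s
      rw [neg11] at this
      rw [← this]
      exact e
    obtain ⟨h1, h2⟩ := base2b_xh 11 base2b_pos11 t _
      (hGLt_mem_diagonal chevG2 (g2F F).xadd 11 (by decide) s hs) e'
    refine ⟨?_, h1⟩
    have := (ev_h11 s hs).2
    rw [h2, ev_one] at this
    exact this.symm
  · intro w
    have := base2b_neg (F := F) 11 base2b_pos11 w
    rwa [neg11] at this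

theorem phiS_injective : Function.Injective (phiS F) := by
  apply base2b_inj (rkS F)
  · intro t s hs e
    have e' : X F 7 t * hGLt chevG2 (g2F F).xadd 7 s = 1 := by
      have := hh_eq (g2F F) 7 s
      rw [neg7] at this
      rw [← this]
      exact e
    obtain ⟨h1, h2⟩ := base2b_xh 7 base2b_pos7 t _
      (hGLt_mem_diagonal chevG2 (g2F F).xadd 7 (by decide) s hs) e'
    refine ⟨?_, h1⟩
    have h7 := (ev_h7 s hs).1
    have h6 := (ev_h7 s hs).2
    rw [h2, ev_one] at h7 h6
    have h3 : s ^ 3 = 1 := by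
      have := inv_eq_one.1 h6.symm
      exact this
    have : s ^ 3 = s ^ 2 * s := by ring
    rw [this, ← h7, one_mul] at h3
    exact h3
  · intro w
    have := base2b_neg (F := F) 7 base2b_pos7 w
    rwa [neg7] at this

end Cfsg.Agent.Helper13.G2I
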