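import Mathlib
import Cfsg.Agent.Lib.Helper13.G2IDefs
import Cfsg.Agent.Lib.Helper19.G2I_BASE2B

/-!
# S4278 / S4279 (helper13's farm-out), PIECE BASE2C (helper19), core version

The kernel of `(A, B) ↦ φ_L(A) φ_S(B)` and `L_long ⊓ L_short`, with the statements of the pieces BASE1A
(`phiL_neg_one`, `phiS_neg_one`), BASE2A (`phi_comm`) and SL2A (`sl2_center`) as hypotheses.
-/

set_option autoImplicit false
set_option linter.unusedSectionVars false
set_option linter.unusedVariables false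
set_option linter.style.haveILetI false

namespace Cfsg.Agent.Helper13.G2I

open Cfsg Cfsg.Lie Cfsg.Agent.Lead.Chev Cfsg.Agent.Helper11.G2T Cfsg.Agent.Helper6.SL2Hom
  Cfsg.Agent.Helper6.ChevL Matrix

variable {F : Type*} [Field F]

theorem base2c_prod_core
    (hcomm : ∀ A B : SpecialLinearGroup (Fin 2) F, Commute (phiL F A) (phiS F B))
    (hcen : ∀ A : SpecialLinearGroup (Fin 2) F,
      (∀ B : SpecialLinearGroup (Fin 2) F, A * B = B * A) → A = 1 ∨ A = -1)
    (hL : phiL F (-1) = zI F) (hS : phiS F (-1) = zI F)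
    (A B : SpecialLinearGroup (Fin 2) F) (h : phiL F A * phiS F B = 1) :
    (A = 1 ∧ B = 1) ∨ (A = -1 ∧ B = -1) := by
  have e1 : phiL F A = phiS F B⁻¹ := by
    rw [map_inv]
    exact eq_inv_of_mul_eq_one_left h
  have cA : ∀ A' : SpecialLinearGroup (Fin 2) F, A * A' = A' * A := by
    intro A'
    apply phiL_injective
    rw [map_mul, map_mul, e1]
    exact ((hcomm A' B⁻¹).eq).symm
  rcases hcen A cA with rfl | rfl
  · left
    refine ⟨rfl, ?_⟩
    rw [map_one, one_mul] at h
    exact phiS_injective (h.trans (map_one _).symm)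
  · right
    refine ⟨rfl, ?_⟩
    rw [hL, ← hS, ← map_mul] at h
    have h1 : (-1 : SpecialLinearGroup (Fin 2) F) * B = 1 := phiS_injective (h.trans (map_one _).symm)
    rw [neg_one_mul, neg_eq_iff_eq_neg] at h1
    exact h1

theorem base2c_inf_core (hL : phiL F (-1) = zI F) (hS : phiS F (-1) = zI F)
    (hprod : ∀ A B : SpecialLinearGroup (Fin 2) F, phiL F A * phiS F B = 1 →
      (A = 1 ∧ B = 1) ∨ (A = -1 ∧ B = -1)) :
    LL F ⊓ LS F = Subgroup.zpowers (zI F) := by
  apply le_antisymm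
  · intro x hx
    obtain ⟨hx1, hx2⟩ := Subgroup.mem_inf.1 hx
    unfold LL at hx1
    unfold LS at hx2
    obtain ⟨A, rfl⟩ := hx1
    obtain ⟨B, hB⟩ := hx2
    have : phiL F A * phiS F B⁻¹ = 1 := by
      rw [map_inv, hB, mul_inv_cancel]
    rcases hprod A B⁻¹ this with ⟨rfl, _⟩ | ⟨rfl, _⟩
    · rw [map_one]
      exact one_mem _
    · rw [hL]
      exact Subgroup.mem_zpowers _
  · rw [Subgroup.zpowers_le]
    refine Subgroup.mem_inf.2 ⟨?_, ?_⟩
    · unfold LL
      exact ⟨-1, hL⟩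
    · unfold LS
      exact ⟨-1, hS⟩

end Cfsg.Agent.Helper13.G2I
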