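import Mathlib
import Cfsg.Agent.Lib.Helper13.G2IDefs
import Cfsg.Agent.Lib.Helper13.G2I_BASE1A
import Cfsg.Agent.Lib.Helper18.G2I_BASE2A
import Cfsg.Agent.Lib.Helper19.G2I_BASE2B
import Cfsg.Agent.Lib.Helper19.G2I_BASE2C_Core

/-!
# S4278 / S4279 (helper13's farm-out), PIECE BASE2C (helper19)

`phi_prod_eq_one`, `inf_LL_LS` (wrappers of the core versions; the centre of `SL₂` is computed locally).
-/

set_option autoImplicit false
set_option linter.unusedSectionVars false
set_option linter.unusedVariables false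
set_option linter.style.haveILetI false

namespace Cfsg.Agent.Helper13.G2I

open Cfsg Cfsg.Lie Cfsg.Agent.Lead.Chev Cfsg.Agent.Helper11.G2T Cfsg.Agent.Helper6.SL2Hom
  Cfsg.Agent.Helper6.ChevL Matrix

variable {F : Type*} [Field F]

/-- the centre of `SL₂(F)` (local copy, so that this piece does not wait for SL2A) -/
theorem base2c_center (A : SpecialLinearGroup (Fin 2) F)
    (h : ∀ B : SpecialLinearGroup (Fin 2) F, A * B = B * A) : A = 1 ∨ A = -1 := by
  have hx := h (xS 1)
  have hy := h (yS 1)
  have hd := det_eq A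
  have x00 := congrArg (fun M : SpecialLinearGroup (Fin 2) F => M 0 0) hx
  have x01 := congrArg (fun M : SpecialLinearGroup (Fin 2) F => M 0 1) hx
  have y00 := congrArg (fun M : SpecialLinearGroup (Fin 2) F => M 0 0) hy
  simp [xS_coe, yS_coe, Matrix.mul_apply, Fin.sum_univ_two] at x00 x01 y00
  -- `x00 : A 1 0 = 0`, `x01 : A 0 0 + A 0 1 = A 0 1 + A 1 1`, `y00 : A 0 1 = 0`
  have hc : A 1 0 = 0 := by simpa using x00
  have hb : A 0 1 = 0 := by simpa using y00
  have had : A 0 0 = A 1 1 := by
    have := x01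
    rw [hb] at this
    simpa using this
  rw [hb, zero_mul, sub_zero, ← had] at hd
  have hsq : (A 0 0 - 1) * (A 0 0 + 1) = 0 := by linear_combination hd
  rcases mul_eq_zero.1 hsq with h1 | h1
  · left
    have ha : A 0 0 = 1 := sub_eq_zero.1 h1
    apply Matrix.SpecialLinearGroup.ext
    intro i j
    fin_cases i <;> fin_cases j
    · simpa using ha
    · simpa using hb
    · simpa using hc
    · simpa using had.symm.trans ha
  · right
    have ha : A 0 0 = -1 := eq_neg_of_add_eq_zero_left h1
    apply Matrix.SpecialLinearGroup.ext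
    intro i j
    fin_cases i <;> fin_cases j
    · simpa using ha
    · simpa using hb
    · simpa using hc
    · simpa using had.symm.trans ha

/-- the kernel of `(A, B) ↦ φ_L(A) φ_S(B)` is `{(1,1), (-1,-1)}` -/
theorem phi_prod_eq_one (A B : SpecialLinearGroup (Fin 2) F) (h : phiL F A * phiS F B = 1) :
    (A = 1 ∧ B = 1) ∨ (A = -1 ∧ B = -1) :=
  base2c_prod_core phi_comm base2c_center phiL_neg_one phiS_neg_one A B h

theorem inf_LL_LS : LL F ⊓ LS F = Subgroup.zpowers (zI F) :=
  base2c_inf_core phiL_neg_one phiS_neg_one phi_prod_eq_one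

end Cfsg.Agent.Helper13.G2I
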