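import Mathlib
import Cfsg.Agent.Lib.Helper12.LSLDefs

/-!
# S2332 piece GEN (helper19): the pointwise stabiliser in `SL ι F` of a set of standard basis
vectors is generated by the elementary transvections whose column index is outside the set.
-/

set_option autoImplicit false
set_option linter.unusedSectionVars false
set_option linter.unusedVariables false
set_option linter.style.haveILetI false
set_option linter.unusedSimpArgs false

namespace Cfsg.Agent.Helper12.LSL

open Matrix Cfsg.Agent.Helper12

variable {F : Type*} [Field F] {ι : Type*} [Fintype ι] [DecidableEq ι]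

/-- the elementary transvections with column index in `T` -/
def genSet (T : Finset ι) : Set (Matrix.SpecialLinearGroup ι F) :=
  {x | ∃ (i j : ι) (hij : i ≠ j) (c : F), j ∈ T ∧ x = Matrix.SpecialLinearGroup.transvection hij c}

theorem gen_entry (g : Matrix.SpecialLinearGroup ι F) (i j : ι) :
    (g • (Pi.single j 1 : ι → F)) i = g.1 i j := by
  rw [Matrix.SpecialLinearGroup.smul_def, smul_eq_mulVec, mulVec_single_one]
  rfl

theorem gen_fix_support (g : Matrix.SpecialLinearGroup ι F) (T : Finset ι)
    (hg : ∀ j, j ∉ T → g • (Pi.single j 1 : ι → F) = Pi.single j 1) (w : ι → F)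
    (hw : ∀ j ∈ T, w j = 0) : g • w = w := by
  rw [Matrix.SpecialLinearGroup.smul_def, smul_eq_mulVec]
  funext i
  have h1 : ∀ j, g.1 i j * w j = (1 : Matrix ι ι F) i j * w j := by
    intro j
    by_cases hj : j ∈ T
    · rw [hw j hj, mul_zero, mul_zero]
    · rw [← gen_entry, hg j hj, Matrix.one_apply, Pi.single_apply]
  calc (g.1 *ᵥ w) i = ∑ j, g.1 i j * w j := rfl
    _ = ∑ j, (1 : Matrix ι ι F) i j * w j := Finset.sum_congr rfl (fun j _ => h1 j)
    _ = ((1 : Matrix ι ι F) *ᵥ w) i := rfl
    _ = w i := by rw [one_mulVec]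

theorem gen_closure_fix (T : Finset ι) (e : Matrix.SpecialLinearGroup ι F)
    (he : e ∈ Subgroup.closure (genSet (F := F) T)) (j : ι) (hj : j ∉ T) :
    e • (Pi.single j 1 : ι → F) = Pi.single j 1 := by
  have hle : Subgroup.closure (genSet (F := F) T) ≤
      MulAction.stabilizer (Matrix.SpecialLinearGroup ι F) (Pi.single j 1 : ι → F) := by
    rw [Subgroup.closure_le]
    rintro x ⟨i, j', hij, c, hj', rfl⟩
    rw [SetLike.mem_coe, MulAction.mem_stabilizer_iff, transvection_smul]
    have hne : j' ≠ j := fun h => hj (h ▸ hj')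
    rw [Pi.single_eq_of_ne hne, mul_zero, zero_smul, add_zero]
  exact MulAction.mem_stabilizer_iff.mp (hle he)

theorem gen_yPhi_mem (T : Finset ι) (k : ι) (hk : k ∈ T) (b : Phi F k) :
    yPhi k b ∈ Subgroup.closure (genSet (F := F) T) := by
  classical
  -- the pieces of `b`
  have hmem : ∀ i : ι, i ≠ k → b.1 i • (Pi.single i 1 : ι → F) ∈ Phi F k := by
    intro i hi
    rw [mem_Phi_iff, Pi.smul_apply, Pi.single_eq_of_ne hi.symm, smul_zero]
  set u : ι → Phi F k := fun i =>
    if h : i = k then 0 else ⟨b.1 i • (Pi.single i 1 : ι → F), hmem i h⟩ with hu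
  have hb : b = ∑ i, u i := by
    apply Subtype.ext
    rw [Submodule.coe_sum]
    funext j
    rw [Finset.sum_apply]
    have h2 : ∀ i, (u i).1 j = if i = j then b.1 j else 0 := by
      intro i
      simp only [hu]
      by_cases h : i = k
      · subst h
        rw [dif_pos rfl]
        by_cases hij : i = j
        · subst hij
          rw [if_pos rfl, Phi_apply i b]
          rfl
        · rw [if_neg hij]
          rfl
      · rw [dif_neg h]
        by_cases hij : i = j
        · subst hij
          simp
        · rw [if_neg hij]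
          show b.1 i • (Pi.single i 1 : ι → F) j = 0
          rw [Pi.single_eq_of_ne (Ne.symm hij), smul_zero]
    rw [Finset.sum_congr rfl (fun i _ => h2 i)]
    simp
  have hsum : ∀ s : Finset ι, yPhi k (∑ i ∈ s, u i) ∈ Subgroup.closure (genSet (F := F) T) := by
    intro s
    induction s using Finset.induction_on with
    | empty =>
      rw [Finset.sum_empty, yPhi_zero]
      exact Subgroup.one_mem _
    | insert a s ha ih =>
      rw [Finset.sum_insert ha, yPhi_add]
      refine Subgroup.mul_mem _ ?_ ih
      by_cases h : a = k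
      · have : u a = 0 := by simp only [hu]; rw [dif_pos h]
        rw [this, yPhi_zero]
        exact Subgroup.one_mem _
      · obtain ⟨b', hb1, hb2⟩ := transvection_eq_yPhi (F := F) h (b.1 a)
        have : u a = b' := by
          apply Subtype.ext
          simp only [hu]
          rw [dif_neg h, hb2]
        rw [this, ← hb1]
        exact Subgroup.subset_closure ⟨a, k, h, b.1 a, hk, rfl⟩
  rw [hb]
  exact hsum Finset.univ

theorem gen_reduce_one (T : Finset ι) (k : ι) (hk : k ∈ T) (v : ι → F) (hv : v k = 1) :
    ∃ e ∈ Subgroup.closure (genSet (F := F) T), e • v = Pi.single k 1 := by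
  have hb : (Pi.single k 1 - v : ι → F) ∈ Phi F k := by
    rw [mem_Phi_iff, Pi.sub_apply, Pi.single_eq_same, hv, sub_self]
  refine ⟨yPhi k ⟨_, hb⟩, gen_yPhi_mem T k hk _, ?_⟩
  rw [yPhi_smul, hv, one_smul]
  show v + (Pi.single k 1 - v) = Pi.single k 1
  exact add_sub_cancel v _

theorem gen_reduce (T : Finset ι) (k : ι) (hk : k ∈ T) (v : ι → F)
    (h : (∃ l ∈ T, l ≠ k ∧ v l ≠ 0) ∨ v k = 1) :
    ∃ e ∈ Subgroup.closure (genSet (F := F) T), e • v = Pi.single k 1 := by
  rcases h with ⟨l, hl, hlk, hvl⟩ | h
  · have hkl : k ≠ l := hlk.symm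
    have he1 : Matrix.SpecialLinearGroup.transvection hkl ((1 - v k) / v l) ∈
        Subgroup.closure (genSet (F := F) T) :=
      Subgroup.subset_closure ⟨k, l, hkl, _, hl, rfl⟩
    have hv1 : (Matrix.SpecialLinearGroup.transvection hkl ((1 - v k) / v l) • v) k = 1 := by
      rw [transvection_smul, Pi.add_apply, Pi.smul_apply, Pi.single_eq_same, smul_eq_mul, mul_one,
        div_mul_cancel₀ _ hvl]
      ring
    obtain ⟨e2, he2, h2⟩ := gen_reduce_one T k hk _ hv1
    exact ⟨e2 * _, Subgroup.mul_mem _ he2 he1, by rw [mul_smul, h2]⟩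
  · exact gen_reduce_one T k hk v h

theorem gen_column (T : Finset ι) (k : ι) (hk : k ∈ T) (g : Matrix.SpecialLinearGroup ι F)
    (hg : ∀ j, j ∉ T → g • (Pi.single j 1 : ι → F) = Pi.single j 1) :
    ∃ e ∈ Subgroup.closure (genSet (F := F) T),
      (e * g) • (Pi.single k 1 : ι → F) = Pi.single k 1 := by
  obtain ⟨v, hv⟩ : ∃ v : ι → F, v = g • (Pi.single k 1 : ι → F) := ⟨_, rfl⟩
  suffices hs : ∃ e ∈ Subgroup.closure (genSet (F := F) T), e • v = Pi.single k 1 by
    obtain ⟨e, he, h⟩ := hs
    exact ⟨e, he, by rw [mul_smul, ← hv]; exact h⟩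
  have hnz : ∃ l ∈ T, v l ≠ 0 := by
    by_contra hcon
    push Not at hcon
    have h1 : g • v = v := gen_fix_support g T hg v hcon
    have h2 : v = Pi.single k 1 := by
      have h3 : g⁻¹ • (g • v) = g⁻¹ • v := by rw [h1]
      rw [inv_smul_smul] at h3
      rw [h3, hv, inv_smul_smul]
    have h4 := hcon k hk
    rw [h2, Pi.single_eq_same] at h4
    exact one_ne_zero h4
  by_cases hA : ∃ l ∈ T, l ≠ k ∧ v l ≠ 0
  · obtain ⟨e, he, h⟩ := gen_reduce T k hk v (Or.inl hA)
    exact ⟨e, he, h⟩
  · push Not at hA
    have hvk : v k ≠ 0 := by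
      obtain ⟨l, hl, hvl⟩ := hnz
      by_cases hlk : l = k
      · subst hlk
        exact hvl
      · exact absurd (hA l hl hlk) hvl
    by_cases hB : ∃ l ∈ T, l ≠ k
    · obtain ⟨l, hl, hlk⟩ := hB
      have he0 : Matrix.SpecialLinearGroup.transvection hlk (1 : F) ∈
          Subgroup.closure (genSet (F := F) T) :=
        Subgroup.subset_closure ⟨l, k, hlk, 1, hk, rfl⟩
      have h5 : (Matrix.SpecialLinearGroup.transvection hlk (1 : F) • v) l ≠ 0 := by
        rw [transvection_smul, Pi.add_apply, Pi.smul_apply, Pi.single_eq_same, smul_eq_mul, mul_one,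
          one_mul, hA l hl hlk, zero_add]
        exact hvk
      obtain ⟨e, he, h⟩ := gen_reduce T k hk _ (Or.inl ⟨l, hl, hlk, h5⟩)
      exact ⟨e * _, Subgroup.mul_mem _ he he0, by rw [mul_smul]; exact h⟩
    · push Not at hB
      have hmat : g.1 = 1 + vecMulVec (v - Pi.single k 1) (Pi.single k 1) := by
        ext i j
        rw [Matrix.add_apply, vecMulVec_apply, Pi.sub_apply, Matrix.one_apply]
        by_cases hj : j = k
        · subst hj
          rw [Pi.single_eq_same, mul_one, ← gen_entry, ← hv, Pi.single_apply]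
          ring
        · have hjT : j ∉ T := fun h => hj (hB j h)
          rw [Pi.single_eq_of_ne hj, mul_zero, add_zero, ← gen_entry, hg j hjT, Pi.single_apply]
      have hdet : v k = 1 := by
        have h6 := g.2
        rw [hmat, vecMulVec_eq Unit, det_one_add_replicateCol_mul_replicateRow, single_dotProduct,
          one_mul, Pi.sub_apply, Pi.single_eq_same] at h6
        linear_combination h6
      exact gen_reduce T k hk v (Or.inr hdet)

theorem gen_main (T : Finset ι) : ∀ g : Matrix.SpecialLinearGroup ι F,
    (∀ j, j ∉ T → g • (Pi.single j 1 : ι → F) = Pi.single j 1) →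
      g ∈ Subgroup.closure (genSet (F := F) T) := by
  induction T using Finset.induction_on with
  | empty =>
    intro g hg
    have : g = 1 := by
      apply Subtype.ext
      ext i j
      rw [← gen_entry, hg j (Finset.notMem_empty j), Pi.single_apply]
      show _ = (1 : Matrix ι ι F) i j
      rw [Matrix.one_apply]
    rw [this]
    exact Subgroup.one_mem _
  | insert k T' hk ih =>
    intro g hg
    obtain ⟨e, he, h⟩ := gen_column (insert k T') k (Finset.mem_insert_self k T') g hg
    have h2 : ∀ j, j ∉ T' → (e * g) • (Pi.single j 1 : ι → F) = Pi.single j 1 := by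
      intro j hj
      by_cases hjk : j = k
      · subst hjk
        exact h
      · have hj' : j ∉ insert k T' := by
          rw [Finset.mem_insert]
          push Not
          exact ⟨hjk, hj⟩
        rw [mul_smul, hg j hj', gen_closure_fix _ e he j hj']
    have h3 := ih (e * g) h2
    have hmono : Subgroup.closure (genSet (F := F) T') ≤
        Subgroup.closure (genSet (F := F) (insert k T')) := by
      apply Subgroup.closure_mono
      rintro x ⟨i, j, hij, c, hj, rfl⟩
      exact ⟨i, j, hij, c, Finset.mem_insert_of_mem hj, rfl⟩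
    have h4 : g = e⁻¹ * (e * g) := by group
    rw [h4]
    exact Subgroup.mul_mem _ (Subgroup.inv_mem _ he) (hmono h3)

/-- PIECE GEN.  The pointwise stabiliser in `SL ι F` of a set of standard basis vectors is
generated by the elementary transvections `1 + c E_{ij}` whose column index `j` is outside the
set. -/
theorem mem_closure_of_fix (S : Set ι) (g : Matrix.SpecialLinearGroup ι F)
    (hg : ∀ j ∈ S, g • (Pi.single j 1 : ι → F) = Pi.single j 1) :
    g ∈ Subgroup.closure {x : Matrix.SpecialLinearGroup ι F | ∃ (i j : ι) (hij : i ≠ j) (c : F),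
      j ∉ S ∧ x = Matrix.SpecialLinearGroup.transvection hij c} := by
  classical
  have h1 := gen_main (F := F) (Finset.univ.filter (fun j => j ∉ S)) g (by
    intro j hj
    rw [Finset.mem_filter] at hj
    push Not at hj
    exact hg j (hj (Finset.mem_univ j)))
  refine Subgroup.closure_mono ?_ h1
  rintro x ⟨i, j, hij, c, hj, rfl⟩
  rw [Finset.mem_filter] at hj
  exact ⟨i, j, hij, c, hj.2, rfl⟩

end Cfsg.Agent.Helper12.LSL
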