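import Mathlib
import Cfsg.Agent.Lib.Helper15.S74Defs

/-!
# S2474 piece S74-MINSUB (helper19).
-/

set_option autoImplicit false
set_option linter.unusedSectionVars false
set_option linter.unusedVariables false

open Polynomial
open Cfsg.Agent.Helper15.S62

namespace Cfsg.Agent.Helper15.S74

universe u

variable {F : Type u} [Field F]

theorem s74_minsub_core {V : Type u} [AddCommGroup V] [Module F V] [FiniteDimensional F V]
    (g : Module.End F V) (U₀ : Submodule F V) (h0 : U₀ ≠ ⊥) (hinv : ∀ x ∈ U₀, g x ∈ U₀) :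
    ∃ (U : Submodule F V) (hU : ∀ x ∈ U, g x ∈ U), U ≤ U₀ ∧ U ≠ ⊥ ∧ Nontrivial U ∧
      ∀ U' : Submodule F U, (∀ x ∈ U', (g.restrict hU) x ∈ U') → U' = ⊥ ∨ U' = ⊤ := by
  let S : Set (Submodule F V) := {U | (∀ x ∈ U, g x ∈ U) ∧ U ≤ U₀ ∧ U ≠ ⊥}
  have hS : S.Nonempty := ⟨U₀, hinv, le_refl _, h0⟩
  have hwf : WellFounded ((· < ·) : Submodule F V → Submodule F V → Prop) := wellFounded_lt
  obtain ⟨U, ⟨hU, hle, hne⟩, hmin⟩ := hwf.has_min S hS
  refine ⟨U, hU, hle, hne, (Submodule.nontrivial_iff_ne_bot).2 hne, ?_⟩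
  intro U' hU'
  by_cases hb : U' = ⊥
  · exact Or.inl hb
  · right
    set W : Submodule F V := U'.map U.subtype with hW
    have hWU : W ≤ U := by
      rintro _ ⟨x, -, rfl⟩
      exact x.2
    have hWinv : ∀ x ∈ W, g x ∈ W := by
      rintro _ ⟨x, hx, rfl⟩
      exact ⟨g.restrict hU x, hU' x hx, rfl⟩
    have hWne : W ≠ ⊥ := by
      intro h
      apply hb
      rw [eq_bot_iff]
      intro x hx
      have hx' : (x : V) ∈ W := ⟨x, hx, rfl⟩
      rw [h] at hx'
      have hx0 : (x : V) = 0 := (Submodule.mem_bot F).1 hx'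
      exact (Submodule.mem_bot F).2 (Subtype.ext hx0)
    have hnlt : ¬ W < U := hmin W ⟨hWinv, le_trans hWU hle, hWne⟩
    have hWeq : W = U := by
      by_contra hne'
      exact hnlt (lt_of_le_of_ne hWU hne')
    rw [eq_top_iff]
    intro x _
    have hx : (x : V) ∈ W := by rw [hWeq]; exact x.2
    obtain ⟨y, hy, hyx⟩ := hx
    have : y = x := Subtype.ext hyx
    rwa [← this]

theorem exists_irred_le {V : Type u} [AddCommGroup V] [Module F V] [FiniteDimensional F V]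
    (g : Module.End F V) (U₀ : Submodule F V) (h0 : U₀ ≠ ⊥) (hinv : Invar g U₀) :
    ∃ (U : Submodule F V) (hU : Invar g U), U ≤ U₀ ∧ U ≠ ⊥ ∧ Irred (g.restrict hU) := by
  obtain ⟨U, hU, hle, hne, hnt, hirr⟩ := s74_minsub_core g U₀ h0 hinv
  exact ⟨U, hU, hle, hne, hnt, hirr⟩

end Cfsg.Agent.Helper15.S74
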