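import Mathlib
import Cfsg.Agent.Lib.Helper15.S74Defs
import Cfsg.Agent.Lib.Helper21.S62WF2

/-!
# S2474 piece S74-MODEL (helper19).
-/

set_option autoImplicit false
set_option linter.unusedSectionVars false
set_option linter.unusedVariables false

open Polynomial
open Cfsg.Agent.Helper15.S62

namespace Cfsg.Agent.Helper15.S74

universe u

variable {F : Type u} [Field F]

theorem s74_model_core {U : Type u} [AddCommGroup U] [Module F U] [FiniteDimensional F U]
    (g : Module.End F U) (hnt : Nontrivial U)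
    (hirr : ∀ W : Submodule F U, (∀ x ∈ W, g x ∈ W) → W = ⊥ ∨ W = ⊤) :
    ∃ (L : Type u) (_ : Field L) (_ : Algebra F L) (_ : Module.Finite F L) (φ : L ≃ₗ[F] U) (ζ : L),
      Algebra.adjoin F {ζ} = ⊤ ∧ ∀ x : L, φ (ζ * x) = g (φ x) := by
  have hint : IsIntegral F g := Algebra.IsIntegral.isIntegral g
  have hnu : ¬ IsUnit (minpoly F g) := minpoly.not_isUnit F g
  have hμ0 : minpoly F g ≠ 0 := minpoly.ne_zero hint
  obtain ⟨f, hf, hfdvd⟩ := WfDvdMonoid.exists_irreducible_factor hnu hμ0
  obtain ⟨w0, hw0, hw0f⟩ := s62_wf2_exists_ker_ne g f hf hfdvd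
  -- the kernel of f(g) is invariant and nonzero, hence everything
  have hker : LinearMap.ker (aeval g f) = ⊤ := by
    rcases hirr (LinearMap.ker (aeval g f)) (by
      intro x hx
      rw [LinearMap.mem_ker] at hx ⊢
      have hc : aeval g f * g = g * aeval g f := by
        have h1 : aeval g (f * X) = aeval g (X * f) := by rw [mul_comm]
        rwa [map_mul, map_mul, aeval_X] at h1
      rw [← Module.End.mul_apply, hc, Module.End.mul_apply, hx, map_zero]) with h | h
    · exfalso
      apply hw0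
      have : w0 ∈ LinearMap.ker (aeval g f) := LinearMap.mem_ker.2 hw0f
      rw [h] at this
      exact (Submodule.mem_bot F).1 this
    · exact h
  have hfg : aeval g f = 0 := LinearMap.ker_eq_top.1 hker
  have : Fact (Irreducible f) := ⟨hf⟩
  obtain ⟨w, hw⟩ := exists_ne (0 : U)
  let ρ : AdjoinRoot f →ₐ[F] Module.End F U :=
    Ideal.Quotient.liftₐ (Ideal.span {f}) (aeval g) (by
      intro a ha
      obtain ⟨b, rfl⟩ := Ideal.mem_span_singleton.1 ha
      rw [map_mul, hfg, zero_mul])
  have hρmk : ∀ p : F[X], ρ (AdjoinRoot.mk f p) = aeval g p := fun p => rfl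
  have hρroot : ρ (AdjoinRoot.root f) = g := by
    have h1 : AdjoinRoot.root f = AdjoinRoot.mk f X := rfl
    rw [h1, hρmk, aeval_X]
  let ψ : AdjoinRoot f →ₗ[F] U := (LinearMap.applyₗ w) ∘ₗ ρ.toLinearMap
  have hψ : ∀ x, ψ x = ρ x w := fun x => rfl
  have hinj : Function.Injective ψ := by
    rw [← LinearMap.ker_eq_bot, LinearMap.ker_eq_bot']
    intro x hx
    by_contra hx0
    apply hw
    have h1 : ρ (x⁻¹ * x) w = 0 := by
      rw [map_mul, Module.End.mul_apply, ← hψ x, hx, map_zero]
    rwa [inv_mul_cancel₀ hx0, map_one, Module.End.one_apply] at h1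
  have hsurj : Function.Surjective ψ := by
    rw [← LinearMap.range_eq_top]
    rcases hirr (LinearMap.range ψ) (by
      rintro _ ⟨x, rfl⟩
      refine ⟨AdjoinRoot.root f * x, ?_⟩
      rw [hψ, hψ, map_mul, Module.End.mul_apply, hρroot]) with h | h
    · exfalso
      apply hw
      have : ψ 1 ∈ LinearMap.range ψ := ⟨1, rfl⟩
      rw [h, hψ, map_one, Module.End.one_apply] at this
      exact (Submodule.mem_bot F).1 this
    · exact h
  have hfin : Module.Finite F (AdjoinRoot f) := (AdjoinRoot.powerBasis hf.ne_zero).finite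
  refine ⟨AdjoinRoot f, inferInstance, inferInstance, hfin,
    LinearEquiv.ofBijective ψ ⟨hinj, hsurj⟩, AdjoinRoot.root f, AdjoinRoot.adjoinRoot_eq_top, ?_⟩
  intro x
  show ψ (AdjoinRoot.root f * x) = g (ψ x)
  rw [hψ, hψ, map_mul, Module.End.mul_apply, hρroot]

theorem exists_model {U : Type u} [AddCommGroup U] [Module F U] [FiniteDimensional F U]
    (g : Module.End F U) (hirr : Irred g) :
    ∃ (L : Type u) (_ : Field L) (_ : Algebra F L) (_ : Module.Finite F L) (φ : L ≃ₗ[F] U) (ζ : L),
      Algebra.adjoin F {ζ} = ⊤ ∧ ∀ x : L, φ (ζ * x) = g (φ x) :=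
  s74_model_core g hirr.1 hirr.2

end Cfsg.Agent.Helper15.S74
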