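import Mathlib
import Cfsg.Agent.Lib.Helper16.TC648Defs
import Cfsg.Agent.Lib.Helper16.TC648Core

/-!
# S3702 (helper16's farm-out), CHAR piece SUMF (helper19)

The sum of `φ · (λ̃ - 1) · εⁿ` over the words of `C_H(t1) = J⟨r⟩`, in terms of the nine class representatives.
-/

set_option autoImplicit false
set_option linter.unusedSectionVars false
set_option linter.unusedVariables false
set_option linter.style.haveILetI false

namespace Cfsg.Agent.Helper16.TC648

open Cfsg Cfsg.Agent.Helper24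
open scoped ComplexConjugate

universe u

/-- expansion of a sum over the nine classes with the centralizer orders as denominators -/
theorem sumf_tab (s3 : ℂ) (f : Fin 9 → ℂ) (ρ : Fin 9) :
    ∑ a : Fin 9, tab s3 ρ a * f a / (cz a : ℂ) =
      tab s3 ρ 0 * f 0 / 108 + tab s3 ρ 1 * f 1 / 54 + tab s3 ρ 2 * f 2 / 81 + tab s3 ρ 3 * f 3 / 12 +
        tab s3 ρ 4 * f 4 / 6 + tab s3 ρ 5 * f 5 / 12 + tab s3 ρ 6 * f 6 / 12 + tab s3 ρ 7 * f 7 / 9 +
        tab s3 ρ 8 * f 8 / 9 := by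
  rw [Fin.sum_univ_succ, Fin.sum_univ_eight]
  simp [cz]
  ring

/-- a class function takes the same value on conjugate elements -/
theorem sumf_conj {G : Type u} [Group G] {φ : G → ℂ} (hφ : IsClassFunction G φ) {x y : G} (h : IsConj x y) :
    φ x = φ y := by
  obtain ⟨c, hc⟩ := isConj_iff.1 h
  rw [← hc]
  exact (hφ x c).symm

/-- the combinatorial part: the distribution of the words `t1^i t2^j t3^k r^l` (`i ≠ 0`) over the classes -/
theorem sumf_comb (f : Fin 9 → ℂ) (A : Fin 3 → ℂ) (B : Fin 4 → ℂ) (hA : A 0 = 0) :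
    ∑ i : Fin 3, ∑ j : Fin 3, ∑ k : Fin 3, ∑ l : Fin 4, f (clsF i j k l) * A i * B l =
      B 0 * ((A 1 + A 2) * (f 0 + 4 * f 1 + 4 * f 2)) + B 2 * (9 * (A 1 + A 2) * f 3) +
      B 1 * (9 * A 1 * f 5 + 9 * A 2 * f 6) + B 3 * (9 * A 1 * f 6 + 9 * A 2 * f 5) := by
  simp only [Fin.sum_univ_three, Fin.sum_univ_four]
  simp (config := {decide := true}) only [clsF, clsJ, hA, if_true, if_false]
  ring


variable {G : Type u} [Group G]

/-- PIECE SUMF -/
theorem sum_F (C : Cfg G) (hF : Facts C) {ω : ℂ} (hω : ω ^ 2 + ω + 1 = 0) {φ : G → ℂ}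
    (hφ : IsClassFunction G φ) (n : Fin 4) :
    ∑ i : Fin 3, ∑ j : Fin 3, ∑ k : Fin 3, ∑ l : Fin 4,
      φ (C.wJ i j k * C.r ^ (l : ℕ)) * (ω ^ (2 * (i : ℕ)) - 1) * Complex.I ^ (3 * (n : ℕ) * (l : ℕ)) =
      108 * ∑ a : Fin 9, tab (sq3 ω) (rowF n) a * φ (C.z a) / (cz a : ℂ) := by
  set f : Fin 9 → ℂ := fun a => φ (C.z a) with hf
  have step : ∀ (i j k : Fin 3) (l : Fin 4),
      φ (C.wJ i j k * C.r ^ (l : ℕ)) * (ω ^ (2 * (i : ℕ)) - 1) * Complex.I ^ (3 * (n : ℕ) * (l : ℕ)) =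
        f (clsF i j k l) * (fun i : Fin 3 => ω ^ (2 * (i : ℕ)) - 1) i *
          (fun l : Fin 4 => Complex.I ^ (3 * (n : ℕ) * (l : ℕ))) l := by
    intro i j k l
    by_cases hi : i = 0
    · subst hi
      simp
    · have := sumf_conj hφ (hF.conjF i j k l hi)
      simp only [hf]
      rw [this]
  simp_rw [step]
  rw [sumf_comb f _ _ (by simp), sumf_tab]
  have h2 : ω ^ 2 = -ω - 1 := by linear_combination hω
  have h4 : ω ^ 4 = ω := by linear_combination (ω ^ 2 - ω) * hω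
  fin_cases n <;> simp [tab, rowF, sq3] <;> (try simp only [h4, h2]) <;> ring

end Cfsg.Agent.Helper16.TC648
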