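import Mathlib
import Cfsg.Agent.Lib.Helper13.InvNDefsC

/-!
# INVN part B, piece BMAIN (core): `h n_w` of square one is conjugate to the product over the frame

The statements of the pieces FRAME and TORUS enter as hypotheses.
-/

set_option autoImplicit false
set_option linter.unusedSectionVars false
set_option linter.unusedVariables false

namespace Cfsg.Agent.Helper13.InvN

open Cfsg Cfsg.Lie Cfsg.Agent.Lead.Chev Cfsg.Agent.Helper6.ChevL

variable {F : Type*} [Field F] {D : ChevalleyDatum} (hF : ChevFacts D F) (hS : CorSize D) (hI : CorInj D)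
include hF hS hI

/-- the letters of the word of a frame are valid -/
theorem bmain_frameWord_ok (S : Frame) (hS' : frameOK D S = true) : WOK D (frameWord S) := by
  unfold frameOK at hS'
  rw [Bool.and_eq_true] at hS'
  have h1 := hS'.1
  rw [List.all_eq_true] at h1
  intro i hi
  unfold frameWord at hi
  rw [List.mem_flatMap] at hi
  obtain ⟨e, he, hie⟩ := hi
  have h2 := h1 e he
  rw [Bool.and_eq_true, List.all_eq_true] at h2
  rw [List.mem_append, List.mem_append] at hie
  rcases hie with (h3 | h3) | h3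
  · exact of_decide_eq_true (h2.1 i h3)
  · rw [List.mem_singleton.1 h3]
    exact of_decide_eq_true h2.2
  · exact of_decide_eq_true (h2.1 i (List.mem_reverse.1 h3))

/-- PIECE BMAIN, with the statements of FRAME and TORUS as hypotheses -/
theorem conj_frame_core (S : Frame) (hS' : frameOK D S = true)
    (hframe : ∃ z ∈ D.group F, ∃ n ∈ D.monomialSubgroup F,
      z * xprod hF (frameRoots D S) * z⁻¹ = n ∧ n * n = 1 ∧
      ∃ k ∈ D.diagonalSubgroup F, n = k * nWordGL D hF.xadd (frameWord S))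
    (htorus : ∀ h : GL D.Idx F, h ∈ D.diagonalSubgroup F → ∃ m : ℕ, (h ^ m) * (h ^ m) = h)
    (w : List ℕ) (hw : WOK D w)
    (hact : ∀ r < D.nroots, reflWord D w r = reflWord D (frameWord S) r)
    (h : GL D.Idx F) (hh : h ∈ D.diagonalSubgroup F)
    (hsq : (h * nWordGL D hF.xadd w) * (h * nWordGL D hF.xadd w) = 1) :
    CJ D F (h * nWordGL D hF.xadd w) (xprod hF (frameRoots D S)) := by
  obtain ⟨z, hz, n, hn, ezn, hnn, k, hk, enk⟩ := hframe
  have hfw := bmain_frameWord_ok hF hS hI S hS'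
  have hk' := hF.nWordGL_inv_mul_mem_diagonal w (frameWord S) hw hfw hact
  generalize hnw : nWordGL D hF.xadd w = nw at *
  generalize hnf : nWordGL D hF.xadd (frameWord S) = nf at *
  generalize hP : xprod hF (frameRoots D S) = P at *
  set k' := nw⁻¹ * nf with hk'def
  -- `n k'⁻¹ n⁻¹ ∈ H`
  have hc1 : nf * k'⁻¹ * nf⁻¹ ∈ D.diagonalSubgroup F := by
    rw [← hnf]
    exact nWordGL_conj_mem_diagonal D hF.xadd (etaOf D) hF.nsimple (frameWord S) hfw _ (inv_mem hk')
  have hc2 : n * k'⁻¹ * n⁻¹ ∈ D.diagonalSubgroup F := by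
    have : n * k'⁻¹ * n⁻¹ = k * (nf * k'⁻¹ * nf⁻¹) * k⁻¹ := by rw [enk]; group
    rw [this]
    exact mul_mem (mul_mem hk hc1) (inv_mem hk)
  set h'' := h * k⁻¹ * (n * k'⁻¹ * n⁻¹) with hh''def
  have hh'' : h'' ∈ D.diagonalSubgroup F := mul_mem (mul_mem hh (inv_mem hk)) hc2
  have et : h * nw = h'' * n := by
    rw [hh''def, enk, hk'def]; group
  rw [et] at hsq ⊢
  have hninv : n⁻¹ = n := inv_eq_of_mul_eq_one_left hnn
  -- `n h'' n⁻¹ = h''⁻¹`
  have hconj : n * h'' * n⁻¹ = h''⁻¹ := by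
    rw [hninv]
    have : h'' * (n * h'' * n) = 1 := by rw [← hsq]; group
    exact (inv_eq_of_mul_eq_one_right this).symm
  obtain ⟨m, hm⟩ := htorus h'' hh''
  set k₁ := h'' ^ m with hk₁def
  have hk₁ : k₁ ∈ D.diagonalSubgroup F := pow_mem hh'' m
  have hconj₁ : n * k₁ * n⁻¹ = k₁⁻¹ := by
    have : n * k₁ * n⁻¹ = (n * h'' * n⁻¹) ^ m := by
      rw [hk₁def, conj_pow]
    rw [this, hconj, inv_pow]
  have e1 : k₁ * n * k₁⁻¹ = h'' * n := by
    have : k₁ * n * k₁⁻¹ = k₁ * (n * k₁ * n⁻¹)⁻¹ * n := by group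
    rw [this, hconj₁, inv_inv, hm]
  refine ⟨(k₁ * z)⁻¹, inv_mem (mul_mem (hF.diagonal_le_group hk₁) hz), ?_⟩
  rw [← e1, ← ezn]
  group

end Cfsg.Agent.Helper13.InvN
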