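import Mathlib
import Cfsg.Agent.Lib.Helper13.InvNDefsC
import Cfsg.Agent.Lib.Helper6.InvNROOTS
import Cfsg.Agent.Lib.Helper6.InvNJWORD

/-!
# INVN part C-GEN, piece CAND (core): `w` acts as `(w₀ w_J)⁻¹`

The statements of WNEG (for `w₀`) and WPOS enter as hypotheses.
-/

set_option autoImplicit false
set_option linter.unusedSectionVars false
set_option linter.unusedVariables false

namespace Cfsg.Agent.Helper13.InvN

open Cfsg Cfsg.Lie Cfsg.Agent.Lead.Chev Cfsg.Agent.Helper6.ChevL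

variable {F : Type*} [Field F] {D : ChevalleyDatum} (hF : ChevFacts D F) (hS : CorSize D) (hI : CorInj D)
include hF hS hI

/-- one reflection in a letter of `J` keeps a positive root outside `Φ_J` positive and outside `Φ_J` -/
theorem cand_step_pos (J : Set ℕ) (i : ℕ) (hi : i < D.rank) (hiJ : i ∈ J) (s : ℕ)
    (hs : D.IsPosRoot s) (hsJ : ¬ D.InRootSub J s) :
    D.IsPosRoot (D.reflectRoot i s) ∧ ¬ D.InRootSub J (D.reflectRoot i s) := by
  have hslt : s < D.nroots := hs.1
  have hlt : D.reflectRoot i s < D.nroots := (hF.facts i hi).wlt s hslt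
  have hk0 : ∃ k₀ < D.rank, k₀ ∉ J ∧ 0 < cv D s k₀ := by
    by_contra hcon
    apply hsJ
    refine ⟨hslt, ?_⟩
    intro k hk hkJ
    have h0 : 0 ≤ cv D s k := cv_nonneg D s hs k
    by_contra hne
    apply hcon
    refine ⟨k, hk, hkJ, ?_⟩
    have hne' : cv D s k ≠ 0 := hne
    omega
  obtain ⟨k₀, hk₀, hk₀J, hk₀pos⟩ := hk0
  have hk₀i : k₀ ≠ i := by
    rintro rfl
    exact hk₀J hiJ
  have hcoord : cv D (D.reflectRoot i s) k₀ = cv D s k₀ := by
    rw [cv_reflect D (etaOf D i) i (hF.facts i hi) s hslt k₀ hk₀, if_neg hk₀i, sub_zero]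
  refine ⟨?_, ?_⟩
  · rcases hF.sign.pos_or_neg _ hlt with h | h
    · exact h
    · exfalso
      have := cv_nonpos D _ h k₀
      rw [hcoord] at this
      omega
  · intro hsub
    have := hsub.2 k₀ hk₀ hk₀J
    have h2 : cv D (D.reflectRoot i s) k₀ = 0 := this
    rw [hcoord] at h2
    omega

/-- a word in the letters of `J` keeps the positive roots outside `Φ_J` positive and outside `Φ_J` -/
theorem cand_word_pos (J : Set ℕ) (c : List ℕ) (hc : WOK D c) (hcJ : ∀ i ∈ c, i ∈ J) (r : ℕ)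
    (hr : D.IsPosRoot r) (hrJ : ¬ D.InRootSub J r) :
    D.IsPosRoot (reflWord D c r) ∧ ¬ D.InRootSub J (reflWord D c r) := by
  induction c with
  | nil => exact ⟨hr, hrJ⟩
  | cons i c ih =>
    have hc' : WOK D c := fun j hj => hc j (List.mem_cons_of_mem _ hj)
    have hcJ' : ∀ j ∈ c, j ∈ J := fun j hj => hcJ j (List.mem_cons_of_mem _ hj)
    obtain ⟨h1, h2⟩ := ih hc' hcJ'
    exact cand_step_pos hF hS hI J i (hc i List.mem_cons_self) (hcJ i List.mem_cons_self) _ h1 h2

/-- one reflection in a letter of `J` preserves `Φ_J` -/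
theorem cand_inRootSub_reflect (J : Set ℕ) (j : ℕ) (hj : j < D.rank) (hjJ : j ∈ J) (r : ℕ)
    (h : D.InRootSub J r) : D.InRootSub J (D.reflectRoot j r) := by
  refine ⟨(hF.facts j hj).wlt r h.1, ?_⟩
  intro i hi hiJ
  have h1 := cv_reflect D (etaOf D j) j (hF.facts j hj) r h.1 i hi
  unfold cv at h1
  rw [h1, if_neg (by rintro rfl; exact hiJ hjJ), sub_zero]
  exact h.2 i hi hiJ

/-- a word in the letters of `J` preserves `Φ_J` -/
theorem cand_inRootSub_word (J : Set ℕ) (c : List ℕ) (hc : WOK D c) (hcJ : ∀ i ∈ c, i ∈ J) (r : ℕ)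
    (h : D.InRootSub J r) : D.InRootSub J (reflWord D c r) := by
  induction c with
  | nil => exact h
  | cons i c ih =>
    have hc' : WOK D c := fun j hj => hc j (List.mem_cons_of_mem _ hj)
    have hcJ' : ∀ j ∈ c, j ∈ J := fun j hj => hcJ j (List.mem_cons_of_mem _ hj)
    exact cand_inRootSub_reflect hF hS hI J i (hc i List.mem_cons_self) (hcJ i List.mem_cons_self) _
      (ih hc' hcJ')

/-- a word making the positive roots negative makes the negative roots positive -/
theorem cand_pos_of_neg (w0 : List ℕ) (hw0 : WOK D w0)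
    (hwneg : ∀ r, D.IsPosRoot r → D.IsNegRoot (reflWord D w0 r)) (s : ℕ) (hs : D.IsNegRoot s) :
    D.IsPosRoot (reflWord D w0 s) := by
  have h1 := hwneg _ (hF.sign.pos_of_neg s hs)
  rw [reflWord_neg D (etaOf D) hF.facts w0 hw0 s hs.1] at h1
  have h2 := hF.sign.pos_of_neg _ h1
  rwa [hF.sign.neg_neg _ (reflWord_lt D (etaOf D) hF.facts w0 hw0 s hs.1)] at h2

/-- PIECE CAND, with the statements of WNEG (for `w0`) and WPOS as hypotheses -/
theorem act_eq_cand_core (w : List ℕ) (hw : WOK D w) (hinv : Invol D w) (hM : CondM D w)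
    (w0 : List ℕ) (hw0 : WOK D w0)
    (hwneg : ∀ r, D.IsPosRoot r → D.IsNegRoot (reflWord D w0 r))
    (hwpos : ∀ y : List ℕ, WOK D y → (∀ r, D.IsPosRoot r → D.IsPosRoot (reflWord D y r)) →
      ∀ r < D.nroots, reflWord D y r = r)
    (wJ : List ℕ) (hwJ : WOK D wJ) (hJ : ∀ j ∈ wJ, j ∈ fixJ D w)
    (hneg : ∀ j ∈ fixJ D w, D.IsNegRoot (reflWord D wJ (D.simple j))) :
    ∀ r < D.nroots, reflWord D w r = reflWord D (candWord w0 wJ) r := by
  have hy : WOK D (w0 ++ w ++ wJ) := (hw0.append hw).append hwJ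
  have hpos : ∀ r, D.IsPosRoot r → D.IsPosRoot (reflWord D (w0 ++ w ++ wJ) r) := by
    intro r hr
    rw [reflWord_append, reflWord_append]
    by_cases hrJ : D.InRootSub (fixJ D w) r
    · have h1 := jword_neg hF hS hI (fixJ D w) wJ hwJ hJ (fun j hj _ => hneg j hj) r hr hrJ
      have h2 := cand_inRootSub_word hF hS hI (fixJ D w) wJ hwJ hJ r hrJ
      rw [fix_sub hF hS hI w hw hinv hM _ h2]
      exact cand_pos_of_neg hF hS hI w0 hw0 hwneg _ h1
    · obtain ⟨h1, h2⟩ := cand_word_pos hF hS hI (fixJ D w) wJ hwJ hJ r hr hrJ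
      obtain ⟨h3, -⟩ := neg_out hF hS hI w hw hinv hM _ h1 h2
      exact cand_pos_of_neg hF hS hI w0 hw0 hwneg _ h3
  have htriv := hwpos _ hy hpos
  intro r hr
  have hr'' : reflWord D wJ.reverse r < D.nroots :=
    reflWord_lt D (etaOf D) hF.facts wJ.reverse hwJ.reverse r hr
  have h1 := htriv _ hr''
  rw [reflWord_append, reflWord_append, reflWord_reverse_cancel D (etaOf D) hF.facts wJ hwJ r hr] at h1
  have hwr : reflWord D w r < D.nroots := reflWord_lt D (etaOf D) hF.facts w hw r hr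
  have h2 := reflWord_reverse_cancel' D (etaOf D) hF.facts w0 hw0 _ hwr
  unfold candWord
  rw [reflWord_append, ← h1, h2]

end Cfsg.Agent.Helper13.InvN
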