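import Mathlib
import Cfsg.Agent.Lib.Helper19.InvNCANDCore
import Cfsg.Agent.Lib.Helper6.InvNWORDS

/-!
# INVN part C-GEN, piece CAND: `w` acts as `(w₀ w_J)⁻¹`
-/

set_option autoImplicit false
set_option linter.unusedSectionVars false
set_option linter.unusedVariables false

namespace Cfsg.Agent.Helper13.InvN

open Cfsg Cfsg.Lie Cfsg.Agent.Lead.Chev Cfsg.Agent.Helper6.ChevL

variable {F : Type*} [Field F] {D : ChevalleyDatum} (hF : ChevFacts D F) (hS : CorSize D) (hI : CorInj D)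
include hF hS hI

/-- PIECE CAND (needs ROOTS, JWORD, WNEG, WPOS): `w` acts as `(w₀ w_J)⁻¹` -/
theorem act_eq_cand (w : List ℕ) (hw : WOK D w) (hinv : Invol D w) (hM : CondM D w)
    (w0 : List ℕ) (hw0 : WOK D w0) (h0 : ∀ k < D.rank, D.IsNegRoot (reflWord D w0 (D.simple k)))
    (wJ : List ℕ) (hwJ : WOK D wJ) (hJ : ∀ j ∈ wJ, j ∈ fixJ D w)
    (hneg : ∀ j ∈ fixJ D w, D.IsNegRoot (reflWord D wJ (D.simple j))) :
    ∀ r < D.nroots, reflWord D w r = reflWord D (candWord w0 wJ) r :=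
  act_eq_cand_core hF hS hI w hw hinv hM w0 hw0
    (fun r hr => reflWord_neg_of_simple hF hS hI w0 hw0 h0 r hr)
    (fun y hy hpos => reflWord_trivial_of_pos hF hS hI y hy hpos) wJ hwJ hJ hneg

end Cfsg.Agent.Helper13.InvN
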