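import Mathlib
import Cfsg.Agent.Lib.Helper19.InvNBMAINCore
import Cfsg.Agent.Lib.Helper18.InvNTORUS
import Cfsg.Agent.Lib.Helper15.InvNFRAME

/-!
# INVN part B, piece BMAIN: `h n_w` of square one is conjugate to the product over the frame
-/

set_option autoImplicit false
set_option linter.unusedSectionVars false
set_option linter.unusedVariables false

namespace Cfsg.Agent.Helper13.InvN

open Cfsg Cfsg.Lie Cfsg.Agent.Lead.Chev Cfsg.Agent.Helper6.ChevL

variable {F : Type*} [Field F] {D : ChevalleyDatum} (hF : ChevFacts D F) (hS : CorSize D) (hI : CorInj D)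
include hF hS hI

section char2

variable [CharP F 2]

/-- PIECE BMAIN (needs FRAME, TORUS) -/
theorem conj_frame [Fintype F] (hd : ∀ j < D.rank, D.cartan j (D.simple j) = 2) (S : Frame)
    (hS' : frameOK D S = true) (w : List ℕ) (hw : WOK D w)
    (hact : ∀ r < D.nroots, reflWord D w r = reflWord D (frameWord S) r)
    (h : GL D.Idx F) (hh : h ∈ D.diagonalSubgroup F)
    (hsq : (h * nWordGL D hF.xadd w) * (h * nWordGL D hF.xadd w) = 1) :
    CJ D F (h * nWordGL D hF.xadd w) (xprod hF (frameRoots D S)) :=
  conj_frame_core hF hS hI S hS' (frame_prod hF hS hI hd S hS')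
    (fun k hk => diag_sqrt hF hS hI k hk) w hw hact h hh hsq

end char2

end Cfsg.Agent.Helper13.InvN
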