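import Mathlib
import Cfsg.Agent.Lib.Helper3.LSDefs
import Cfsg.Agent.Lib.Helper3.LSDefs2

/-!
S5286 farm-out (helper3), piece LS-ACT, first half: basic computations in the model
`W = FreeGroup X ⋊[θ] Sg` acting on the free group.
-/

set_option autoImplicit false
set_option linter.unusedSectionVars false
set_option linter.unusedVariables false

noncomputable section

namespace Cfsg.Agent.Helper3.LS

universe u

/-- the reduced word of the image under a bijective relabelling of the letters -/
theorem ls_act_word_map {α : Type u} [DecidableEq α] (e : α ≃ α) (v : FreeGroup α) :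
    (FreeGroup.freeGroupCongr e v).toWord = v.toWord.map (Prod.map e id) := by
  have h1 : FreeGroup.freeGroupCongr e v = FreeGroup.mk (v.toWord.map (Prod.map e id)) := by
    conv_lhs => rw [← FreeGroup.mk_toWord (x := v)]
    show FreeGroup.map e (FreeGroup.mk v.toWord) = _
    rw [FreeGroup.map.mk]
    rfl
  rw [h1, FreeGroup.toWord_mk]
  apply FreeGroup.IsReduced.reduce_eq
  have h2 : FreeGroup.IsReduced v.toWord := FreeGroup.isReduced_toWord
  unfold FreeGroup.IsReduced at h2 ⊢
  rw [List.isChain_map]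
  refine List.IsChain.imp ?_ h2
  intro a b hab h
  exact hab (e.injective h)

variable {Sg : Type u} [Group Sg] (D : Data Sg)

theorem ls_act_smul_one (g : D.W) : g • (1 : FreeGroup D.X) = g.left := by
  rw [smul_W_def, map_one, mul_one]

theorem ls_act_θ_mk (σ : Sg) (x : D.X) (b : Bool) :
    D.θ σ (FreeGroup.mk [(x, b)]) = FreeGroup.mk [(σ • x, b)] := by
  show FreeGroup.map (MulAction.toPerm σ) (FreeGroup.mk [(x, b)]) = _
  rw [FreeGroup.map.mk]
  rfl

theorem smul_inS (s : Sg) (v : FreeGroup D.X) : D.inS s • v = D.θ s v := by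
  rw [smul_W_def]
  show (SemidirectProduct.inr s : D.W).left * D.θ (SemidirectProduct.inr s : D.W).right v = _
  rw [SemidirectProduct.left_inr, SemidirectProduct.right_inr, one_mul]

theorem mul_inS_smul_one (g : D.W) (s : Sg) :
    (g * D.inS s) • (1 : FreeGroup D.X) = g • (1 : FreeGroup D.X) := by
  rw [mul_smul, smul_inS, map_one]

theorem smul_mul_eq (g : D.W) (u d : FreeGroup D.X) : g • (u * d) = (g • u) * D.θ g.right d := by
  rw [smul_W_def, smul_W_def, map_mul, mul_assoc]

theorem smul_eq_self_iff (g : D.W) : g • (1 : FreeGroup D.X) = 1 ↔ ∃ s : Sg, g = D.inS s := by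
  rw [ls_act_smul_one]
  constructor
  · intro h
    refine ⟨g.right, ?_⟩
    apply SemidirectProduct.ext
    · show g.left = (SemidirectProduct.inr g.right : D.W).left
      rw [SemidirectProduct.left_inr, h]
    · show g.right = (SemidirectProduct.inr g.right : D.W).right
      rw [SemidirectProduct.right_inr]
  · rintro ⟨s, rfl⟩
    show (SemidirectProduct.inr s : D.W).left = 1
    rw [SemidirectProduct.left_inr]

theorem ts_smul_one (i : D.I) (b : Bool) :
    D.ts i b • (1 : FreeGroup D.X) = FreeGroup.mk [D.lt i b] := by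
  rw [ls_act_smul_one]
  cases b
  · show ((D.tt i)⁻¹ : D.W).left = FreeGroup.mk [((D.τ i)⁻¹ • D.x0 i, false)]
    rw [SemidirectProduct.inv_left]
    show D.θ (D.τ i)⁻¹ (FreeGroup.of (D.x0 i))⁻¹ = _
    rw [map_inv, θ_of]
    rfl
  · show (D.tt i : D.W).left = FreeGroup.mk [(D.x0 i, true)]
    rfl

theorem mul_ts_smul_one (g : D.W) (i : D.I) (b : Bool) :
    (g * D.ts i b) • (1 : FreeGroup D.X) =
      (g • (1 : FreeGroup D.X)) * FreeGroup.mk [((g.right • (D.lt i b).1), b)] := by
  rw [mul_smul, ts_smul_one]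
  have h : D.lt i b = ((D.lt i b).1, b) := by
    unfold Data.lt
    rfl
  have h2 : g • FreeGroup.mk [D.lt i b] = g • ((1 : FreeGroup D.X) * FreeGroup.mk [D.lt i b]) := by
    rw [one_mul]
  rw [h2, smul_mul_eq]
  conv_lhs => rw [h]
  rw [ls_act_θ_mk]

theorem θ_toWord (σ : Sg) (v : FreeGroup D.X) :
    (D.θ σ v).toWord = v.toWord.map (Prod.map (σ • ·) id) := by
  show (FreeGroup.freeGroupCongr (MulAction.toPerm σ) v).toWord = _
  rw [ls_act_word_map]
  rfl

end Cfsg.Agent.Helper3.LS
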