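import Mathlib
import Cfsg.Agent.Lib.Helper3.LSDefs
import Cfsg.Agent.Lib.Helper3.LSDefs2

/-!
S5286 farm-out (helper3), piece LS-ACT, second half: letters, their stabilizers and the conjugation
relations of the stable letters.
-/

set_option autoImplicit false
set_option linter.unusedSectionVars false
set_option linter.unusedVariables false

noncomputable section

namespace Cfsg.Agent.Helper3.LS

universe u

variable {Sg : Type u} [Group Sg] (D : Data Sg)

theorem smul_x0_idx {σ σ' : Sg} {i j : D.I} (h : σ • D.x0 i = σ' • D.x0 j) : i = j :=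
  congrArg Data.X.idx h

theorem ls_act_smul_x0 (σ : Sg) (i : D.I) : σ • D.x0 i = (⟨i, (σ : Sg ⧸ D.B i)⟩ : D.X) := by
  rw [smul_X_def]
  show (⟨i, σ • ((1 : Sg) : Sg ⧸ D.B i)⟩ : D.X) = _
  have : σ • ((1 : Sg) : Sg ⧸ D.B i) = ((σ : Sg) : Sg ⧸ D.B i) := by
    rw [MulAction.Quotient.smul_mk, smul_eq_mul, mul_one]
  rw [this]

theorem smul_x0_eq_iff (σ σ' : Sg) (i : D.I) :
    σ • D.x0 i = σ' • D.x0 i ↔ σ⁻¹ * σ' ∈ D.B i := by
  rw [ls_act_smul_x0, ls_act_smul_x0, ← QuotientGroup.eq]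
  constructor
  · intro h
    injection h
  · intro h
    rw [h]

theorem mem_B_iff (i : D.I) (x : Sg) : x ∈ D.B i ↔ (D.τ i)⁻¹ * x * D.τ i ∈ D.A i := by
  unfold Data.B
  rw [Subgroup.mem_map]
  constructor
  · rintro ⟨a, ha, rfl⟩
    have : (D.τ i)⁻¹ * (MulAut.conj (D.τ i)).toMonoidHom a * D.τ i = a := by
      show (D.τ i)⁻¹ * (D.τ i * a * (D.τ i)⁻¹) * D.τ i = a
      group
    rw [this]
    exact ha
  · intro h
    refine ⟨_, h, ?_⟩
    show D.τ i * ((D.τ i)⁻¹ * x * D.τ i) * (D.τ i)⁻¹ = x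
    group

/-- (M1) -/
theorem conj_tt (i : D.I) (a : Sg) (ha : a ∈ D.A i) :
    D.tt i * D.inS a * (D.tt i)⁻¹ = D.inS (D.τ i * a * (D.τ i)⁻¹) := by
  have hB : D.τ i * a * (D.τ i)⁻¹ ∈ D.B i := by
    rw [mem_B_iff]
    have : (D.τ i)⁻¹ * (D.τ i * a * (D.τ i)⁻¹) * D.τ i = a := by group
    rw [this]
    exact ha
  have hfix : (D.τ i * a * (D.τ i)⁻¹) • D.x0 i = D.x0 i := by
    have h1 := (smul_x0_eq_iff D 1 (D.τ i * a * (D.τ i)⁻¹) i).2 (by rw [inv_one, one_mul]; exact hB)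
    rw [one_smul] at h1
    exact h1.symm
  apply SemidirectProduct.ext
  · rw [SemidirectProduct.mul_left, SemidirectProduct.mul_left, SemidirectProduct.mul_right,
      SemidirectProduct.inv_left]
    show FreeGroup.of (D.x0 i) * D.θ (D.τ i) (SemidirectProduct.inr a : D.W).left *
      D.θ (D.τ i * (SemidirectProduct.inr a : D.W).right) (D.θ (D.τ i)⁻¹ (FreeGroup.of (D.x0 i))⁻¹) =
      (SemidirectProduct.inr (D.τ i * a * (D.τ i)⁻¹) : D.W).left
    rw [SemidirectProduct.left_inr, SemidirectProduct.left_inr, SemidirectProduct.right_inr, map_one,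
      mul_one, map_inv, map_inv, θ_of, θ_of, ← mul_smul, hfix, mul_inv_cancel]
  · rw [SemidirectProduct.mul_right, SemidirectProduct.mul_right, SemidirectProduct.inv_right]
    show D.τ i * (SemidirectProduct.inr a : D.W).right * (D.τ i)⁻¹ =
      (SemidirectProduct.inr (D.τ i * a * (D.τ i)⁻¹) : D.W).right
    rw [SemidirectProduct.right_inr, SemidirectProduct.right_inr]

theorem conj_tt_inv (i : D.I) (b : Sg) (hb : b ∈ D.B i) :
    (D.tt i)⁻¹ * D.inS b * D.tt i = D.inS ((D.τ i)⁻¹ * b * D.τ i) := by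
  have ha : (D.τ i)⁻¹ * b * D.τ i ∈ D.A i := (mem_B_iff D i b).1 hb
  have h := conj_tt D i _ ha
  have e : D.τ i * ((D.τ i)⁻¹ * b * D.τ i) * (D.τ i)⁻¹ = b := by group
  rw [e] at h
  rw [← h]
  group

end Cfsg.Agent.Helper3.LS
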