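import Mathlib
import Cfsg.Agent.Lib.Helper13.OInvDefs2
import Cfsg.Agent.Lib.Lead.WeylCert
import Cfsg.Agent.Lib.Lead.ChevOrder

/-!
# ODDINV piece CHK (helper19): soundness of the computable checks `kfixChk`, `spanChk`, `nPosChiP`.
-/

set_option autoImplicit false
set_option linter.unusedSectionVars false
set_option linter.unusedVariables false

namespace Cfsg.Agent.Helper13.OInv

open Cfsg Cfsg.Lie Cfsg.Agent.Lead.Chev Cfsg.Agent.Lead.Tw Cfsg.Agent.Lead.PolyL

variable {F : Type*} [Field F] {D : ChevalleyDatum}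

/-! ## PIECE OINV-CHK : soundness of the computable checks -/

theorem kfix_of_chk (hF : ChevFacts D F) (Ws : List ℕ)
    (hWs : ∀ i < D.rank, ∀ v < D.nroots, unpack8 (Ws.getD i 0) v = D.reflectRoot i v)
    (Kl : List ℕ) (chiL : List Bool) (h : kfixChk D Ws Kl chiL = true) :
    ∀ k ∈ Kl, ∀ r < D.nroots, chiOf chiL (D.reflectRoot k r) = chiOf chiL r := by
  intro k hk r hr
  unfold kfixChk at h
  rw [List.all_eq_true] at h
  have h1 := h k hk
  rw [Bool.and_eq_true, decide_eq_true_eq, List.all_eq_true] at h1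
  obtain ⟨hkr, h2⟩ := h1
  have h3 := h2 r (List.mem_range.2 hr)
  rw [beq_iff_eq, hWs k hkr r hr] at h3
  exact h3

theorem span_of_chk (Kl : List ℕ) (chiL : List Bool) (h : spanChk D Kl chiL = true) :
    ∀ r < D.nroots, InSpan D {i | i ∈ Kl} r → chiOf chiL r = false := by
  intro r hr hspan
  unfold spanChk at h
  rw [List.all_eq_true] at h
  have h1 := h r (List.mem_range.2 hr)
  rw [Bool.or_eq_true] at h1
  rcases h1 with h1 | h1
  · have : chiL.getD r false = false := by
      cases hb : chiL.getD r false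
      · rfl
      · rw [hb] at h1; simp at h1
    exact this
  · exfalso
    rw [List.any_eq_true] at h1
    obtain ⟨j, hj, hj2⟩ := h1
    rw [Bool.and_eq_true, decide_eq_true_eq] at hj2
    obtain ⟨hjK, hcv⟩ := hj2
    have hjK' : j ∉ Kl := by
      intro hmem
      simp [hmem] at hjK
    exact hcv (hspan j (List.mem_range.1 hj) hjK')

theorem nPosChi_eq (hF : ChevFacts D F) (hn : D.nroots = 2 * (D.nroots / 2)) (chiL : List Bool) :
    nPosChi D (chiOf chiL) = nPosChiP D chiL := by
  unfold nPosChi nPosChiP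
  rw [← List.toFinset_card_of_nodup (List.Nodup.filter _ List.nodup_range')]
  congr 1
  ext r
  rw [Finset.mem_filter, Finset.mem_range, List.mem_toFinset, List.mem_filter, List.mem_range'_1]
  constructor
  · rintro ⟨hr, hpos, hchi⟩
    have h3 := (hF.isPosRoot_iff_ge r hr).1 hpos
    refine ⟨⟨h3, by omega⟩, ?_⟩
    have : chiL.getD r false = false := hchi
    rw [this]
    rfl
  · rintro ⟨⟨h1, h2⟩, h3⟩
    have hr : r < D.nroots := by omega
    refine ⟨hr, (hF.isPosRoot_iff_ge r hr).2 h1, ?_⟩
    show chiL.getD r false = false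
    cases hb : chiL.getD r false
    · rfl
    · rw [hb] at h3; simp at h3

end Cfsg.Agent.Helper13.OInv
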