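import Mathlib

/-!
# ODDINV piece ARITH (helper19): the two centralizer orders differ (`F4`, `E8`, `q ≥ 2`).
-/

set_option autoImplicit false
set_option linter.unusedSectionVars false
set_option linter.unusedVariables false

namespace Cfsg.Agent.Helper13.OInv

theorem arith_pos (q : ℕ) (hq : 2 ≤ q) (k : ℕ) (hk : 0 < k) : 0 < q ^ k - 1 := by
  have : 1 < q ^ k := Nat.one_lt_pow (by omega) (by omega)
  omega

theorem arith_gen (A B P : ℕ) (hAB : B < A) (hP : 0 < P) : A * P ≠ B * P := by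
  have : B * P < A * P := Nat.mul_lt_mul_of_pos_right hAB hP
  omega

/-! ## PIECE OINV-ARITH : the two centralizer orders differ -/

theorem arith_F4 (q : ℕ) (hq : 2 ≤ q) :
    q ^ 16 * (q ^ 2 - 1) * (q ^ 4 - 1) * (q ^ 6 - 1) * (q ^ 8 - 1) ≠
      q ^ 10 * (q ^ 2 - 1) ^ 2 * (q ^ 4 - 1) * (q ^ 6 - 1) := by
  have h2 := arith_pos q hq 2 (by norm_num)
  have h4 := arith_pos q hq 4 (by norm_num)
  have h6 := arith_pos q hq 6 (by norm_num)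
  have had : q ^ 2 - 1 ≤ q ^ 8 - 1 :=
    Nat.sub_le_sub_right (Nat.pow_le_pow_right (by omega) (by norm_num)) 1
  have hpow : q ^ 10 < q ^ 16 := Nat.pow_lt_pow_right (by omega) (by norm_num)
  have hP : 0 < (q ^ 2 - 1) * (q ^ 4 - 1) * (q ^ 6 - 1) := Nat.mul_pos (Nat.mul_pos h2 h4) h6
  have hlt : q ^ 10 * (q ^ 2 - 1) < q ^ 16 * (q ^ 8 - 1) :=
    lt_of_lt_of_le (Nat.mul_lt_mul_of_pos_right hpow h2) (Nat.mul_le_mul_left _ had)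
  have e1 : q ^ 16 * (q ^ 2 - 1) * (q ^ 4 - 1) * (q ^ 6 - 1) * (q ^ 8 - 1) =
      (q ^ 16 * (q ^ 8 - 1)) * ((q ^ 2 - 1) * (q ^ 4 - 1) * (q ^ 6 - 1)) := by ring
  have e2 : q ^ 10 * (q ^ 2 - 1) ^ 2 * (q ^ 4 - 1) * (q ^ 6 - 1) =
      (q ^ 10 * (q ^ 2 - 1)) * ((q ^ 2 - 1) * (q ^ 4 - 1) * (q ^ 6 - 1)) := by ring
  rw [e1, e2]
  exact arith_gen _ _ _ hlt hP

theorem arith_E8 (q : ℕ) (hq : 2 ≤ q) :
    q ^ 56 * (q ^ 8 - 1) * ∏ i ∈ Finset.Icc 1 7, (q ^ (2 * i) - 1) ≠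
      q ^ 64 * (q ^ 2 - 1) ^ 2 * (q ^ 6 - 1) * (q ^ 8 - 1) * (q ^ 10 - 1) * (q ^ 12 - 1) * (q ^ 14 - 1) *
        (q ^ 18 - 1) := by
  have hprod : ∏ i ∈ Finset.Icc 1 7, (q ^ (2 * i) - 1) =
      (q ^ 2 - 1) * (q ^ 4 - 1) * (q ^ 6 - 1) * (q ^ 8 - 1) * (q ^ 10 - 1) * (q ^ 12 - 1) *
        (q ^ 14 - 1) := by
    have : Finset.Icc 1 7 = ({1, 2, 3, 4, 5, 6, 7} : Finset ℕ) := by decide
    rw [this]
    simp
    ring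
  rw [hprod]
  have h2 := arith_pos q hq 2 (by norm_num)
  have h6 := arith_pos q hq 6 (by norm_num)
  have h8 := arith_pos q hq 8 (by norm_num)
  have h10 := arith_pos q hq 10 (by norm_num)
  have h12 := arith_pos q hq 12 (by norm_num)
  have h14 := arith_pos q hq 14 (by norm_num)
  have hP : 0 < (q ^ 2 - 1) * (q ^ 6 - 1) * (q ^ 8 - 1) * (q ^ 10 - 1) * (q ^ 12 - 1) * (q ^ 14 - 1) :=
    Nat.mul_pos (Nat.mul_pos (Nat.mul_pos (Nat.mul_pos (Nat.mul_pos h2 h6) h8) h10) h12) h14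
  -- the small side
  have hB : q ^ 56 * ((q ^ 8 - 1) * (q ^ 4 - 1)) ≤ q ^ 68 := by
    calc q ^ 56 * ((q ^ 8 - 1) * (q ^ 4 - 1)) ≤ q ^ 56 * (q ^ 8 * q ^ 4) :=
          Nat.mul_le_mul_left _ (Nat.mul_le_mul (Nat.sub_le _ _) (Nat.sub_le _ _))
      _ = q ^ 68 := by ring
  -- the large side
  have h17 : q ^ 17 ≤ q ^ 18 - 1 := by
    have e : q ^ 18 = q ^ 17 * q := pow_succ q 17
    have h1 : 1 ≤ q ^ 17 := Nat.one_le_pow _ _ (by omega)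
    have h3 : q ^ 17 * 2 ≤ q ^ 17 * q := Nat.mul_le_mul_left _ hq
    omega
  have hA : q ^ 81 ≤ q ^ 64 * ((q ^ 2 - 1) * (q ^ 18 - 1)) := by
    calc q ^ 81 = q ^ 64 * (1 * q ^ 17) := by ring
      _ ≤ q ^ 64 * ((q ^ 2 - 1) * (q ^ 18 - 1)) :=
          Nat.mul_le_mul_left _ (Nat.mul_le_mul h2 h17)
  have hpow : q ^ 68 < q ^ 81 := Nat.pow_lt_pow_right (by omega) (by norm_num)
  have hlt : q ^ 56 * ((q ^ 8 - 1) * (q ^ 4 - 1)) < q ^ 64 * ((q ^ 2 - 1) * (q ^ 18 - 1)) :=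
    lt_of_le_of_lt hB (lt_of_lt_of_le hpow hA)
  have e1 : q ^ 56 * (q ^ 8 - 1) * ((q ^ 2 - 1) * (q ^ 4 - 1) * (q ^ 6 - 1) * (q ^ 8 - 1) * (q ^ 10 - 1) *
      (q ^ 12 - 1) * (q ^ 14 - 1)) =
      (q ^ 56 * ((q ^ 8 - 1) * (q ^ 4 - 1))) *
        ((q ^ 2 - 1) * (q ^ 6 - 1) * (q ^ 8 - 1) * (q ^ 10 - 1) * (q ^ 12 - 1) * (q ^ 14 - 1)) := by ring
  have e2 : q ^ 64 * (q ^ 2 - 1) ^ 2 * (q ^ 6 - 1) * (q ^ 8 - 1) * (q ^ 10 - 1) * (q ^ 12 - 1) * (q ^ 14 - 1) *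
        (q ^ 18 - 1) =
      (q ^ 64 * ((q ^ 2 - 1) * (q ^ 18 - 1))) *
        ((q ^ 2 - 1) * (q ^ 6 - 1) * (q ^ 8 - 1) * (q ^ 10 - 1) * (q ^ 12 - 1) * (q ^ 14 - 1)) := by ring
  rw [e1, e2]
  exact (arith_gen _ _ _ hlt hP).symm

end Cfsg.Agent.Helper13.OInv
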