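import Mathlib
import Cfsg.Agent.Lib.Helper6.SpMat0

/-!
# Elementary symplectic matrices satisfy the Steinberg relations of type `C`

Farm-out piece M1 of S2092 (helper6).
-/

set_option autoImplicit false
set_option linter.unusedSectionVars false
set_option linter.unusedVariables false
set_option linter.style.haveILetI false
set_option linter.unusedSimpArgs false

namespace Cfsg.Agent.Helper19.SpM1

open Matrix Cfsg.Agent.Helper6.SpN

variable {I : Type*} [Fintype I] [DecidableEq I] {K : Type*} [Field K]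

/-- matrix units -/
def E (x y : I ⊕ I) : Matrix (I ⊕ I) (I ⊕ I) K := Matrix.single x y 1

theorem single_eq_smul (x y : I ⊕ I) (c : K) : Matrix.single x y c = c • (E x y : Matrix _ _ K) := by
  unfold E
  rw [Matrix.smul_single, smul_eq_mul, mul_one]

theorem E_mul_E (x y z w : I ⊕ I) :
    (E x y : Matrix (I ⊕ I) (I ⊕ I) K) * E z w = if y = z then E x w else 0 := by
  unfold E
  split_ifs with h
  · subst h
    rw [Matrix.single_mul_single_same, mul_one]
  · exact Matrix.single_mul_single_of_ne (1 : K) x y z h (1 : K)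

theorem E_transpose (x y : I ⊕ I) : (E x y : Matrix (I ⊕ I) (I ⊕ I) K)ᵀ = E y x := by
  unfold E
  rw [Matrix.transpose_single]

theorem J_apply (x y : I ⊕ I) : Matrix.J I K x y = if y = ng x then - sg K x else 0 := by
  cases x <;> cases y <;> simp [Matrix.J, ng, sg, Matrix.one_apply, eq_comm]
  split_ifs <;> simp

theorem E_mul_J (x y : I ⊕ I) :
    (E x y : Matrix (I ⊕ I) (I ⊕ I) K) * Matrix.J I K = (- sg K y) • E x (ng y) := by
  ext i j
  unfold E
  by_cases hi : i = x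
  · subst hi
    rw [Matrix.single_mul_apply_same, J_apply, Matrix.smul_apply, Matrix.single_apply]
    by_cases hj : j = ng y
    · subst hj; simp
    · have h1 : ¬ (i = i ∧ ng y = j) := fun h => hj h.2.symm
      rw [if_neg hj, if_neg h1]; simp
  · rw [Matrix.single_mul_apply_of_ne (1 : K) x y i j hi, Matrix.smul_apply, Matrix.single_apply]
    have h1 : ¬ (x = i ∧ ng y = j) := fun h => hi h.1.symm
    rw [if_neg h1]; simp

theorem J_mul_E (x y : I ⊕ I) :
    Matrix.J I K * (E x y : Matrix (I ⊕ I) (I ⊕ I) K) = (sg K x) • E (ng x) y := by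
  ext i j
  unfold E
  by_cases hj : j = y
  · subst hj
    rw [Matrix.mul_single_apply_same, J_apply, Matrix.smul_apply, Matrix.single_apply]
    by_cases hi : i = ng x
    · subst hi; simp [sg_ng]
    · have h1 : ¬ (ng x = i ∧ j = j) := fun h => hi h.1.symm
      have h2 : ¬ (x = ng i) := fun h => hi (by rw [h, ng_ng])
      rw [if_neg h2, if_neg h1]; simp
  · rw [Matrix.mul_single_apply_of_ne (1 : K) x y i j hj, Matrix.smul_apply, Matrix.single_apply]
    have h1 : ¬ (ng x = i ∧ y = j) := fun h => hj h.2.symm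
    rw [if_neg h1]; simp

theorem sg_cases (a : I ⊕ I) : sg K a = 1 ∨ sg K a = -1 := by
  cases a <;> simp [sg]

/-- all the disequalities following from `a ≠ ± b` -/
theorem ne_pack {a b : I ⊕ I} (h : a ≠ b) (h' : a ≠ ng b) :
    b ≠ a ∧ ng b ≠ a ∧ ng a ≠ b ∧ b ≠ ng a ∧ ng a ≠ ng b ∧ ng b ≠ ng a := by
  refine ⟨h.symm, h'.symm, ?_, ?_, ?_, ?_⟩
  · exact ng_ne_iff.2 h'
  · exact (ng_ne_iff.2 h').symm
  · exact ng_ne_ng.2 h
  · exact (ng_ne_ng.2 h).symm

theorem mem_symp_iff (A : Matrix (I ⊕ I) (I ⊕ I) K) :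
    A ∈ symplecticGroup I K ↔ A * Matrix.J I K * Aᵀ = Matrix.J I K := SymplecticGroup.mem_iff

theorem TmM_mem {a b : I ⊕ I} (hab : a ≠ b) (hab' : a ≠ ng b) (t : K) :
    TmM a b t ∈ symplecticGroup I K := by
  rw [mem_symp_iff]
  obtain ⟨h1, h2, h3, h4, h5, h6⟩ := ne_pack hab hab'
  have ha := ne_ng a
  have hb := ne_ng b
  have ha' := ng_ne a
  have hb' := ng_ne b
  simp only [TmM, single_eq_smul, Matrix.transpose_add, Matrix.transpose_sub, Matrix.transpose_one,
    Matrix.transpose_smul, E_transpose]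
  simp only [mul_add, add_mul, mul_sub, sub_mul, mul_one, one_mul, smul_mul_assoc, mul_smul_comm,
    E_mul_J, J_mul_E, E_mul_E, ng_ng, sg_ng, hab, hab', h1, h2, h3, h4, h5, h6, ha, hb, ha', hb',
    if_true, if_false, smul_zero, mul_zero, zero_mul, add_zero, sub_zero, zero_add]
  rcases sg_cases (K := K) a with sa | sa <;> rcases sg_cases (K := K) b with sb | sb <;>
    simp only [sa, sb] <;> module

theorem LmM_mem (a : I ⊕ I) (t : K) : LmM a t ∈ symplecticGroup I K := by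
  rw [mem_symp_iff]
  have ha := ne_ng a
  have ha' := ng_ne a
  simp only [LmM, single_eq_smul, Matrix.transpose_add, Matrix.transpose_one,
    Matrix.transpose_smul, E_transpose]
  simp only [mul_add, add_mul, mul_one, one_mul, smul_mul_assoc, mul_smul_comm,
    E_mul_J, J_mul_E, E_mul_E, ng_ng, sg_ng, ha, ha',
    if_true, if_false, smul_zero, mul_zero, zero_mul, add_zero, zero_add]
  rcases sg_cases (K := K) a with sa | sa <;> simp only [sa] <;> module

theorem Tm_coe {a b : I ⊕ I} (hab : a ≠ b) (hab' : a ≠ ng b) (t : K) :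
    ((Tm a b t : symplecticGroup I K) : Matrix (I ⊕ I) (I ⊕ I) K) = TmM a b t := by
  unfold Tm
  rw [dif_pos (TmM_mem hab hab' t)]

theorem Lm_coe (a : I ⊕ I) (t : K) :
    ((Lm a t : symplecticGroup I K) : Matrix (I ⊕ I) (I ⊕ I) K) = LmM a t := by
  unfold Lm
  rw [dif_pos (LmM_mem a t)]

theorem coe_mul' (A B : symplecticGroup I K) :
    ((A * B : symplecticGroup I K) : Matrix (I ⊕ I) (I ⊕ I) K) =
      (A : Matrix (I ⊕ I) (I ⊕ I) K) * (B : Matrix (I ⊕ I) (I ⊕ I) K) := rfl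

theorem coe_one' : ((1 : symplecticGroup I K) : Matrix (I ⊕ I) (I ⊕ I) K) = 1 := rfl

/-! ### additivity and inverses -/

theorem Tm_add {a b : I ⊕ I} (hab : a ≠ b) (hab' : a ≠ ng b) (t u : K) :
    (Tm a b t : symplecticGroup I K) * Tm a b u = Tm a b (t + u) := by
  apply Subtype.ext
  rw [coe_mul', Tm_coe hab hab', Tm_coe hab hab', Tm_coe hab hab']
  obtain ⟨h1, h2, h3, h4, h5, h6⟩ := ne_pack hab hab'
  have ha := ne_ng a
  have hb := ne_ng b
  have ha' := ng_ne a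
  have hb' := ng_ne b
  simp only [TmM, single_eq_smul]
  simp only [mul_add, add_mul, mul_sub, sub_mul, mul_one, one_mul, smul_mul_assoc, mul_smul_comm,
    E_mul_E, ng_ng, sg_ng, hab, hab', h1, h2, h3, h4, h5, h6, ha, hb, ha', hb',
    if_true, if_false, smul_zero, mul_zero, zero_mul, add_zero, sub_zero, zero_add]
  module

theorem Lm_add (a : I ⊕ I) (t u : K) :
    (Lm a t : symplecticGroup I K) * Lm a u = Lm a (t + u) := by
  apply Subtype.ext
  rw [coe_mul', Lm_coe, Lm_coe, Lm_coe]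
  have ha := ne_ng a
  have ha' := ng_ne a
  simp only [LmM, single_eq_smul]
  simp only [mul_add, add_mul, mul_one, one_mul, smul_mul_assoc, mul_smul_comm,
    E_mul_E, ng_ng, ha, ha',
    if_true, if_false, smul_zero, mul_zero, zero_mul, add_zero, zero_add]
  module

theorem Tm_zero {a b : I ⊕ I} (hab : a ≠ b) (hab' : a ≠ ng b) :
    (Tm a b (0 : K) : symplecticGroup I K) = 1 := by
  have := Tm_add hab hab' (0 : K) 0
  rw [add_zero] at this
  exact mul_eq_left.1 this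

theorem Lm_zero (a : I ⊕ I) : (Lm a (0 : K) : symplecticGroup I K) = 1 := by
  have := Lm_add a (0 : K) 0
  rw [add_zero] at this
  exact mul_eq_left.1 this

theorem Tm_inv {a b : I ⊕ I} (hab : a ≠ b) (hab' : a ≠ ng b) (t : K) :
    (Tm a b t : symplecticGroup I K)⁻¹ = Tm a b (-t) := by
  rw [inv_eq_iff_mul_eq_one, Tm_add hab hab', add_neg_cancel, Tm_zero hab hab']

theorem Lm_inv (a : I ⊕ I) (t : K) : (Lm a t : symplecticGroup I K)⁻¹ = Lm a (-t) := by
  rw [inv_eq_iff_mul_eq_one, Lm_add, add_neg_cancel, Lm_zero]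

theorem pk1 {x y : I ⊕ I} (h : x ≠ y) : y ≠ x ∧ ng x ≠ ng y ∧ ng y ≠ ng x :=
  ⟨h.symm, ng_ne_ng.2 h, (ng_ne_ng.2 h).symm⟩

theorem pk2 {x y : I ⊕ I} (h : x ≠ ng y) : ng y ≠ x ∧ ng x ≠ y ∧ y ≠ ng x :=
  ⟨h.symm, ng_ne_iff.2 h, (ng_ne_iff.2 h).symm⟩

/-! ### the relations -/

theorem Tm_sym {a b : I ⊕ I} (hab : a ≠ b) (hab' : a ≠ ng b) (t : K) :
    (Tm a b t : symplecticGroup I K) = Tm (ng b) (ng a) (-(sg K a * sg K b * t)) := by
  obtain ⟨q0a, q0b, q0c⟩ := pk1 hab
  obtain ⟨q0d, q0e, q0f⟩ := pk2 hab'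
  have sa1 := ne_ng a
  have sa2 := ng_ne a
  have sb1 := ne_ng b
  have sb2 := ng_ne b
  have e1 : ng b ≠ ng (ng a) := by rw [ng_ng]; exact q0d
  apply Subtype.ext
  rw [Tm_coe hab hab', Tm_coe q0c e1]
  simp only [TmM, single_eq_smul, ng_ng, sg_ng]
  rcases sg_cases (K := K) a with ea | ea <;> rcases sg_cases (K := K) b with eb | eb <;>
    simp only [ea, eb] <;> module

theorem Tm_comm_Tm {a b c d : I ⊕ I} (hab : a ≠ b) (hab' : a ≠ ng b) (hcd : c ≠ d) (hcd' : c ≠ ng d)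
    (hcb : c ≠ b) (hca : c ≠ ng a) (hda : d ≠ a) (hdb : d ≠ ng b) (t u : K) :
    Commute (Tm a b t : symplecticGroup I K) (Tm c d u) := by
  obtain ⟨q0a, q0b, q0c⟩ := pk1 hcb
  obtain ⟨q1a, q1b, q1c⟩ := pk1 hda
  obtain ⟨q2d, q2e, q2f⟩ := pk2 hca
  obtain ⟨q3d, q3e, q3f⟩ := pk2 hdb
  unfold Commute SemiconjBy
  apply Subtype.ext
  rw [coe_mul', coe_mul', Tm_coe hab hab', Tm_coe hcd hcd']
  simp only [TmM, single_eq_smul]
  simp only [*, mul_add, add_mul, mul_sub, sub_mul, mul_one, one_mul, smul_mul_assoc, mul_smul_comm,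
    E_mul_E, ng_ng, sg_ng, if_true, if_false, smul_zero, mul_zero, zero_mul, add_zero, sub_zero,
    zero_add, neg_zero, sub_self]
  module

theorem Tm_comm_Lm {a b c : I ⊕ I} (hab : a ≠ b) (hab' : a ≠ ng b) (hcb : c ≠ b) (hca : c ≠ ng a)
    (t u : K) : Commute (Tm a b t : symplecticGroup I K) (Lm c u) := by
  obtain ⟨q0a, q0b, q0c⟩ := pk1 hcb
  obtain ⟨q2d, q2e, q2f⟩ := pk2 hca
  unfold Commute SemiconjBy
  apply Subtype.ext
  rw [coe_mul', coe_mul', Tm_coe hab hab', Lm_coe]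
  simp only [TmM, LmM, single_eq_smul]
  simp only [*, mul_add, add_mul, mul_sub, sub_mul, mul_one, one_mul, smul_mul_assoc, mul_smul_comm,
    E_mul_E, ng_ng, sg_ng, if_true, if_false, smul_zero, mul_zero, zero_mul, add_zero, sub_zero,
    zero_add, neg_zero, sub_self]
  module

theorem Lm_comm_Lm {a c : I ⊕ I} (hca : c ≠ ng a) (t u : K) :
    Commute (Lm a t : symplecticGroup I K) (Lm c u) := by
  obtain ⟨q2d, q2e, q2f⟩ := pk2 hca
  unfold Commute SemiconjBy
  apply Subtype.ext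
  rw [coe_mul', coe_mul', Lm_coe, Lm_coe]
  simp only [LmM, single_eq_smul]
  simp only [*, mul_add, add_mul, mul_sub, sub_mul, mul_one, one_mul, smul_mul_assoc, mul_smul_comm,
    E_mul_E, ng_ng, sg_ng, if_true, if_false, smul_zero, mul_zero, zero_mul, add_zero, sub_zero,
    zero_add, neg_zero, sub_self]
  module

theorem rel3 {a b c : I ⊕ I} (hab : a ≠ b) (hab' : a ≠ ng b) (hbc : b ≠ c) (hbc' : b ≠ ng c)
    (hac : a ≠ c) (hac' : a ≠ ng c) (t u : K) :
    (Tm a b t : symplecticGroup I K) * Tm b c u * (Tm a b t)⁻¹ * (Tm b c u)⁻¹ = Tm a c (t * u) := by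
  obtain ⟨q0a, q0b, q0c⟩ := pk1 hab
  obtain ⟨q0d, q0e, q0f⟩ := pk2 hab'
  obtain ⟨q1a, q1b, q1c⟩ := pk1 hbc
  obtain ⟨q1d, q1e, q1f⟩ := pk2 hbc'
  obtain ⟨q2a, q2b, q2c⟩ := pk1 hac
  obtain ⟨q2d, q2e, q2f⟩ := pk2 hac'
  have sa1 := ne_ng a
  have sa2 := ng_ne a
  have sb1 := ne_ng b
  have sb2 := ng_ne b
  have sc1 := ne_ng c
  have sc2 := ng_ne c
  rw [Tm_inv hab hab', Tm_inv hbc hbc']
  apply Subtype.ext
  rw [coe_mul', coe_mul', coe_mul', Tm_coe hab hab', Tm_coe hbc hbc', Tm_coe hab hab',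
    Tm_coe hbc hbc', Tm_coe hac hac']
  simp only [TmM, single_eq_smul]
  simp only [*, mul_add, add_mul, mul_sub, sub_mul, mul_one, one_mul, smul_mul_assoc, mul_smul_comm,
    E_mul_E, ng_ng, sg_ng, if_true, if_false, smul_zero, mul_zero, zero_mul, add_zero, sub_zero,
    zero_add, neg_zero, sub_self]
  rcases sg_cases (K := K) a with ea | ea <;> rcases sg_cases (K := K) b with eb | eb <;> rcases sg_cases (K := K) c with ec | ec <;>
    simp only [ea, eb, ec] <;> module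

theorem rel4 {a b : I ⊕ I} (hab : a ≠ b) (hab' : a ≠ ng b) (t u : K) :
    (Tm a b t : symplecticGroup I K) * Lm b u * (Tm a b t)⁻¹ * (Lm b u)⁻¹ =
      Tm a (ng b) (t * u) * Lm a (sg K a * sg K b * t ^ 2 * u) := by
  obtain ⟨q0a, q0b, q0c⟩ := pk1 hab
  obtain ⟨q0d, q0e, q0f⟩ := pk2 hab'
  have sa1 := ne_ng a
  have sa2 := ng_ne a
  have sb1 := ne_ng b
  have sb2 := ng_ne b
  have e1 : a ≠ ng (ng b) := by rw [ng_ng]; exact hab
  rw [Tm_inv hab hab', Lm_inv]
  apply Subtype.ext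
  rw [coe_mul', coe_mul', coe_mul', coe_mul', Tm_coe hab hab', Lm_coe, Tm_coe hab hab', Lm_coe,
    Tm_coe hab' e1, Lm_coe]
  simp only [TmM, LmM, single_eq_smul]
  simp only [*, mul_add, add_mul, mul_sub, sub_mul, mul_one, one_mul, smul_mul_assoc, mul_smul_comm,
    E_mul_E, ng_ng, sg_ng, if_true, if_false, smul_zero, mul_zero, zero_mul, add_zero, sub_zero,
    zero_add, neg_zero, sub_self]
  rcases sg_cases (K := K) a with ea | ea <;> rcases sg_cases (K := K) b with eb | eb <;>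
    simp only [ea, eb] <;> module

theorem rel5 {a b : I ⊕ I} (hab : a ≠ b) (hab' : a ≠ ng b) (t u : K) :
    (Tm a b t : symplecticGroup I K) * Tm b (ng a) u * (Tm a b t)⁻¹ * (Tm b (ng a) u)⁻¹ =
      Lm a (2 * t * u) := by
  obtain ⟨q0a, q0b, q0c⟩ := pk1 hab
  obtain ⟨q0d, q0e, q0f⟩ := pk2 hab'
  have sa1 := ne_ng a
  have sa2 := ng_ne a
  have sb1 := ne_ng b
  have sb2 := ng_ne b
  have e1 : b ≠ ng (ng a) := by rw [ng_ng]; exact q0a
  rw [Tm_inv hab hab', Tm_inv q0f e1]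
  apply Subtype.ext
  rw [coe_mul', coe_mul', coe_mul', Tm_coe hab hab', Tm_coe q0f e1, Tm_coe hab hab',
    Tm_coe q0f e1, Lm_coe]
  simp only [TmM, LmM, single_eq_smul]
  simp only [*, mul_add, add_mul, mul_sub, sub_mul, mul_one, one_mul, smul_mul_assoc, mul_smul_comm,
    E_mul_E, ng_ng, sg_ng, if_true, if_false, smul_zero, mul_zero, zero_mul, add_zero, sub_zero,
    zero_add, neg_zero, sub_self]
  rcases sg_cases (K := K) a with ea | ea <;> rcases sg_cases (K := K) b with eb | eb <;>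
    simp only [ea, eb] <;> module

theorem spRel_Tm_Lm : SpRel (Tm (I := I) (K := K)) Lm where
  addT := fun a b h h' t u => Tm_add h h' t u
  addL := fun a t u => Lm_add a t u
  symT := fun a b h h' t => Tm_sym h h' t
  commTT := fun a b c d h1 h2 h3 h4 h5 h6 h7 h8 t u => Tm_comm_Tm h1 h2 h3 h4 h5 h6 h7 h8 t u
  commTL := fun a b c h1 h2 h3 h4 t u => Tm_comm_Lm h1 h2 h3 h4 t u
  commLL := fun a c h t u => Lm_comm_Lm h t u
  r3 := fun a b c h1 h2 h3 h4 h5 h6 t u => rel3 h1 h2 h3 h4 h5 h6 t u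
  r4 := fun a b h h' t u => rel4 h h' t u
  r5 := fun a b h h' t u => rel5 h h' t u

end Cfsg.Agent.Helper19.SpM1
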