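import Mathlib
import Cfsg.Prelude
import Cfsg.Agent.Lib.Helper13.StBN1
import Cfsg.Agent.Lib.Helper13.SdAbs
import Cfsg.Agent.Lib.Helper20.SdIndex
import Cfsg.Agent.Lib.Helper11.OrthCDMinus

/-!
# S2549, piece INDEXM (helper19): the index of `Ω` in `j(⟨B, N⟩)` is prime to `p` (minus type).
-/

set_option autoImplicit false
set_option linter.unusedSectionVars false
set_option linter.unusedVariables false
set_option linter.style.haveILetI false
set_option linter.unusedSimpArgs false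

namespace Cfsg.Agent.Helper13.StP

open Matrix Cfsg.Agent.Helper13.SuBN Cfsg.Agent.Helper13.SdBN Cfsg.Agent.Helper13.StBN
  Cfsg.Agent.Helper13.BNAbs Cfsg.Agent.Helper13.SdP

section Refl

variable {n : ℕ} {K : Type*} [Field K]

theorem idxSwap_eq_tauP (hn : n % 2 = 0) (h2 : 2 ≤ n) : idxSwap n h2 = tauP n := by
  ext a
  rw [idxSwap_val hn h2, tauP_val]
  have ha := a.2
  split_ifs <;> omega

/-- the reflection lies in the twisted group -/
theorem reflQ_mem_twG [CharP K 2] (hn : n % 2 = 0) (h2 : 2 ≤ n) (φ : K →+* K) :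
    reflQ n K hn h2 ∈ twG n φ := by
  rw [mem_twG_iff hn]
  ext a b
  rw [sig_apply]
  show φ (reflMat n K h2 (tauP n a) (tauP n b)) = reflMat n K h2 a b
  unfold reflMat
  rw [idxSwap_eq_tauP hn h2]
  by_cases h : a = tauP n b
  · rw [if_pos h, if_pos (by rw [h]), map_one]
  · rw [if_neg h, if_neg, map_zero]
    intro e
    apply h
    have := congrArg (tauP n) e
    rw [tauP_tauP, tauP_tauP] at this
    exact this

theorem reflQ_mem_gT [CharP K 2] (hn : n % 2 = 0) (h2 : 2 ≤ n) (φ : K →+* K) :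
    reflQ n K hn h2 ∈ gT n φ :=
  ⟨reflQ_mem hn h2, reflQ_mem_twG hn h2 φ⟩

theorem reflQ_not_mem_sup [CharP K 2] (hn : n % 2 = 0) (h2 : 2 ≤ n) (φ : K →+* K)
    {S : Set (WSU n (RingHom.id K))} (hloc : BNLoc (borT n φ) (monT n φ) S) :
    reflQ n K hn h2 ∉ borT n φ ⊔ monT n φ := by
  apply not_mem_sup_of_normalizes hloc
  · intro b hb
    refine ⟨reflQ_conj_mem hn h2 b hb.1, ?_⟩
    exact (twG n φ).mul_mem ((twG n φ).mul_mem (reflQ_mem_twG hn h2 φ) hb.2)
      ((twG n φ).inv_mem (reflQ_mem_twG hn h2 φ))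
  · intro N0 hN0 hmem
    exact reflQ_not_mem hn h2 N0 hN0.1 hmem.1

end Refl

/-- an element of `gT` outside `⟨B, N⟩` gives an element outside the image -/
theorem map_ne_top_of_not_mem_T {n : ℕ} {K : Type*} [Field K] {φ : K →+* K} {O : Type*} [Group O]
    (j : ↥(gT n φ) →* O) (hinj : Function.Injective j) (r : WSU n (RingHom.id K))
    (hr : r ∈ gT n φ) (hnot : r ∉ borT n φ ⊔ monT n φ) :
    ((borT n φ ⊔ monT n φ).subgroupOf (gT n φ)).map j ≠ ⊤ := by
  intro htop
  have h1 : j ⟨r, hr⟩ ∈ ((borT n φ ⊔ monT n φ).subgroupOf (gT n φ)).map j := by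
    rw [htop]; exact Subgroup.mem_top _
  rw [Subgroup.mem_map] at h1
  obtain ⟨x, hx, hjx⟩ := h1
  have h2 : x = ⟨r, hr⟩ := hinj hjx
  rw [h2, Subgroup.mem_subgroupOf] at hx
  exact hnot hx

open Cfsg.Agent.Helper17.Spinor Cfsg.Agent.Helper11.OrthCD Cfsg.Agent.Helper11.OrthInv in
/-- `Ω` has index two in characteristic two, for the elliptic forms in all cases -/
theorem index_Omega_minus_two {F : Type*} [Field F] [Fintype F] [CharP F 2] (m : ℕ) (a b : F)
    (hab : ∀ z₁ z₂ : F, z₁ ^ 2 + a * z₁ * z₂ + b * z₂ ^ 2 = 0 → z₁ = 0 ∧ z₂ = 0) :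
    (commutator (Cfsg.isometryGroup F (Cfsg.quadFormMinus m F a b))).index = 2 := by
  classical
  rw [Cfsg.Agent.Helper17.Spinor.quadFormMinus_eq]
  have hQ := minusQ_nondeg (k := m) a b hab
  obtain ⟨u, hu⟩ := exists_nonsingular (minusQ m a b) hQ
  by_cases hex : Fintype.card F ≠ 2 ∨ Fintype.card ((Fin m ⊕ Fin m) ⊕ Fin 2) ≠ 4
  · exact index_Omega_char_two _ hQ hex hu
  · push Not at hex
    have hm1 : m = 1 := by
      have := hex.2
      simp only [Fintype.card_sum, Fintype.card_fin] at this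
      omega
    subst hm1
    have hν : ∀ W : Submodule F ((Fin 1 ⊕ Fin 1) ⊕ Fin 2 → F), IsTS (minusQ 1 a b) W →
        Module.finrank F W ≤ 1 := fun W hW => finrank_le_of_isTS_minus a b hab hW
    have hCD : HasCD (minusQ 1 a b) := fun h hh =>
      cartan_dieudonne_minus (minusQ 1 a b) hQ hν h hh
    rw [Subgroup.index_eq_two_iff]
    refine ⟨tG (minusQ 1 a b) u, ?_⟩
    intro b'
    obtain ⟨vs, hvs, rfl⟩ := exists_prod_tG_cd (minusQ 1 a b) hQ hCD b'
    have h1 : (vs.map (tG (minusQ 1 a b))).prod * tG (minusQ 1 a b) u =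
        ((vs ++ [u]).map (tG (minusQ 1 a b))).prod := by
      rw [List.map_append, List.prod_append]; simp
    have hvs' : ∀ v ∈ vs ++ [u], (minusQ 1 a b) v ≠ 0 := by
      intro v hv
      rcases List.mem_append.1 hv with h | h
      · exact hvs v h
      · rw [List.mem_singleton] at h; rw [h]; exact hu
    rw [h1, prod_tG_mem_commutator_iff_cd _ hQ hCD _ hvs',
      prod_tG_mem_commutator_iff_cd _ hQ hCD _ hvs, List.length_append, List.length_singleton]
    rcases Nat.even_or_odd vs.length with he | ho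
    · exact Or.inr ⟨he, fun h => (Nat.not_even_iff_odd.2 (he.add_one)) h⟩
    · exact Or.inl ⟨ho.add_one, fun h => (Nat.not_even_iff_odd.2 ho) h⟩

theorem not_dvd_index_minus {F K : Type*} [Field F] [Fintype F] [Field K] (p : ℕ) [Fact p.Prime] [CharP F p]
    (m : ℕ) (hm : 1 ≤ m) (a b : F)
    (hab : ∀ z₁ z₂ : F, z₁ ^ 2 + a * z₁ * z₂ + b * z₂ ^ 2 = 0 → z₁ = 0 ∧ z₂ = 0)
    (ι : F →+* K) (φ : K →+* K) (hφφ : ∀ x, φ (φ x) = x)
    {S : Set (WSU (2 * m + 2) (RingHom.id K))}
    (hloc : BNLoc (borT (2 * m + 2) φ) (monT (2 * m + 2) φ) S)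
    (j : ↥(gT (2 * m + 2) φ) →* Cfsg.isometryGroup F (Cfsg.quadFormMinus m F a b))
    (hinj : Function.Injective j)
    (hΩ : commutator (Cfsg.isometryGroup F (Cfsg.quadFormMinus m F a b)) ≤
      ((borT (2 * m + 2) φ ⊔ monT (2 * m + 2) φ).subgroupOf (gT (2 * m + 2) φ)).map j) :
    ¬ p ∣ ((commutator (Cfsg.isometryGroup F (Cfsg.quadFormMinus m F a b))).relIndex
      (((borT (2 * m + 2) φ ⊔ monT (2 * m + 2) φ).subgroupOf (gT (2 * m + 2) φ)).map j)) := by
  classical
  have hp : p.Prime := Fact.out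
  by_cases h2 : p = 2
  · subst h2
    have hidx := index_Omega_minus_two m a b hab
    haveI : CharP K 2 := charP_of_injective_ringHom ι.injective 2
    have hn : (2 * m + 2) % 2 = 0 := by omega
    have h2n : 2 ≤ 2 * m + 2 := by omega
    have hnot := reflQ_not_mem_sup hn h2n φ hloc
    have hne := map_ne_top_of_not_mem_T j hinj _ (reflQ_mem_gT hn h2n φ) hnot
    rw [relIndex_eq_one_of_index_two _ _ hΩ hidx hne]
    norm_num
  · -- odd characteristic: the index of `Ω` is a power of two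
    have hcard : Fintype.card F ≠ 2 := by
      intro h
      have h1 : ((Fintype.card F : ℕ) : F) = 0 := Nat.cast_card_eq_zero F
      rw [h] at h1
      have h3 : p ∣ 2 := (CharP.cast_eq_zero_iff F p 2).mp (by exact_mod_cast h1)
      exact h2 ((Nat.prime_dvd_prime_iff_eq hp Nat.prime_two).mp h3)
    have hidx : ∃ k : ℕ,
        (commutator (Cfsg.isometryGroup F (Cfsg.quadFormMinus m F a b))).index = 2 ^ k := by
      rw [Cfsg.Agent.Helper17.Spinor.quadFormMinus_eq]
      exact Cfsg.Agent.Helper10.SoIndex.index_commutator_isometry _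
        (Cfsg.Agent.Helper17.Spinor.minusQ_nondeg a b hab) (Or.inl hcard)
    obtain ⟨k, hk⟩ := hidx
    intro hdvd
    have h1 := Subgroup.relIndex_mul_index hΩ
    rw [hk] at h1
    have h3 : p ∣ 2 ^ k := (hdvd.trans (Dvd.intro _ h1))
    have h4 : p ∣ 2 := hp.dvd_of_dvd_pow h3
    exact h2 ((Nat.prime_dvd_prime_iff_eq hp Nat.prime_two).mp h4)

end Cfsg.Agent.Helper13.StP
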