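import Mathlib
import Cfsg.Agent.Lib.Helper26.TIDefs2

/-!
S1786 farm-out (helper26), piece TI-LEMA (G0, G1: general TI lemmas).
-/

set_option autoImplicit false
set_option linter.unusedSectionVars false
set_option linter.unusedVariables false

namespace Cfsg.Agent.Helper26.TI

variable {G : Type*} [Group G]

section LemA
variable {V : Subgroup G}

theorem Base.conj (h : Base V) (g : G) : Base (cj g V) := by
  refine ⟨?_, ?_, ?_⟩
  · intro v hv w hw
    obtain ⟨v', hv', rfl⟩ := mem_cj.1 hv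
    obtain ⟨w', hw', rfl⟩ := mem_cj.1 hw
    have h1 := h.comm v' hv' w' hw'
    calc g * v' * g⁻¹ * (g * w' * g⁻¹) = g * (v' * w') * g⁻¹ := by group
      _ = g * (w' * v') * g⁻¹ := by rw [h1]
      _ = g * w' * g⁻¹ * (g * v' * g⁻¹) := by group
  · intro v hv
    obtain ⟨v', hv', rfl⟩ := mem_cj.1 hv
    have h1 := h.sq v' hv'
    calc g * v' * g⁻¹ * (g * v' * g⁻¹) = g * (v' * v') * g⁻¹ := by group
      _ = 1 := by rw [h1]; group
  · intro x
    have h1 : cj x (cj g V) = cj g (cj (g⁻¹ * x * g) V) := by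
      rw [cj_cj, cj_cj]
      congr 1
      group
    rcases h.ti (g⁻¹ * x * g) with h2 | h2
    · left
      rw [h1, h2]
    · right
      rw [h1, ← cj_inf, h2, cj_bot]

theorem Base.inf_eq_bot (h : Base V) {x y : G} (hne : cj x V ≠ cj y V) : cj x V ⊓ cj y V = ⊥ := by
  have h1 : cj x V = cj y (cj (y⁻¹ * x) V) := by
    rw [cj_cj]
    congr 1
    group
  rcases h.ti (y⁻¹ * x) with h2 | h2
  · exfalso
    apply hne
    rw [h1, h2]
  · have h3 : cj x V ⊓ cj y V = cj y (cj (y⁻¹ * x) V ⊓ V) := by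
      rw [cj_inf, ← h1]
    rw [h3, h2, cj_bot]

/-- G0: the centralizer of a nontrivial element of a conjugate `B` of `V` normalizes `B`. -/
theorem Base.cent_le_norm (h : Base V) {x b c : G} (hb : b ∈ cj x V) (hb1 : b ≠ 1)
    (hc : c * b = b * c) : cj c (cj x V) = cj x V := by
  by_contra hne
  rw [cj_cj] at hne
  have h1 := h.inf_eq_bot hne
  have h2 : b ∈ cj (c * x) V := by
    rw [← cj_cj]
    have h3 : c * b * c⁻¹ ∈ cj c (cj x V) := conj_mem_cj hb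
    have h4 : c * b * c⁻¹ = b := by
      rw [hc, mul_assoc, mul_inv_cancel, mul_one]
    rw [h4] at h3
    exact h3
  have h5 : b ∈ cj (c * x) V ⊓ cj x V := ⟨h2, hb⟩
  rw [h1] at h5
  exact hb1 (Subgroup.mem_bot.1 h5)

/-- key step of Lemma A: an element of `B2` commuting with a nontrivial element of `B1`
centralizes `B1`. -/
theorem tilema_key (h : Base V) {x y : G} (hne : cj x V ≠ cj y V)
    (hn : ∀ b ∈ cj x V, cj b (cj y V) = cj y V) {b1 c : G} (hb1 : b1 ∈ cj x V) (hb11 : b1 ≠ 1)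
    (hc : c ∈ cj y V) (hcomm : b1 * c = c * b1) : ∀ b ∈ cj x V, b * c = c * b := by
  intro b hb
  have h1 : cj c (cj x V) = cj x V := h.cent_le_norm hb1 hb11 hcomm.symm
  have h2 : c * b * c⁻¹ ∈ cj x V := by
    have h3 : c * b * c⁻¹ ∈ cj c (cj x V) := conj_mem_cj hb
    rw [h1] at h3
    exact h3
  have h4 : b * c⁻¹ * b⁻¹ ∈ cj y V := by
    have h3 : b * c⁻¹ * b⁻¹ ∈ cj b (cj y V) := conj_mem_cj ((cj y V).inv_mem hc)
    rw [hn b hb] at h3
    exact h3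
  have h5 : c * b * c⁻¹ * b⁻¹ ∈ cj x V ⊓ cj y V := by
    constructor
    · exact (cj x V).mul_mem h2 ((cj x V).inv_mem hb)
    · have h6 : c * b * c⁻¹ * b⁻¹ = c * (b * c⁻¹ * b⁻¹) := by group
      rw [h6]
      exact (cj y V).mul_mem hc h4
  rw [h.inf_eq_bot hne] at h5
  have h7 : c * b * c⁻¹ * b⁻¹ = 1 := Subgroup.mem_bot.1 h5
  calc b * c = (c * b * c⁻¹ * b⁻¹)⁻¹ * (c * b) := by group
    _ = c * b := by rw [h7, inv_one, one_mul]

/-- G1 (Lemma A): a conjugate of `V` normalizing another conjugate centralizes it. -/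
theorem Base.comm_of_normalizes [Finite G] (h : Base V) {x y : G} (hne : cj x V ≠ cj y V)
    (hn : ∀ b ∈ cj x V, cj b (cj y V) = cj y V) :
    ∀ b ∈ cj x V, ∀ c ∈ cj y V, b * c = c * b := by
  by_contra hcon
  push Not at hcon
  obtain ⟨b0, hb0, b2, hb2, hb02⟩ := hcon
  have hB1 : Base (cj x V) := h.conj x
  have hB2 : Base (cj y V) := h.conj y
  -- the map `b1 ↦ [b2, b1]` from `B1` to `B2`
  have hmem : ∀ b1 ∈ cj x V, b2 * (b1 * b2⁻¹ * b1⁻¹) ∈ cj y V := by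
    intro b1 hb1
    have h3 : b1 * b2⁻¹ * b1⁻¹ ∈ cj b1 (cj y V) := conj_mem_cj ((cj y V).inv_mem hb2)
    rw [hn b1 hb1] at h3
    exact (cj y V).mul_mem hb2 h3
  -- `b2` does not commute with any nontrivial element of `B1`
  have hb2nc : ∀ b ∈ cj x V, b ≠ 1 → b * b2 ≠ b2 * b := by
    intro b hb hb1 hcomm
    exact hb02 (tilema_key h hne hn hb hb1 hb2 hcomm b0 hb0)
  -- values commute with all of `B1`
  have hval : ∀ b1 ∈ cj x V, ∀ b ∈ cj x V,
      b * (b2 * (b1 * b2⁻¹ * b1⁻¹)) = (b2 * (b1 * b2⁻¹ * b1⁻¹)) * b := by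
    intro b1 hb1
    by_cases hb11 : b1 = 1
    · intro b hb
      rw [hb11]
      group
    · apply tilema_key h hne hn hb1 hb11 (hmem b1 hb1)
      -- `b1` commutes with `[b2, b1]`
      have hsq : b1 * b1 = 1 := hB1.sq b1 hb1
      have hinv : b1⁻¹ = b1 := by
        rw [inv_eq_iff_mul_eq_one]
        exact hsq
      have h3 : b1 * b2⁻¹ * b1⁻¹ ∈ cj y V := by
        have h4 : b1 * b2⁻¹ * b1⁻¹ ∈ cj b1 (cj y V) := conj_mem_cj ((cj y V).inv_mem hb2)
        rw [hn b1 hb1] at h4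
        exact h4
      have h5 := hB2.comm b2 hb2 _ h3
      rw [hinv] at h5 ⊢
      -- b1 * (b2 * (b1 * b2⁻¹ * b1)) = (b1 b2 b1) * (b1 b1) * b2⁻¹ * b1 ...
      have h6 : b1 * (b2 * (b1 * b2⁻¹ * b1)) = (b1 * b2 * b1) * (b1 * b1) * b2⁻¹ * b1 := by
        rw [hsq]
        group
      have h7 : b1 * b2 * b1 = (b1 * b2⁻¹ * b1)⁻¹ := by
        have : (b1 * b2⁻¹ * b1)⁻¹ = b1⁻¹ * b2 * b1⁻¹ := by group
        rw [this, hinv]
      calc b1 * (b2 * (b1 * b2⁻¹ * b1))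
          = b1 * ((b1 * b2⁻¹ * b1) * b2) := by rw [h5]
        _ = (b1 * b1) * b2⁻¹ * (b1 * b2) := by group
        _ = b2⁻¹ * (b1 * b2) := by rw [hsq, one_mul]
        _ = b2⁻¹ * b1 * b2 * (b1 * b1) := by rw [hsq]; group
        _ = b2 * (b1 * b2⁻¹ * b1) * b1 := by
          have hb2sq : b2 * b2 = 1 := hB2.sq b2 hb2
          have hb2inv : b2⁻¹ = b2 := by
            rw [inv_eq_iff_mul_eq_one]
            exact hb2sq
          rw [hb2inv]
          have h8 := h5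
          rw [hb2inv] at h8
          -- h8 : b2 * (b1 * b2 * b1) = b1 * b2 * b1 * b2
          calc b2 * b1 * b2 * (b1 * b1) = (b2 * (b1 * b2 * b1)) * b1 := by group
            _ = b2 * (b1 * b2 * b1) * b1 := rfl
  have : Fintype (cj x V) := Fintype.ofFinite _
  have : Fintype (cj y V) := Fintype.ofFinite _
  let F : ↥(cj x V) → ↥(cj y V) := fun b1 => ⟨b2 * ((b1 : G) * b2⁻¹ * (b1 : G)⁻¹), hmem b1 b1.2⟩
  have hFinj : Function.Injective F := by
    intro b1 b1' hFF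
    have h1 : b2 * ((b1 : G) * b2⁻¹ * (b1 : G)⁻¹) = b2 * ((b1' : G) * b2⁻¹ * (b1' : G)⁻¹) :=
      congrArg Subtype.val hFF
    have h2 : (b1 : G) * b2⁻¹ * (b1 : G)⁻¹ = (b1' : G) * b2⁻¹ * (b1' : G)⁻¹ := mul_left_cancel h1
    by_contra hne'
    have h3 : (b1' : G)⁻¹ * (b1 : G) ≠ 1 := by
      intro h4
      apply hne'
      apply Subtype.ext
      have h5 : (b1 : G) = (b1' : G) * ((b1' : G)⁻¹ * (b1 : G)) := by group
      rw [h5, h4, mul_one]
    have h4 : (b1' : G)⁻¹ * (b1 : G) ∈ cj x V :=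
      (cj x V).mul_mem ((cj x V).inv_mem b1'.2) b1.2
    apply hb2nc _ h4 h3
    -- from h2: (b1'⁻¹ b1) b2⁻¹ = b2⁻¹ (b1'⁻¹ b1)
    have h6 : ((b1' : G)⁻¹ * (b1 : G)) * b2⁻¹ = b2⁻¹ * ((b1' : G)⁻¹ * (b1 : G)) := by
      calc ((b1' : G)⁻¹ * (b1 : G)) * b2⁻¹
          = (b1' : G)⁻¹ * ((b1 : G) * b2⁻¹ * (b1 : G)⁻¹) * (b1 : G) := by group
        _ = (b1' : G)⁻¹ * ((b1' : G) * b2⁻¹ * (b1' : G)⁻¹) * (b1 : G) := by rw [h2]
        _ = b2⁻¹ * ((b1' : G)⁻¹ * (b1 : G)) := by group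
    calc ((b1' : G)⁻¹ * (b1 : G)) * b2
        = b2 * (b2⁻¹ * ((b1' : G)⁻¹ * (b1 : G))) * b2 := by group
      _ = b2 * (((b1' : G)⁻¹ * (b1 : G)) * b2⁻¹) * b2 := by rw [h6]
      _ = b2 * ((b1' : G)⁻¹ * (b1 : G)) := by group
  have hnot : (⟨b2, hb2⟩ : ↥(cj y V)) ∉ Set.range F := by
    rintro ⟨b1, hb1⟩
    have h1 : b2 * ((b1 : G) * b2⁻¹ * (b1 : G)⁻¹) = b2 := congrArg Subtype.val hb1
    apply hb02
    have h2 := hval b1 b1.2 b0 hb0
    rw [h1] at h2
    exact h2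
  have hlt := Fintype.card_lt_of_injective_of_notMem F hFinj hnot
  rw [← Nat.card_eq_fintype_card, ← Nat.card_eq_fintype_card, card_cj, card_cj] at hlt
  exact lt_irrefl _ hlt
end LemA

end Cfsg.Agent.Helper26.TI
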