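import Mathlib
import Cfsg.Agent.Lib.Helper14.BG14W1a
import Cfsg.Agent.Lib.Helper20.BG12B
import Cfsg.Agent.Lib.Helper1.Coprime
import Cfsg.Agent.Lib.Helper1.CommutatorBasic

/-!
Towards S1430/S1431 (BG Theorem 14.2), WORLD I, piece (I-d): the complement `U` of `K M_σ`.

With `E` a complement of `M_σ` in `M`, `K ≤ E` a cyclic Hall `κ(M)`-subgroup, `κ(M) = τ₁(M)` and
`C_E(X) ≤ K` for every subgroup `X ≤ K` of prime order, the subgroup `U := E'` is abelian, a Hall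
`(κ(M) ∪ σ(M))'`-subgroup of `M`, normalized by `K`, and `C_U(k) = 1` for `k ∈ K#`.  Indeed
`(|K|, |E'|) = 1` (primes of `τ₁(M)` do not divide `|M'|`), every coset of `E'` in `E` is
`K`-invariant, hence contains an element of `C_E(K) ≤ K`: `E = K E'`.
-/

set_option autoImplicit false
set_option linter.unusedSectionVars false
set_option linter.unusedVariables false
set_option linter.style.haveILetI false

namespace Cfsg.Agent.Helper19.BG14

open Cfsg Subgroup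
open scoped commutatorElement
open Cfsg.Agent.Helper22.BG13
open Cfsg.Agent.Helper18.BG13P

universe u

variable {G : Type u} [Group G] [Finite G]

/-- the subgroup of prime order below a non-identity element -/
theorem exists_prime_zpowers_le {K : Subgroup G} {k : G} (hk : k ∈ K) (hk1 : k ≠ 1) :
    ∃ X : Subgroup G, X ≤ K ∧ (Nat.card ↥X).Prime ∧
      centralizer ({k} : Set G) ≤ centralizer (X : Set G) := by
  have hne : orderOf k ≠ 1 := by rw [Ne, orderOf_eq_one_iff]; exact hk1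
  obtain ⟨r, hr, hrd⟩ := Nat.exists_prime_and_dvd hne
  have hord : orderOf (k ^ (orderOf k / r)) = r :=
    orderOf_pow_orderOf_div (orderOf_pos k).ne' hrd
  refine ⟨zpowers (k ^ (orderOf k / r)), ?_, ?_, ?_⟩
  · rw [zpowers_le]; exact K.pow_mem hk _
  · rw [Nat.card_zpowers, hord]; exact hr
  · intro g hg
    rw [mem_centralizer_iff] at hg ⊢
    intro y hy
    obtain ⟨i, rfl⟩ := mem_zpowers_iff.mp hy
    have h1 : Commute k g := hg k rfl
    exact ((h1.pow_left _).zpow_left i).eq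

/-- **WORLD I, piece (I-d)** -/
theorem exists_U_worldI (hG : IsMinSimpleOddOrder G) (h1403 : Hyp1403 G) (h1350 : Hyp1350 G)
    (h1415 : H1415 G) (h1417 : Hyp1417 G)
    {M E K : Subgroup G} (hM : IsCoatom M) (hE : IsComplIn E (sigmaCore M) M)
    (hK : IsPiHallOf (kappa M) K M) (hK1 : K ≠ ⊥) (hKE : K ≤ E)
    (hκτ : ∀ p, p ∈ kappa M ↔ p ∈ tau1 M) (hKc : IsCyclic ↥K)
    (hreg : ∀ X : Subgroup G, X ≤ K → (Nat.card ↥X).Prime → E ⊓ centralizer (X : Set G) ≤ K) :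
    ∃ U : Subgroup G, IsMulCommutative ↥U ∧
      IsPiHallOf {q | q.Prime ∧ q ∉ kappa M ∧ q ∉ sigma M} U M ∧
      K ≤ normalizer (U : Set G) ∧
      ∀ k ∈ K, k ≠ 1 → U ⊓ centralizer ({k} : Set G) = ⊥ := by
  have hEM : E ≤ M := hE.1
  have hhall := (h1350 M hM).1
  have hασ : alpha M ⊆ sigma M := Cfsg.Agent.Helper23.BG10.alpha_subset_sigma hG h1403 hM
  -- `U = E'`
  have hUE : ⁅E, E⁆ ≤ E := by
    rw [Subgroup.commutator_le]
    intro a ha b hb
    exact E.mul_mem (E.mul_mem (E.mul_mem ha hb) (E.inv_mem ha)) (E.inv_mem hb)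
  have hUM' : ⁅E, E⁆ ≤ ⁅M, M⁆ := Subgroup.commutator_mono hEM hEM
  have hUab : IsMulCommutative ↥⁅E, E⁆ :=
    Cfsg.Agent.Helper20.BG12.partB hG hM hασ h1350 h1415 h1417 hE
  have hEN : E ≤ normalizer ((⁅E, E⁆ : Subgroup G) : Set G) :=
    Cfsg.Agent.Helper1.le_normalizer_commutator_right E E
  have hKN : K ≤ normalizer ((⁅E, E⁆ : Subgroup G) : Set G) := hKE.trans hEN
  -- primes of `U`
  have hUκ : ∀ q : ℕ, q.Prime → q ∣ Nat.card ↥⁅E, E⁆ → q ∉ kappa M := by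
    intro q hq hd hqκ
    have h1 := (hκτ q).mp hqκ
    exact h1.2.2.2.1 (hd.trans (Subgroup.card_dvd_of_le hUM'))
  have hUσ : ∀ q : ℕ, q.Prime → q ∣ Nat.card ↥⁅E, E⁆ → q ∉ sigma M := by
    intro q hq hd
    exact Cfsg.Agent.Helper20.BG12.not_mem_sigma_of_dvd_card_compl hhall hE hq
      (hd.trans (Subgroup.card_dvd_of_le hUE))
  have hcop : (Nat.card ↥K).Coprime (Nat.card ↥⁅E, E⁆) := by
    apply Nat.coprime_of_dvd
    intro q hq h1 h2
    exact hUκ q hq h2 (hK.2.1 q hq h1)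
  have hKU : K ⊓ ⁅E, E⁆ = ⊥ := (Subgroup.disjoint_of_coprime_natCard hcop).eq_bot
  -- a subgroup of prime order of `K`
  obtain ⟨k₀, hk₀, hk₀1⟩ : ∃ k₀ ∈ K, k₀ ≠ 1 := by
    by_contra h
    push Not at h
    apply hK1
    rw [eq_bot_iff]
    intro x hx
    rw [mem_bot]
    exact h x hx
  obtain ⟨X₀, hX₀K, hX₀p, -⟩ := exists_prime_zpowers_le hk₀ hk₀1
  have hCK : E ⊓ centralizer (K : Set G) ≤ K :=
    (inf_le_inf_left E (Subgroup.centralizer_le hX₀K)).trans (hreg X₀ hX₀K hX₀p)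
  -- `K` is solvable
  have hKsolv : Group.IsSolvable ↥K := by
    letI := @IsCyclic.commGroup ↥K _ hKc
    infer_instance
  -- `E = K U`
  have hcompl : IsComplIn K ⁅E, E⁆ E := by
    refine ⟨hKE, hUE, hKU, ?_⟩
    intro x hx
    have hxa : ∀ a ∈ K, x⁻¹ * a * x * a⁻¹ ∈ ⁅E, E⁆ := by
      intro a ha
      have h1 : x⁻¹ * a * x * a⁻¹ = ⁅x⁻¹, a⁆ := by
        rw [commutatorElement_def]
        group
      rw [h1]
      exact Subgroup.commutator_mem_commutator (E.inv_mem hx) (hKE ha)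
    obtain ⟨c, hc, hxc⟩ := Cfsg.Agent.Helper1.exists_centralizer_mem_coset ⁅E, E⁆ K hKN hcop
      (Or.inl hKsolv) x hxa
    have hcE : c ∈ E := by
      have h1 : c = x * (x⁻¹ * c) := by group
      rw [h1]
      exact E.mul_mem hx (hUE hxc)
    have hcK : c ∈ K := hCK ⟨hcE, hc⟩
    refine ⟨c, hcK, (x⁻¹ * c)⁻¹, Subgroup.inv_mem _ hxc, ?_⟩
    group
  have hidx1 : (⁅E, E⁆ : Subgroup G).relIndex E = Nat.card ↥K :=
    Cfsg.Agent.Helper20.BG12.relIndex_eq_card_of_isComplIn hcompl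
  have hidx2 : E.relIndex M = Nat.card ↥(sigmaCore M) := by
    have h1 := Cfsg.Agent.Helper20.BG12.card_mul_of_isComplIn hE
    have h2 : (⊥ : Subgroup G).relIndex E * E.relIndex M = (⊥ : Subgroup G).relIndex M :=
      Subgroup.relIndex_mul_relIndex ⊥ E M bot_le hEM
    rw [Subgroup.relIndex_bot_left, Subgroup.relIndex_bot_left, ← h1] at h2
    exact Nat.eq_of_mul_eq_mul_left Nat.card_pos h2
  refine ⟨⁅E, E⁆, hUab, ⟨hUE.trans hEM, ?_, ?_⟩, hKN, ?_⟩
  · intro q hq hd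
    exact ⟨hq, hUκ q hq hd, hUσ q hq hd⟩
  · rintro q hq ⟨-, hqκ, hqσ⟩ hd
    rw [← Subgroup.relIndex_mul_relIndex _ E M hUE hEM, hidx1, hidx2] at hd
    rcases (Nat.Prime.dvd_mul hq).mp hd with h | h
    · exact hqκ (hK.2.1 q hq h)
    · exact hqσ (hhall.2.1 q hq h)
  · intro k hk hk1
    obtain ⟨X, hXK, hXp, hCX⟩ := exists_prime_zpowers_le hk hk1
    rw [eq_bot_iff, ← hKU]
    intro y hy
    obtain ⟨hyU, hyC⟩ := hy
    exact ⟨hreg X hXK hXp ⟨hUE hyU, hCX hyC⟩, hyU⟩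

end Cfsg.Agent.Helper19.BG14
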