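import Mathlib
import Cfsg.Agent.Lib.Helper14.BhsDefs

/-!
# S2999 piece BHS-INV (helper19): `V₀ = D + x • D` is `P`-invariant.
-/

set_option autoImplicit false
set_option linter.unusedSectionVars false
set_option linter.unusedVariables false

namespace Cfsg.Agent.Helper14.Bhs

open Pointwise

universe u v

section grp

variable {P : Type u} [Group P] [Finite P] {W : Type v} [AddCommGroup W] [Finite W]
  [DistribMulAction P W] {p : ℕ} [Fact p.Prime] {T : Sylow p P} {M A : Subgroup P}

/-- if all commutators `[w, g]`, `w ∈ V`, lie in `V`, then `g • V ≤ V` -/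
theorem bhs_inv_smul_le (V : AddSubgroup W) (g : P) (hg : ∀ w ∈ V, cm w g ∈ V) : g • V ≤ V := by
  intro y hy
  rw [AddSubgroup.mem_pointwise_smul_iff_inv_smul_mem] at hy
  have h1 : y = g⁻¹ • y + cm (g⁻¹ • y) g := by
    rw [← smul_eq_add_cm, smul_inv_smul]
  rw [h1]
  exact V.add_mem hy (hg _ hy)

theorem bhs_inv_smul_eq (V : AddSubgroup W) (g : P) (hg : ∀ w ∈ V, cm w g ∈ V)
    (hg' : ∀ w ∈ V, cm w g⁻¹ ∈ V) : g • V = V := by
  apply le_antisymm (bhs_inv_smul_le V g hg)
  rw [AddSubgroup.le_pointwise_smul_iff]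
  exact bhs_inv_smul_le V g⁻¹ hg'

theorem inv_of_quad (h : Hyp W p T M A) (hq : Quad W A) {x : P} (hx : x ∉ M) : Inv W A x := by
  set V : AddSubgroup W := fix W A ⊔ x • fix W A with hV
  have hD : fix W A ≤ V := le_sup_left
  have hE : x • fix W A ≤ V := le_sup_right
  -- elements of `A`
  have hA : ∀ a ∈ A, a • V = V := by
    intro a ha
    apply bhs_inv_smul_eq V a
    · intro w _
      exact hD (hq a ha w)
    · intro w _
      exact hD (hq a⁻¹ (A.inv_mem ha) w)
  -- elements of `A^x`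
  have hcmx : ∀ a ∈ A, ∀ w : W, cm w (x * a * x⁻¹) ∈ x • fix W A := by
    intro a ha w
    have h1 : x • cm (x⁻¹ • w) a = cm w (x * a * x⁻¹) := by
      rw [smul_cm, smul_inv_smul]
    rw [← h1]
    exact AddSubgroup.smul_mem_pointwise_smul _ _ _ (hq a ha _)
  have hB : ∀ a ∈ A, (x * a * x⁻¹) • V = V := by
    intro a ha
    apply bhs_inv_smul_eq V (x * a * x⁻¹)
    · intro w _
      exact hE (hcmx a ha w)
    · intro w _
      have h2 : (x * a * x⁻¹)⁻¹ = x * a⁻¹ * x⁻¹ := by group
      rw [h2]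
      exact hE (hcmx a⁻¹ (A.inv_mem ha) w)
  have hle : A ⊔ A.map (MulAut.conj x).toMonoidHom ≤ MulAction.stabilizer P V := by
    apply sup_le
    · intro a ha
      exact MulAction.mem_stabilizer_iff.2 (hA a ha)
    · rintro _ ⟨a, ha, rfl⟩
      rw [MulEquiv.coe_toMonoidHom, MulAut.conj_apply]
      exact MulAction.mem_stabilizer_iff.2 (hB a ha)
  rw [h.hiii x hx] at hle
  intro g
  exact MulAction.mem_stabilizer_iff.1 (hle (Subgroup.mem_top g))

end grp

end Cfsg.Agent.Helper14.Bhs
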