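import Mathlib
import Cfsg.Agent.Lib.Helper14.BhsDefs

/-!
# S2999 piece BHS-KEY (helper19): `a ∉ core_P(M)` has `C_{V₀/Z}(a) = D/Z`.
-/

set_option autoImplicit false
set_option linter.unusedSectionVars false
set_option linter.unusedVariables false

namespace Cfsg.Agent.Helper14.Bhs

open Pointwise

universe u v

section grp

variable {P : Type u} [Group P] [Finite P] {W : Type v} [AddCommGroup W] [Finite W]
  [DistribMulAction P W] {p : ℕ} [Fact p.Prime] {T : Sylow p P} {M A : Subgroup P}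

theorem bhs_key_card_smul (g : P) (D : AddSubgroup W) : Nat.card ↥(g • D) = Nat.card D := by
  rw [AddSubgroup.pointwise_smul_def]
  exact AddSubgroup.card_map_of_injective (MulAction.injective g)

/-- the claim: `d ∈ g • D` with `[d, a] ∈ Z` lies in `Z`, when `g⁻¹ a g ∉ M` -/
theorem bhs_key_claim (h : Hyp W p T M A) (a g : P) (ha : a ∈ A) (hg : g⁻¹ * a * g ∉ M) (d : W)
    (hd : d ∈ g • fix W A) (hz : cm d a ∈ fix W (⊤ : Subgroup P)) :
    d ∈ fix W (⊤ : Subgroup P) := by
  rw [AddSubgroup.mem_pointwise_smul_iff_inv_smul_mem] at hd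
  -- `A^g` fixes `d`
  have h1 : ∀ k ∈ A, (g * k * g⁻¹) • d = d := by
    intro k hk
    have := hd k hk
    rw [mul_smul, mul_smul, this, smul_inv_smul]
  have hzfix : ∀ m : P, m • cm d a = cm d a := fun m => mem_fix_top.1 hz m
  have had : a • d = d + cm d a := smul_eq_add_cm d a
  have hainv : a⁻¹ • d = d - cm d a := by
    have h2 : a⁻¹ • (a • d) = a⁻¹ • d + cm d a := by rw [had, smul_add, hzfix]
    rw [inv_smul_smul] at h2
    exact eq_sub_of_add_eq h2.symm
  -- `A^{ag}` fixes `d`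
  have h2 : ∀ k ∈ A, (a * g * k * (a * g)⁻¹) • d = d := by
    intro k hk
    have e : a * g * k * (a * g)⁻¹ = a * (g * k * g⁻¹) * a⁻¹ := by group
    rw [e, mul_smul, mul_smul, hainv, smul_sub, h1 k hk, hzfix, smul_sub, had, hzfix]
    abel
  set St : Subgroup P := (MulAction.stabilizer P d).comap (MulAut.conj g).toMonoidHom with hSt
  have hmemSt : ∀ k : P, k ∈ St ↔ (g * k * g⁻¹) • d = d := by
    intro k
    rw [hSt, Subgroup.mem_comap, MulEquiv.coe_toMonoidHom, MulAut.conj_apply,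
      MulAction.mem_stabilizer_iff]
  have hle : A ⊔ A.map (MulAut.conj (g⁻¹ * a * g)).toMonoidHom ≤ St := by
    apply sup_le
    · intro k hk
      exact (hmemSt k).2 (h1 k hk)
    · rintro _ ⟨k, hk, rfl⟩
      rw [MulEquiv.coe_toMonoidHom, MulAut.conj_apply, hmemSt]
      have e : g * (g⁻¹ * a * g * k * (g⁻¹ * a * g)⁻¹) * g⁻¹ = a * g * k * (a * g)⁻¹ := by group
      rw [e]
      exact h2 k hk
  rw [h.hiii _ hg] at hle
  rw [mem_fix_top]
  intro m
  have := (hmemSt (g⁻¹ * m * g)).1 (hle (Subgroup.mem_top _))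
  have e : g * (g⁻¹ * m * g) * g⁻¹ = m := by group
  rwa [e] at this

theorem key_of_inv (h : Hyp W p T M A) (hic : InterConj W M A) {x : P} (hx : x ∉ M)
    (hinv : Inv W A x) : Key W M A x := by
  intro a ha hacore w hwV hwz
  -- an element `g` with `g⁻¹ a g ∉ M`
  obtain ⟨g, hg⟩ : ∃ g : P, g⁻¹ * a * g ∉ M := by
    by_contra hcon
    push Not at hcon
    apply hacore
    intro b
    have := hcon b⁻¹
    rwa [inv_inv] at this
  set V : AddSubgroup W := fix W A ⊔ x • fix W A with hV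
  set Z : AddSubgroup W := fix W (⊤ : Subgroup P) with hZ
  -- the subgroup `C`
  let C : AddSubgroup W :=
    { carrier := {w | w ∈ V ∧ cm w a ∈ Z}
      zero_mem' := ⟨V.zero_mem, by rw [cm_zero]; exact Z.zero_mem⟩
      add_mem' := fun {u v} hu hv => ⟨V.add_mem hu.1 hv.1, by
        rw [cm_add]; exact Z.add_mem hu.2 hv.2⟩
      neg_mem' := fun {u} hu => ⟨V.neg_mem hu.1, by rw [cm_neg]; exact Z.neg_mem hu.2⟩ }
  have hDC : fix W A ≤ C := by
    intro d hd
    refine ⟨le_sup_left (a := fix W A) hd, ?_⟩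
    rw [cm_of_mem_fix hd ha]
    exact Z.zero_mem
  have hCV : C ≤ V := fun u hu => hu.1
  have hEV : g • fix W A ≤ V := by
    have h1 : g • fix W A ≤ g • V :=
      AddSubgroup.pointwise_smul_le_pointwise_smul_iff.2 le_sup_left
    rw [hinv g] at h1
    exact h1
  have hCE : C ⊓ g • fix W A ≤ Z := by
    rintro d ⟨hdC, hdE⟩
    exact bhs_key_claim h a g ha hg d hdE hdC.2
  have hcard1 := card_sup_mul_card_inf C (g • fix W A)
  have hcard2 := card_sup_mul_card_inf (fix W A) (x • fix W A)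
  rw [hic x hx, bhs_key_card_smul] at hcard2
  rw [bhs_key_card_smul] at hcard1
  have hle1 : Nat.card ↥(C ⊔ g • fix W A) ≤ Nat.card V :=
    AddSubgroup.card_le_of_le (sup_le hCV hEV)
  have hle2 : Nat.card ↥(C ⊓ g • fix W A) ≤ Nat.card Z := AddSubgroup.card_le_of_le hCE
  have hDpos : 0 < Nat.card (fix W A) := Nat.card_pos
  have hCD : Nat.card C ≤ Nat.card (fix W A) := by
    have h3 : Nat.card C * Nat.card (fix W A) ≤ Nat.card (fix W A) * Nat.card (fix W A) := by
      rw [← hcard1, ← hcard2]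
      exact Nat.mul_le_mul hle1 hle2
    exact Nat.le_of_mul_le_mul_right h3 hDpos
  have hEq : fix W A = C := AddSubgroup.eq_of_le_of_card_ge hDC hCD
  rw [hEq]
  exact ⟨hwV, hwz⟩

end grp

end Cfsg.Agent.Helper14.Bhs
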