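import Mathlib
import Cfsg.Agent.Lib.Helper21.N9KDefs

/-!
# S3702 (helper21's GROUP farm-out), PIECE KOUT (helper19)

An element of order 3 of `K0` outside `J0` centralizes only weight 3 elements of `J0`.
-/

set_option autoImplicit false
set_option linter.unusedSectionVars false
set_option linter.unusedVariables false
set_option linter.style.haveILetI false

namespace Cfsg.Agent.Helper21.N9

open Cfsg Cfsg.Agent.Helper16

theorem kout_idx : ∀ q : Idx, Wk q ∉ J0 → (Wk q) ^ 3 = 1 → ∀ i j k : Fin 3,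
    Wk q * Wj i j k = Wj i j k * Wk q → (i = 0 ∧ j = 0 ∧ k = 0) ∨ (i ≠ 0 ∧ j ≠ 0 ∧ k ≠ 0) := by
  decide +kernel

theorem kout_conj : ∀ i j k : Fin 3, i ≠ 0 → j ≠ 0 → k ≠ 0 →
    ∃ q : Idx, Wk q * Wj i j k * (Wk q)⁻¹ = CK.z 2 := by
  decide +kernel

theorem kout_one : Wj 0 0 0 = 1 := by decide +kernel

theorem cent_outside_K0 : ∀ h : ↥K0, h ∉ J0 → h ^ 3 = 1 → ∀ x ∈ J0, x ≠ 1 → h * x = x * h →
    IsConj x (CK.z 2) := by
  intro h hh h3 x hx hx1 hc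
  obtain ⟨q, rfl⟩ := Wk_surjective h
  obtain ⟨i, j, k, rfl⟩ := (mem_J0_iff x).1 hx
  rcases kout_idx q hh h3 i j k hc with ⟨rfl, rfl, rfl⟩ | ⟨hi, hj, hk⟩
  · exact absurd kout_one hx1
  · obtain ⟨p, hp⟩ := kout_conj i j k hi hj hk
    exact isConj_iff.2 ⟨Wk p, hp⟩

end Cfsg.Agent.Helper21.N9
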