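import Mathlib

set_option autoImplicit false

/-!
# Coprime action on finite abelian `p`-groups

`Γ` a finite group acting on a finite commutative `p`-group `E` by automorphisms
(`MulDistribMulAction Γ E`), with `|Γ|` prime to `p`.

* `CoAb.Inv Γ B` : the subgroup `B` is `Γ`-invariant.
* `CoAb.exists_inv_compl` : an invariant subgroup with a complement has an invariant complement
  (Maschke, Gorenstein 3.3.2).
* `CoAb.exists_compl_of_pure` : a subgroup `B` with `Ω_{e-1}(B) ≤ B^p` (where `E^(p^e) = 1`) has a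
  complement.
-/

namespace Cfsg.Agent.Helper19.CoAb

open Subgroup

variable {Γ E : Type*} [Group Γ] [CommGroup E] [MulDistribMulAction Γ E]

/-- `B` is invariant under the action of `Γ` -/
def Inv (Γ : Type*) {E : Type*} [Group Γ] [CommGroup E] [MulDistribMulAction Γ E]
    (B : Subgroup E) : Prop :=
  ∀ g : Γ, ∀ b ∈ B, g • b ∈ B

theorem Inv.inf {B C : Subgroup E} (hB : Inv Γ B) (hC : Inv Γ C) : Inv Γ (B ⊓ C) :=
  fun g b hb => ⟨hB g b hb.1, hC g b hb.2⟩

theorem Inv.sup {B C : Subgroup E} (hB : Inv Γ B) (hC : Inv Γ C) : Inv Γ (B ⊔ C) := by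
  intro g a ha
  obtain ⟨b, hb, c, hc, rfl⟩ := Subgroup.mem_sup.mp ha
  rw [smul_mul']
  exact Subgroup.mul_mem_sup (hB g b hb) (hC g c hc)

theorem inv_bot : Inv Γ (⊥ : Subgroup E) := by
  intro g b hb
  rw [Subgroup.mem_bot] at hb ⊢
  rw [hb, smul_one]

theorem inv_top : Inv Γ (⊤ : Subgroup E) := fun _ _ _ => Subgroup.mem_top _

/-- the kernel of an equivariant endomorphism is invariant -/
theorem inv_ker (θ : E →* E) (hθ : ∀ (g : Γ) (a : E), θ (g • a) = g • θ a) : Inv Γ θ.ker := by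
  intro g a ha
  rw [MonoidHom.mem_ker] at ha ⊢
  rw [hθ, ha, smul_one]

theorem inv_map_pow (n : ℕ) {B : Subgroup E} (hB : Inv Γ B) :
    Inv Γ (B.map (powMonoidHom n)) := by
  rintro g _ ⟨b, hb, rfl⟩
  refine ⟨g • b, hB g b hb, ?_⟩
  simp only [powMonoidHom_apply]
  rw [smul_pow']

theorem inv_comap_pow (n : ℕ) {B : Subgroup E} (hB : Inv Γ B) :
    Inv Γ (B.comap (powMonoidHom n)) := by
  intro g a ha
  rw [Subgroup.mem_comap, powMonoidHom_apply] at ha ⊢
  rw [← smul_pow']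
  exact hB g _ ha

/-- projection onto a direct factor -/
theorem exists_proj {B C : Subgroup E} (h1 : B ⊓ C = ⊥) (h2 : B ⊔ C = ⊤) :
    ∃ π : E →* E, (∀ a, π a ∈ B) ∧ ∀ b ∈ B, π b = b := by
  have hbij : Function.Bijective (B.subtype.coprod C.subtype) := by
    constructor
    · rw [injective_iff_map_eq_one]
      rintro ⟨⟨b, hb⟩, ⟨c, hc⟩⟩ h
      simp only [MonoidHom.coprod_apply, Subgroup.coe_subtype] at h
      have hbC : b ∈ C := by
        have : b = c⁻¹ := eq_inv_of_mul_eq_one_left h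
        rw [this]; exact C.inv_mem hc
      have hb1 : b = 1 := by
        have : b ∈ B ⊓ C := ⟨hb, hbC⟩
        rwa [h1, Subgroup.mem_bot] at this
      have hc1 : c = 1 := by rw [hb1, one_mul] at h; exact h
      simp only [Prod.mk_eq_one]
      exact ⟨Subtype.ext hb1, Subtype.ext hc1⟩
    · intro a
      have : a ∈ B ⊔ C := by rw [h2]; exact Subgroup.mem_top a
      obtain ⟨b, hb, c, hc, rfl⟩ := Subgroup.mem_sup.mp this
      exact ⟨(⟨b, hb⟩, ⟨c, hc⟩), by simp⟩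
  refine ⟨(B.subtype.comp (MonoidHom.fst B C)).comp
    (MulEquiv.ofBijective _ hbij).symm.toMonoidHom, ?_, ?_⟩
  · intro a
    simp
  · intro b hb
    have : (MulEquiv.ofBijective _ hbij).symm b = (⟨b, hb⟩, 1) := by
      rw [MulEquiv.symm_apply_eq]
      simp
    simp [this]

/-- **Maschke for direct factors**: an invariant direct factor of a finite abelian group on which
a finite group of coprime order acts has an invariant complement. -/
theorem exists_inv_compl [Finite Γ] [Finite E] (hco : (Nat.card Γ).Coprime (Nat.card E))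
    {B C : Subgroup E} (hB : Inv Γ B) (h1 : B ⊓ C = ⊥) (h2 : B ⊔ C = ⊤) :
    ∃ C' : Subgroup E, Inv Γ C' ∧ B ⊓ C' = ⊥ ∧ B ⊔ C' = ⊤ := by
  classical
  have : Fintype Γ := Fintype.ofFinite Γ
  obtain ⟨π, hπB, hπ⟩ := exists_proj h1 h2
  -- the averaged endomorphism
  have hco' : ∀ a : E, (Nat.card Γ).Coprime (orderOf a) := fun a =>
    hco.coprime_dvd_right (orderOf_dvd_natCard a)
  let θ : E →* E :=
    { toFun := fun a => ∏ g : Γ, g⁻¹ • π (g • a)
      map_one' := by simp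
      map_mul' := by
        intro a b
        simp only [smul_mul', map_mul]
        rw [Finset.prod_mul_distrib] }
  have hθ_apply : ∀ a, θ a = ∏ g : Γ, g⁻¹ • π (g • a) := fun a => rfl
  have hθB : ∀ a, θ a ∈ B := by
    intro a
    rw [hθ_apply]
    apply Subgroup.prod_mem
    intro g _
    exact hB _ _ (hπB _)
  have hθb : ∀ b ∈ B, θ b = b ^ Nat.card Γ := by
    intro b hb
    rw [hθ_apply]
    have : ∀ g : Γ, g⁻¹ • π (g • b) = b := by
      intro g
      rw [hπ _ (hB g b hb), inv_smul_smul]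
    simp only [this, Finset.prod_const, Finset.card_univ, Nat.card_eq_fintype_card]
  have hθeq : ∀ (h : Γ) (a : E), θ (h • a) = h • θ a := by
    intro h a
    rw [hθ_apply, hθ_apply, Finset.smul_prod']
    refine Fintype.prod_equiv (Equiv.mulRight h) _ _ ?_
    intro g
    simp only [Equiv.coe_mulRight, mul_inv_rev, mul_smul]
    rw [smul_inv_smul]
  refine ⟨θ.ker, inv_ker θ hθeq, ?_, ?_⟩
  · rw [eq_bot_iff]
    intro b hbb
    have hb : b ∈ B := hbb.1
    have hbk : θ b = 1 := hbb.2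
    rw [hθb b hb] at hbk
    rw [Subgroup.mem_bot]
    obtain ⟨m, hm⟩ := exists_pow_eq_self_of_coprime (hco' b)
    rw [← hm, hbk, one_pow]
  · rw [eq_top_iff]
    intro a _
    obtain ⟨m, hm⟩ := exists_pow_eq_self_of_coprime (hco' (θ a))
    -- b = (θ a)^m satisfies b ^ |Γ| = θ a
    have hb : (θ a) ^ m ∈ B := B.pow_mem (hθB a) m
    have hbθ : θ ((θ a) ^ m) = θ a := by
      rw [hθb _ hb, ← pow_mul, mul_comm, pow_mul, hm]
    have : a = (θ a) ^ m * (a * ((θ a) ^ m)⁻¹) := by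
      rw [mul_comm a, ← mul_assoc, mul_inv_cancel, one_mul]
    rw [this]
    apply Subgroup.mul_mem_sup hb
    rw [MonoidHom.mem_ker, map_mul, map_inv, hbθ, mul_inv_cancel]


/-- a subgroup `B` of an abelian group of exponent dividing `p ^ e` in which every element of
order dividing `p ^ (e - 1)` is a `p`-th power (in `B`) has a complement -/
theorem exists_compl_of_pure [Finite E] {p : ℕ} [Fact p.Prime] {e : ℕ} (he : 1 ≤ e)
    (hexp : ∀ a : E, a ^ p ^ e = 1) (B : Subgroup E)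
    (hB : ∀ b ∈ B, b ^ p ^ (e - 1) = 1 → ∃ b' ∈ B, b' ^ p = b) :
    ∃ C : Subgroup E, B ⊓ C = ⊥ ∧ B ⊔ C = ⊤ := by
  have hp : p.Prime := Fact.out
  obtain ⟨C, hC, hmax⟩ := Set.exists_max_image {C : Subgroup E | B ⊓ C = ⊥}
    (fun C => Nat.card C) (Set.toFinite _) ⟨⊥, inf_bot_eq B⟩
  replace hC : B ⊓ C = ⊥ := hC
  refine ⟨C, hC, ?_⟩
  by_contra hne
  obtain ⟨a, ha⟩ : ∃ a, a ∉ B ⊔ C := by
    by_contra hcon
    push Not at hcon
    exact hne (eq_top_iff.mpr fun x _ => hcon x)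
  have hex : ∃ j, a ^ p ^ j ∈ B ⊔ C := ⟨e, by rw [hexp]; exact Subgroup.one_mem _⟩
  classical
  have hj0 : Nat.find hex ≠ 0 := by
    intro h0
    have := Nat.find_spec hex
    rw [h0, pow_zero, pow_one] at this
    exact ha this
  obtain ⟨j', hj'⟩ := Nat.exists_eq_succ_of_ne_zero hj0
  have ha1 : a ^ p ^ j' ∉ B ⊔ C := Nat.find_min hex (by omega)
  have ha1p : (a ^ p ^ j') ^ p ∈ B ⊔ C := by
    have := Nat.find_spec hex
    rw [hj', pow_succ, pow_mul] at this
    exact this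
  obtain ⟨b, hb, c, hc, hbc⟩ := Subgroup.mem_sup.mp ha1p
  have hbe : b ^ p ^ (e - 1) = 1 := by
    have h1 : (b * c) ^ p ^ (e - 1) = 1 := by
      rw [hbc, ← pow_mul, ← pow_succ', Nat.sub_add_cancel he, hexp]
    rw [mul_pow] at h1
    have h2 : b ^ p ^ (e - 1) ∈ B ⊓ C := by
      refine ⟨B.pow_mem hb _, ?_⟩
      have : b ^ p ^ (e - 1) = (c ^ p ^ (e - 1))⁻¹ := eq_inv_of_mul_eq_one_left h1
      rw [SetLike.mem_coe, this]
      exact C.inv_mem (C.pow_mem hc _)
    rwa [hC, Subgroup.mem_bot] at h2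
  obtain ⟨b', hb', hb'p⟩ := hB b hb hbe
  have ha'p : (a ^ p ^ j' * b'⁻¹) ^ p = c := by
    rw [mul_pow, inv_pow, hb'p, ← hbc]
    rw [mul_comm b c, mul_assoc, mul_inv_cancel, mul_one]
  have ha' : a ^ p ^ j' * b'⁻¹ ∉ B ⊔ C := by
    intro h
    apply ha1
    have : a ^ p ^ j' = a ^ p ^ j' * b'⁻¹ * b' := by rw [inv_mul_cancel_right]
    rw [this]
    exact Subgroup.mul_mem _ h (Subgroup.mem_sup_left hb')
  have hlt : C < C ⊔ Subgroup.zpowers (a ^ p ^ j' * b'⁻¹) := by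
    apply lt_of_le_of_ne le_sup_left
    intro h
    apply ha'
    apply Subgroup.mem_sup_right
    rw [h]
    exact Subgroup.mem_sup_right (Subgroup.mem_zpowers _)
  have hC' : B ⊓ (C ⊔ Subgroup.zpowers (a ^ p ^ j' * b'⁻¹)) = ⊥ := by
    rw [eq_bot_iff]
    rintro x ⟨hxB, hxC'⟩
    obtain ⟨c', hc', y, hy, rfl⟩ := Subgroup.mem_sup.mp hxC'
    obtain ⟨k, rfl⟩ := Subgroup.mem_zpowers_iff.mp hy
    by_cases hpk : (p : ℤ) ∣ k
    · obtain ⟨t, rfl⟩ := hpk
      have hyC : (a ^ p ^ j' * b'⁻¹) ^ ((p : ℤ) * t) ∈ C := by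
        rw [zpow_mul, zpow_natCast, ha'p]
        exact C.zpow_mem hc t
      have : c' * (a ^ p ^ j' * b'⁻¹) ^ ((p : ℤ) * t) ∈ B ⊓ C := ⟨hxB, C.mul_mem hc' hyC⟩
      rwa [hC] at this
    · exfalso
      have hcop : IsCoprime (p : ℤ) k :=
        ((Nat.prime_iff_prime_int.mp hp).irreducible.coprime_iff_not_dvd).mpr hpk
      obtain ⟨u, v, huv⟩ := hcop
      apply ha'
      have h1 : (a ^ p ^ j' * b'⁻¹) ^ k ∈ B ⊔ C := by
        have : (a ^ p ^ j' * b'⁻¹) ^ k = c' * (a ^ p ^ j' * b'⁻¹) ^ k * c'⁻¹ := by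
          rw [mul_comm c', mul_inv_cancel_right]
        rw [this]
        exact Subgroup.mul_mem _ (Subgroup.mem_sup_left hxB) (Subgroup.mem_sup_right (C.inv_mem hc'))
      have h2 : (a ^ p ^ j' * b'⁻¹) ^ (p : ℤ) ∈ B ⊔ C := by
        rw [zpow_natCast, ha'p]
        exact Subgroup.mem_sup_right hc
      have : a ^ p ^ j' * b'⁻¹ =
          ((a ^ p ^ j' * b'⁻¹) ^ (p : ℤ)) ^ u * ((a ^ p ^ j' * b'⁻¹) ^ k) ^ v := by
        rw [← zpow_mul, ← zpow_mul, ← zpow_add, mul_comm (p : ℤ), mul_comm k, huv, zpow_one]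
      rw [this]
      exact Subgroup.mul_mem _ (Subgroup.zpow_mem _ h2 u) (Subgroup.zpow_mem _ h1 v)
  have hle := hmax _ hC'
  exact hlt.ne (Subgroup.eq_of_le_of_card_ge hlt.le hle)


/-- **Maschke** for elementary abelian groups -/
theorem exists_inv_compl_of_exp [Finite Γ] [Finite E] {p : ℕ} [Fact p.Prime]
    (hco : (Nat.card Γ).Coprime p) (hexp : ∀ a : E, a ^ p = 1) {M : Subgroup E}
    (hM : Inv Γ M) : ∃ M' : Subgroup E, Inv Γ M' ∧ M ⊓ M' = ⊥ ∧ M ⊔ M' = ⊤ := by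
  have hE : IsPGroup p E := fun a => ⟨1, by rw [pow_one]; exact hexp a⟩
  obtain ⟨n, hn⟩ := IsPGroup.iff_card.mp hE
  have hco' : (Nat.card Γ).Coprime (Nat.card E) := by
    rw [hn]; exact Nat.Coprime.pow_right n hco
  obtain ⟨C, h1, h2⟩ := exists_compl_of_pure (p := p) (e := 1) le_rfl
    (fun a => by rw [pow_one]; exact hexp a) M
    (by
      intro b _ hb1
      rw [Nat.sub_self, pow_zero, pow_one] at hb1
      exact ⟨1, M.one_mem, by rw [one_pow, hb1]⟩)
  exact exists_inv_compl hco' hM h1 h2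

/-- the action on an invariant subgroup -/
@[reducible] def subAction {B : Subgroup E} (hB : Inv Γ B) : MulDistribMulAction Γ B where
  smul g b := ⟨g • (b : E), hB g b b.2⟩
  one_smul b := Subtype.ext (one_smul Γ (b : E))
  mul_smul g h b := Subtype.ext (mul_smul g h (b : E))
  smul_mul g a b := Subtype.ext (smul_mul' g (a : E) (b : E))
  smul_one g := Subtype.ext (smul_one g)

/-- **Maschke**, relative to an invariant subgroup of exponent `p` -/
theorem exists_inv_compl_rel [Finite Γ] [Finite E] {p : ℕ} [Fact p.Prime]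
    (hco : (Nat.card Γ).Coprime p) {B M : Subgroup E} (hB : Inv Γ B)
    (hBexp : ∀ b ∈ B, b ^ p = 1) (hM : Inv Γ M) (hMB : M ≤ B) :
    ∃ M' : Subgroup E, Inv Γ M' ∧ M' ≤ B ∧ M ⊓ M' = ⊥ ∧ M ⊔ M' = B := by
  letI : MulDistribMulAction Γ B := subAction hB
  have hsmul : ∀ (g : Γ) (b : B), ((g • b : B) : E) = g • (b : E) := fun _ _ => rfl
  have hM' : Inv Γ (M.subgroupOf B) := by
    intro g b hb
    rw [Subgroup.mem_subgroupOf] at hb ⊢
    rw [hsmul]
    exact hM g _ hb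
  obtain ⟨M'', hinv, h1, h2⟩ := exists_inv_compl_of_exp (Γ := Γ) (E := B) hco
    (fun b => Subtype.ext (by simpa using hBexp b b.2)) hM'
  refine ⟨M''.map B.subtype, ?_, Subgroup.map_subtype_le _, ?_, ?_⟩
  · rintro g _ ⟨m, hm, rfl⟩
    exact ⟨g • m, hinv g m hm, rfl⟩
  · rw [eq_bot_iff]
    rintro x ⟨hxM, m, hm, rfl⟩
    have : m ∈ M.subgroupOf B ⊓ M'' := ⟨hxM, hm⟩
    rw [h1, Subgroup.mem_bot] at this
    rw [this]
    exact Subgroup.one_mem _
  · apply le_antisymm (sup_le hMB (Subgroup.map_subtype_le _))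
    intro b hb
    have : (⟨b, hb⟩ : B) ∈ M.subgroupOf B ⊔ M'' := by rw [h2]; exact Subgroup.mem_top _
    obtain ⟨y, hy, z, hz, hyz⟩ := Subgroup.mem_sup.mp this
    have hb' : b = (y : E) * (z : E) := by
      have := congrArg Subtype.val hyz
      simpa using this.symm
    rw [hb']
    exact Subgroup.mul_mem_sup hy ⟨z, hz, rfl⟩

/-- the action on the quotient by an invariant subgroup -/
@[reducible] def quotAction {N : Subgroup E} (hN : Inv Γ N) : MulDistribMulAction Γ (E ⧸ N) where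
  smul g x := QuotientGroup.map N N (MulDistribMulAction.toMonoidHom E g)
    (fun n hn => hN g n hn) x
  one_smul x := by
    induction x using QuotientGroup.induction_on with
    | H a =>
      show ((((1 : Γ) • a : E)) : E ⧸ N) = a
      rw [one_smul]
  mul_smul g h x := by
    induction x using QuotientGroup.induction_on with
    | H a =>
      show ((((g * h) • a : E)) : E ⧸ N) = ((g • (h • a) : E) : E ⧸ N)
      rw [mul_smul]
  smul_mul g x y := map_mul _ x y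
  smul_one g := map_one _

theorem quotAction_mk {N : Subgroup E} (hN : Inv Γ N) (g : Γ) (a : E) :
    letI := quotAction hN
    g • (a : E ⧸ N) = ((g • a : E) : E ⧸ N) := rfl

/-- an invariant subgroup `K` of `B` which is superfluous among invariant subgroups lies in
every invariant subgroup `P` with `B / P` of exponent `p` -/
theorem le_of_superfluous [Finite Γ] [Finite E] {p : ℕ} [Fact p.Prime]
    (hco : (Nat.card Γ).Coprime p) {B K P : Subgroup E} (hB : Inv Γ B) (hK : Inv Γ K)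
    (hP : Inv Γ P) (hpow : ∀ b ∈ B, b ^ p ∈ P) (hKB : K ≤ B)
    (hsup : ∀ B' : Subgroup E, Inv Γ B' → B' ≤ B → B' ⊔ K = B → B' = B) :
    K ≤ P := by
  letI : MulDistribMulAction Γ (E ⧸ P) := quotAction hP
  have hsmul : ∀ (g : Γ) (a : E), g • (a : E ⧸ P) = ((g • a : E) : E ⧸ P) := fun _ _ => rfl
  have hinvmap : ∀ {H : Subgroup E}, Inv Γ H → Inv Γ (H.map (QuotientGroup.mk' P)) := by
    rintro H hH g _ ⟨b, hb, rfl⟩
    exact ⟨g • b, hH g b hb, (hsmul g b).symm⟩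
  have hBexp : ∀ x ∈ B.map (QuotientGroup.mk' P), x ^ p = 1 := by
    rintro _ ⟨b, hb, rfl⟩
    rw [← map_pow, QuotientGroup.mk'_apply, QuotientGroup.eq_one_iff]
    exact hpow b hb
  obtain ⟨M', hM'inv, hM'B, h1, h2⟩ := exists_inv_compl_rel hco (hinvmap hB) hBexp (hinvmap hK)
    (Subgroup.map_mono hKB)
  have hB'inv : Inv Γ (B ⊓ M'.comap (QuotientGroup.mk' P)) := by
    apply hB.inf
    intro g a ha
    rw [Subgroup.mem_comap, QuotientGroup.mk'_apply] at ha ⊢
    rw [← hsmul]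
    exact hM'inv g _ ha
  have hB'eq := hsup _ hB'inv inf_le_left (by
    apply le_antisymm (sup_le inf_le_left hKB)
    intro b hb
    have : (QuotientGroup.mk' P) b ∈ K.map (QuotientGroup.mk' P) ⊔ M' := by
      rw [h2]; exact ⟨b, hb, rfl⟩
    obtain ⟨_, ⟨k, hk, rfl⟩, m', hm', hkm⟩ := Subgroup.mem_sup.mp this
    have hbk : b * k⁻¹ ∈ B ⊓ M'.comap (QuotientGroup.mk' P) := by
      refine ⟨B.mul_mem hb (B.inv_mem (hKB hk)), ?_⟩
      show (QuotientGroup.mk' P) (b * k⁻¹) ∈ M'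
      rw [map_mul, map_inv, ← hkm, mul_comm, inv_mul_cancel_left]
      exact hm'
    have : b = b * k⁻¹ * k := by rw [inv_mul_cancel_right]
    rw [this]
    exact Subgroup.mul_mem_sup hbk hk)
  intro k hk
  have hkB : k ∈ B ⊓ M'.comap (QuotientGroup.mk' P) := by
    rw [hB'eq]; exact hKB hk
  have : (QuotientGroup.mk' P) k ∈ K.map (QuotientGroup.mk' P) ⊓ M' := ⟨⟨k, hk, rfl⟩, hkB.2⟩
  rw [h1, Subgroup.mem_bot, QuotientGroup.mk'_apply, QuotientGroup.eq_one_iff] at this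
  exact this


theorem inv_ker_pow (n : ℕ) : Inv Γ (powMonoidHom n : E →* E).ker :=
  inv_ker _ (fun g a => by simp only [powMonoidHom_apply]; rw [smul_pow'])

theorem inv_range_pow (n : ℕ) : Inv Γ (powMonoidHom n : E →* E).range := by
  rw [MonoidHom.range_eq_map]
  exact inv_map_pow n inv_top

/-- existence of a homocyclic invariant direct factor of maximal exponent with irreducible socle -/
theorem exists_special_factor [Finite Γ] [Finite E] {p : ℕ} [Fact p.Prime]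
    (hco : (Nat.card Γ).Coprime p) {e : ℕ} (he : 1 ≤ e) (hexp : ∀ a : E, a ^ p ^ e = 1)
    (hne : ∃ a : E, a ^ p ^ (e - 1) ≠ 1) :
    ∃ B W C : Subgroup E, Inv Γ B ∧ Inv Γ W ∧ Inv Γ C ∧ W ≠ ⊥ ∧
      (∀ W' : Subgroup E, Inv Γ W' → W' ≤ W → W' = ⊥ ∨ W' = W) ∧
      B.map (powMonoidHom (p ^ (e - 1))) = W ∧
      (∀ b ∈ B, b ^ p ^ (e - 1) = 1 → ∃ b' ∈ B, b' ^ p = b) ∧
      B ⊓ C = ⊥ ∧ B ⊔ C = ⊤ := by
  have hE : IsPGroup p E := fun a => ⟨e, hexp a⟩
  obtain ⟨n, hn⟩ := IsPGroup.iff_card.mp hE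
  have hco' : (Nat.card Γ).Coprime (Nat.card E) := by
    rw [hn]; exact Nat.Coprime.pow_right n hco
  -- the subgroup of `p^(e-1)`-th powers
  have hU : Inv Γ (powMonoidHom (p ^ (e - 1)) : E →* E).range := inv_range_pow _
  have hU0 : (powMonoidHom (p ^ (e - 1)) : E →* E).range ≠ ⊥ := by
    obtain ⟨a, ha⟩ := hne
    intro h
    have : a ^ p ^ (e - 1) ∈ (powMonoidHom (p ^ (e - 1)) : E →* E).range := ⟨a, rfl⟩
    rw [h, Subgroup.mem_bot] at this
    exact ha this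
  obtain ⟨W, ⟨hW, hW0, hWU⟩, hWmin⟩ := Set.exists_min_image
    {W : Subgroup E | Inv Γ W ∧ W ≠ ⊥ ∧ W ≤ (powMonoidHom (p ^ (e - 1)) : E →* E).range}
    (fun W => Nat.card W) (Set.toFinite _) ⟨_, hU, hU0, le_rfl⟩
  have hWmin' : ∀ W' : Subgroup E, Inv Γ W' → W' ≤ W → W' = ⊥ ∨ W' = W := by
    intro W' hW' hle
    by_cases h0 : W' = ⊥
    · exact Or.inl h0
    · right
      exact Subgroup.eq_of_le_of_card_ge hle (hWmin W' ⟨hW', h0, hle.trans hWU⟩)
  obtain ⟨B, ⟨hB, hBW⟩, hBmin⟩ := Set.exists_min_image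
    {B : Subgroup E | Inv Γ B ∧ B.map (powMonoidHom (p ^ (e - 1))) = W}
    (fun B => Nat.card B) (Set.toFinite _)
    ⟨W.comap (powMonoidHom (p ^ (e - 1))), inv_comap_pow _ hW, by
      rw [Subgroup.map_comap_eq]; exact inf_eq_right.mpr hWU⟩
  have hK : Inv Γ (B ⊓ (powMonoidHom (p ^ (e - 1)) : E →* E).ker) := hB.inf (inv_ker_pow _)
  have hsup : ∀ B' : Subgroup E, Inv Γ B' → B' ≤ B →
      B' ⊔ (B ⊓ (powMonoidHom (p ^ (e - 1)) : E →* E).ker) = B → B' = B := by
    intro B' hB' hle hsup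
    have hmap : B'.map (powMonoidHom (p ^ (e - 1))) = W := by
      have h1 : (B ⊓ (powMonoidHom (p ^ (e - 1)) : E →* E).ker).map
          (powMonoidHom (p ^ (e - 1))) = ⊥ := by
        rw [Subgroup.map_eq_bot_iff]
        exact inf_le_right
      rw [← hBW, ← hsup, Subgroup.map_sup, h1, sup_bot_eq]
    exact Subgroup.eq_of_le_of_card_ge hle (hBmin B' ⟨hB', hmap⟩)
  have hKle := le_of_superfluous hco hB hK (inv_map_pow p hB)
    (fun b hb => ⟨b, hb, rfl⟩) inf_le_left hsup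
  have hpure : ∀ b ∈ B, b ^ p ^ (e - 1) = 1 → ∃ b' ∈ B, b' ^ p = b := by
    intro b hb hb1
    have hbk : b ∈ (powMonoidHom (p ^ (e - 1)) : E →* E).ker := by
      rw [MonoidHom.mem_ker, powMonoidHom_apply]; exact hb1
    obtain ⟨b', hb', hbb'⟩ := hKle ⟨hb, hbk⟩
    exact ⟨b', hb', hbb'⟩
  obtain ⟨C₀, h1, h2⟩ := exists_compl_of_pure he hexp B hpure
  obtain ⟨C, hC, h3, h4⟩ := exists_inv_compl hco' hB h1 h2
  exact ⟨B, W, C, hB, hW, hC, hW0, hWmin', hBW, hpure, h3, h4⟩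

/-- **(i) ⇒ (iii)**: if `E` is indecomposable under `Γ` then `Ω₁(E)` is irreducible -/
theorem irreducible_of_indecomposable [Finite Γ] [Finite E] {p : ℕ} [Fact p.Prime]
    (hE : IsPGroup p E) (hco : (Nat.card Γ).Coprime p)
    (hind : ¬ ∃ B C : Subgroup E, B ≠ ⊥ ∧ C ≠ ⊥ ∧ Inv Γ B ∧ Inv Γ C ∧ B ⊓ C = ⊥ ∧ B ⊔ C = ⊤)
    (B₁ : Subgroup E) (hB₁ : Inv Γ B₁) (hexp₁ : ∀ b ∈ B₁, b ^ p = 1) :
    B₁ = ⊥ ∨ ∀ a : E, a ∈ B₁ ↔ a ^ p = 1 := by
  classical
  by_cases htriv : ∀ a : E, a = 1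
  · left
    rw [eq_bot_iff]
    intro b _
    rw [Subgroup.mem_bot]
    exact htriv b
  obtain ⟨n, hn⟩ := IsPGroup.iff_card.mp hE
  have hex : ∃ e, ∀ a : E, a ^ p ^ e = 1 := ⟨n, fun a => by rw [← hn]; exact pow_card_eq_one'⟩
  have he0 : Nat.find hex ≠ 0 := by
    intro h0
    apply htriv
    intro a
    have := Nat.find_spec hex a
    rwa [h0, pow_zero, pow_one] at this
  have he : 1 ≤ Nat.find hex := Nat.one_le_iff_ne_zero.mpr he0
  have hne : ∃ a : E, a ^ p ^ (Nat.find hex - 1) ≠ 1 := by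
    have := Nat.find_min hex (show Nat.find hex - 1 < Nat.find hex by omega)
    push Not at this
    exact this
  obtain ⟨B, W, C, hB, hW, hC, hW0, hWmin, hBW, hpure, h1, h2⟩ :=
    exists_special_factor hco he (Nat.find_spec hex) hne
  have hB0 : B ≠ ⊥ := by
    intro h
    apply hW0
    rw [← hBW, h, Subgroup.map_bot]
  have hC0 : C = ⊥ := by
    by_contra hC0
    exact hind ⟨B, C, hB0, hC0, hB, hC, h1, h2⟩
  have hBtop : B = ⊤ := by rw [hC0, sup_bot_eq] at h2; exact h2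
  -- every element of order `p` is a `p^(e-1)`-th power
  have hclaim : ∀ a : E, a ^ p = 1 → a ∈ W := by
    intro a ha
    have hroot : ∀ j, j ≤ Nat.find hex - 1 → ∃ c : E, c ^ p ^ j = a := by
      intro j
      induction j with
      | zero => intro _; exact ⟨a, by rw [pow_zero, pow_one]⟩
      | succ j ih =>
        intro hj
        obtain ⟨c, hc⟩ := ih (by omega)
        have hc1 : c ^ p ^ (Nat.find hex - 1) = 1 := by
          have : Nat.find hex - 1 = (j + 1) + (Nat.find hex - 1 - (j + 1)) := by omega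
          rw [this, pow_add, pow_mul, pow_succ, pow_mul, hc, ha, one_pow]
        obtain ⟨c', -, hc'⟩ := hpure c (by rw [hBtop]; exact Subgroup.mem_top c) hc1
        exact ⟨c', by rw [pow_succ', pow_mul, hc', hc]⟩
    obtain ⟨c, hc⟩ := hroot _ le_rfl
    rw [← hBW, hBtop]
    exact ⟨c, Subgroup.mem_top c, hc⟩
  have hle : B₁ ≤ W := fun b hb => hclaim b (hexp₁ b hb)
  rcases hWmin B₁ hB₁ hle with h | h
  · exact Or.inl h
  · right
    intro a
    exact ⟨hexp₁ a, fun ha => by rw [h]; exact hclaim a ha⟩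

/-- **(iii) ⇒ (ii)**, inductive form -/
theorem mem_iff_of_irreducible {p : ℕ}
    (hirr : ∀ B : Subgroup E, Inv Γ B → (∀ b ∈ B, b ^ p = 1) →
      B = ⊥ ∨ ∀ a : E, a ∈ B ↔ a ^ p = 1) :
    ∀ (i : ℕ) (B : Subgroup E), Inv Γ B → (∀ b ∈ B, b ^ p ^ i = 1) →
      (i ≠ 0 → ∃ b ∈ B, b ^ p ^ (i - 1) ≠ 1) → ∀ a : E, a ∈ B ↔ a ^ p ^ i = 1 := by
  intro i
  induction i with
  | zero =>
    intro B _ hexp _ a
    constructor
    · exact hexp a
    · intro ha
      rw [pow_zero, pow_one] at ha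
      rw [ha]; exact B.one_mem
  | succ i ih =>
    intro B hB hexp hne a
    obtain ⟨b₀, hb₀, hb₀1⟩ := hne (Nat.succ_ne_zero i)
    rw [Nat.add_sub_cancel] at hb₀1
    refine ⟨hexp a, fun ha => ?_⟩
    -- the socle of `B`
    have hB₁ : ∀ c : E, c ∈ B.map (powMonoidHom (p ^ i)) ↔ c ^ p = 1 := by
      rcases hirr (B.map (powMonoidHom (p ^ i))) (inv_map_pow _ hB) (by
        rintro _ ⟨b, hb, rfl⟩
        rw [powMonoidHom_apply, ← pow_mul, ← pow_succ]
        exact hexp b hb) with h | h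
      · exfalso
        have : b₀ ^ p ^ i ∈ B.map (powMonoidHom (p ^ i)) := ⟨b₀, hb₀, rfl⟩
        rw [h, Subgroup.mem_bot] at this
        exact hb₀1 this
      · exact h
    -- the elements of `B` of order dividing `p^i`
    have hB' : ∀ c : E, c ∈ B ⊓ (powMonoidHom (p ^ i) : E →* E).ker ↔ c ^ p ^ i = 1 := by
      apply ih _ (hB.inf (inv_ker_pow _))
      · intro c hc
        exact hc.2
      · intro hi
        have hbk : b₀ ^ p ∈ (powMonoidHom (p ^ i) : E →* E).ker := by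
          rw [MonoidHom.mem_ker, powMonoidHom_apply, ← pow_mul, ← pow_succ']
          exact hexp b₀ hb₀
        refine ⟨b₀ ^ p, ⟨B.pow_mem hb₀ p, hbk⟩, ?_⟩
        · rw [← pow_mul, ← pow_succ', Nat.sub_add_cancel (Nat.one_le_iff_ne_zero.mpr hi)]
          exact hb₀1
    have h1 : a ^ p ^ i ∈ B.map (powMonoidHom (p ^ i)) := by
      rw [hB₁, ← pow_mul, ← pow_succ]
      exact ha
    obtain ⟨b, hb, hba⟩ := h1
    rw [powMonoidHom_apply] at hba
    have h2 : a * b⁻¹ ∈ B ⊓ (powMonoidHom (p ^ i) : E →* E).ker := by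
      rw [hB', mul_pow, inv_pow, hba, mul_inv_cancel]
    have : a = a * b⁻¹ * b := by rw [inv_mul_cancel_right]
    rw [this]
    exact B.mul_mem h2.1 hb

/-- **(iii) ⇒ (ii)** -/
theorem eq_omega_of_irreducible [Finite E] {p : ℕ} [Fact p.Prime] (hE : IsPGroup p E)
    (hirr : ∀ B : Subgroup E, Inv Γ B → (∀ b ∈ B, b ^ p = 1) →
      B = ⊥ ∨ ∀ a : E, a ∈ B ↔ a ^ p = 1)
    (B : Subgroup E) (hB : Inv Γ B) : ∃ i : ℕ, ∀ a : E, a ∈ B ↔ a ^ p ^ i = 1 := by
  classical
  obtain ⟨n, hn⟩ := IsPGroup.iff_card.mp hE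
  have hex : ∃ i, ∀ b ∈ B, b ^ p ^ i = 1 :=
    ⟨n, fun b _ => by rw [← hn]; exact pow_card_eq_one'⟩
  refine ⟨Nat.find hex, mem_iff_of_irreducible hirr _ B hB (Nat.find_spec hex) ?_⟩
  intro hi
  have := Nat.find_min hex (show Nat.find hex - 1 < Nat.find hex by omega)
  push Not at this
  exact this

end Cfsg.Agent.Helper19.CoAb
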