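import Mathlib
import Cfsg.Prelude.Def_Blocks
import Cfsg.Agent.Lib.Helper24.CharLinear
import Cfsg.Agent.Lib.Helper24.CharComplete
import Cfsg.Agent.Lib.Helper17.M11Defs

/-!
# Simple groups of order 7920, PIECE S10 (helper19, for helper17): second orthogonality at an
element where all the values are rational integers.
-/

set_option autoImplicit false
set_option linter.unusedSectionVars false
set_option linter.unusedVariables false
set_option linter.style.haveILetI false

namespace Cfsg.Agent.Helper17.M11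

open scoped ComplexConjugate
open Cfsg Cfsg.Agent.Helper24

universe u

variable {G : Type u} [Group G] [Fintype G]

namespace S10

/-- a sum over a type enumerated by a duplicate-free list. -/
theorem sum_eq_list_sum {α : Type u} [Fintype α] (L : List α) (hnd : L.Nodup)
    (hall : ∀ x, x ∈ L) (f : α → ℂ) : ∑ x : α, f x = (L.map f).sum := by
  classical
  have huniv : (Finset.univ : Finset α) = L.toFinset := by
    ext x
    simp [hall x]
  rw [huniv, List.sum_toFinset f hnd]

end S10

/-- PIECE S10: second orthogonality at an element where all the values are rational integers. -/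
theorem sum_sq_values {P Q : Subgroup G} (T : CT P Q) {x : G} {a b1 b2 b3 c c' d f g : ℤ}
    (ha : (T.b.χ1 : G → ℂ) x = (a : ℂ)) (h1 : (T.b.χ2 : G → ℂ) x = (b1 : ℂ))
    (h2 : (T.b.χ3 : G → ℂ) x = (b2 : ℂ)) (h3 : (T.b.χ4 : G → ℂ) x = (b3 : ℂ))
    (hc : (T.b.θ : G → ℂ) x = (c : ℂ)) (hc' : (T.b.θ' : G → ℂ) x = (c' : ℂ))
    (hd : (T.α : G → ℂ) x = (d : ℂ)) (hf : (T.β : G → ℂ) x = (f : ℂ))
    (hg : (T.γ : G → ℂ) x = (g : ℂ)) :
    (Nat.card (Subgroup.centralizer ({x} : Set G)) : ℤ) =
      1 + a ^ 2 + b1 ^ 2 + b2 ^ 2 + b3 ^ 2 + c ^ 2 + c' ^ 2 + d ^ 2 + f ^ 2 + g ^ 2 := by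
  classical
  letI : Fintype (IrrCharacter G) := irrFintype
  have hso := second_orthogonality' x x
  rw [if_pos (IsConj.refl x)] at hso
  rw [S10.sum_eq_list_sum _ T.nodup T.all] at hso
  have hp : ((principalChar G : IrrCharacter G) : G → ℂ) x = 1 := rfl
  simp only [List.map_cons, List.map_nil, List.sum_cons, List.sum_nil, ha, h1, h2, h3, hc, hc',
    hd, hf, hg, hp, map_intCast, map_one] at hso
  have hcast : ((Nat.card (Subgroup.centralizer ({x} : Set G)) : ℤ) : ℂ) =
      ((1 + a ^ 2 + b1 ^ 2 + b2 ^ 2 + b3 ^ 2 + c ^ 2 + c' ^ 2 + d ^ 2 + f ^ 2 + g ^ 2 : ℤ) : ℂ) := by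
    push_cast
    rw [← hso]
    ring
  exact_mod_cast hcast
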