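import Mathlib
import Cfsg.Prelude.Def_Blocks
import Cfsg.Agent.Lib.Helper24.CharLinear
import Cfsg.Agent.Lib.Helper24.CharComplete
import Cfsg.Agent.Lib.Helper13.BR996CC
import Cfsg.Agent.Lib.Helper17.M11Defs
import Cfsg.Agent.Lib.Helper19.M11S10

/-!
# Simple groups of order 7920, PIECE S9, core (helper19, for helper17): the two equations for the
values at an involution coming from the prime `5`, with the count of T5 as a hypothesis.
-/

set_option autoImplicit false
set_option linter.unusedSectionVars false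
set_option linter.unusedVariables false
set_option linter.style.haveILetI false

namespace Cfsg.Agent.Helper17.M11

open scoped ComplexConjugate
open Cfsg Cfsg.Agent.Helper24

universe u

variable {G : Type u} [Group G] [Fintype G]

namespace S9

/-- an involution has order `2`. -/
theorem orderOf_invol {t : G} (ht : t * t = 1) (ht1 : t ≠ 1) : orderOf t = 2 := by
  apply orderOf_eq_prime
  · rw [pow_two]; exact ht
  · exact ht1

/-- the core of S9: the count of T5 is a hypothesis. -/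
theorem invol_eq5_core {P Q : Subgroup G} (T : CT P Q) (hG : Nat.card G = 7920) {u : G}
    (hu : u ∈ Q) (hu1 : u ≠ 1) (hCu : Nat.card (Subgroup.centralizer ({u} : Set G)) = 5) {t : G}
    (ht : t * t = 1) (ht1 : t ≠ 1) {c d f : ℤ} (hc : (T.b.θ : G → ℂ) t = (c : ℂ))
    (hd : (T.α : G → ℂ) t = (d : ℂ)) (hf : (T.β : G → ℂ) t = (f : ℂ))
    (hcc : ∃ k : ℕ, k ≤ Nat.card (Subgroup.centralizer ({u} : Set G)) ∧
      Nat.card {c : G × G // (c.1 * t * c.1⁻¹) * (c.2 * t * c.2⁻¹) = u} =
        Nat.card (Subgroup.centralizer ({t} : Set G)) ^ 2 * k) :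
    1 + 2 * c + d - f = 0 ∧ ∃ k : ℕ, k ≤ 5 ∧
      90 * (88 + 11 * c ^ 2 + 8 * d ^ 2 - 2 * f ^ 2) =
        (Nat.card (Subgroup.centralizer ({t} : Set G)) : ℤ) ^ 2 * k := by
  classical
  letI : Fintype (IrrCharacter G) := irrFintype
  have ho : orderOf t = 2 := orderOf_invol ht ht1
  have h5 : ¬ 5 ∣ orderOf t := by rw [ho]; norm_num
  have h11 : ¬ 11 ∣ orderOf t := by rw [ho]; norm_num
  have hc' : (T.b.θ' : G → ℂ) t = (c : ℂ) := by rw [← T.b.regY t h11, hc]
  constructor
  · have h := T.rel5 t h5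
    rw [hc, hc', hd, hf] at h
    have h' : ((1 + 2 * c + d - f : ℤ) : ℂ) = 0 := by
      push_cast
      linear_combination h
    exact_mod_cast h'
  · obtain ⟨k, hk, hcard⟩ := hcc
    refine ⟨k, hCu ▸ hk, ?_⟩
    have hcl := Cfsg.Agent.Helper10.BR996.class_const t t u
    rw [S10.sum_eq_list_sum _ T.nodup T.all, hcard, hG] at hcl
    -- the degrees
    have hdθ : (T.b.θ : G → ℂ) 1 = 16 := by
      rw [irr_one_eq_charDegree T.b.θ.2, T.b.degθ]; norm_num
    have hdθ' : (T.b.θ' : G → ℂ) 1 = 16 := by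
      rw [irr_one_eq_charDegree T.b.θ'.2, T.b.degθ']; norm_num
    have hdα : (T.α : G → ℂ) 1 = 11 := by
      rw [irr_one_eq_charDegree T.α.2, T.degα]; norm_num
    have hdβ : (T.β : G → ℂ) 1 = 44 := by
      rw [irr_one_eq_charDegree T.β.2, T.degβ]; norm_num
    -- the values at `u`
    have v1 : (T.b.χ1 : G → ℂ) u = 0 := T.val0 _ (by simp) u hu hu1
    have v2 : (T.b.χ2 : G → ℂ) u = 0 := T.val0 _ (by simp) u hu hu1
    have v3 : (T.b.χ3 : G → ℂ) u = 0 := T.val0 _ (by simp) u hu hu1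
    have v4 : (T.b.χ4 : G → ℂ) u = 0 := T.val0 _ (by simp) u hu hu1
    have vγ : (T.γ : G → ℂ) u = 0 := T.val0 _ (by simp) u hu hu1
    have vθ := T.valθ u hu hu1
    have vθ' := T.valθ' u hu hu1
    have vα := T.valα u hu hu1
    have vβ := T.valβ u hu hu1
    have hp : ∀ g : G, ((principalChar G : IrrCharacter G) : G → ℂ) g = 1 := fun _ => rfl
    simp only [List.map_cons, List.map_nil, List.sum_cons, List.sum_nil, v1, v2, v3, v4, vγ, vθ,
      vθ', vα, vβ, hp, hc, hc', hd, hf, hdθ, hdθ', hdα, hdβ, map_zero, map_one, map_neg, mul_zero,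
      zero_div, add_zero, zero_add] at hcl
    have hcast : ((90 * (88 + 11 * c ^ 2 + 8 * d ^ 2 - 2 * f ^ 2) : ℤ) : ℂ) =
        (((Nat.card (Subgroup.centralizer ({t} : Set G)) : ℤ) ^ 2 * k : ℤ) : ℂ) := by
      push_cast
      push_cast at hcl
      rw [hcl]
      ring
    exact_mod_cast hcast

end S9

end Cfsg.Agent.Helper17.M11
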