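import Mathlib
import Cfsg.Agent.Lib.Helper19.M11S9Core
import Cfsg.Agent.Lib.Lead.M11T5

/-!
# Simple groups of order 7920, PIECE S9 (helper19, for helper17): the two equations for the values at an
involution coming from the prime `5` (core + the count of T5).
-/

set_option autoImplicit false
set_option linter.unusedSectionVars false
set_option linter.unusedVariables false

namespace Cfsg.Agent.Helper17.M11

open scoped ComplexConjugate
open Cfsg Cfsg.Agent.Helper24

universe u

variable {G : Type u} [Group G] [Fintype G]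

theorem invol_eq5 {P Q : Subgroup G} (T : CT P Q) (hG : Nat.card G = 7920) {u : G} (hu : u ∈ Q)
    (hu1 : u ≠ 1) (hCu : Nat.card (Subgroup.centralizer ({u} : Set G)) = 5) {t : G}
    (ht : t * t = 1) (ht1 : t ≠ 1) {c d f : ℤ} (hc : (T.b.θ : G → ℂ) t = (c : ℂ))
    (hd : (T.α : G → ℂ) t = (d : ℂ)) (hf : (T.β : G → ℂ) t = (f : ℂ)) :
    1 + 2 * c + d - f = 0 ∧ ∃ k : ℕ, k ≤ 5 ∧
      90 * (88 + 11 * c ^ 2 + 8 * d ^ 2 - 2 * f ^ 2) =
        (Nat.card (Subgroup.centralizer ({t} : Set G)) : ℤ) ^ 2 * k :=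
  S9.invol_eq5_core T hG hu hu1 hCu ht ht1 hc hd hf (cc_count ht)

end Cfsg.Agent.Helper17.M11
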