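import Mathlib
import Cfsg.Agent.Lib.Helper19.JCDefs
import Cfsg.Agent.Lib.Helper1.JCW1
import Cfsg.Agent.Lib.Helper1.JCW2
import Cfsg.Agent.Lib.Helper27.JCCUBE
import Cfsg.Agent.Lib.Helper7.JCIDX
import Cfsg.Agent.Lib.Helper7.JCOFF
import Cfsg.Agent.Lib.Helper27.JCVDEC

/-! All farmed-out pieces of S2946 (CUBE, IDX, W1, W2, VDEC, OFF) in one import. -/
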