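import Mathlib
import Cfsg.Agent.Lib.Helper19.JCDefs
import Cfsg.Agent.Lib.Helper19.JCPieces

/-!
# S2946 back end, part A (helper19)

`a ∈ S ∖ R` acts nontrivially on `W` with exactly two fixed points; an `A ∈ 𝒜(S)` outside `R`
has `|V : V ⊓ A| = 2`; `C_V(K)` is central in `X`; `⁅V, X⁆ ≤ W`; `(A ⊓ R) V ∈ 𝒜(S)`.
-/

set_option autoImplicit false
set_option linter.unusedSectionVars false
set_option linter.unusedVariables false
set_option linter.style.haveILetI false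
set_option linter.unusedSimpArgs false

namespace Cfsg.Agent.Helper19.JC

open Cfsg Cfsg.Agent.Helper4.ZJ
open scoped commutatorElement

universe u

variable {G : Type u} [Group G] [Finite G] {K J : Subgroup G}

/-- relative index-two criterion -/
theorem mul_mem_iff_of_relIndex_two {H L : Subgroup G} (h : H.relIndex L = 2) {a b : G}
    (ha : a ∈ L) (hb : b ∈ L) : a * b ∈ H ↔ (a ∈ H ↔ b ∈ H) := by
  have := Subgroup.mul_mem_iff_of_index_two (H := H.subgroupOf L) h (a := ⟨a, ha⟩) (b := ⟨b, hb⟩)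
  simpa [Subgroup.mem_subgroupOf] using this

theorem card_eq_two_mul_of_relIndex_two {H L : Subgroup G} (hHL : H ≤ L) (h : H.relIndex L = 2) :
    Nat.card L = 2 * Nat.card H := by
  have h1 := Subgroup.relIndex_mul_relIndex (H := ⊥) (K := H) (L := L) bot_le hHL
  rw [Subgroup.relIndex_bot_left, Subgroup.relIndex_bot_left, h] at h1
  omega

theorem relIndex_two_of_card {H L : Subgroup G} (hHL : H ≤ L)
    (h : Nat.card L = 2 * Nat.card H) : H.relIndex L = 2 := by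
  have h1 := Subgroup.relIndex_mul_relIndex (H := ⊥) (K := H) (L := L) bot_le hHL
  rw [Subgroup.relIndex_bot_left, Subgroup.relIndex_bot_left, h] at h1
  have hpos : 0 < Nat.card H := Nat.card_pos
  have : Nat.card H * H.relIndex L = Nat.card H * 2 := by rw [h1]; ring
  exact Nat.eq_of_mul_eq_mul_left hpos this

/-- a proper subgroup has at most half the elements -/
theorem two_mul_card_le_of_lt {H L : Subgroup G} (hHL : H ≤ L) (hne : ¬ L ≤ H) :
    2 * Nat.card H ≤ Nat.card L := by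
  obtain ⟨k, hk⟩ := Subgroup.card_dvd_of_le hHL
  have hpos : 0 < Nat.card L := Nat.card_pos
  have hposH : 0 < Nat.card H := Nat.card_pos
  have hk1 : k ≠ 1 := by
    intro h1
    rw [h1, mul_one] at hk
    apply hne
    rw [Subgroup.eq_of_le_of_card_ge hHL hk.le]
  have hk0 : k ≠ 0 := by
    intro h0
    rw [h0, mul_zero] at hk
    omega
  have : 2 ≤ k := by omega
  rw [hk]
  nlinarith

theorem mem_inf_centralizer_singleton {V : Subgroup G} {a x : G} :
    x ∈ V ⊓ Subgroup.centralizer ({a} : Set G) ↔ x ∈ V ∧ a * x = x * a := by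
  rw [Subgroup.mem_inf, Subgroup.mem_centralizer_iff]
  constructor
  · rintro ⟨h1, h2⟩
    exact ⟨h1, h2 a rfl⟩
  · rintro ⟨h1, h2⟩
    refine ⟨h1, ?_⟩
    intro y hy
    rw [Set.mem_singleton_iff] at hy
    subst hy
    exact h2

/-- a group of exponent two is commutative -/
theorem comm_of_sq_eq_one {W : Subgroup G} (h2 : ∀ w ∈ W, w * w = 1) :
    ∀ x ∈ W, ∀ y ∈ W, x * y = y * x := by
  intro x hx y hy
  have h1 := h2 (x * y) (W.mul_mem hx hy)
  have hx2 := h2 x hx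
  have hy2 := h2 y hy
  calc x * y = (y * y) * (x * y) * (x * x) := by rw [hx2, hy2, one_mul, mul_one]
    _ = y * (y * x) * ((y * x) * x) := by group
    _ = y * (y * x * (y * x)) * x := by group
    _ = y * x := by
        have h3 := h2 (y * x) (W.mul_mem hy hx)
        rw [h3, mul_one]

section setup

variable (c : Comp K J)
include c

theorem Comp.S_cases {a : G} (ha : a ∈ SS K J) (haR : a ∉ RR K J) {s : G} (hs : s ∈ SS K J) :
    s ∈ RR K J ∨ a * s ∈ RR K J := by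
  by_cases h : s ∈ RR K J
  · exact Or.inl h
  · right
    rw [mul_mem_iff_of_relIndex_two c.relIndex_R ha hs]
    exact ⟨fun h' => absurd h' haR, fun h' => absurd h' h⟩

theorem Comp.sq_mem_R {a : G} (ha : a ∈ SS K J) : a * a ∈ RR K J := by
  rw [mul_mem_iff_of_relIndex_two c.relIndex_R ha ha]

theorem Comp.R_centralizes_V : ∀ r ∈ RR K J, ∀ v ∈ VV K J, r * v = v * r := by
  intro r hr v hv
  exact ((mem_omegaCenterOf_iff _ v).mp hv).2.1 r hr

theorem Comp.V_sq : ∀ v ∈ VV K J, v * v = 1 := by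
  intro v hv
  have := ((mem_omegaCenterOf_iff _ v).mp hv).2.2
  rwa [pow_two] at this

theorem Comp.V_comm : ∀ x ∈ VV K J, ∀ y ∈ VV K J, x * y = y * x :=
  comm_of_sq_eq_one c.V_sq

theorem Comp.V_elem : IsElementaryAbelian 2 (VV K J) := by
  refine ⟨⟨⟨fun x y => Subtype.ext (c.V_comm x.1 x.2 y.1 y.2)⟩⟩, ?_⟩
  intro v hv
  rw [pow_two]
  exact c.V_sq v hv

theorem Comp.W_comm : ∀ x ∈ wOf K, ∀ y ∈ wOf K, x * y = y * x :=
  comm_of_sq_eq_one c.hW2

theorem Comp.W_ne_bot : wOf K ≠ ⊥ := by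
  intro h
  have := c.hW4
  rw [h, Subgroup.card_bot] at this
  norm_num at this

/-- if `X` normalises `Y`, `R` centralises `Y` and some `a ∈ S ∖ R` centralises `Y`, then `X`
centralises `Y` -/
theorem Comp.centralizes_of_S {Y : Subgroup G} (hY : K ⊔ J ≤ Subgroup.normalizer (Y : Set G))
    (hR : ∀ r ∈ RR K J, ∀ y ∈ Y, r * y = y * r) {a : G} (ha : a ∈ SS K J) (haR : a ∉ RR K J)
    (hay : ∀ y ∈ Y, a * y = y * a) : ∀ x ∈ K ⊔ J, ∀ y ∈ Y, x * y = y * x := by
  set C : Subgroup G := (K ⊔ J) ⊓ Subgroup.centralizer (Y : Set G) with hC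
  have hCn : K ⊔ J ≤ Subgroup.normalizer (C : Set G) := by
    apply le_normalizer_of_conj_mem
    intro x hx n hn
    obtain ⟨hn1, hn2⟩ := Subgroup.mem_inf.mp hn
    refine Subgroup.mem_inf.mpr
      ⟨(K ⊔ J).mul_mem ((K ⊔ J).mul_mem hx hn1) ((K ⊔ J).inv_mem hx), ?_⟩
    rw [Subgroup.mem_centralizer_iff]
    intro y hy
    have hy' : x⁻¹ * y * x ∈ Y := conj_inv_mem_of_le_normalizer hY hx hy
    rw [Subgroup.mem_centralizer_iff] at hn2
    have h1 := hn2 _ hy'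
    calc y * (x * n * x⁻¹) = x * ((x⁻¹ * y * x) * n) * x⁻¹ := by group
      _ = x * (n * (x⁻¹ * y * x)) * x⁻¹ := by rw [h1]
      _ = x * n * x⁻¹ * y := by group
  have hJC : J ≤ C := by
    intro j hj
    refine Subgroup.mem_inf.mpr ⟨Subgroup.mem_sup_right hj, ?_⟩
    rw [Subgroup.mem_centralizer_iff]
    intro y hy
    rcases c.S_cases ha haR (c.J_le_S hj) with h | h
    · exact (hR j h y hy).symm
    · have h1 := hR _ h y hy
      have h2 := hay y hy
      -- a * j commutes with y and a commutes with y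
      calc y * j = a⁻¹ * (a * y) * j := by group
        _ = a⁻¹ * (y * a) * j := by rw [h2]
        _ = a⁻¹ * (y * (a * j)) := by group
        _ = a⁻¹ * ((a * j) * y) := by rw [h1]
        _ = j * y := by group
  have hX := c.le_of_normal C hCn hJC
  intro x hx y hy
  have := (Subgroup.mem_inf.mp (hX hx)).2
  rw [Subgroup.mem_centralizer_iff] at this
  exact (this y hy).symm

/-- an element of `S ∖ R` moves some element of `W` -/
theorem Comp.exists_moved {a : G} (ha : a ∈ SS K J) (haR : a ∉ RR K J) :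
    ∃ w ∈ wOf K, a * w ≠ w * a := by
  by_contra hcon
  push Not at hcon
  have hR : ∀ r ∈ RR K J, ∀ y ∈ wOf K, r * y = y * r := fun r hr y hy =>
    c.R_centralizes_V r hr y (c.W_le_V hy)
  have hX := c.centralizes_of_S c.le_normalizer_W hR ha haR hcon
  apply c.W_ne_bot
  rw [eq_bot_iff]
  intro w hw
  rw [Subgroup.mem_bot]
  exact c.W_fpf w hw (fun k hk => hX k (Subgroup.mem_sup_left hk) w hw)

/-- `a ∈ S ∖ R` has exactly two fixed points on `W` -/
theorem Comp.card_fix_W {a : G} (ha : a ∈ SS K J) (haR : a ∉ RR K J) :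
    Nat.card (wOf K ⊓ Subgroup.centralizer ({a} : Set G) : Subgroup G) = 2 := by
  set F : Subgroup G := wOf K ⊓ Subgroup.centralizer ({a} : Set G) with hF
  have hFW : F ≤ wOf K := inf_le_left
  obtain ⟨w, hw, hwa⟩ := c.exists_moved ha haR
  have hmemF : ∀ x, x ∈ F ↔ x ∈ wOf K ∧ a * x = x * a := fun x =>
    mem_inf_centralizer_singleton
  have hne : ¬ wOf K ≤ F := by
    intro h
    exact hwa ((hmemF w).mp (h hw)).2
  have h1 : 2 * Nat.card F ≤ Nat.card (wOf K) := two_mul_card_le_of_lt hFW hne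
  rw [c.hW4] at h1
  -- a nontrivial fixed point
  have haX : a ∈ K ⊔ J := c.S_le_X ha
  have hw' : a * w * a⁻¹ ∈ wOf K := conj_mem_of_le_normalizer c.le_normalizer_W haX hw
  have ha2 : a * a ∈ RR K J := c.sq_mem_R ha
  have ha2w : (a * a) * w = w * (a * a) := c.R_centralizes_V _ ha2 w (c.W_le_V hw)
  have hfix : w * (a * w * a⁻¹) ∈ F := by
    rw [hmemF]
    refine ⟨(wOf K).mul_mem hw hw', ?_⟩
    have h3 : a * (a * w * a⁻¹) * a⁻¹ = w := by
      calc a * (a * w * a⁻¹) * a⁻¹ = ((a * a) * w) * a⁻¹ * a⁻¹ := by group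
        _ = (w * (a * a)) * a⁻¹ * a⁻¹ := by rw [ha2w]
        _ = w := by group
    have h4 : a * (w * (a * w * a⁻¹)) * a⁻¹ = w * (a * w * a⁻¹) := by
      calc a * (w * (a * w * a⁻¹)) * a⁻¹ = (a * w * a⁻¹) * (a * (a * w * a⁻¹) * a⁻¹) := by group
        _ = (a * w * a⁻¹) * w := by rw [h3]
        _ = w * (a * w * a⁻¹) := c.W_comm _ hw' _ hw
    calc a * (w * (a * w * a⁻¹)) = (a * (w * (a * w * a⁻¹)) * a⁻¹) * a := by group
      _ = w * (a * w * a⁻¹) * a := by rw [h4]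
  have hfix1 : w * (a * w * a⁻¹) ≠ 1 := by
    intro h
    apply hwa
    have hw2 := c.hW2 w hw
    have h5 : a * w * a⁻¹ = w := by
      calc a * w * a⁻¹ = (w * w) * (a * w * a⁻¹) := by rw [hw2, one_mul]
        _ = w * (w * (a * w * a⁻¹)) := by group
        _ = w := by rw [h, mul_one]
    calc a * w = (a * w * a⁻¹) * a := by group
      _ = w * a := by rw [h5]
  have hFne : F ≠ ⊥ := by
    intro h
    rw [h, Subgroup.mem_bot] at hfix
    exact hfix1 hfix
  have h2 : 1 < Nat.card F := by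
    rw [Subgroup.one_lt_card_iff_ne_bot]
    exact hFne
  omega

theorem Comp.exists_A (h4 : thompsonSubgroupOf 2 (SS K J) = J) :
    ∃ A ∈ famE 2 (SS K J), ¬ A ≤ RR K J := by
  by_contra hcon
  push Not at hcon
  apply c.J_not_le_R
  exact h4.ge.trans (thompsonSubgroupOf_le hcon)

theorem Comp.card_A {A : Subgroup G} (hA : A ∈ famE 2 (SS K J)) (hAR : ¬ A ≤ RR K J) :
    Nat.card A = 2 * Nat.card (A ⊓ RR K J : Subgroup G) := by
  apply card_eq_two_mul_of_relIndex_two inf_le_left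
  obtain ⟨a, haA, haR⟩ := SetLike.not_le_iff_exists.mp hAR
  have hAS : A ≤ SS K J := (mem_famE.mp hA).1
  rw [Subgroup.relIndex_eq_two_iff_exists_notMem_and']
  refine ⟨a, haA, fun h => haR h.2, ?_⟩
  intro b hb
  rcases c.S_cases (hAS haA) haR (hAS hb) with h | h
  · exact Or.inr ⟨hb, h⟩
  · exact Or.inl ⟨A.mul_mem haA hb, h⟩

theorem Comp.V_le_S : VV K J ≤ SS K J := c.V_le_R.trans c.R_le_S

theorem Comp.A_comm {A : Subgroup G} (hA : A ∈ famE 2 (SS K J)) :
    ∀ x ∈ A, ∀ y ∈ A, x * y = y * x := comm_of_mem_famE hA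

/-- for `A ∈ 𝒜(S)` outside `R` and `a ∈ A ∖ R`: `V ⊓ A = C_V(a)` has index two in `V` -/
theorem Comp.V_inf_A {A : Subgroup G} (hA : A ∈ famE 2 (SS K J)) {a : G} (haA : a ∈ A)
    (haR : a ∉ RR K J) :
    VV K J ⊓ A = VV K J ⊓ Subgroup.centralizer ({a} : Set G) ∧
      Nat.card (VV K J) = 2 * Nat.card (VV K J ⊓ A : Subgroup G) := by
  have hAS : A ≤ SS K J := (mem_famE.mp hA).1
  have hAR : ¬ A ≤ RR K J := fun h => haR (h haA)
  set F : Subgroup G := VV K J ⊓ Subgroup.centralizer ({a} : Set G) with hF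
  have hle : VV K J ⊓ A ≤ F := by
    intro x hx
    obtain ⟨hx1, hx2⟩ := Subgroup.mem_inf.mp hx
    exact mem_inf_centralizer_singleton.mpr ⟨hx1, c.A_comm hA _ haA _ hx2⟩
  have hFV : F ≤ VV K J := inf_le_left
  obtain ⟨w, hw, hwa⟩ := c.exists_moved (hAS haA) haR
  have hne : ¬ VV K J ≤ F := by
    intro h
    exact hwa (mem_inf_centralizer_singleton.mp (h (c.W_le_V hw))).2
  have h1 : 2 * Nat.card F ≤ Nat.card (VV K J) := two_mul_card_le_of_lt hFV hne
  have h2 : Nat.card (VV K J) ≤ 2 * Nat.card (VV K J ⊓ A : Subgroup G) :=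
    offender hA (inf_le_left : A ⊓ RR K J ≤ A) (c.card_A hA hAR).le c.V_le_S c.V_elem
      (fun d hd y hy => c.R_centralizes_V d hd.2 y hy)
  have h3 : Nat.card (VV K J ⊓ A : Subgroup G) ≤ Nat.card F := Subgroup.card_le_of_le hle
  have h4 : Nat.card F ≤ Nat.card (VV K J ⊓ A : Subgroup G) := by omega
  exact ⟨Subgroup.eq_of_le_of_card_ge hle h4, by omega⟩

/-- `C_V(K)` is centralised by `X` -/
theorem Comp.V0_central (h4 : thompsonSubgroupOf 2 (SS K J) = J) :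
    ∀ v ∈ VV K J, (∀ k ∈ K, k * v = v * k) → ∀ x ∈ K ⊔ J, x * v = v * x := by
  obtain ⟨A, hA, hAR⟩ := c.exists_A h4
  obtain ⟨a, haA, haR⟩ := SetLike.not_le_iff_exists.mp hAR
  have hAS : A ≤ SS K J := (mem_famE.mp hA).1
  have haS : a ∈ SS K J := hAS haA
  have haX : a ∈ K ⊔ J := c.S_le_X haS
  obtain ⟨hVA, hcard⟩ := c.V_inf_A hA haA haR
  set F : Subgroup G := VV K J ⊓ Subgroup.centralizer ({a} : Set G) with hF
  rw [hVA] at hcard
  have hidx : F.relIndex (VV K J) = 2 := relIndex_two_of_card inf_le_left hcard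
  -- the subgroup `V₀ = C_V(K)`
  set V0 : Subgroup G := VV K J ⊓ Subgroup.centralizer (K : Set G) with hV0
  have hmemV0 : ∀ x, x ∈ V0 ↔ x ∈ VV K J ∧ ∀ k ∈ K, k * x = x * k := by
    intro x
    rw [hV0, Subgroup.mem_inf, Subgroup.mem_centralizer_iff]
    rfl
  have hV0n : K ⊔ J ≤ Subgroup.normalizer (V0 : Set G) := by
    apply le_normalizer_of_conj_mem
    intro x hx n hn
    rw [hmemV0] at hn ⊢
    refine ⟨conj_mem_of_le_normalizer c.le_normalizer_V hx hn.1, ?_⟩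
    intro k hk
    have hk' : x⁻¹ * k * x ∈ K := conj_inv_mem_of_le_normalizer c.le_normalizer_K hx hk
    have := hn.2 _ hk'
    calc k * (x * n * x⁻¹) = x * ((x⁻¹ * k * x) * n) * x⁻¹ := by group
      _ = x * (n * (x⁻¹ * k * x)) * x⁻¹ := by rw [this]
      _ = x * n * x⁻¹ * k := by group
  obtain ⟨w, hw, hwa⟩ := c.exists_moved haS haR
  have hwF : w ∉ F := by
    intro h
    exact hwa (mem_inf_centralizer_singleton.mp h).2
  have hmemF : ∀ x, x ∈ F ↔ x ∈ VV K J ∧ a * x = x * a := fun x =>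
    mem_inf_centralizer_singleton
  have haV0 : ∀ y ∈ V0, a * y = y * a := by
    intro v0 hv0
    by_contra hcon
    have hv0V : v0 ∈ VV K J := ((hmemV0 v0).mp hv0).1
    have hv0F : v0 ∉ F := fun h => hcon ((hmemF v0).mp h).2
    have hprod : v0 * w ∈ F := by
      rw [mul_mem_iff_of_relIndex_two hidx hv0V (c.W_le_V hw)]
      exact ⟨fun h => absurd h hv0F, fun h => absurd h hwF⟩
    have h5 := ((hmemF _).mp hprod).2
    -- t = v0⁻¹ * (a v0 a⁻¹) = w * (a w a⁻¹)⁻¹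
    have hav0 : a * v0 * a⁻¹ ∈ V0 := conj_mem_of_le_normalizer hV0n haX hv0
    have haw : a * w * a⁻¹ ∈ wOf K := conj_mem_of_le_normalizer c.le_normalizer_W haX hw
    have ht : v0⁻¹ * (a * v0 * a⁻¹) = w * (a * w * a⁻¹)⁻¹ := by
      have h6 : (a * v0 * a⁻¹) * (a * w * a⁻¹) = v0 * w := by
        calc (a * v0 * a⁻¹) * (a * w * a⁻¹) = (a * (v0 * w)) * a⁻¹ := by group
          _ = ((v0 * w) * a) * a⁻¹ := by rw [h5]
          _ = v0 * w := by group
      calc v0⁻¹ * (a * v0 * a⁻¹) = v0⁻¹ * ((a * v0 * a⁻¹) * (a * w * a⁻¹)) * (a * w * a⁻¹)⁻¹ := by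
            group
        _ = v0⁻¹ * (v0 * w) * (a * w * a⁻¹)⁻¹ := by rw [h6]
        _ = w * (a * w * a⁻¹)⁻¹ := by group
    have htV0 : v0⁻¹ * (a * v0 * a⁻¹) ∈ V0 := V0.mul_mem (V0.inv_mem hv0) hav0
    have htW : v0⁻¹ * (a * v0 * a⁻¹) ∈ wOf K := by
      rw [ht]
      exact (wOf K).mul_mem hw ((wOf K).inv_mem haw)
    have ht1 := c.W_fpf _ htW ((hmemV0 _).mp htV0).2
    apply hcon
    have h7 : a * v0 * a⁻¹ = v0 := by
      calc a * v0 * a⁻¹ = v0 * (v0⁻¹ * (a * v0 * a⁻¹)) := by group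
        _ = v0 := by rw [ht1, mul_one]
    calc a * v0 = (a * v0 * a⁻¹) * a := by group
      _ = v0 * a := by rw [h7]
  have hR : ∀ r ∈ RR K J, ∀ y ∈ V0, r * y = y * r := fun r hr y hy =>
    c.R_centralizes_V r hr y ((hmemV0 y).mp hy).1
  have hX := c.centralizes_of_S hV0n hR haS haR haV0
  intro v hv hvK x hx
  exact hX x hx v ((hmemV0 v).mpr ⟨hv, hvK⟩)

/-- `⁅V, X⁆ ≤ W` -/
theorem Comp.comm_V_X_le_W (h4 : thompsonSubgroupOf 2 (SS K J) = J) :
    ∀ v ∈ VV K J, ∀ x ∈ K ⊔ J, x * v * x⁻¹ * v⁻¹ ∈ wOf K := by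
  intro v hv x hx
  obtain ⟨v0, hv0, hv0K, w, hw, rfl⟩ := c.V_decomp v hv
  have h1 := c.V0_central h4 v0 hv0 hv0K x hx
  have hxw : x * w * x⁻¹ ∈ wOf K := conj_mem_of_le_normalizer c.le_normalizer_W hx hw
  have h2 : v0 * (x * w * x⁻¹ * w⁻¹) = (x * w * x⁻¹ * w⁻¹) * v0 :=
    c.V_comm _ hv0 _ (c.W_le_V ((wOf K).mul_mem hxw ((wOf K).inv_mem hw)))
  have h3 : x * (v0 * w) * x⁻¹ * (v0 * w)⁻¹ = x * w * x⁻¹ * w⁻¹ := by
    calc x * (v0 * w) * x⁻¹ * (v0 * w)⁻¹ = (x * v0) * (w * x⁻¹ * w⁻¹) * v0⁻¹ := by group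
      _ = (v0 * x) * (w * x⁻¹ * w⁻¹) * v0⁻¹ := by rw [h1]
      _ = (v0 * (x * w * x⁻¹ * w⁻¹)) * v0⁻¹ := by group
      _ = ((x * w * x⁻¹ * w⁻¹) * v0) * v0⁻¹ := by rw [h2]
      _ = x * w * x⁻¹ * w⁻¹ := by group
  rw [h3]
  exact (wOf K).mul_mem hxw ((wOf K).inv_mem hw)

/-- `(A ⊓ R) V ∈ 𝒜(S)` for `A ∈ 𝒜(S)` outside `R` -/
theorem Comp.B_mem {A : Subgroup G} (hA : A ∈ famE 2 (SS K J)) (hAR : ¬ A ≤ RR K J) :
    (A ⊓ RR K J) ⊔ VV K J ∈ famE 2 (SS K J) := by
  obtain ⟨a, haA, haR⟩ := SetLike.not_le_iff_exists.mp hAR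
  obtain ⟨-, hcard⟩ := c.V_inf_A hA haA haR
  exact offender_mem hA (inf_le_left : A ⊓ RR K J ≤ A) (c.card_A hA hAR) c.V_le_S c.V_elem
    (fun d hd y hy => c.R_centralizes_V d hd.2 y hy)
    (fun x hx => ⟨hx.2, c.V_le_R hx.1⟩) hcard

theorem Comp.B_le_R {A : Subgroup G} : (A ⊓ RR K J) ⊔ VV K J ≤ RR K J :=
  sup_le inf_le_right c.V_le_R

end setup

end Cfsg.Agent.Helper19.JC
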