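import Mathlib
import Cfsg.Agent.Lib.Helper19.JCDefs
import Cfsg.Agent.Lib.Helper19.JCPieces
import Cfsg.Agent.Lib.Helper19.JCBackA
import Cfsg.Agent.Lib.Helper3.Thompson

/-!
# S2946 back end, part B (helper19)

`Z_R = ⋂ 𝒜(R)`; `⁅Z_R, X⁆ ≤ W`; `Z₀ = Ω₁Z(J)` centralises `R`; the two claims of S2946 in the
`Comp` setting.
-/

set_option autoImplicit false
set_option linter.unusedSectionVars false
set_option linter.unusedVariables false
set_option linter.style.haveILetI false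
set_option linter.unusedSimpArgs false

namespace Cfsg.Agent.Helper19.JC

open Cfsg Cfsg.Agent.Helper4.ZJ
open scoped commutatorElement

universe u

variable {G : Type u} [Group G] [Finite G] {K J : Subgroup G}

theorem map_conj_eq_of_mem_normalizer {H : Subgroup G} {x : G}
    (hx : x ∈ Subgroup.normalizer (H : Set G)) : H.map (MulAut.conj x).toMonoidHom = H := by
  ext y
  constructor
  · rintro ⟨z, hz, rfl⟩
    exact (Subgroup.mem_normalizer_iff.mp hx z).mp hz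
  · intro hy
    refine ⟨x⁻¹ * y * x, ?_, ?_⟩
    · have := (Subgroup.mem_normalizer_iff.mp (Subgroup.inv_mem _ hx) y).mp hy
      simpa using this
    · simp [mul_assoc]

theorem mem_map_conj_iff {H : Subgroup G} {x y : G} :
    y ∈ H.map (MulAut.conj x).toMonoidHom ↔ x⁻¹ * y * x ∈ H := by
  constructor
  · rintro ⟨z, hz, rfl⟩
    simpa [mul_assoc] using hz
  · intro h
    exact ⟨x⁻¹ * y * x, h, by simp [mul_assoc]⟩

/-- conjugation by an element normalising `P` permutes `𝒜(P)` -/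
theorem famE_conj {P A : Subgroup G} {x : G} (hx : x ∈ Subgroup.normalizer (P : Set G))
    (hA : A ∈ famE 2 P) : A.map (MulAut.conj x).toMonoidHom ∈ famE 2 P := by
  have := famE_map (MulAut.conj x) hA
  rwa [map_conj_eq_of_mem_normalizer hx] at this

theorem omegaCenterOf_thompson (P : Subgroup G) :
    omegaCenterOf (thompsonSubgroupOf 2 P) = ZE 2 P := by
  unfold omegaCenterOf omegaOne ZE
  congr 1
  ext x
  constructor
  · rintro ⟨h1, h2⟩
    obtain ⟨h3, h4⟩ := Subgroup.mem_inf.mp h1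
    exact ⟨h3, h4, h2⟩
  · rintro ⟨h1, h2, h3⟩
    exact ⟨Subgroup.mem_inf.mpr ⟨h1, h2⟩, h3⟩

/-- `𝒜(R)`: the members of `𝒜(S)` inside `R` -/
def famR (K J : Subgroup G) : Set (Subgroup G) := {A | A ∈ famE 2 (SS K J) ∧ A ≤ RR K J}

/-- `Z_R = ⋂ 𝒜(R)` -/
def ZR (K J : Subgroup G) : Subgroup G := sInf (famR K J)

section setup

variable (c : Comp K J) (h4 : thompsonSubgroupOf 2 (SS K J) = J)
include c h4

theorem Comp.Z0_eq : omegaCenterOf J = ZE 2 (SS K J) := by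
  rw [← omegaCenterOf_thompson, h4]

theorem Comp.famR_nonempty : (famR K J).Nonempty := by
  obtain ⟨A, hA, hAR⟩ := c.exists_A h4
  exact ⟨_, c.B_mem hA hAR, c.B_le_R⟩

theorem Comp.S_le_normalizer_S : SS K J ≤ Subgroup.normalizer (SS K J : Set G) :=
  Subgroup.le_normalizer

theorem Comp.X_le_normalizer_S_of : True := trivial

/-- `X` permutes `𝒜(R)` -/
theorem Comp.famR_conj {A : Subgroup G} (hA : A ∈ famR K J) {x : G} (hx : x ∈ K ⊔ J) :
    A.map (MulAut.conj x).toMonoidHom ∈ famR K J := by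
  obtain ⟨hA1, hA2⟩ := hA
  obtain ⟨hAS, hAe, hmax⟩ := mem_famE.mp hA1
  have hle : A.map (MulAut.conj x).toMonoidHom ≤ RR K J := by
    have := Subgroup.map_mono (f := (MulAut.conj x).toMonoidHom) hA2
    rwa [map_conj_eq_of_mem_normalizer (c.le_normalizer_R hx)] at this
  refine ⟨mem_famE.mpr ⟨hle.trans c.R_le_S, ?_, ?_⟩, hle⟩
  · haveI := hAe.1
    refine ⟨Subgroup.map_isMulCommutative A _, ?_⟩
    rintro _ ⟨a, ha, rfl⟩
    rw [← map_pow, hAe.2 a ha, map_one]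
  · intro A' h1 h2
    rw [Subgroup.card_map_of_injective (MulAut.conj x).injective]
    exact hmax A' h1 h2

theorem Comp.ZR_le {A : Subgroup G} (hA : A ∈ famR K J) : ZR K J ≤ A := sInf_le hA

theorem Comp.ZR_le_R : ZR K J ≤ RR K J := by
  obtain ⟨A, hA⟩ := c.famR_nonempty h4
  exact (c.ZR_le h4 hA).trans hA.2

theorem Comp.le_normalizer_ZR : K ⊔ J ≤ Subgroup.normalizer (ZR K J : Set G) := by
  apply le_normalizer_of_conj_mem
  intro x hx z hz
  unfold ZR at hz ⊢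
  rw [Subgroup.mem_sInf] at hz ⊢
  intro A hA
  have h1 := c.famR_conj h4 hA ((K ⊔ J).inv_mem hx)
  have h2 := hz _ h1
  rw [mem_map_conj_iff] at h2
  simpa using h2

theorem Comp.ZR_comm : ∀ x ∈ ZR K J, ∀ y ∈ ZR K J, x * y = y * x := by
  obtain ⟨A, hA⟩ := c.famR_nonempty h4
  intro x hx y hy
  exact comm_of_mem_famE hA.1 x (c.ZR_le h4 hA hx) y (c.ZR_le h4 hA hy)

theorem Comp.ZR_elem : IsElementaryAbelian 2 (ZR K J) := by
  obtain ⟨A, hA⟩ := c.famR_nonempty h4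
  refine ⟨⟨⟨fun x y => Subtype.ext (c.ZR_comm h4 x.1 x.2 y.1 y.2)⟩⟩, ?_⟩
  intro z hz
  exact (mem_famE.mp hA.1).2.1.2 z (c.ZR_le h4 hA hz)

theorem Comp.V_le_ZR : VV K J ≤ ZR K J := by
  unfold ZR
  apply le_sInf
  intro A hA
  exact le_of_centralizes hA.1 c.V_le_S c.V_elem
    (fun a ha y hy => c.R_centralizes_V a (hA.2 ha) y hy)

theorem Comp.Z0_le_ZR : omegaCenterOf J ≤ ZR K J := by
  rw [c.Z0_eq h4]
  unfold ZR
  apply le_sInf
  intro A hA
  exact ZE_le hA.1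

/-- elements of members of `𝒜(S)` act on `Z_R` with commutators in `W` -/
theorem Comp.comm_ZR_A {A' : Subgroup G} (hA' : A' ∈ famE 2 (SS K J)) {a' : G} (ha' : a' ∈ A') :
    ∀ z ∈ ZR K J, a' * z * a'⁻¹ * z⁻¹ ∈ wOf K := by
  intro z hz
  have hone : a' * z = z * a' → a' * z * a'⁻¹ * z⁻¹ ∈ wOf K := by
    intro h
    rw [h]
    have : z * a' * a'⁻¹ * z⁻¹ = 1 := by group
    rw [this]
    exact Subgroup.one_mem _
  by_cases hAR : A' ≤ RR K J
  · apply hone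
    have hmem : A' ∈ famR K J := ⟨hA', hAR⟩
    exact comm_of_mem_famE hA' a' ha' z (c.ZR_le h4 hmem hz)
  · have hB : (A' ⊓ RR K J) ⊔ VV K J ∈ famR K J := ⟨c.B_mem hA' hAR, c.B_le_R⟩
    have hZB : ZR K J ≤ (A' ⊓ RR K J) ⊔ VV K J := c.ZR_le h4 hB
    by_cases haR : a' ∈ RR K J
    · apply hone
      exact comm_of_mem_famE hB.1 a' (Subgroup.mem_sup_left ⟨ha', haR⟩) z (hZB hz)
    · -- the offender argument on `Z_R`
      have hAS : A' ≤ SS K J := (mem_famE.mp hA').1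
      have haS : a' ∈ SS K J := hAS ha'
      have haX : a' ∈ K ⊔ J := c.S_le_X haS
      set F : Subgroup G := ZR K J ⊓ Subgroup.centralizer ({a'} : Set G) with hF
      have hle : ZR K J ⊓ A' ≤ F := by
        intro x hx
        obtain ⟨hx1, hx2⟩ := Subgroup.mem_inf.mp hx
        exact mem_inf_centralizer_singleton.mpr ⟨hx1, comm_of_mem_famE hA' _ ha' _ hx2⟩
      obtain ⟨w, hw, hwa⟩ := c.exists_moved haS haR
      have hwZ : w ∈ ZR K J := c.V_le_ZR h4 (c.W_le_V hw)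
      have hwF : w ∉ F := fun h => hwa (mem_inf_centralizer_singleton.mp h).2
      have hne : ¬ ZR K J ≤ F := fun h => hwF (h hwZ)
      have h1 : 2 * Nat.card F ≤ Nat.card (ZR K J) := two_mul_card_le_of_lt inf_le_left hne
      have h2 : Nat.card (ZR K J) ≤ 2 * Nat.card (ZR K J ⊓ A' : Subgroup G) :=
        offender hA' (inf_le_left : A' ⊓ RR K J ≤ A') (c.card_A hA' hAR).le
          ((c.ZR_le_R h4).trans c.R_le_S) (c.ZR_elem h4)
          (fun d hd y hy => comm_of_mem_famE hB.1 d (Subgroup.mem_sup_left hd) y (hZB hy))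
      have h3 : Nat.card (ZR K J ⊓ A' : Subgroup G) ≤ Nat.card F := Subgroup.card_le_of_le hle
      have hcard : Nat.card (ZR K J) = 2 * Nat.card F := by omega
      have hidx : F.relIndex (ZR K J) = 2 := relIndex_two_of_card inf_le_left hcard
      by_cases hzF : z ∈ F
      · exact hone (mem_inf_centralizer_singleton.mp hzF).2
      · have hprod : z * w ∈ F := by
          rw [mul_mem_iff_of_relIndex_two hidx hz hwZ]
          exact ⟨fun h => absurd h hzF, fun h => absurd h hwF⟩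
        have h5 := (mem_inf_centralizer_singleton.mp hprod).2
        have haw : a' * w * a'⁻¹ ∈ wOf K :=
          conj_mem_of_le_normalizer c.le_normalizer_W haX hw
        have hu : w * (a' * w * a'⁻¹)⁻¹ ∈ wOf K :=
          (wOf K).mul_mem hw ((wOf K).inv_mem haw)
        have hcomm : z * (w * (a' * w * a'⁻¹)⁻¹) = (w * (a' * w * a'⁻¹)⁻¹) * z :=
          c.ZR_comm h4 _ hz _ (c.V_le_ZR h4 (c.W_le_V hu))
        have h6 : (a' * z * a'⁻¹) * (a' * w * a'⁻¹) = z * w := by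
          calc (a' * z * a'⁻¹) * (a' * w * a'⁻¹) = (a' * (z * w)) * a'⁻¹ := by group
            _ = ((z * w) * a') * a'⁻¹ := by rw [h5]
            _ = z * w := by group
        have h7 : a' * z * a'⁻¹ * z⁻¹ = w * (a' * w * a'⁻¹)⁻¹ := by
          calc a' * z * a'⁻¹ * z⁻¹
              = ((a' * z * a'⁻¹) * (a' * w * a'⁻¹)) * (a' * w * a'⁻¹)⁻¹ * z⁻¹ := by group
            _ = (z * w) * (a' * w * a'⁻¹)⁻¹ * z⁻¹ := by rw [h6]
            _ = (z * (w * (a' * w * a'⁻¹)⁻¹)) * z⁻¹ := by group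
            _ = ((w * (a' * w * a'⁻¹)⁻¹) * z) * z⁻¹ := by rw [hcomm]
            _ = w * (a' * w * a'⁻¹)⁻¹ := by group
        rw [h7]
        exact hu

/-- `⁅Z_R, X⁆ ≤ W` -/
theorem Comp.comm_ZR_X_le_W : ∀ z ∈ ZR K J, ∀ x ∈ K ⊔ J, x * z * x⁻¹ * z⁻¹ ∈ wOf K := by
  have hnZ := c.le_normalizer_ZR h4
  have hnW := c.le_normalizer_W
  set C : Subgroup G :=
    { carrier := {x | x ∈ K ⊔ J ∧ ∀ z ∈ ZR K J, x * z * x⁻¹ * z⁻¹ ∈ wOf K}
      one_mem' := ⟨Subgroup.one_mem _, fun z hz => by simp⟩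
      mul_mem' := by
        rintro x y ⟨hx, hxc⟩ ⟨hy, hyc⟩
        refine ⟨(K ⊔ J).mul_mem hx hy, ?_⟩
        intro z hz
        have h1 : x * y * z * (x * y)⁻¹ * z⁻¹ =
            (x * (y * z * y⁻¹ * z⁻¹) * x⁻¹) * (x * z * x⁻¹ * z⁻¹) := by group
        rw [h1]
        exact (wOf K).mul_mem (conj_mem_of_le_normalizer hnW hx (hyc z hz)) (hxc z hz)
      inv_mem' := by
        rintro x ⟨hx, hxc⟩
        refine ⟨(K ⊔ J).inv_mem hx, ?_⟩
        intro z hz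
        have hz' : x⁻¹ * z * x ∈ ZR K J := conj_inv_mem_of_le_normalizer hnZ hx hz
        have h1 : x⁻¹ * z * x⁻¹⁻¹ * z⁻¹ = (x * (x⁻¹ * z * x) * x⁻¹ * (x⁻¹ * z * x)⁻¹)⁻¹ := by
          group
        rw [h1]
        exact (wOf K).inv_mem (hxc _ hz') } with hC
  have hmemC : ∀ x, x ∈ C ↔ x ∈ K ⊔ J ∧ ∀ z ∈ ZR K J, x * z * x⁻¹ * z⁻¹ ∈ wOf K :=
    fun x => Iff.rfl
  have hCn : K ⊔ J ≤ Subgroup.normalizer (C : Set G) := by
    apply le_normalizer_of_conj_mem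
    intro g hg x hx
    rw [hmemC] at hx ⊢
    refine ⟨(K ⊔ J).mul_mem ((K ⊔ J).mul_mem hg hx.1) ((K ⊔ J).inv_mem hg), ?_⟩
    intro z hz
    have hz' : g⁻¹ * z * g ∈ ZR K J := conj_inv_mem_of_le_normalizer hnZ hg hz
    have h1 : g * x * g⁻¹ * z * (g * x * g⁻¹)⁻¹ * z⁻¹ =
        g * (x * (g⁻¹ * z * g) * x⁻¹ * (g⁻¹ * z * g)⁻¹) * g⁻¹ := by group
    rw [h1]
    exact conj_mem_of_le_normalizer hnW hg (hx.2 _ hz')
  have hJC : J ≤ C := by
    rw [← h4]
    apply thompsonSubgroupOf_le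
    intro A' hA' a' ha'
    rw [hmemC]
    exact ⟨c.S_le_X ((mem_famE.mp hA').1 ha'), c.comm_ZR_A h4 hA' ha'⟩
  have hXC := c.le_of_normal C hCn hJC
  intro z hz x hx
  exact ((hmemC x).mp (hXC hx)).2 z hz

/-- `Z₀` centralises `R` -/
theorem Comp.Z0_centralizes_R : ∀ z ∈ omegaCenterOf J, ∀ r ∈ RR K J, r * z = z * r := by
  intro z hz0
  have hzZ : z ∈ ZR K J := c.Z0_le_ZR h4 hz0
  have hf : ∀ r ∈ RR K J, r * z * r⁻¹ * z⁻¹ ∈ wOf K := fun r hr =>
    c.comm_ZR_X_le_W h4 z hzZ r (c.R_le_X hr)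
  -- `W` is central in `R`
  have hWc : ∀ r ∈ RR K J, ∀ w ∈ wOf K, r * w = w * r := fun r hr w hw =>
    c.R_centralizes_V r hr w (c.W_le_V hw)
  have hmul : ∀ r ∈ RR K J, ∀ r' ∈ RR K J,
      (r * r') * z * (r * r')⁻¹ * z⁻¹ = (r' * z * r'⁻¹ * z⁻¹) * (r * z * r⁻¹ * z⁻¹) := by
    intro r hr r' hr'
    have h1 := hWc r hr _ (hf r' hr')
    calc (r * r') * z * (r * r')⁻¹ * z⁻¹
        = (r * (r' * z * r'⁻¹ * z⁻¹)) * (z * r⁻¹ * z⁻¹) := by group
      _ = ((r' * z * r'⁻¹ * z⁻¹) * r) * (z * r⁻¹ * z⁻¹) := by rw [h1]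
      _ = (r' * z * r'⁻¹ * z⁻¹) * (r * z * r⁻¹ * z⁻¹) := by group
  set I : Subgroup G :=
    { carrier := {w | ∃ r ∈ RR K J, w = r * z * r⁻¹ * z⁻¹}
      one_mem' := ⟨1, Subgroup.one_mem _, by simp⟩
      mul_mem' := by
        rintro _ _ ⟨r, hr, rfl⟩ ⟨r', hr', rfl⟩
        exact ⟨r' * r, (RR K J).mul_mem hr' hr, (hmul r' hr' r hr).symm⟩
      inv_mem' := by
        rintro _ ⟨r, hr, rfl⟩
        refine ⟨r⁻¹, (RR K J).inv_mem hr, ?_⟩
        have h1 := hmul r hr r⁻¹ ((RR K J).inv_mem hr)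
        have h2 : (r * r⁻¹) * z * (r * r⁻¹)⁻¹ * z⁻¹ = 1 := by group
        rw [h2] at h1
        exact (eq_inv_of_mul_eq_one_left h1.symm).symm } with hI
  have hmemI : ∀ w, w ∈ I ↔ ∃ r ∈ RR K J, w = r * z * r⁻¹ * z⁻¹ := fun w => Iff.rfl
  have hIW : I ≤ wOf K := by
    rintro _ ⟨r, hr, rfl⟩
    exact hf r hr
  have hIK : K ≤ Subgroup.normalizer (I : Set G) := by
    apply le_normalizer_of_conj_mem
    rintro k hk _ ⟨r, hr, rfl⟩
    have hkX : k ∈ K ⊔ J := Subgroup.mem_sup_left hk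
    have hr' : k * r * k⁻¹ ∈ RR K J := conj_mem_of_le_normalizer c.le_normalizer_R hkX hr
    have hw' : k * z * k⁻¹ * z⁻¹ ∈ wOf K := c.comm_ZR_X_le_W h4 z hzZ k hkX
    refine ⟨k * r * k⁻¹, hr', ?_⟩
    -- k z k⁻¹ = w' z
    have h1 := hWc _ hr' _ hw'
    have h2 : (k * z * k⁻¹ * z⁻¹) * ((k * r * k⁻¹) * z * (k * r * k⁻¹)⁻¹ * z⁻¹) =
        ((k * r * k⁻¹) * z * (k * r * k⁻¹)⁻¹ * z⁻¹) * (k * z * k⁻¹ * z⁻¹) :=
      c.W_comm _ hw' _ (hf _ hr')
    calc k * (r * z * r⁻¹ * z⁻¹) * k⁻¹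
        = ((k * r * k⁻¹) * (k * z * k⁻¹ * z⁻¹)) * z * (k * r * k⁻¹)⁻¹ * z⁻¹ *
            (k * z * k⁻¹ * z⁻¹)⁻¹ := by group
      _ = ((k * z * k⁻¹ * z⁻¹) * (k * r * k⁻¹)) * z * (k * r * k⁻¹)⁻¹ * z⁻¹ *
            (k * z * k⁻¹ * z⁻¹)⁻¹ := by rw [h1]
      _ = ((k * z * k⁻¹ * z⁻¹) * ((k * r * k⁻¹) * z * (k * r * k⁻¹)⁻¹ * z⁻¹)) *
            (k * z * k⁻¹ * z⁻¹)⁻¹ := by group
      _ = (((k * r * k⁻¹) * z * (k * r * k⁻¹)⁻¹ * z⁻¹) * (k * z * k⁻¹ * z⁻¹)) *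
            (k * z * k⁻¹ * z⁻¹)⁻¹ := by rw [h2]
      _ = (k * r * k⁻¹) * z * (k * r * k⁻¹)⁻¹ * z⁻¹ := by group
  -- `I ≠ W`: `I` is centralised by some `a ∈ S ∖ R`
  obtain ⟨A, hA, hAR⟩ := c.exists_A h4
  obtain ⟨a, haA, haR⟩ := SetLike.not_le_iff_exists.mp hAR
  have hAS : A ≤ SS K J := (mem_famE.mp hA).1
  have hzA : ∀ A'' ∈ famE 2 (SS K J), z ∈ A'' := by
    intro A'' hA''
    have := c.Z0_eq h4
    rw [this] at hz0
    exact ZE_le hA'' hz0
  have hIfix : I ≤ wOf K ⊓ Subgroup.centralizer ({a} : Set G) := by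
    rintro _ ⟨r, hr, rfl⟩
    refine mem_inf_centralizer_singleton.mpr ⟨hf r hr, ?_⟩
    -- r z r⁻¹ ∈ A
    have hrS : r⁻¹ ∈ Subgroup.normalizer (SS K J : Set G) :=
      Subgroup.le_normalizer ((SS K J).inv_mem (c.R_le_S hr))
    have h1 := hzA _ (famE_conj hrS hA)
    rw [mem_map_conj_iff] at h1
    have h2 : r * z * r⁻¹ ∈ A := by simpa using h1
    have h3 : r * z * r⁻¹ * z⁻¹ ∈ A := A.mul_mem h2 (A.inv_mem (hzA A hA))
    exact comm_of_mem_famE hA a haA _ h3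
  have hIne : I ≠ wOf K := by
    intro h
    have h1 := Subgroup.card_le_of_le hIfix
    rw [h, c.hW4, c.card_fix_W (hAS haA) haR] at h1
    omega
  rcases c.W_irred I hIW hIK with h | h
  · intro r hr
    have h1 : r * z * r⁻¹ * z⁻¹ ∈ I := (hmemI _).mpr ⟨r, hr, rfl⟩
    rw [h, Subgroup.mem_bot] at h1
    calc r * z = (r * z * r⁻¹ * z⁻¹) * (z * r) := by group
      _ = z * r := by rw [h1, one_mul]
  · exact absurd h hIne

theorem Comp.Z0_le_V : omegaCenterOf J ≤ VV K J := by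
  intro z hz
  rw [mem_omegaCenterOf_iff]
  refine ⟨c.ZR_le_R h4 (c.Z0_le_ZR h4 hz), fun r hr => c.Z0_centralizes_R h4 z hz r hr, ?_⟩
  exact (c.ZR_elem h4).2 z (c.Z0_le_ZR h4 hz)

/-- `Z₀` is centralised by `S` -/
theorem Comp.S_centralizes_Z0 : ∀ s ∈ SS K J, ∀ z ∈ omegaCenterOf J, s * z = z * s := by
  have hle : SS K J ≤ Subgroup.centralizer (omegaCenterOf J : Set G) := by
    apply sup_le
    · intro r hr
      rw [Subgroup.mem_centralizer_iff]
      intro z hz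
      exact (c.Z0_centralizes_R h4 z hz r hr).symm
    · intro j hj
      rw [Subgroup.mem_centralizer_iff]
      intro z hz
      exact (((mem_omegaCenterOf_iff J z).mp hz).2.1 j hj).symm
  intro s hs z hz
  have := hle hs
  rw [Subgroup.mem_centralizer_iff] at this
  exact (this z hz).symm

/-- `C_V(S) ≤ Z₀` -/
theorem Comp.fix_le_Z0 {y : G} (hy : y ∈ VV K J) (hyS : ∀ s ∈ SS K J, s * y = y * s) :
    y ∈ omegaCenterOf J := by
  rw [c.Z0_eq h4]
  have hy2 : y ^ 2 = 1 := ((mem_omegaCenterOf_iff _ y).mp hy).2.2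
  have hle : Subgroup.zpowers y ≤ SS K J := Subgroup.zpowers_le.mpr (c.V_le_S hy)
  have h1 : Subgroup.zpowers y ≤ ZE 2 (SS K J) := by
    apply le_ZE hle
    intro A hA
    apply le_of_centralizes hA hle (Cfsg.Agent.Helper3.isElementaryAbelian_zpowers hy2)
    intro a ha t ht
    obtain ⟨n, rfl⟩ := Subgroup.mem_zpowers_iff.mp ht
    have : Commute a y := hyS a ((mem_famE.mp hA).1 ha)
    exact (this.zpow_right n).eq
  exact h1 (Subgroup.mem_zpowers y)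

/-- first claim of S2946 -/
theorem Comp.claim_one : Nat.card (omegaCenterOf J ⊓ wOf K : Subgroup G) = 2 := by
  obtain ⟨A, hA, hAR⟩ := c.exists_A h4
  obtain ⟨a, haA, haR⟩ := SetLike.not_le_iff_exists.mp hAR
  have hAS : A ≤ SS K J := (mem_famE.mp hA).1
  have haS : a ∈ SS K J := hAS haA
  have heq : omegaCenterOf J ⊓ wOf K = wOf K ⊓ Subgroup.centralizer ({a} : Set G) := by
    apply le_antisymm
    · intro x hx
      obtain ⟨hx1, hx2⟩ := Subgroup.mem_inf.mp hx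
      exact mem_inf_centralizer_singleton.mpr ⟨hx2, c.S_centralizes_Z0 h4 a haS x hx1⟩
    · intro x hx
      obtain ⟨hx1, hx2⟩ := mem_inf_centralizer_singleton.mp hx
      refine Subgroup.mem_inf.mpr ⟨?_, hx1⟩
      apply c.fix_le_Z0 h4 (c.W_le_V hx1)
      intro s hs
      rcases c.S_cases haS haR hs with h | h
      · exact c.R_centralizes_V s h x (c.W_le_V hx1)
      · have h1 := c.R_centralizes_V _ h x (c.W_le_V hx1)
        calc s * x = a⁻¹ * ((a * s) * x) := by group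
          _ = a⁻¹ * (x * (a * s)) := by rw [h1]
          _ = (a⁻¹ * (x * a)) * s := by group
          _ = (a⁻¹ * (a * x)) * s := by rw [hx2]
          _ = x * s := by group
  rw [heq]
  exact c.card_fix_W haS haR

/-- second claim of S2946 -/
theorem Comp.claim_two :
    (omegaCenterOf J ⊓ ((K ⊔ J) ⊓ Subgroup.centralizer ((K ⊔ J : Subgroup G) : Set G))) ⊔
      (omegaCenterOf J ⊓ wOf K) = omegaCenterOf J := by
  apply le_antisymm (sup_le inf_le_left inf_le_left)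
  intro z hz
  have hzV : z ∈ VV K J := c.Z0_le_V h4 hz
  obtain ⟨v0, hv0, hv0K, w, hw, rfl⟩ := c.V_decomp z hzV
  have hv0X := c.V0_central h4 v0 hv0 hv0K
  have hv0Z : v0 ∈ omegaCenterOf J :=
    c.fix_le_Z0 h4 hv0 (fun s hs => hv0X s (c.S_le_X hs))
  have hwZ : w ∈ omegaCenterOf J := by
    have : w = v0⁻¹ * (v0 * w) := by group
    rw [this]
    exact (omegaCenterOf J).mul_mem ((omegaCenterOf J).inv_mem hv0Z) hz
  apply Subgroup.mul_mem_sup
  · refine Subgroup.mem_inf.mpr ⟨hv0Z, Subgroup.mem_inf.mpr ⟨c.R_le_X (c.V_le_R hv0), ?_⟩⟩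
    rw [Subgroup.mem_centralizer_iff]
    intro x hx
    exact hv0X x hx
  · exact Subgroup.mem_inf.mpr ⟨hwZ, hw⟩

end setup

end Cfsg.Agent.Helper19.JC
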