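import Mathlib

/-!
# Brauer–Wielandt for a four-group acting on a subgroup of odd order

`Γ` a finite group, `K ≤ Γ` of odd order, `a b : Γ` commuting elements of square one which
normalize `K`.  Then `|K| |C_K(a,b)|^2 = |C_K(a)| |C_K(b)| |C_K(ab)|` (`bw_four`), with the two
corollaries `bw_gen` and `bw_ratio`.  Elementary counting proof (S4221 notes of helper26).
-/

set_option linter.unusedSectionVars false
set_option linter.unusedVariables false
set_option linter.style.haveILetI false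
set_option linter.unusedSimpArgs false

namespace Cfsg.Agent.Helper19.BW4

variable {Γ : Type*} [Group Γ]

/-- the elements of square one in the coset `K v` -/
def invSet (K : Subgroup Γ) (v : Γ) : Set Γ := {x | x * x = 1 ∧ x * v⁻¹ ∈ K}

/-- generic fibre count -/
theorem card_eq_card_mul_of_fibers {α β : Type*} [Finite α] [Finite β] (f : α → β) (S : Set β)
    (N : ℕ) (hS : ∀ a, f a ∈ S) (hfib : ∀ s ∈ S, Nat.card {a // f a = s} = N) :
    Nat.card α = Nat.card S * N := by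
  classical
  let f' : α → S := fun a => ⟨f a, hS a⟩
  have e := Equiv.sigmaFiberEquiv f'
  have h1 : Nat.card α = Nat.card (Σ y : S, {x // f' x = y}) := (Nat.card_congr e).symm
  haveI : Fintype S := Fintype.ofFinite S
  rw [h1, Nat.card_sigma]
  have h2 : ∀ y : S, Nat.card {x // f' x = y} = N := by
    intro y
    rw [← hfib y.1 y.2]
    apply Nat.card_congr
    refine Equiv.subtypeEquiv (Equiv.refl α) ?_
    intro x
    simp only [Equiv.refl_apply]
    constructor
    · intro h; exact congrArg Subtype.val h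
    · intro h; exact Subtype.ext h
  rw [Finset.sum_congr rfl (fun y _ => h2 y), Finset.sum_const, Finset.card_univ,
    Nat.card_eq_fintype_card, smul_eq_mul]

theorem inv_eq_self_of_sq {v : Γ} (hv : v * v = 1) : v⁻¹ = v :=
  inv_eq_of_mul_eq_one_left hv

/-- an element of `K` of odd order group has a square root in `K` which is a power of it -/
theorem pow_card_mem_eq_one [Finite Γ] (K : Subgroup Γ) {k : Γ} (hk : k ∈ K) :
    k ^ Nat.card K = 1 := by
  have h := pow_card_eq_one' (G := K) (x := ⟨k, hk⟩)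
  have h2 : (((⟨k, hk⟩ : K) ^ Nat.card K : K) : Γ) = ((1 : K) : Γ) := congrArg Subtype.val h
  rw [SubgroupClass.coe_pow, Subgroup.coe_one] at h2
  exact h2

/-- the elements of square one in the coset `K v` are the `K`-conjugates of `v` -/
theorem inv_coset_conj [Finite Γ] (K : Subgroup Γ) (v : Γ) (hv : v * v = 1)
    (hKv : ∀ k ∈ K, v * k * v⁻¹ ∈ K) (hodd : Odd (Nat.card K)) {x : Γ} (hx : x ∈ invSet K v) :
    ∃ h ∈ K, x = h * v * h⁻¹ := by
  obtain ⟨hx1, hx2⟩ := hx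
  have hvi : v⁻¹ = v := inv_eq_self_of_sq hv
  set k := x * v⁻¹ with hk
  have hxk : x = k * v := by rw [hk]; group
  -- v inverts k
  have hinv : v * k * v⁻¹ = k⁻¹ := by
    have h1 : k * v * (k * v) = 1 := by rw [← hxk]; exact hx1
    have h2 : k * (v * k * v) = 1 := by rw [← h1]; group
    rw [hvi]
    exact eq_inv_of_mul_eq_one_right h2
  obtain ⟨r, hr⟩ := hodd
  have hkn : k ^ (2 * r + 1) = 1 := by rw [← hr]; exact pow_card_mem_eq_one K hx2
  refine ⟨k ^ (r + 1), K.pow_mem hx2 _, ?_⟩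
  have hconj : v * k ^ (r + 1) * v⁻¹ = (k ^ (r + 1))⁻¹ := by
    rw [← conj_pow, hinv, inv_pow]
  have h3 : k ^ (r + 1) * v * (k ^ (r + 1))⁻¹ = k ^ (r + 1) * (v * k ^ (r + 1) * v⁻¹)⁻¹ * v := by
    group
  rw [h3, hconj, inv_inv, ← pow_add, hxk]
  have h4 : r + 1 + (r + 1) = 2 * r + 1 + 1 := by ring
  rw [h4, pow_succ, hkn, one_mul]

theorem conj_mem_invSet (K : Subgroup Γ) (v : Γ) (hv : v * v = 1)
    (hKv : ∀ k ∈ K, v * k * v⁻¹ ∈ K) {h : Γ} (hh : h ∈ K) {x : Γ} (hx : x ∈ invSet K v) :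
    h * x * h⁻¹ ∈ invSet K v := by
  obtain ⟨hx1, hx2⟩ := hx
  refine ⟨?_, ?_⟩
  · have : h * x * h⁻¹ * (h * x * h⁻¹) = h * (x * x) * h⁻¹ := by group
    rw [this, hx1]; group
  · have : h * x * h⁻¹ * v⁻¹ = h * (x * v⁻¹) * (v * h⁻¹ * v⁻¹) := by group
    rw [this]
    exact K.mul_mem (K.mul_mem hh hx2) (hKv _ (K.inv_mem hh))

theorem self_mem_invSet (K : Subgroup Γ) (v : Γ) (hv : v * v = 1) : v ∈ invSet K v := by
  refine ⟨hv, ?_⟩
  rw [mul_inv_cancel]; exact K.one_mem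

/-- the count of the elements of square one in the coset `K v` -/
theorem card_invSet_mul [Finite Γ] (K : Subgroup Γ) (v : Γ) (hv : v * v = 1)
    (hKv : ∀ k ∈ K, v * k * v⁻¹ ∈ K) (hodd : Odd (Nat.card K)) :
    Nat.card (invSet K v) * Nat.card ↥(K ⊓ Subgroup.centralizer {v}) = Nat.card K := by
  symm
  apply card_eq_card_mul_of_fibers (fun h : K => (h : Γ) * v * (h : Γ)⁻¹) (invSet K v)
  · intro h
    exact conj_mem_invSet K v hv hKv h.2 (self_mem_invSet K v hv)
  · intro s hs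
    obtain ⟨h0, hh0, rfl⟩ := inv_coset_conj K v hv hKv hodd hs
    apply Nat.card_congr
    refine
      { toFun := fun h => ⟨h0⁻¹ * (h.1 : Γ), ?_⟩
        invFun := fun g => ⟨⟨h0 * (g : Γ), ?_⟩, ?_⟩
        left_inv := ?_
        right_inv := ?_ }
    · refine Subgroup.mem_inf.2 ⟨K.mul_mem (K.inv_mem hh0) h.1.2, ?_⟩
      rw [Subgroup.mem_centralizer_singleton_iff]
      have h1 := h.2
      have h2 : h0⁻¹ * (h.1 : Γ) * v = h0⁻¹ * ((h.1 : Γ) * v * (h.1 : Γ)⁻¹) * (h.1 : Γ) := by group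
      rw [h2, h1]; group
    · exact K.mul_mem hh0 (Subgroup.mem_inf.1 g.2).1
    · have h1 := Subgroup.mem_centralizer_singleton_iff.1 (Subgroup.mem_inf.1 g.2).2
      show h0 * (g : Γ) * v * (h0 * (g : Γ))⁻¹ = h0 * v * h0⁻¹
      have h2 : h0 * (g : Γ) * v * (h0 * (g : Γ))⁻¹ = h0 * ((g : Γ) * v) * (g : Γ)⁻¹ * h0⁻¹ := by
        group
      rw [h2, h1]; group
    · intro h
      apply Subtype.ext; apply Subtype.ext
      show h0 * (h0⁻¹ * (h.1 : Γ)) = (h.1 : Γ)
      group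
    · intro g
      apply Subtype.ext
      show h0⁻¹ * (h0 * (g : Γ)) = (g : Γ)
      group

theorem pow_conj_mem (K : Subgroup Γ) (c : Γ) (hKc : ∀ k ∈ K, c * k * c⁻¹ ∈ K) (j : ℕ) :
    ∀ k ∈ K, c ^ j * k * (c ^ j)⁻¹ ∈ K := by
  induction j with
  | zero => intro k hk; simpa using hk
  | succ j ih =>
    intro k hk
    have : c ^ (j + 1) * k * (c ^ (j + 1))⁻¹ = c ^ j * (c * k * c⁻¹) * (c ^ j)⁻¹ := by
      rw [pow_succ]; group
    rw [this]
    exact ih _ (hKc k hk)

/-- powers of an element of the coset `K c` (with `c` normalizing `K`) -/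
theorem pow_mem_coset (K : Subgroup Γ) (c : Γ) (hKc : ∀ k ∈ K, c * k * c⁻¹ ∈ K) {z : Γ}
    (hz : z * c⁻¹ ∈ K) (j : ℕ) : z ^ j * (c ^ j)⁻¹ ∈ K := by
  induction j with
  | zero => simp
  | succ j ih =>
    have : z ^ (j + 1) * (c ^ (j + 1))⁻¹ =
        (z ^ j * (c ^ j)⁻¹) * (c ^ j * (z * c⁻¹) * (c ^ j)⁻¹) := by
      rw [pow_succ, pow_succ]; group
    rw [this]
    exact K.mul_mem ih (pow_conj_mem K c hKc j _ hz)

theorem sq_pow_odd {c : Γ} (hc : c * c = 1) (r : ℕ) : c ^ (2 * r + 1) = c := by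
  rw [pow_succ, pow_mul, pow_two, hc, one_pow, one_mul]

/-- the pairs `(x, y)` with `(x y)^n = t` -/
def pairSet (K : Subgroup Γ) (a b : Γ) (n : ℕ) (t : Γ) : Set (Γ × Γ) :=
  {p | p ∈ invSet K a ×ˢ invSet K b ∧ (p.1 * p.2) ^ n = t}

section main

variable (K : Subgroup Γ) (a b : Γ) (ha : a * a = 1) (hb : b * b = 1) (hab : a * b = b * a)
  (hKa : ∀ k ∈ K, a * k * a⁻¹ ∈ K) (hKb : ∀ k ∈ K, b * k * b⁻¹ ∈ K)

include ha hb hab in
theorem ab_sq : a * b * (a * b) = 1 := by
  have : a * b * (a * b) = a * (b * a) * b := by group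
  rw [this, ← hab]
  have : a * (a * b) * b = a * a * (b * b) := by group
  rw [this, ha, hb, one_mul]

include hKa hKb in
theorem ab_norm : ∀ k ∈ K, a * b * k * (a * b)⁻¹ ∈ K := by
  intro k hk
  have : a * b * k * (a * b)⁻¹ = a * (b * k * b⁻¹) * a⁻¹ := by group
  rw [this]
  exact hKa _ (hKb k hk)

include hab in
theorem a_comm_ab : a * (a * b) = a * b * a := by
  rw [mul_assoc a b a, ← hab]

include hab in
theorem b_comm_ab : b * (a * b) = a * b * b := by
  rw [← mul_assoc, ← hab]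

/-- the product of a pair lies in the coset of `a b` -/
theorem prod_mem_coset {K : Subgroup Γ} {a b : Γ} (hKa : ∀ k ∈ K, a * k * a⁻¹ ∈ K) {x y : Γ}
    (hx : x * a⁻¹ ∈ K) (hy : y * b⁻¹ ∈ K) : x * y * (a * b)⁻¹ ∈ K := by
  have : x * y * (a * b)⁻¹ = (x * a⁻¹) * (a * (y * b⁻¹) * a⁻¹) := by group
  rw [this]
  exact K.mul_mem hx (hKa _ hy)

include ha hb hab hKa hKb in
theorem tau_mem [Finite Γ] (hodd : Odd (Nat.card K)) {x y : Γ} (hx : x ∈ invSet K a)
    (hy : y ∈ invSet K b) : (x * y) ^ Nat.card K ∈ invSet K (a * b) := by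
  have hz : x * y * (a * b)⁻¹ ∈ K := prod_mem_coset hKa hx.2 hy.2
  have hKc := ab_norm K a b hKa hKb
  have hc := ab_sq a b ha hb hab
  obtain ⟨r, hr⟩ := hodd
  refine ⟨?_, ?_⟩
  · have hzz : x * y * (x * y) ∈ K := by
      have : x * y * (x * y) =
          (x * y * (a * b)⁻¹) * ((a * b) * (x * y * (a * b)⁻¹) * (a * b)⁻¹) * ((a * b) * (a * b)) := by
        group
      rw [this, hc, mul_one]
      exact K.mul_mem hz (hKc _ hz)
    rw [← (Commute.refl (x * y)).mul_pow]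
    exact pow_card_mem_eq_one K hzz
  · have := pow_mem_coset K (a * b) hKc hz (Nat.card K)
    rw [hr, sq_pow_odd hc] at this
    rw [hr]; exact this

/-- `x` inverts `x y`, hence commutes with the involution `(x y)^n` -/
theorem comm_tau_left {x y t : Γ} (hx : x * x = 1) (hy : y * y = 1) (n : ℕ)
    (ht : (x * y) ^ n = t) (ht2 : t * t = 1) : x * t = t * x := by
  have hxi : x⁻¹ = x := inv_eq_self_of_sq hx
  have hyi : y⁻¹ = y := inv_eq_self_of_sq hy
  have h1 : x * (x * y) * x⁻¹ = (x * y)⁻¹ := by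
    rw [mul_inv_rev, hxi, hyi, ← mul_assoc, hx, one_mul]
  have h2 : x * t * x⁻¹ = t⁻¹ := by
    rw [← ht, ← conj_pow, h1, inv_pow]
  rw [inv_eq_self_of_sq ht2] at h2
  calc x * t = (x * t * x⁻¹) * x := by group
    _ = t * x := by rw [h2]

theorem comm_tau_right {x y t : Γ} (hx : x * x = 1) (hy : y * y = 1) (n : ℕ)
    (ht : (x * y) ^ n = t) (ht2 : t * t = 1) : y * t = t * y := by
  have hxi : x⁻¹ = x := inv_eq_self_of_sq hx
  have hyi : y⁻¹ = y := inv_eq_self_of_sq hy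
  have h1 : y * (x * y) * y⁻¹ = (x * y)⁻¹ := by
    have e : (x * y)⁻¹ = y * x := by rw [mul_inv_rev, hxi, hyi]
    rw [e]; group
  have h2 : y * t * y⁻¹ = t⁻¹ := by
    rw [← ht, ← conj_pow, h1, inv_pow]
  rw [inv_eq_self_of_sq ht2] at h2
  calc y * t = (y * t * y⁻¹) * y := by group
    _ = t * y := by rw [h2]

end main

/-- `a` normalizes `K ⊓ centralizer {c}` when `a` normalizes `K` and commutes with `c` -/
theorem norm_inf_centralizer {K : Subgroup Γ} {a c : Γ} (hKa : ∀ k ∈ K, a * k * a⁻¹ ∈ K)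
    (hac : a * c = c * a) :
    ∀ k ∈ K ⊓ Subgroup.centralizer {c}, a * k * a⁻¹ ∈ K ⊓ Subgroup.centralizer {c} := by
  intro k hk
  obtain ⟨hk1, hk2⟩ := Subgroup.mem_inf.1 hk
  rw [Subgroup.mem_centralizer_singleton_iff] at hk2
  refine Subgroup.mem_inf.2 ⟨hKa k hk1, ?_⟩
  rw [Subgroup.mem_centralizer_singleton_iff]
  have h1 : Commute a c := hac
  have h2 : Commute k c := hk2
  exact ((h1.mul_left h2).mul_left h1.inv_left).eq

section main2

variable [Finite Γ] (K : Subgroup Γ) (a b : Γ) (ha : a * a = 1) (hb : b * b = 1)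
  (hab : a * b = b * a)
  (hKa : ∀ k ∈ K, a * k * a⁻¹ ∈ K) (hKb : ∀ k ∈ K, b * k * b⁻¹ ∈ K) (hodd : Odd (Nat.card K))

include ha hb hab hKa hKb hodd in
theorem pairSet_ab : pairSet K a b (Nat.card K) (a * b) =
    invSet (K ⊓ Subgroup.centralizer {a * b}) a ×ˢ invSet (K ⊓ Subgroup.centralizer {a * b}) b := by
  have hc := ab_sq a b ha hb hab
  have hac : Commute a (a * b) := a_comm_ab a b hab
  have hbc : Commute b (a * b) := b_comm_ab a b hab
  ext ⟨x, y⟩
  constructor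
  · rintro ⟨⟨hx, hy⟩, ht⟩
    have hxc : Commute x (a * b) := comm_tau_left hx.1 hy.1 _ ht hc
    have hyc : Commute y (a * b) := comm_tau_right hx.1 hy.1 _ ht hc
    refine ⟨⟨hx.1, Subgroup.mem_inf.2 ⟨hx.2, ?_⟩⟩, ⟨hy.1, Subgroup.mem_inf.2 ⟨hy.2, ?_⟩⟩⟩
    · rw [Subgroup.mem_centralizer_singleton_iff]
      exact (hxc.mul_left hac.inv_left).eq
    · rw [Subgroup.mem_centralizer_singleton_iff]
      exact (hyc.mul_left hbc.inv_left).eq
  · rintro ⟨hx, hy⟩
    refine ⟨⟨⟨hx.1, (Subgroup.mem_inf.1 hx.2).1⟩, ⟨hy.1, (Subgroup.mem_inf.1 hy.2).1⟩⟩, ?_⟩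
    have hg : x * y * (a * b)⁻¹ ∈ K ⊓ Subgroup.centralizer {a * b} :=
      prod_mem_coset (K := K ⊓ Subgroup.centralizer {a * b}) (norm_inf_centralizer hKa hac.eq)
        hx.2 hy.2
    obtain ⟨hg1, hg2⟩ := Subgroup.mem_inf.1 hg
    rw [Subgroup.mem_centralizer_singleton_iff] at hg2
    have hgc : Commute (x * y * (a * b)⁻¹) (a * b) := hg2
    have e : x * y = (x * y * (a * b)⁻¹) * (a * b) := by group
    obtain ⟨r, hr⟩ := hodd
    show (x * y) ^ Nat.card K = a * b
    rw [e, hgc.mul_pow, pow_card_mem_eq_one K hg1, hr, sq_pow_odd hc, one_mul]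

include ha hb hKa hKb in
theorem pairSet_conj {n : ℕ} {t h : Γ} (hh : h ∈ K) {p : Γ × Γ} (hp : p ∈ pairSet K a b n t) :
    (h * p.1 * h⁻¹, h * p.2 * h⁻¹) ∈ pairSet K a b n (h * t * h⁻¹) := by
  obtain ⟨⟨hx, hy⟩, ht⟩ := hp
  refine ⟨⟨conj_mem_invSet K a ha hKa hh hx, conj_mem_invSet K b hb hKb hh hy⟩, ?_⟩
  show (h * p.1 * h⁻¹ * (h * p.2 * h⁻¹)) ^ n = h * t * h⁻¹
  have : h * p.1 * h⁻¹ * (h * p.2 * h⁻¹) = h * (p.1 * p.2) * h⁻¹ := by group
  rw [this, conj_pow, ht]

include ha hb hKa hKb in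
theorem card_pairSet_conj {n : ℕ} {t h : Γ} (hh : h ∈ K) :
    Nat.card (pairSet K a b n (h * t * h⁻¹)) = Nat.card (pairSet K a b n t) := by
  apply Nat.card_congr
  refine Equiv.subtypeEquiv
    (Equiv.prodCongr (MulAut.conj h⁻¹).toEquiv (MulAut.conj h⁻¹).toEquiv) ?_
  intro p
  constructor
  · intro hp
    have h1 := pairSet_conj K a b ha hb hKa hKb (K.inv_mem hh) hp
    have e : h⁻¹ * (h * t * h⁻¹) * h⁻¹⁻¹ = t := by group
    rw [e] at h1
    exact h1
  · intro hp
    have h1 := pairSet_conj K a b ha hb hKa hKb hh hp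
    have e : (h * ((Equiv.prodCongr (MulAut.conj h⁻¹).toEquiv (MulAut.conj h⁻¹).toEquiv) p).1 * h⁻¹,
        h * ((Equiv.prodCongr (MulAut.conj h⁻¹).toEquiv (MulAut.conj h⁻¹).toEquiv) p).2 * h⁻¹) = p := by
      apply Prod.ext
      · show h * (h⁻¹ * p.1 * h⁻¹⁻¹) * h⁻¹ = p.1
        group
      · show h * (h⁻¹ * p.2 * h⁻¹⁻¹) * h⁻¹ = p.2
        group
    rw [e] at h1
    exact h1

include ha hb hab hKa hKb hodd in
theorem card_pairs : Nat.card (invSet K a) * Nat.card (invSet K b) =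
    Nat.card (invSet K (a * b)) *
      (Nat.card (invSet (K ⊓ Subgroup.centralizer {a * b}) a) *
        Nat.card (invSet (K ⊓ Subgroup.centralizer {a * b}) b)) := by
  have hc := ab_sq a b ha hb hab
  have hKc := ab_norm K a b hKa hKb
  have h1 : Nat.card ↥(invSet K a ×ˢ invSet K b) =
      Nat.card (invSet K a) * Nat.card (invSet K b) := by
    rw [Nat.card_congr (Equiv.Set.prod _ _), Nat.card_prod]
  rw [← h1]
  have hN : Nat.card ↥(pairSet K a b (Nat.card K) (a * b)) =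
      Nat.card (invSet (K ⊓ Subgroup.centralizer {a * b}) a) *
        Nat.card (invSet (K ⊓ Subgroup.centralizer {a * b}) b) := by
    rw [pairSet_ab K a b ha hb hab hKa hKb hodd, Nat.card_congr (Equiv.Set.prod _ _),
      Nat.card_prod]
  apply card_eq_card_mul_of_fibers
    (fun p : ↥(invSet K a ×ˢ invSet K b) => (p.1.1 * p.1.2) ^ (Nat.card K)) (invSet K (a * b))
  · intro p
    exact tau_mem K a b ha hb hab hKa hKb hodd p.2.1 p.2.2
  · intro s hs
    obtain ⟨h, hh, rfl⟩ := inv_coset_conj K (a * b) hc hKc hodd hs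
    rw [← hN, ← card_pairSet_conj K a b ha hb hKa hKb (t := a * b) hh]
    exact Nat.card_congr (Equiv.subtypeSubtypeEquivSubtypeInter
      (fun q : Γ × Γ => q ∈ invSet K a ×ˢ invSet K b)
      (fun q : Γ × Γ => (q.1 * q.2) ^ (Nat.card K) = h * (a * b) * h⁻¹))

end main2

theorem mem_inf_centralizer_pair_iff (K : Subgroup Γ) (a b x : Γ) :
    x ∈ K ⊓ Subgroup.centralizer {a, b} ↔ x ∈ K ∧ Commute x a ∧ Commute x b := by
  rw [Subgroup.mem_inf, Subgroup.mem_centralizer_iff]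
  constructor
  · rintro ⟨hK, h⟩
    exact ⟨hK, (h a (Or.inl rfl)).symm, (h b (Or.inr rfl)).symm⟩
  · rintro ⟨hK, h1, h2⟩
    refine ⟨hK, ?_⟩
    rintro h (rfl | rfl)
    · exact h1.eq.symm
    · exact h2.eq.symm

theorem mem_inf_centralizer_single_iff (K : Subgroup Γ) (a x : Γ) :
    x ∈ K ⊓ Subgroup.centralizer {a} ↔ x ∈ K ∧ Commute x a := by
  rw [Subgroup.mem_inf, Subgroup.mem_centralizer_singleton_iff]
  exact Iff.rfl

theorem inf_centralizer_pair_left (K : Subgroup Γ) (a b : Γ) :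
    (K ⊓ Subgroup.centralizer {a * b}) ⊓ Subgroup.centralizer {a} =
      K ⊓ Subgroup.centralizer {a, b} := by
  ext x
  rw [mem_inf_centralizer_single_iff, mem_inf_centralizer_single_iff,
    mem_inf_centralizer_pair_iff]
  constructor
  · rintro ⟨⟨hK, h2⟩, h1⟩
    refine ⟨hK, h1, ?_⟩
    have := h1.inv_right.mul_right h2
    rwa [inv_mul_cancel_left] at this
  · rintro ⟨hK, h1, h3⟩
    exact ⟨⟨hK, h1.mul_right h3⟩, h1⟩

theorem inf_centralizer_pair_right (K : Subgroup Γ) (a b : Γ) :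
    (K ⊓ Subgroup.centralizer {a * b}) ⊓ Subgroup.centralizer {b} =
      K ⊓ Subgroup.centralizer {a, b} := by
  ext x
  rw [mem_inf_centralizer_single_iff, mem_inf_centralizer_single_iff,
    mem_inf_centralizer_pair_iff]
  constructor
  · rintro ⟨⟨hK, h2⟩, h1⟩
    refine ⟨hK, ?_, h1⟩
    have := h2.mul_right h1.inv_right
    rwa [mul_inv_cancel_right] at this
  · rintro ⟨hK, h1, h3⟩
    exact ⟨⟨hK, h1.mul_right h3⟩, h3⟩

section final

variable [Finite Γ] (K : Subgroup Γ) (a b : Γ) (ha : a * a = 1) (hb : b * b = 1)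
  (hab : a * b = b * a)
  (hKa : ∀ k ∈ K, a * k * a⁻¹ ∈ K) (hKb : ∀ k ∈ K, b * k * b⁻¹ ∈ K) (hodd : Odd (Nat.card K))

include ha hb hab hKa hKb hodd in
/-- **Brauer–Wielandt** for a four-group `{1, a, b, ab}` normalizing a subgroup `K` of odd
order (degenerate cases `a = 1`, `a = b`, ... included). -/
theorem bw_four :
    Nat.card K * Nat.card ↥(K ⊓ Subgroup.centralizer {a, b}) ^ 2 =
      Nat.card ↥(K ⊓ Subgroup.centralizer {a}) * Nat.card ↥(K ⊓ Subgroup.centralizer {b}) *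
        Nat.card ↥(K ⊓ Subgroup.centralizer {a * b}) := by
  have hc := ab_sq a b ha hb hab
  have hKc := ab_norm K a b hKa hKb
  have hac : a * (a * b) = a * b * a := a_comm_ab a b hab
  have hbc : b * (a * b) = a * b * b := b_comm_ab a b hab
  have e1 := card_invSet_mul K a ha hKa hodd
  have e2 := card_invSet_mul K b hb hKb hodd
  have e3 := card_invSet_mul K (a * b) hc hKc hodd
  have hodd' : Odd (Nat.card ↥(K ⊓ Subgroup.centralizer {a * b})) :=
    hodd.of_dvd_nat (Subgroup.card_dvd_of_le inf_le_left)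
  have e4 := card_invSet_mul (K ⊓ Subgroup.centralizer {a * b}) a ha
    (norm_inf_centralizer hKa hac) hodd'
  have e5 := card_invSet_mul (K ⊓ Subgroup.centralizer {a * b}) b hb
    (norm_inf_centralizer hKb hbc) hodd'
  rw [inf_centralizer_pair_left] at e4
  rw [inf_centralizer_pair_right] at e5
  have e6 := card_pairs K a b ha hb hab hKa hKb hodd
  have hpos : 0 < Nat.card K * Nat.card ↥(K ⊓ Subgroup.centralizer {a * b}) :=
    Nat.mul_pos Nat.card_pos Nat.card_pos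
  apply Nat.eq_of_mul_eq_mul_left hpos
  generalize Nat.card K = n at *
  generalize Nat.card ↥(K ⊓ Subgroup.centralizer {a * b}) = kC at *
  generalize Nat.card ↥(K ⊓ Subgroup.centralizer {a}) = kA at *
  generalize Nat.card ↥(K ⊓ Subgroup.centralizer {b}) = kB at *
  generalize Nat.card ↥(K ⊓ Subgroup.centralizer {a, b}) = kV at *
  generalize Nat.card ↑(invSet K a) = nA at *
  generalize Nat.card ↑(invSet K b) = nB at *
  generalize Nat.card ↑(invSet K (a * b)) = nC at *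
  generalize Nat.card ↑(invSet (K ⊓ Subgroup.centralizer {a * b}) a) = mA at *
  generalize Nat.card ↑(invSet (K ⊓ Subgroup.centralizer {a * b}) b) = mB at *
  calc (n * kC) * (n * kV ^ 2) = (nA * kA) * (nB * kB) * kC * kV ^ 2 := by rw [e1, e2]; ring
    _ = (nA * nB) * kA * kB * kC * kV ^ 2 := by ring
    _ = nC * (mA * mB) * kA * kB * kC * kV ^ 2 := by rw [e6]
    _ = (nC * kC) * (mA * kV) * (mB * kV) * kA * kB := by ring
    _ = n * kC * kC * kA * kB := by rw [e3, e4, e5]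
    _ = (n * kC) * (kA * kB * kC) := by ring

include hab hKa in
theorem norm_sup3_a :
    ∀ k ∈ K ⊓ Subgroup.centralizer {a} ⊔ K ⊓ Subgroup.centralizer {b} ⊔
        K ⊓ Subgroup.centralizer {a * b},
      a * k * a⁻¹ ∈ K ⊓ Subgroup.centralizer {a} ⊔ K ⊓ Subgroup.centralizer {b} ⊔
        K ⊓ Subgroup.centralizer {a * b} := by
  set K1 := K ⊓ Subgroup.centralizer {a} ⊔ K ⊓ Subgroup.centralizer {b} ⊔
        K ⊓ Subgroup.centralizer {a * b} with hK1
  have key : K1 ≤ K1.comap (MulAut.conj a).toMonoidHom := by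
    rw [hK1]
    refine sup_le (sup_le ?_ ?_) ?_
    · intro x hx
      exact (le_sup_of_le_left le_sup_left : K ⊓ Subgroup.centralizer {a} ≤ K1)
        (norm_inf_centralizer hKa rfl x hx)
    · intro x hx
      exact (le_sup_of_le_left le_sup_right : K ⊓ Subgroup.centralizer {b} ≤ K1)
        (norm_inf_centralizer hKa hab x hx)
    · intro x hx
      exact (le_sup_right : K ⊓ Subgroup.centralizer {a * b} ≤ K1)
        (norm_inf_centralizer hKa (a_comm_ab a b hab) x hx)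
  intro k hk
  exact key hk

include hab hKb in
theorem norm_sup3_b :
    ∀ k ∈ K ⊓ Subgroup.centralizer {a} ⊔ K ⊓ Subgroup.centralizer {b} ⊔
        K ⊓ Subgroup.centralizer {a * b},
      b * k * b⁻¹ ∈ K ⊓ Subgroup.centralizer {a} ⊔ K ⊓ Subgroup.centralizer {b} ⊔
        K ⊓ Subgroup.centralizer {a * b} := by
  set K1 := K ⊓ Subgroup.centralizer {a} ⊔ K ⊓ Subgroup.centralizer {b} ⊔
        K ⊓ Subgroup.centralizer {a * b} with hK1
  have key : K1 ≤ K1.comap (MulAut.conj b).toMonoidHom := by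
    rw [hK1]
    refine sup_le (sup_le ?_ ?_) ?_
    · intro x hx
      exact (le_sup_of_le_left le_sup_left : K ⊓ Subgroup.centralizer {a} ≤ K1)
        (norm_inf_centralizer hKb hab.symm x hx)
    · intro x hx
      exact (le_sup_of_le_left le_sup_right : K ⊓ Subgroup.centralizer {b} ≤ K1)
        (norm_inf_centralizer hKb rfl x hx)
    · intro x hx
      exact (le_sup_right : K ⊓ Subgroup.centralizer {a * b} ≤ K1)
        (norm_inf_centralizer hKb (b_comm_ab a b hab) x hx)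
  intro k hk
  exact key hk

theorem inf_pair_le_left (K : Subgroup Γ) (a b : Γ) :
    K ⊓ Subgroup.centralizer {a, b} ≤ K ⊓ Subgroup.centralizer {a} :=
  inf_le_inf_left _ (Subgroup.centralizer_le (by intro x hx; exact Or.inl hx))

/-- a subgroup between the `a`-centralizer and `K` has the same `a`-centralizer -/
theorem inf_centralizer_eq_of_le {K K1 : Subgroup Γ} (S : Set Γ) (h1 : K1 ≤ K)
    (h2 : K ⊓ Subgroup.centralizer S ≤ K1) :
    K1 ⊓ Subgroup.centralizer S = K ⊓ Subgroup.centralizer S :=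
  le_antisymm (inf_le_inf_right _ h1) (le_inf h2 inf_le_right)

include ha hb hab hKa hKb hodd in
/-- (RATIO) -/
theorem bw_ratio (K1 : Subgroup Γ) (hK1 : K1 ≤ K) (hK1a : ∀ k ∈ K1, a * k * a⁻¹ ∈ K1)
    (hK1b : ∀ k ∈ K1, b * k * b⁻¹ ∈ K1) (hA : K ⊓ Subgroup.centralizer {a} ≤ K1)
    (hB : K ⊓ Subgroup.centralizer {b} ≤ K1) :
    Nat.card K * Nat.card ↥(K1 ⊓ Subgroup.centralizer {a * b}) =
      Nat.card K1 * Nat.card ↥(K ⊓ Subgroup.centralizer {a * b}) := by
  have hodd1 : Odd (Nat.card K1) := hodd.of_dvd_nat (Subgroup.card_dvd_of_le hK1)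
  have h1 := bw_four K a b ha hb hab hKa hKb hodd
  have h2 := bw_four K1 a b ha hb hab hK1a hK1b hodd1
  rw [inf_centralizer_eq_of_le {a} hK1 hA, inf_centralizer_eq_of_le {b} hK1 hB,
    inf_centralizer_eq_of_le {a, b} hK1 ((inf_pair_le_left K a b).trans hA)] at h2
  have hpos : 0 < Nat.card ↥(K ⊓ Subgroup.centralizer {a, b}) ^ 2 :=
    pow_pos Nat.card_pos 2
  apply Nat.eq_of_mul_eq_mul_left hpos
  generalize Nat.card K = n at *
  generalize Nat.card K1 = n1 at *
  generalize Nat.card ↥(K ⊓ Subgroup.centralizer {a * b}) = kC at *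
  generalize Nat.card ↥(K1 ⊓ Subgroup.centralizer {a * b}) = kC1 at *
  generalize Nat.card ↥(K ⊓ Subgroup.centralizer {a}) = kA at *
  generalize Nat.card ↥(K ⊓ Subgroup.centralizer {b}) = kB at *
  generalize Nat.card ↥(K ⊓ Subgroup.centralizer {a, b}) = kV at *
  calc kV ^ 2 * (n * kC1) = (n * kV ^ 2) * kC1 := by ring
    _ = kA * kB * kC * kC1 := by rw [h1]
    _ = (kA * kB * kC1) * kC := by ring
    _ = (n1 * kV ^ 2) * kC := by rw [h2]
    _ = kV ^ 2 * (n1 * kC) := by ring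

include ha hb hab hKa hKb hodd in
/-- (GEN) -/
theorem bw_gen :
    K ⊓ Subgroup.centralizer {a} ⊔ K ⊓ Subgroup.centralizer {b} ⊔
      K ⊓ Subgroup.centralizer {a * b} = K := by
  set K1 := K ⊓ Subgroup.centralizer {a} ⊔ K ⊓ Subgroup.centralizer {b} ⊔
        K ⊓ Subgroup.centralizer {a * b} with hK1def
  have hK1 : K1 ≤ K := sup_le (sup_le inf_le_left inf_le_left) inf_le_left
  have hA : K ⊓ Subgroup.centralizer {a} ≤ K1 := le_sup_of_le_left le_sup_left
  have hB : K ⊓ Subgroup.centralizer {b} ≤ K1 := le_sup_of_le_left le_sup_right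
  have hC : K ⊓ Subgroup.centralizer {a * b} ≤ K1 := le_sup_right
  have h := bw_ratio K a b ha hb hab hKa hKb hodd K1 hK1 (norm_sup3_a K a b hab hKa)
    (norm_sup3_b K a b hab hKb) hA hB
  rw [inf_centralizer_eq_of_le {a * b} hK1 hC] at h
  have hpos : 0 < Nat.card ↥(K ⊓ Subgroup.centralizer {a * b}) := Nat.card_pos
  have h2 : Nat.card K = Nat.card K1 := Nat.eq_of_mul_eq_mul_right hpos h
  exact Subgroup.eq_of_le_of_card_ge hK1 h2.le

end final

end Cfsg.Agent.Helper19.BW4
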