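import Mathlib
import Cfsg.Prelude.Def_LocalStructure
import Cfsg.Agent.Lib.Helper15.NPCDefs
import Cfsg.Agent.Lib.Helper12.PSL2Max3

/-!
# S3875 piece SIMPLE (helper19): a simple non-`p`-closed group has order at least `p (p² - 1) / 2`
-/

set_option autoImplicit false
set_option linter.unusedSectionVars false
set_option linter.unusedVariables false
set_option linter.style.haveILetI false
set_option linter.unusedSimpArgs false

open Cfsg

namespace Cfsg.Agent.Helper15.NPC

namespace SIMPLE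

/-- `p (p² - 1) = p (p - 1) (p + 1)` in `ℕ` -/
theorem arith1 (p : ℕ) (hp : 1 ≤ p) : p * (p ^ 2 - 1) = p * (p - 1) * (p + 1) := by
  obtain ⟨k, rfl⟩ : ∃ k, p = k + 1 := ⟨p - 1, by omega⟩
  have h1 : (k + 1) ^ 2 - 1 = k * (k + 2) := by
    rw [Nat.sub_eq_iff_eq_add (Nat.one_le_pow _ _ (by omega))]
    ring
  rw [h1, Nat.add_sub_cancel]
  ring

/-- `p (p² - 1) / 2 ≤ p³` -/
theorem arith2 (p : ℕ) : p * (p ^ 2 - 1) / 2 ≤ p ^ 3 := by
  have h1 : p * (p ^ 2 - 1) ≤ p ^ 3 := by
    calc p * (p ^ 2 - 1) ≤ p * p ^ 2 := Nat.mul_le_mul_left p (Nat.sub_le _ _)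
      _ = p ^ 3 := by ring
  exact (Nat.div_le_self _ _).trans h1

/-- `p (p² - 1) / 2 ≤ (p - 1) (p - 2) p` for `p ≥ 5` -/
theorem arith3 (p : ℕ) (hp : 5 ≤ p) : p * (p ^ 2 - 1) / 2 ≤ (p - 1) * (p - 1 - 1) * (p - 1 + 1) := by
  obtain ⟨j, rfl⟩ : ∃ j, p = j + 5 := ⟨p - 5, by omega⟩
  rw [arith1 _ (by omega)]
  apply Nat.div_le_of_le_mul
  have e1 : j + 5 - 1 = j + 4 := by omega
  have e2 : j + 4 - 1 = j + 3 := by omega
  rw [e1, e2]
  calc (j + 5) * (j + 4) * (j + 5 + 1) ≤ (j + 5) * (j + 4) * (2 * (j + 3)) :=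
        Nat.mul_le_mul_left _ (by omega)
    _ = 2 * ((j + 4) * (j + 3) * (j + 4 + 1)) := by ring

theorem normal_of_isCyclic {G : Type*} [Group G] [IsCyclic G] (H : Subgroup G) : H.Normal := by
  refine ⟨fun n hn g => ?_⟩
  have hcomm : g * n = n * g := (IsCyclic.commGroup (α := G)).mul_comm g n
  rw [hcomm, mul_inv_cancel_right]
  exact hn

end SIMPLE

theorem card_of_simple (h999 : Hyp999) {G : Type} [Group G] [Finite G] [IsSimpleGroup G] (p : ℕ)
    [Fact p.Prime] (hp2 : p ≠ 2) (hnc : ¬ IsPClosed p G) :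
    p * (p ^ 2 - 1) / 2 ≤ Nat.card G := by
  have hp := (Fact.out : p.Prime)
  have hp3 : 3 ≤ p := by
    have := hp.two_le
    omega
  by_contra hlt
  push Not at hlt
  have hnotcyc : ¬ IsCyclic G := by
    intro hc
    apply hnc
    intro P
    haveI : IsCyclic G := hc
    exact SIMPLE.normal_of_isCyclic _
  have hdvd : p ∣ Nat.card G := by
    by_contra hnd
    apply hnc
    intro P
    have h1 : Nat.card (P : Subgroup G) = 1 := by
      rw [Sylow.card_eq_multiplicity, Nat.factorization_eq_zero_of_not_dvd hnd, pow_zero]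
    have h2 : (P : Subgroup G) = ⊥ := Subgroup.card_eq_one.mp h1
    rw [h2]
    infer_instance
  have hlt3 : Nat.card G < p ^ 3 := lt_of_lt_of_le hlt (SIMPLE.arith2 p)
  rcases h999 G hnotcyc p hp hdvd hlt3 with ⟨F, _, _, hF, h3, ⟨e⟩⟩ | ⟨m, F, _, _, hF, hpm, h3, ⟨e⟩⟩
  · have hc : Nat.card G = Nat.card (Matrix.ProjectiveSpecialLinearGroup (Fin 2) F) :=
      Nat.card_congr e.toEquiv
    have h1 := Cfsg.Agent.Helper12.PSL2Max.card_PSL2_mul' F hF
    have hodd : Odd p := hp.odd_of_ne_two hp2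
    have hg : Nat.gcd 2 (p - 1) = 2 := by
      apply Nat.gcd_eq_left
      obtain ⟨k, hk⟩ := hodd
      exact ⟨k, by omega⟩
    rw [hg, ← hc] at h1
    rw [SIMPLE.arith1 p (by omega), ← h1, Nat.mul_div_cancel_left _ (by norm_num : 0 < 2)] at hlt
    exact lt_irrefl _ hlt
  · have hc : Nat.card G = Nat.card (Matrix.ProjectiveSpecialLinearGroup (Fin 2) F) :=
      Nat.card_congr e.toEquiv
    have h1 := Cfsg.Agent.Helper12.PSL2Max.card_PSL2_mul' F hF
    have hq : 2 ^ m = p - 1 := by omega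
    have hm : m ≠ 0 := by
      rintro rfl
      norm_num at hpm
      omega
    have heven : Even (2 ^ m) := (Nat.even_pow' hm).mpr even_two
    have hg : Nat.gcd 2 (2 ^ m - 1) = 1 := by
      have hoddq : Odd (2 ^ m - 1) := by
        obtain ⟨k, hk⟩ := heven
        have hk1 : 1 ≤ k := by
          have : 0 < 2 ^ m := by positivity
          omega
        exact ⟨k - 1, by omega⟩
      exact (Nat.coprime_two_left.mpr hoddq)
    rw [hg, one_mul, ← hc, hq] at h1
    have h5 : 5 ≤ p := by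
      -- `p > 3` and `p` is odd
      have hodd : Odd p := hp.odd_of_ne_two hp2
      obtain ⟨k, hk⟩ := hodd
      omega
    have := SIMPLE.arith3 p h5
    rw [← h1] at this
    exact absurd hlt (not_lt.mpr this)

end Cfsg.Agent.Helper15.NPC
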