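import Mathlib

/-!
# PIECE S0983-ORD4200-L150 (helper19, for helper15): a group of order `150` has a unique Sylow
`5`-subgroup.
-/

set_option autoImplicit false
set_option linter.unusedSectionVars false
set_option linter.unusedVariables false
set_option linter.style.haveILetI false

namespace Cfsg.Agent.Helper3.SmallOrd

namespace L150

/-- a group of order `2 * k`, `k` odd, has a normal subgroup of order `k` (Burnside transfer at the
Sylow `2`-subgroup). -/
theorem exists_normal_of_two_mul_odd {G : Type*} [Group G] [Finite G] (k : ℕ) (hk : Odd k)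
    (hG : Nat.card G = 2 * k) : ∃ M : Subgroup G, M.Normal ∧ Nat.card M = k ∧ M.index = 2 := by
  haveI : Fact (Nat.Prime 2) := ⟨Nat.prime_two⟩
  have hk0 : k ≠ 0 := by
    rintro rfl
    exact (Nat.not_odd_iff_even.2 (by decide)) hk
  obtain ⟨P⟩ : Nonempty (Sylow 2 G) := inferInstance
  have hPcard : Nat.card (P : Subgroup G) = 2 := by
    rw [Sylow.card_eq_multiplicity, hG]
    have : (2 * k).factorization 2 = 1 := by
      rw [Nat.factorization_mul (by norm_num) hk0]
      simp [Nat.Prime.factorization_self Nat.prime_two,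
        Nat.factorization_eq_zero_of_not_dvd (hk.not_two_dvd_nat)]
    rw [this, pow_one]
  have hP : Subgroup.normalizer ((P : Subgroup G) : Set G)
      ≤ Subgroup.centralizer ((P : Subgroup G) : Set G) := by
    intro g hg
    rw [Subgroup.mem_centralizer_iff]
    intro h hh
    by_cases h1 : h = 1
    · subst h1; simp
    · obtain ⟨t, ht, huniq⟩ := (Nat.card_eq_two_iff' (1 : (P : Subgroup G))).mp hPcard
      have e1 : (⟨h, hh⟩ : (P : Subgroup G)) = t :=
        huniq _ (fun hc => h1 (congrArg Subtype.val hc))
      have hmem : g * h * g⁻¹ ∈ (P : Subgroup G) :=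
        (Subgroup.mem_normalizer_iff.mp hg h).mp hh
      have e2 : (⟨g * h * g⁻¹, hmem⟩ : (P : Subgroup G)) = t := by
        apply huniq
        intro hc
        apply h1
        have h3 : g * h * g⁻¹ = 1 := congrArg Subtype.val hc
        exact conj_eq_one_iff.mp h3
      have h4 : g * h * g⁻¹ = h := congrArg Subtype.val (e2.trans e1.symm)
      calc h * g = (g * h * g⁻¹) * g := by rw [h4]
        _ = g * h := by group
  have hcompl : Subgroup.IsComplement' (MonoidHom.transferSylow P hP).ker (P : Subgroup G) :=
    MonoidHom.ker_transferSylow_isComplement' P hP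
  have hcard := hcompl.card_mul_card
  rw [hPcard, hG] at hcard
  have hN : Nat.card (MonoidHom.transferSylow P hP).ker = k := by omega
  refine ⟨(MonoidHom.transferSylow P hP).ker, inferInstance, hN, ?_⟩
  have h2 := Subgroup.card_mul_index (MonoidHom.transferSylow P hP).ker
  rw [hN, hG] at h2
  have hkpos : 0 < k := Nat.pos_of_ne_zero hk0
  exact Nat.eq_of_mul_eq_mul_left hkpos (by rw [h2]; ring)

end L150

/-- PIECE L150: a group of order `150` has exactly one Sylow `5`-subgroup. -/
theorem card_sylow_five_of_card_150 {H : Type*} [Group H] [Finite H] (h : Nat.card H = 150) :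
    Nat.card (Sylow 5 H) = 1 := by
  haveI : Fact (Nat.Prime 5) := ⟨by norm_num⟩
  obtain ⟨M, hMn, hMcard, hMidx⟩ :=
    L150.exists_normal_of_two_mul_odd (G := H) 75 (by decide) (by rw [h])
  haveI := hMn
  -- every Sylow `5`-subgroup lies in `M`
  have hle : ∀ S : Sylow 5 H, (S : Subgroup H) ≤ M := by
    intro S x hx
    -- the order of `x` is a power of `5`
    obtain ⟨n, hn⟩ := (S.2 ⟨x, hx⟩)
    have hxn : x ^ 5 ^ n = 1 := by
      have := congrArg Subtype.val hn
      simpa using this
    -- the image of `x` in `H ⧸ M` has order dividing `2`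
    have hq : Nat.card (H ⧸ M) = 2 := by
      rw [← Subgroup.index_eq_card]; exact hMidx
    have h1 : ((x : H) : H ⧸ M) ^ 2 = 1 := by
      rw [← hq]
      exact pow_card_eq_one'
    have h2 : ((x : H) : H ⧸ M) ^ 5 ^ n = 1 := by
      rw [← QuotientGroup.mk_pow, hxn]; rfl
    have hcop : Nat.Coprime (5 ^ n) 2 := by
      apply Nat.Coprime.pow_left
      decide
    have h3 : ((x : H) : H ⧸ M) = 1 := by
      have hd1 : orderOf ((x : H) : H ⧸ M) ∣ 5 ^ n := orderOf_dvd_of_pow_eq_one h2
      have hd2 : orderOf ((x : H) : H ⧸ M) ∣ 2 := orderOf_dvd_of_pow_eq_one h1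
      have := Nat.dvd_gcd hd1 hd2
      rw [hcop] at this
      exact orderOf_eq_one_iff.1 (Nat.dvd_one.1 this)
    exact (QuotientGroup.eq_one_iff x).1 h3
  -- `M` has a unique Sylow `5`-subgroup
  have hMone : Nat.card (Sylow 5 M) = 1 := by
    obtain ⟨T⟩ : Nonempty (Sylow 5 M) := inferInstance
    have hTcard : Nat.card (T : Subgroup M) = 25 := by
      rw [Sylow.card_eq_multiplicity, hMcard]
      have : (75 : ℕ).factorization 5 = 2 := by
        have h75 : (75 : ℕ) = 5 ^ 2 * 3 := by norm_num
        rw [h75, Nat.factorization_mul (by norm_num) (by norm_num),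
          Nat.factorization_pow]
        simp [Nat.Prime.factorization_self (by norm_num : Nat.Prime 5),
          Nat.factorization_eq_zero_of_not_dvd (by norm_num : ¬ 5 ∣ 3)]
      rw [this]; norm_num
    have hTidx : (T : Subgroup M).index = 3 := by
      have h2 := Subgroup.card_mul_index (T : Subgroup M)
      rw [hTcard, hMcard] at h2
      omega
    have hdvd : Nat.card (Sylow 5 M) ∣ 3 := hTidx ▸ Sylow.card_dvd_index T
    have hmod : Nat.card (Sylow 5 M) ≡ 1 [MOD 5] := card_sylow_modEq_one 5 M
    have hle3 : Nat.card (Sylow 5 M) ≤ 3 := Nat.le_of_dvd (by norm_num) hdvd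
    have hpos : 0 < Nat.card (Sylow 5 M) := Nat.card_pos
    unfold Nat.ModEq at hmod
    interval_cases hc : Nat.card (Sylow 5 M) <;> simp_all
  haveI hsubM : Subsingleton (Sylow 5 M) := (Nat.card_eq_one_iff_unique.1 hMone).1
  haveI : Subsingleton (Sylow 5 H) := by
    constructor
    intro S S'
    have h1 : S.subtype (hle S) = S'.subtype (hle S') := Subsingleton.elim _ _
    exact Sylow.subtype_injective h1
  exact Nat.card_unique
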