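import Mathlib
import Cfsg.Agent.Lib.Helper15.PSLkDefs

/-!
S2480 farm-out (helper15), piece PSLK-KERCYC: kernel of multiplication by `P^k` on `F[X]/(p^e)`.
-/

set_option autoImplicit false
set_option linter.unusedSectionVars false
set_option linter.unusedVariables false

open Polynomial

namespace Cfsg.Agent.Helper15.PSLk

open Cfsg.Agent.Helper17.GLk Cfsg.Agent.Helper17.SLk

universe u

section pieces
variable {F : Type u} [Field F]

theorem pslk_kercyc_mulQ_mk (g r h : F[X]) :
    mulQ g r (Ideal.Quotient.mk (Ideal.span {g}) h) = Ideal.Quotient.mk (Ideal.span {g}) (r * h) := by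
  unfold mulQ
  rw [LinearMap.mulLeft_apply, ← map_mul]

theorem pslk_kercyc_mem_ker (g r h : F[X]) :
    Ideal.Quotient.mk (Ideal.span {g}) h ∈ LinearMap.ker (mulQ g r) ↔ g ∣ r * h := by
  rw [LinearMap.mem_ker, pslk_kercyc_mulQ_mk, Ideal.Quotient.eq_zero_iff_mem,
    Ideal.mem_span_singleton]

theorem pslk_kercyc_coprime (g r : F[X]) (h : IsCoprime r g) : LinearMap.ker (mulQ g r) = ⊥ := by
  obtain ⟨a, b, hab⟩ := h
  rw [LinearMap.ker_eq_bot']
  intro x hx
  obtain ⟨y, rfl⟩ := Ideal.Quotient.mk_surjective x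
  have h1 : g ∣ r * y := (pslk_kercyc_mem_ker g r y).1 (LinearMap.mem_ker.2 hx)
  rw [Ideal.Quotient.eq_zero_iff_mem, Ideal.mem_span_singleton]
  have h2 : y = a * (r * y) + b * y * g := by
    calc y = (a * r + b * g) * y := by rw [hab, one_mul]
      _ = a * (r * y) + b * y * g := by ring
  rw [h2]
  exact dvd_add (Dvd.dvd.mul_left h1 a) (Dvd.intro_left _ rfl)

theorem pslk_kercyc_assoc (g r r' : F[X]) (h : Associated r r') :
    LinearMap.ker (mulQ g r) = LinearMap.ker (mulQ g r') := by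
  obtain ⟨u, hu⟩ := h
  ext x
  obtain ⟨y, rfl⟩ := Ideal.Quotient.mk_surjective x
  rw [pslk_kercyc_mem_ker, pslk_kercyc_mem_ker, ← hu]
  have h1 : r * (u : F[X]) * y = (u : F[X]) * (r * y) := by ring
  rw [h1]
  exact (IsUnit.dvd_mul_left u.isUnit).symm

/-- the map `h ↦ [p^(e-k) h]` on polynomials of degree `< n` -/
noncomputable def pslk_kercyc_T (p : F[X]) (e k n : ℕ) :
    degreeLT F n →ₗ[F] (F[X] ⧸ Ideal.span {p ^ e}) :=
  ((Ideal.Quotient.mkₐ F (Ideal.span {p ^ e})).toLinearMap ∘ₗ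
    LinearMap.mulLeft F (p ^ (e - k))) ∘ₗ (degreeLT F n).subtype

theorem pslk_kercyc_T_apply (p : F[X]) (e k n : ℕ) (h : degreeLT F n) :
    pslk_kercyc_T p e k n h = Ideal.Quotient.mk (Ideal.span {p ^ e}) (p ^ (e - k) * (h : F[X])) :=
  rfl

theorem pslk_kercyc_main (p : F[X]) (hp : p ≠ 0) (e k : ℕ) (hk : k ≤ e) :
    Module.finrank F (LinearMap.ker (mulQ (p ^ e) (p ^ k))) = k * p.natDegree := by
  have hpk : p ^ k ≠ 0 := pow_ne_zero k hp
  have hpek : p ^ (e - k) ≠ 0 := pow_ne_zero _ hp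
  have hsplit : p ^ e = p ^ (e - k) * p ^ k := by
    rw [← pow_add, Nat.sub_add_cancel hk]
  have hdeg : (p ^ k).degree = ((k * p.natDegree : ℕ) : WithBot ℕ) := by
    rw [degree_eq_natDegree hpk, natDegree_pow]
  set T := pslk_kercyc_T p e k (k * p.natDegree) with hT
  have hinj : Function.Injective T := by
    rw [← LinearMap.ker_eq_bot, LinearMap.ker_eq_bot']
    intro h hh
    rw [pslk_kercyc_T_apply, Ideal.Quotient.eq_zero_iff_mem, Ideal.mem_span_singleton, hsplit] at hh
    have h1 : p ^ k ∣ (h : F[X]) := (mul_dvd_mul_iff_left hpek).1 hh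
    have h2 : (h : F[X]).degree < (p ^ k).degree := by
      rw [hdeg]
      exact mem_degreeLT.1 h.2
    have h3 : (h : F[X]) = 0 := eq_zero_of_dvd_of_degree_lt h1 h2
    exact Subtype.ext h3
  have hrange : LinearMap.range T = LinearMap.ker (mulQ (p ^ e) (p ^ k)) := by
    apply le_antisymm
    · rintro x ⟨h, rfl⟩
      rw [pslk_kercyc_T_apply, pslk_kercyc_mem_ker]
      refine ⟨(h : F[X]), ?_⟩
      rw [hsplit]
      ring
    · intro x hx
      obtain ⟨y, rfl⟩ := Ideal.Quotient.mk_surjective x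
      rw [pslk_kercyc_mem_ker, hsplit, mul_comm (p ^ k) y, mul_comm (p ^ (e - k)) (p ^ k)] at hx
      have h1 : p ^ (e - k) ∣ y := by
        rw [mul_comm y (p ^ k)] at hx
        exact (mul_dvd_mul_iff_left hpk).1 hx
      obtain ⟨y', rfl⟩ := h1
      have hmod : (y' % p ^ k).degree < ((k * p.natDegree : ℕ) : WithBot ℕ) := by
        rw [← hdeg]
        exact degree_mod_lt y' hpk
      refine ⟨⟨y' % p ^ k, mem_degreeLT.2 hmod⟩, ?_⟩
      rw [pslk_kercyc_T_apply]
      show Ideal.Quotient.mk (Ideal.span {p ^ e}) (p ^ (e - k) * (y' % p ^ k)) =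
        Ideal.Quotient.mk (Ideal.span {p ^ e}) (p ^ (e - k) * y')
      rw [Ideal.Quotient.eq, Ideal.mem_span_singleton]
      refine ⟨-(y' / p ^ k), ?_⟩
      have h4 : y' = p ^ k * (y' / p ^ k) + y' % p ^ k := (EuclideanDomain.div_add_mod y' (p ^ k)).symm
      rw [hsplit]
      calc p ^ (e - k) * (y' % p ^ k) - p ^ (e - k) * y'
          = p ^ (e - k) * (y' % p ^ k) - p ^ (e - k) * (p ^ k * (y' / p ^ k) + y' % p ^ k) := by
            rw [← h4]
        _ = p ^ (e - k) * p ^ k * -(y' / p ^ k) := by ring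
  rw [← hrange, LinearMap.finrank_range_of_inj hinj, (degreeLTEquiv F _).finrank_eq,
    Module.finrank_fin_fun]

open Classical in
/-- PIECE PSLK-KERCYC. -/
theorem finrank_ker_mulQ_pow (p P : F[X]) (hp : Irreducible p) (hP : Irreducible P) (e k : ℕ) :
    Module.finrank F (LinearMap.ker (mulQ (p ^ e) (P ^ k))) =
      if Associated P p then p.natDegree * min k e else 0 := by
  split_ifs with h
  · have h1 : Associated (P ^ k) (p ^ k) := h.pow_pow
    rw [pslk_kercyc_assoc _ _ _ h1]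
    rcases le_total k e with hke | hke
    · rw [pslk_kercyc_main p hp.ne_zero e k hke, min_eq_left hke, mul_comm]
    · have h2 : mulQ (p ^ e) (p ^ k) = mulQ (p ^ e) (p ^ e) := by
        unfold mulQ
        congr 1
        have h3 : Ideal.Quotient.mk (Ideal.span {p ^ e}) (p ^ e) = 0 := by
          rw [Ideal.Quotient.eq_zero_iff_mem, Ideal.mem_span_singleton]
        have h4 : Ideal.Quotient.mk (Ideal.span {p ^ e}) (p ^ k) = 0 := by
          rw [Ideal.Quotient.eq_zero_iff_mem, Ideal.mem_span_singleton]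
          exact pow_dvd_pow p hke
        rw [h3, h4]
      rw [h2, pslk_kercyc_main p hp.ne_zero e e le_rfl, min_eq_right hke, mul_comm]
  · have hcop : IsCoprime (P ^ k) (p ^ e) := by
      have h1 : IsCoprime P p :=
        (hP.coprime_iff_not_dvd).2 (fun hdvd => h (hP.associated_of_dvd hp hdvd))
      exact h1.pow
    rw [pslk_kercyc_coprime _ _ hcop, finrank_bot]

end pieces

end Cfsg.Agent.Helper15.PSLk
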