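import Mathlib
import Cfsg.Agent.Lib.Helper15.PSLkDefs

/-!
S2480 farm-out (helper15), piece PSLK-KERPI: an `F[X]`-linear equivalence between two products of
cyclic primary modules gives equal sums `∑_i [P ~ p_i] min k (e_i)`.
-/

set_option autoImplicit false
set_option linter.unusedSectionVars false
set_option linter.unusedVariables false

open Polynomial

namespace Cfsg.Agent.Helper15.PSLk

open Cfsg.Agent.Helper17.GLk Cfsg.Agent.Helper17.SLk

universe u

section pieces
variable {F : Type u} [Field F]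

theorem pslk_kerpi_mulQ_eq_smul (g r : F[X]) (y : F[X] ⧸ Ideal.span {g}) :
    mulQ g r y = r • y := by
  unfold mulQ
  rw [LinearMap.mulLeft_apply]
  obtain ⟨h, rfl⟩ := Ideal.Quotient.mk_surjective y
  rw [← map_mul]
  rfl

/-- the kernel of `r • ·` on a product of cyclic modules -/
noncomputable def pslk_kerpi_K {ι : Type u} (p : ι → F[X]) (e : ι → ℕ) (r : F[X]) :
    Submodule F ((i : ι) → F[X] ⧸ Ideal.span {p i ^ e i}) :=
  Submodule.pi Set.univ (fun i => LinearMap.ker (mulQ (p i ^ e i) r))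

theorem pslk_kerpi_mem_K {ι : Type u} (p : ι → F[X]) (e : ι → ℕ) (r : F[X])
    (x : (i : ι) → F[X] ⧸ Ideal.span {p i ^ e i}) :
    x ∈ pslk_kerpi_K p e r ↔ r • x = 0 := by
  unfold pslk_kerpi_K
  rw [Submodule.mem_pi]
  constructor
  · intro h
    funext i
    have h1 := h i (Set.mem_univ i)
    rw [LinearMap.mem_ker, pslk_kerpi_mulQ_eq_smul] at h1
    exact h1
  · intro h i _
    rw [LinearMap.mem_ker, pslk_kerpi_mulQ_eq_smul]
    exact congrFun h i

/-- a product of submodules, as a product -/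
noncomputable def pslk_kerpi_equiv {ι : Type u} (M : ι → Type u) [∀ i, AddCommGroup (M i)]
    [∀ i, Module F (M i)] (N : ∀ i, Submodule F (M i)) :
    Submodule.pi Set.univ N ≃ₗ[F] (∀ i, N i) where
  toFun x := fun i => ⟨x.1 i, x.2 i (Set.mem_univ i)⟩
  invFun y := ⟨fun i => (y i).1, fun i _ => (y i).2⟩
  map_add' := fun x y => rfl
  map_smul' := fun c x => rfl
  left_inv := fun x => rfl
  right_inv := fun y => rfl

theorem pslk_kerpi_finrank_K {ι : Type u} [Fintype ι] (p : ι → F[X]) (e : ι → ℕ)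
    (hp : ∀ i, p i ≠ 0) (r : F[X]) :
    Module.finrank F (pslk_kerpi_K p e r) =
      ∑ i, Module.finrank F (LinearMap.ker (mulQ (p i ^ e i) r)) := by
  have : ∀ i, Module.Finite F (F[X] ⧸ Ideal.span {p i ^ e i}) :=
    fun i => (AdjoinRoot.powerBasis (pow_ne_zero (e i) (hp i))).finite
  unfold pslk_kerpi_K
  rw [(pslk_kerpi_equiv (F := F) (fun i => F[X] ⧸ Ideal.span {p i ^ e i})
    (fun i => LinearMap.ker (mulQ (p i ^ e i) r))).finrank_eq, Module.finrank_pi_fintype]

theorem pslk_kerpi_finrank_eq {ι ι' : Type u} {p : ι → F[X]} {e : ι → ℕ}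
    {p' : ι' → F[X]} {e' : ι' → ℕ}
    (φ : ((i : ι) → F[X] ⧸ Ideal.span {p i ^ e i}) ≃ₗ[F[X]]
      ((i : ι') → F[X] ⧸ Ideal.span {p' i ^ e' i})) (r : F[X]) :
    Module.finrank F (pslk_kerpi_K p e r) = Module.finrank F (pslk_kerpi_K p' e' r) := by
  apply LinearEquiv.finrank_eq
  exact
    { toFun := fun x => ⟨φ x.1, by
        rw [pslk_kerpi_mem_K, ← map_smul, (pslk_kerpi_mem_K p e r x.1).1 x.2, map_zero]⟩
      invFun := fun y => ⟨φ.symm y.1, by
        rw [pslk_kerpi_mem_K, ← map_smul, (pslk_kerpi_mem_K p' e' r y.1).1 y.2, map_zero]⟩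
      map_add' := fun x y => Subtype.ext (map_add φ x.1 y.1)
      map_smul' := fun c x => Subtype.ext ((φ.restrictScalars F).map_smul c x.1)
      left_inv := fun x => Subtype.ext (φ.symm_apply_apply x.1)
      right_inv := fun y => Subtype.ext (φ.apply_symm_apply y.1) }

open Classical in
theorem pslk_kerpi_sum {ι : Type u} [Fintype ι] (p : ι → F[X]) (e : ι → ℕ) (P : F[X]) (k : ℕ) :
    ∑ i, (if Associated P (p i) then (p i).natDegree * min k (e i) else 0) =
      P.natDegree * ∑ i, (if Associated P (p i) then min k (e i) else 0) := by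
  rw [Finset.mul_sum]
  apply Finset.sum_congr rfl
  intro i _
  split_ifs with h
  · rw [natDegree_eq_of_degree_eq (degree_eq_degree_of_associated h)]
  · rw [mul_zero]

open Classical in
/-- PIECE PSLK-KERPI. -/
theorem sum_min_eq_of_equiv
    (hcyc : ∀ (p P : F[X]), Irreducible p → Irreducible P → ∀ e k : ℕ,
      Module.finrank F (LinearMap.ker (mulQ (p ^ e) (P ^ k))) =
        if Associated P p then p.natDegree * min k e else 0)
    {ι ι' : Type u} [Fintype ι] [Fintype ι'] {p : ι → F[X]} {e : ι → ℕ}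
    {p' : ι' → F[X]} {e' : ι' → ℕ}
    (hp : ∀ i, Irreducible (p i)) (hp' : ∀ i, Irreducible (p' i))
    (φ : ((i : ι) → F[X] ⧸ Ideal.span {p i ^ e i}) ≃ₗ[F[X]]
      ((i : ι') → F[X] ⧸ Ideal.span {p' i ^ e' i}))
    (P : F[X]) (hP : Irreducible P) (k : ℕ) :
    ∑ i, (if Associated P (p i) then min k (e i) else 0) =
      ∑ i, (if Associated P (p' i) then min k (e' i) else 0) := by
  have h1 := pslk_kerpi_finrank_eq φ (P ^ k)
  rw [pslk_kerpi_finrank_K p e (fun i => (hp i).ne_zero),
    pslk_kerpi_finrank_K p' e' (fun i => (hp' i).ne_zero)] at h1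
  rw [Finset.sum_congr rfl (fun i _ => hcyc (p i) P (hp i) hP (e i) k),
    Finset.sum_congr rfl (fun i _ => hcyc (p' i) P (hp' i) hP (e' i) k),
    pslk_kerpi_sum, pslk_kerpi_sum] at h1
  have hdeg : 0 < P.natDegree := hP.natDegree_pos
  exact Nat.eq_of_mul_eq_mul_left hdeg h1

end pieces

end Cfsg.Agent.Helper15.PSLk
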