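import Mathlib
import Cfsg.Agent.Lib.Helper17.SLkDefs

/-!
S2479 farm-out (helper17), piece SLK-AVG: double counting over `(Fˣ)^n × T`.
-/

set_option autoImplicit false
set_option linter.unusedSectionVars false
set_option linter.unusedVariables false

open Polynomial

namespace Cfsg.Agent.Helper17.SLk

open Cfsg.Agent.Helper17.GLk

universe u

section pieces2
variable {F : Type u} [Field F]

open Classical in
/-- PIECE SLK-AVG: double counting over `(Fˣ)^n × T` (all SC2 and FIB facts as hypotheses). -/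
theorem avg_sum [Fintype F] (n : ℕ) (T : Finset (Fin n → F[X]))
    (hT : ∀ f, f ∈ T ↔ f ∈ Tup F n 1 n)
    (h_mem : ∀ (l : Fin n → Fˣ) (f : Fin n → F[X]), f ∈ Tup F n 1 n → scT l f ∈ Tup F n 1 n)
    (h_mul : ∀ (l l' : Fin n → Fˣ) (f : Fin n → F[X]), scT l (scT l' f) = scT (l * l') f)
    (h_one : ∀ f : Fin n → F[X], scT (1 : Fin n → Fˣ) f = f)
    (h_gam : ∀ (l : Fin n → Fˣ) (f : Fin n → F[X]), f ∈ Tup F n 1 n → gam (scT l f) = gam f)
    (h_det : ∀ (l : Fin n → Fˣ) (f : Fin n → F[X]), f ∈ Tup F n 1 n →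
      detT (scT l f) = ((chiT f l : Fˣ) : F) * detT f)
    (h_fib : ∀ f : Fin n → F[X], f ∈ Tup F n 1 n →
      Nat.card {l : Fin n → Fˣ // ((chiT f l : Fˣ) : F) * detT f = 1} * (Fintype.card F - 1) =
        (Fintype.card F - 1) ^ n * Nat.gcd (Fintype.card F - 1) (gam f)) :
    (Fintype.card F - 1) * ∑ f ∈ T.filter (fun f => detT f = 1),
        Nat.gcd (Fintype.card F - 1) (gam f) =
      ∑ f ∈ T, Nat.gcd (Fintype.card F - 1) (gam f) ^ 2 := by
  set N := Fintype.card F - 1 with hN
  have hNpos : 0 < N := by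
    have := Fintype.one_lt_card (α := F)
    omega
  have hcardL : Fintype.card (Fin n → Fˣ) = N ^ n := by
    rw [Fintype.card_fun, Fintype.card_units, Fintype.card_fin]
  -- way 2: for fixed `l`, substitute `f ↦ scT l f`
  have way2 : ∀ l : Fin n → Fˣ,
      ∑ f ∈ T, (if detT (scT l f) = 1 then Nat.gcd N (gam f) else 0) =
        ∑ f ∈ T.filter (fun f => detT f = 1), Nat.gcd N (gam f) := by
    intro l
    rw [Finset.sum_filter]
    refine Finset.sum_nbij' (scT l) (scT l⁻¹) ?_ ?_ ?_ ?_ ?_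
    · intro f hf
      rw [hT] at hf ⊢
      exact h_mem l f hf
    · intro f hf
      rw [hT] at hf ⊢
      exact h_mem l⁻¹ f hf
    · intro f hf
      rw [h_mul, inv_mul_cancel, h_one]
    · intro f hf
      rw [h_mul, mul_inv_cancel, h_one]
    · intro f hf
      rw [h_gam l f ((hT f).1 hf)]
  -- way 1: for fixed `f`, count the `l`
  have way1 : ∀ f ∈ T,
      (∑ l : Fin n → Fˣ, (if detT (scT l f) = 1 then Nat.gcd N (gam f) else 0)) * N =
        N ^ n * Nat.gcd N (gam f) ^ 2 := by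
    intro f hf
    have hf' := (hT f).1 hf
    have h1 : ∑ l : Fin n → Fˣ, (if detT (scT l f) = 1 then Nat.gcd N (gam f) else 0) =
        Nat.card {l : Fin n → Fˣ // ((chiT f l : Fˣ) : F) * detT f = 1} * Nat.gcd N (gam f) := by
      rw [← Finset.sum_filter, Finset.sum_const, smul_eq_mul, Nat.card_eq_fintype_card,
        Fintype.card_subtype]
      congr 2
      ext l
      simp only [Finset.mem_filter, Finset.mem_univ, true_and]
      rw [h_det l f hf']
    rw [h1, mul_right_comm, h_fib f hf', mul_assoc, sq]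
  -- the double sum
  have hS1 : (∑ l : Fin n → Fˣ, ∑ f ∈ T,
      (if detT (scT l f) = 1 then Nat.gcd N (gam f) else 0)) =
        N ^ n * ∑ f ∈ T.filter (fun f => detT f = 1), Nat.gcd N (gam f) := by
    rw [Finset.sum_congr rfl (fun l _ => way2 l), Finset.sum_const, Finset.card_univ, hcardL,
      smul_eq_mul]
  have hS2 : (∑ l : Fin n → Fˣ, ∑ f ∈ T,
      (if detT (scT l f) = 1 then Nat.gcd N (gam f) else 0)) * N =
        N ^ n * ∑ f ∈ T, Nat.gcd N (gam f) ^ 2 := by
    rw [Finset.sum_comm, Finset.sum_mul, Finset.sum_congr rfl way1, Finset.mul_sum]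
  rw [hS1] at hS2
  have hpow : 0 < N ^ n := pow_pos hNpos n
  apply Nat.eq_of_mul_eq_mul_left hpow
  rw [← hS2]
  ring

end pieces2

end Cfsg.Agent.Helper17.SLk
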