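import Mathlib
import Cfsg.Agent.Lib.Helper17.SLkDefs

/-!
S2479 farm-out (helper17), piece SLK-DIV: tuples all of whose block sizes are divisible by `e`.
-/

set_option autoImplicit false
set_option linter.unusedSectionVars false
set_option linter.unusedVariables false

open Polynomial

namespace Cfsg.Agent.Helper17.SLk

open Cfsg.Agent.Helper17.GLk

universe u

/-- the index map `j' ↦ e (j' + 1) - 1` -/
def slk_div_idx (n e : ℕ) (he : 1 ≤ e) (hen : e ∣ n) (j' : Fin (n / e)) : Fin n :=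
  ⟨e * ((j' : ℕ) + 1) - 1, by
    have h1 : (j' : ℕ) + 1 ≤ n / e := j'.2
    have h2 : e * ((j' : ℕ) + 1) ≤ e * (n / e) := Nat.mul_le_mul_left e h1
    rw [Nat.mul_div_cancel' hen] at h2
    have h3 : 0 < e * ((j' : ℕ) + 1) := Nat.mul_pos he (Nat.succ_pos _)
    omega⟩

theorem slk_div_idx_val (n e : ℕ) (he : 1 ≤ e) (hen : e ∣ n) (j' : Fin (n / e)) :
    ((slk_div_idx n e he hen j' : Fin n) : ℕ) + 1 = e * ((j' : ℕ) + 1) := by
  have h3 : 0 < e * ((j' : ℕ) + 1) := Nat.mul_pos he (Nat.succ_pos _)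
  show e * ((j' : ℕ) + 1) - 1 + 1 = e * ((j' : ℕ) + 1)
  omega

theorem slk_div_idx_inj (n e : ℕ) (he : 1 ≤ e) (hen : e ∣ n) :
    Function.Injective (slk_div_idx n e he hen) := by
  intro a b hab
  have h1 := slk_div_idx_val n e he hen a
  have h2 := slk_div_idx_val n e he hen b
  rw [hab, h2] at h1
  have h3 : (b : ℕ) + 1 = (a : ℕ) + 1 := Nat.eq_of_mul_eq_mul_left he h1
  apply Fin.ext
  omega

theorem slk_div_exists_idx (n e : ℕ) (he : 1 ≤ e) (hen : e ∣ n) (j : Fin n)
    (hj : e ∣ (j : ℕ) + 1) : ∃ j' : Fin (n / e), slk_div_idx n e he hen j' = j := by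
  obtain ⟨k, hk⟩ := hj
  have hk1 : 1 ≤ k := by
    rcases Nat.eq_zero_or_pos k with h0 | h0
    · rw [h0, mul_zero] at hk
      omega
    · exact h0
  have hk2 : k ≤ n / e := by
    rw [Nat.le_div_iff_mul_le he, mul_comm, ← hk]
    exact j.2
  refine ⟨⟨k - 1, by omega⟩, ?_⟩
  apply Fin.ext
  have h1 := slk_div_idx_val n e he hen ⟨k - 1, by omega⟩
  have h2 : (k - 1) + 1 = k := by omega
  simp only [h2] at h1
  omega

section pieces2
variable {F : Type u} [Field F]

theorem slk_div_dvd_of_ne_one {n : ℕ} (f : Fin n → F[X]) (j : Fin n) (h : f j ≠ 1) :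
    gam f ∣ (j : ℕ) + 1 := by
  classical
  unfold gam
  exact Finset.gcd_dvd (f := fun j : Fin n => (j : ℕ) + 1) (by simp [h])

theorem slk_div_gam_dvd {n : ℕ} (f : Fin n → F[X]) (hf : f ∈ Tup F n 1 n) : gam f ∣ n := by
  obtain ⟨h1, h2⟩ := hf
  have h4 : gam f ∣ ∑ i : Fin n, (1 + (i : ℕ)) * (f i).natDegree := by
    apply Finset.dvd_sum
    intro i _
    by_cases h : f i = 1
    · rw [h]
      simp
    · have h3 := slk_div_dvd_of_ne_one f i h
      rw [add_comm]
      exact Dvd.dvd.mul_right h3 _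
  exact dvd_trans h4 (dvd_of_eq h2)

theorem slk_div_eq_one {n e : ℕ} (f : Fin n → F[X]) (hef : e ∣ gam f) (j : Fin n)
    (hj : ¬ e ∣ (j : ℕ) + 1) : f j = 1 := by
  by_contra h
  exact hj (dvd_trans hef (slk_div_dvd_of_ne_one f j h))

theorem slk_div_sum (n e : ℕ) (he : 1 ≤ e) (hen : e ∣ n) (f : Fin n → F[X])
    (hf : f ∈ Tup F n 1 n) (hef : e ∣ gam f) :
    ∑ j' : Fin (n / e), (1 + (j' : ℕ)) * (f (slk_div_idx n e he hen j')).natDegree = n / e := by
  have key : ∑ j' : Fin (n / e),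
      (e * (1 + (j' : ℕ))) * (f (slk_div_idx n e he hen j')).natDegree =
        ∑ j : Fin n, (1 + (j : ℕ)) * (f j).natDegree := by
    refine Finset.sum_of_injOn (slk_div_idx n e he hen) ?_ ?_ ?_ ?_
    · exact (slk_div_idx_inj n e he hen).injOn
    · intro a _
      exact Finset.mem_coe.2 (Finset.mem_univ _)
    · intro j _ hj
      have h1 : f j = 1 := by
        apply slk_div_eq_one f hef j
        intro hdiv
        obtain ⟨j', hj'⟩ := slk_div_exists_idx n e he hen j hdiv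
        exact hj ⟨j', Finset.mem_coe.2 (Finset.mem_univ _), hj'⟩
      rw [h1]
      simp
    · intro j' _
      have h1 := slk_div_idx_val n e he hen j'
      rw [add_comm 1 ((slk_div_idx n e he hen j' : Fin n) : ℕ), h1, add_comm 1 (j' : ℕ)]
  rw [hf.2] at key
  symm
  apply Nat.div_eq_of_eq_mul_right he
  refine key.symm.trans ?_
  rw [Finset.mul_sum]
  apply Finset.sum_congr rfl
  intro j' _
  rw [mul_assoc]

/-- PIECE SLK-DIV. -/
theorem ncard_dvd_gam_le [Fintype F] (n e : ℕ) (hn : 1 ≤ n) (he : 1 ≤ e) :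
    {f | f ∈ Tup F n 1 n ∧ e ∣ gam f}.ncard ≤
      if e ∣ n then D (Fintype.card F) (n / e) 1 (n / e) else 0 := by
  split_ifs with hen
  · obtain ⟨hfin, hcard⟩ := Tup_finite_ncard_le (F := F) (n / e) 1 (n / e) le_rfl
    refine le_trans (Set.ncard_le_ncard_of_injOn
      (fun (f : Fin n → F[X]) (j' : Fin (n / e)) => f (slk_div_idx n e he hen j')) ?_ ?_ hfin) hcard
    · rintro f ⟨hf, hef⟩
      exact ⟨fun i => hf.1 _, slk_div_sum n e he hen f hf hef⟩
    · rintro f ⟨hf, hef⟩ g ⟨hg, heg⟩ hfg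
      funext j
      by_cases hj : e ∣ (j : ℕ) + 1
      · obtain ⟨j', hj'⟩ := slk_div_exists_idx n e he hen j hj
        have := congrFun hfg j'
        simp only [hj'] at this
        exact this
      · rw [slk_div_eq_one f hef j hj, slk_div_eq_one g heg j hj]
  · have hempty : {f : Fin n → F[X] | f ∈ Tup F n 1 n ∧ e ∣ gam f} = ∅ := by
      ext f
      simp only [Set.mem_ofPred_eq, Set.mem_empty_iff_false, iff_false, not_and]
      intro hf hef
      exact hen (dvd_trans hef (slk_div_gam_dvd f hf))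
    rw [hempty, Set.ncard_empty]

end pieces2

end Cfsg.Agent.Helper17.SLk
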