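import Mathlib
import Cfsg.Agent.Lib.Helper15.S52Defs
import Cfsg.Agent.Lib.Helper12.SL2Pow

/-!
# S3452, piece S52-GLNOROOT (helper19): a 2×2 matrix over a finite field whose characteristic
polynomial has no root satisfies `M^(q+1) = det M • 1`.
-/

set_option autoImplicit false
set_option linter.unusedVariables false

namespace Cfsg.Agent.Helper15.S52

open Cfsg.Agent.Helper2
open Matrix Polynomial

/-- PIECE S52-GLNOROOT -/
theorem gl_pow_noroot {F : Type*} [Field F] [Fintype F] (M : Matrix (Fin 2) (Fin 2) F)
    (hirr : ∀ l : F, l ^ 2 - M.trace * l + M.det ≠ 0) :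
    M ^ (Fintype.card F + 1) = M.det • (1 : Matrix (Fin 2) (Fin 2) F) := by
  classical
  set t := M.trace with ht
  set d := M.det with hd
  set f : F[X] := X ^ 2 - C t * X + C d with hf
  have hfdeg : f.natDegree = 2 := by
    rw [hf]
    compute_degree!
  have hfmonic : f.Monic := by
    rw [hf]
    monicity!
  have hf0 : f ≠ 0 := hfmonic.ne_zero
  have hfirr : Irreducible f := by
    apply Polynomial.irreducible_of_degree_le_three_of_not_isRoot
    · rw [hfdeg]; decide
    · intro x hx
      apply hirr x
      rw [IsRoot, hf] at hx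
      simpa using hx
  have hfact : Fact (Irreducible f) := ⟨hfirr⟩
  have hmf : Module.Finite F (AdjoinRoot f) := hfmonic.finite_adjoinRoot
  have hfin : Finite (AdjoinRoot f) := Module.finite_of_finite F
  set α : AdjoinRoot f := AdjoinRoot.root f with hα
  have hnorm : Algebra.norm F α = d := by
    have h1 := Algebra.PowerBasis.norm_gen_eq_coeff_zero_minpoly (AdjoinRoot.powerBasis hf0)
    rw [AdjoinRoot.powerBasis_gen, AdjoinRoot.powerBasis_dim, hfdeg, AdjoinRoot.minpoly_root hf0,
      hfmonic.leadingCoeff, inv_one, C_1, mul_one] at h1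
    rw [h1, hf]
    simp
  have hcardK : Nat.card (AdjoinRoot f) = Fintype.card F ^ 2 := by
    rw [Module.natCard_eq_pow_finrank (K := F), (AdjoinRoot.powerBasis hf0).finrank,
      AdjoinRoot.powerBasis_dim, hfdeg, Nat.card_eq_fintype_card]
  have hq1 : 1 < Fintype.card F := Fintype.one_lt_card
  have hexp : (Nat.card (AdjoinRoot f) - 1) / (Nat.card F - 1) = Fintype.card F + 1 := by
    rw [hcardK, Nat.card_eq_fintype_card]
    have : Fintype.card F ^ 2 - 1 = (Fintype.card F + 1) * (Fintype.card F - 1) := by
      obtain ⟨m, hm⟩ := Nat.exists_eq_add_of_le hq1.le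
      rw [hm]
      simp only [Nat.add_sub_cancel_left]
      have : (1 + m) ^ 2 = (1 + m + 1) * m + 1 := by ring
      rw [this, Nat.add_sub_cancel]
    rw [this, Nat.mul_div_cancel _ (by omega)]
  have hαpow : α ^ (Fintype.card F + 1) = AdjoinRoot.of f d := by
    have := FiniteField.algebraMap_norm_eq_pow (K := F) (K' := AdjoinRoot f) (x := α)
    rw [hnorm, hexp] at this
    exact this.symm
  have hdvd : f ∣ X ^ (Fintype.card F + 1) - C d := by
    rw [← AdjoinRoot.mk_eq_zero, map_sub, map_pow, AdjoinRoot.mk_X, AdjoinRoot.mk_C, ← hα, hαpow,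
      sub_self]
  obtain ⟨h, hh⟩ := hdvd
  have haev : aeval M f = 0 := by
    rw [hf]
    simp only [map_add, map_sub, map_mul, map_pow, aeval_X, aeval_C]
    rw [pow_two, Cfsg.Agent.Helper12.sq_eq2, Algebra.algebraMap_eq_smul_one,
      Algebra.algebraMap_eq_smul_one, smul_mul_assoc, one_mul]
    abel
  have := congrArg (aeval M) hh
  rw [map_mul, haev, zero_mul] at this
  simp only [map_sub, map_pow, aeval_X, aeval_C] at this
  rw [Algebra.algebraMap_eq_smul_one] at this
  exact sub_eq_zero.1 this

end Cfsg.Agent.Helper15.S52
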