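import Mathlib
import Cfsg.Agent.Lib.Helper15.S74Defs
import Cfsg.Agent.Lib.Helper27.S62NILP
import Cfsg.Agent.Lib.Helper25.S74RESTR
import Cfsg.Agent.Lib.Helper26.S74NXBFORM

/-!
# S2474 piece S74-NXB2 (helper19): core, with the statement of S74-EVENGEN as a hypothesis.
-/

set_option autoImplicit false
set_option linter.unusedSectionVars false
set_option linter.unusedVariables false

open Cfsg.Agent.Helper15.S62

namespace Cfsg.Agent.Helper15.S74

universe u

variable {F : Type u} [Field F]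

/-- a nonzero nilpotent endomorphism has a last nonzero power -/
theorem s74_nxb2_last_pow {W : Type u} [AddCommGroup W] [Module F W] (N : Module.End F W)
    (hN : N ≠ 0) (p : ℕ) (hp : N ^ p = 0) :
    ∃ j : ℕ, 1 ≤ j ∧ N ^ j ≠ 0 ∧ N ^ (j + 1) = 0 := by
  classical
  have hex : ∃ m, N ^ m = 0 := ⟨p, hp⟩
  set m := Nat.find hex with hm
  have hm0 : N ^ m = 0 := Nat.find_spec hex
  have hm2 : 2 ≤ m := by
    by_contra hlt
    have hcases : m = 0 ∨ m = 1 := by omega
    rcases hcases with h | h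
    · rw [h, pow_zero] at hm0
      apply hN
      rw [← mul_one N, hm0, mul_zero]
    · rw [h, pow_one] at hm0
      exact hN hm0
  refine ⟨m - 1, by omega, ?_, ?_⟩
  · exact Nat.find_min hex (by omega)
  · rw [show m - 1 + 1 = m by omega]
    exact hm0

theorem s74_nxb2_core [Fintype F] {W : Type u} [AddCommGroup W] [Module F W] [FiniteDimensional F W]
    (hEG : ∀ (U : Type u) [AddCommGroup U] [Module F U] [FiniteDimensional F U] [Nontrivial U]
      (y : Module.End F U) (t : ℕ), t.Prime → t ≠ 2 → (t : F) ≠ 0 →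
      ∑ i ∈ Finset.range t, y ^ i = 0 → ∀ β : LinearMap.BilinForm F U, LND β → Isom β y →
      ∃ d : ℕ, 1 ≤ d ∧ 2 * d ≤ Module.finrank F U ∧ t ∣ Fintype.card F ^ (2 * d) - 1)
    (p : ℕ) [Fact p.Prime] [CharP F p] (B : LinearMap.BilinForm F W) (hnd : LND B)
    (y u : Module.End F W) (hy : Isom B y) (hu : Isom B u) (hcomm : Commute y u) (t : ℕ)
    (ht : t.Prime) (ht2 : t ≠ 2) (htF : (t : F) ≠ 0)
    (hsum : ∑ i ∈ Finset.range t, y ^ i = 0) (hup : u ^ p = 1) (hu1 : u ≠ 1) :
    ∃ d : ℕ, 1 ≤ d ∧ 4 * d ≤ Module.finrank F W ∧ t ∣ Fintype.card F ^ (2 * d) - 1 := by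
  have hpp : p.Prime := Fact.out
  have hntW : Nontrivial W := by
    by_contra hnt
    rw [not_nontrivial_iff_subsingleton] at hnt
    apply hu1
    ext x
    exact Subsingleton.elim _ _
  have hchar : CharP (Module.End F W) p := s62_nilp_charP p
  have hNp : (u - 1) ^ p = 0 := by
    rw [sub_pow_char_of_commute p (Commute.one_right u), hup, one_pow, sub_self]
  have hN0 : u - 1 ≠ 0 := fun h => hu1 (sub_eq_zero.1 h)
  obtain ⟨j, hj, hNj, hNj1⟩ := s74_nxb2_last_pow (u - 1) hN0 p hNp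
  obtain ⟨hM, β, hβnd, hβinv, hMne, hMdim⟩ :=
    nxB_form B hnd y u hy hu hcomm p hpp.pos hup j hj hNj hNj1
  have hntM : Nontrivial (LinearMap.range ((u - 1) ^ j)) :=
    (Submodule.nontrivial_iff_ne_bot).2 hMne
  have hWtop : LinearMap.range ((u - 1) ^ j) ≤ Wpart y t := by
    intro x _
    rw [mem_Wpart, ← LinearMap.sum_apply, hsum, LinearMap.zero_apply]
  have hsumM : ∑ i ∈ Finset.range t, (y.restrict hM) ^ i = 0 :=
    restrict_geom_sum y _ hM t hWtop
  obtain ⟨d, hd1, hd2, hd3⟩ :=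
    hEG _ (y.restrict hM) t ht ht2 htF hsumM β hβnd hβinv
  exact ⟨d, hd1, by omega, hd3⟩

end Cfsg.Agent.Helper15.S74
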