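import Mathlib
import Cfsg.Agent.Lib.Helper15.S74Defs
import Cfsg.Agent.Lib.Helper27.S62NILP
import Cfsg.Agent.Lib.Helper19.S62COMPL
import Cfsg.Agent.Lib.Helper19.S74NXB2Core

/-!
# S2474 piece S74-NXB (helper19): core, with the statements of S74-EVENGEN and S74-WSMALL as hypotheses.
-/

set_option autoImplicit false
set_option linter.unusedSectionVars false
set_option linter.unusedVariables false

open Cfsg.Agent.Helper15.S62

namespace Cfsg.Agent.Helper15.S74

universe u

variable {F : Type u} [Field F]

/-- a unipotent endomorphism of a space of dimension at most one is trivial -/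
theorem s74_nxb_unip_small {C : Type u} [AddCommGroup C] [Module F C] [FiniteDimensional F C]
    (p : ℕ) [Fact p.Prime] [CharP F p] (hdim : Module.finrank F C ≤ 1) (u : Module.End F C)
    (hu : u ^ p = 1) : u = 1 := by
  rcases subsingleton_or_nontrivial C with hs | hnt
  · ext x
    exact Subsingleton.elim _ _
  · have hchar : CharP (Module.End F C) p := s62_nilp_charP p
    have h1 : (u - 1) ^ p = 0 := by
      rw [sub_pow_char_of_commute p (Commute.one_right u), hu, one_pow, sub_self]
    have h2 := Module.End.ker_pow_le_ker_pow_finrank (u - 1) p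
    rw [h1, LinearMap.ker_zero, top_le_iff] at h2
    have h3 : (u - 1) ^ Module.finrank F C = 0 := LinearMap.ker_eq_top.1 h2
    have h4 : (u - 1) ^ 1 = 0 := by
      have : 1 = Module.finrank F C + (1 - Module.finrank F C) := by omega
      rw [this, pow_add, h3, zero_mul]
    rw [pow_one] at h4
    exact sub_eq_zero.1 h4

theorem s74_nxb_restrict_pow_eq_one {V : Type u} [AddCommGroup V] [Module F V]
    (a : Module.End F V) (U : Submodule F V) (hU : Invar a U) (k : ℕ) (hk : a ^ k = 1) :
    (a.restrict hU) ^ k = 1 := by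
  rw [restrict_pow a U hU k]
  ext x
  rw [LinearMap.coe_restrict_apply, hk]
  rfl

theorem s74_nxb_core [Fintype F] {V : Type u} [AddCommGroup V] [Module F V] [FiniteDimensional F V]
    (hEG : ∀ (U : Type u) [AddCommGroup U] [Module F U] [FiniteDimensional F U] [Nontrivial U]
      (y : Module.End F U) (t : ℕ), t.Prime → t ≠ 2 → (t : F) ≠ 0 →
      ∑ i ∈ Finset.range t, y ^ i = 0 → ∀ β : LinearMap.BilinForm F U, LND β → Isom β y →
      ∃ d : ℕ, 1 ≤ d ∧ 2 * d ≤ Module.finrank F U ∧ t ∣ Fintype.card F ^ (2 * d) - 1)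
    (hWS : ∀ (B : LinearMap.BilinForm F V), LND B → ∀ y : Module.End F V, Isom B y → ∀ t : ℕ,
      t.Prime → t ≠ 2 → (t : F) ≠ 0 → y ^ t = 1 → y ≠ 1 →
      ∃ d : ℕ, 1 ≤ d ∧ 2 * d ≤ Module.finrank F (Wpart y t) ∧
        t ∣ Fintype.card F ^ (2 * d) - 1)
    (p : ℕ) [Fact p.Prime] [CharP F p] (B : LinearMap.BilinForm F V) (hnd : LND B)
    (y u : Module.End F V) (hy : Isom B y) (hu : Isom B u) (hcomm : Commute y u) (t : ℕ)
    (ht : t.Prime) (ht2 : t ≠ 2) (htp : t ≠ p) (hoy : orderOf y = t) (hou : orderOf u = p)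
    (n : ℕ) (hn : 2 ≤ n) (hdim : Module.finrank F V ≤ 2 * n + 1) :
    Small (Fintype.card F) t (n - 1) := by
  have hpp : p.Prime := Fact.out
  have htF : (t : F) ≠ 0 := by
    intro h
    rw [CharP.cast_eq_zero_iff F p t] at h
    rcases (Nat.dvd_prime ht).1 h with h1 | h1
    · exact hpp.one_lt.ne' h1
    · exact htp h1.symm
  have hyt : y ^ t = 1 := by rw [← hoy]; exact pow_orderOf_eq_one y
  have hup : u ^ p = 1 := by rw [← hou]; exact pow_orderOf_eq_one u
  have hy1 : y ≠ 1 := by
    intro h
    rw [h, orderOf_one] at hoy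
    exact ht.one_lt.ne hoy
  have hu1 : u ≠ 1 := by
    intro h
    rw [h, orderOf_one] at hou
    exact hpp.one_lt.ne hou
  have hcompl : IsCompl (Cpart y) (Wpart y t) := isCompl_Cpart_Wpart y t ht.pos htF hyt
  have hWu : Invar u (Wpart y t) := invar_wpart y u t hcomm.symm
  have hWy : Invar y (Wpart y t) := invar_wpart y y t (Commute.refl y)
  have hCu : Invar u (Cpart y) := invar_cpart y u hcomm.symm
  have hfr : Module.finrank F (Cpart y) + Module.finrank F (Wpart y t) = Module.finrank F V :=
    Submodule.finrank_add_eq_of_isCompl hcompl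
  by_cases hcase : u.restrict hWu = 1
  · -- `u` is trivial on `W`, so nontrivial on `C`, which then has dimension at least two
    have hCdim : 2 ≤ Module.finrank F (Cpart y) := by
      by_contra hlt
      have hC1 : u.restrict hCu = 1 :=
        s74_nxb_unip_small p (by omega) (u.restrict hCu)
          (s74_nxb_restrict_pow_eq_one u _ hCu p hup)
      apply hu1
      ext v
      obtain ⟨c, w, hv⟩ : ∃ (c : Cpart y) (w : Wpart y t), (c : V) + (w : V) = v := by
        have htop : v ∈ Cpart y ⊔ Wpart y t := by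
          rw [hcompl.sup_eq_top]
          exact Submodule.mem_top
        obtain ⟨c, hc, w, hw, hcw⟩ := Submodule.mem_sup.1 htop
        exact ⟨⟨c, hc⟩, ⟨w, hw⟩, hcw⟩
      have h1 : u (c : V) = c := by
        have := congrArg (fun f : Module.End F (Cpart y) => ((f c : Cpart y) : V)) hC1
        simpa [LinearMap.coe_restrict_apply] using this
      have h2 : u (w : V) = w := by
        have := congrArg (fun f : Module.End F (Wpart y t) => ((f w : Wpart y t) : V)) hcase
        simpa [LinearMap.coe_restrict_apply] using this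
      rw [← hv, map_add, h1, h2]
      rfl
    obtain ⟨d, hd1, hd2, hd3⟩ := hWS B hnd y hy t ht ht2 htF hyt hy1
    exact ⟨d, hd1, by omega, hd3⟩
  · -- `u` is nontrivial on `W`: NXB2 on `W`
    have hnd' : LND (B.restrict (Wpart y t)) := lnd_restrict_wpart B hnd y hy t ht.pos htF hyt
    have hy' : Isom (B.restrict (Wpart y t)) (y.restrict hWy) :=
      isom_restrict B y _ hWy hy
    have hu' : Isom (B.restrict (Wpart y t)) (u.restrict hWu) :=
      isom_restrict B u _ hWu hu
    have hcomm' : Commute (y.restrict hWy) (u.restrict hWu) :=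
      restrict_commute y u _ hWy hWu hcomm
    have hsum' : ∑ i ∈ Finset.range t, (y.restrict hWy) ^ i = 0 :=
      restrict_geom_sum y _ hWy t le_rfl
    have hup' : (u.restrict hWu) ^ p = 1 := s74_nxb_restrict_pow_eq_one u _ hWu p hup
    obtain ⟨d, hd1, hd2, hd3⟩ :=
      s74_nxb2_core hEG p (B.restrict (Wpart y t)) hnd' (y.restrict hWy) (u.restrict hWu) hy' hu' hcomm' t
        ht ht2 htF hsum' hup' hcase
    exact ⟨d, hd1, by omega, hd3⟩

end Cfsg.Agent.Helper15.S74
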