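import Mathlib
import Cfsg.Agent.Lib.Helper15.S74Defs
import Cfsg.Agent.Lib.Helper19.S74NXBCore
import Cfsg.Agent.Lib.Helper25.S74EVENGEN
import Cfsg.Agent.Lib.Helper12.S74WSMALL

/-!
# S2474 piece S74-NXB (helper19): the exact-signature wrapper of the core.
-/

set_option autoImplicit false
set_option linter.unusedSectionVars false
set_option linter.unusedVariables false

open Cfsg.Agent.Helper15.S62

namespace Cfsg.Agent.Helper15.S74

universe u

variable {F : Type u} [Field F]

theorem nxB [Fintype F] {V : Type u} [AddCommGroup V] [Module F V] [FiniteDimensional F V]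
    (p : ℕ) [Fact p.Prime] [CharP F p] (B : LinearMap.BilinForm F V) (hnd : LND B)
    (y u : Module.End F V) (hy : Isom B y) (hu : Isom B u) (hcomm : Commute y u) (t : ℕ)
    (ht : t.Prime) (ht2 : t ≠ 2) (htp : t ≠ p) (hoy : orderOf y = t) (hou : orderOf u = p)
    (n : ℕ) (hn : 2 ≤ n) (hdim : Module.finrank F V ≤ 2 * n + 1) :
    Small (Fintype.card F) t (n - 1) :=
  s74_nxb_core
    (fun U _ _ _ _ y t ht ht2 htF hsum β hnd hinv =>
      exists_small_of_form y t ht ht2 htF hsum β hnd hinv)
    (fun B hnd y hy t ht ht2 htF hyt hy1 => wpart_small B hnd y hy t ht ht2 htF hyt hy1)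
    p B hnd y u hy hu hcomm t ht ht2 htp hoy hou n hn hdim

end Cfsg.Agent.Helper15.S74
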