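import Mathlib
import Cfsg.Agent.Lib.Helper15.S64Defs

/-!
# S3664, piece S64-AFFB (helper19): an element of order `2 s` in an affine extension.
-/

set_option autoImplicit false
set_option linter.unusedSectionVars false
set_option linter.unusedVariables false

namespace Cfsg.Agent.Helper15.S64

open Matrix Cfsg.Agent.Helper2 Cfsg.Agent.Helper2.Sz

variable {F : Type*} [Field F] [Fintype F] (S : SzData F 1)
  (hF : Fintype.card F = 2 ^ (2 * 1 + 1))

/-- PIECE S64-AFFB -/
theorem aff_exists_two_mul {G W : Type*} [Group G] [AddCommGroup W] [DistribMulAction G W]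
    (hW : ∀ w : W, w + w = 0) {s : ℕ} (hs : s.Prime) (hs2 : s ≠ 2) {g : G} (hg : orderOf g = s)
    {w : W} (hw0 : w ≠ 0) (hw : g • w = w) : ∃ a : AffExt.Aff G W, orderOf a = 2 * s := by
  set t : AffExt.Aff G W := ⟨w, 1⟩ with ht
  have ht2 : t ^ 2 = 1 := AffExt.sq_eq_one_of_g_eq_one hW rfl
  have ht1 : t ≠ 1 := by
    intro h
    exact hw0 (congrArg AffExt.Aff.w h)
  have hto : orderOf t = 2 := by
    have : Fact (Nat.Prime 2) := ⟨Nat.prime_two⟩
    exact orderOf_eq_prime ht2 ht1
  have hgo : orderOf (AffExt.incl g : AffExt.Aff G W) = s := by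
    rw [orderOf_injective AffExt.incl AffExt.incl_injective g, hg]
  have hcomm : Commute t (AffExt.incl g : AffExt.Aff G W) := by
    show t * AffExt.incl g = AffExt.incl g * t
    apply AffExt.Aff.ext
    · rw [AffExt.mul_w, AffExt.mul_w]
      show w + (1 : G) • (0 : W) = 0 + g • w
      rw [smul_zero, add_zero, zero_add, hw]
    · rw [AffExt.mul_g, AffExt.mul_g]
      show (1 : G) * g = g * 1
      rw [one_mul, mul_one]
  have hcop : Nat.Coprime (orderOf t) (orderOf (AffExt.incl g : AffExt.Aff G W)) := by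
    rw [hto, hgo]
    exact (Nat.coprime_primes Nat.prime_two hs).2 (Ne.symm hs2)
  refine ⟨t * AffExt.incl g, ?_⟩
  rw [hcomm.orderOf_mul_eq_mul_orderOf_of_coprime hcop, hto, hgo]

end Cfsg.Agent.Helper15.S64
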