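import Mathlib
import Cfsg.Agent.Lib.Helper15.S64Defs
import Cfsg.Agent.Lib.Helper2.SzCard

/-!
# S3664, piece S64-FIX7 (helper19): an element of order 7 of `L` with a nonzero fixed matrix.
-/

set_option autoImplicit false
set_option linter.unusedSectionVars false
set_option linter.unusedVariables false

namespace Cfsg.Agent.Helper15.S64

open Matrix Cfsg.Agent.Helper2 Cfsg.Agent.Helper2.Sz

variable {F : Type*} [Field F] [Fintype F] (S : SzData F 1)
  (hF : Fintype.card F = 2 ^ (2 * 1 + 1))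

/-- PIECE S64-FIX7 -/
theorem exists_fix7 : ∃ x : Lgrp S hF, orderOf x = 7 ∧
    ∃ X : Matrix (Fin 4) (Fin 4) F, X ≠ 0 ∧ x • X = X := by
  classical
  have hcardu : Fintype.card Fˣ = 7 := by rw [Fintype.card_units, hF]; norm_num
  have hnt : Nontrivial Fˣ := Fintype.one_lt_card_iff_nontrivial.1 (by rw [hcardu]; norm_num)
  obtain ⟨u, hu⟩ := exists_ne (1 : Fˣ)
  have hu7 : u ^ 7 = 1 := by rw [← hcardu]; exact pow_card_eq_one
  have hu7' : (u : F) ^ 7 = 1 := by
    have := congrArg Units.val hu7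
    rwa [Units.val_pow_eq_pow_val, Units.val_one] at this
  have h7 : Fact (Nat.Prime 7) := ⟨by norm_num⟩
  have huo : orderOf u = 7 := orderOf_eq_prime hu7 hu
  have hsu : S.s (u : F) = (u : F) ^ 4 := by
    rw [S.hpow]; norm_num
  refine ⟨SemidirectProduct.inl (S.DgSz u), ?_,
    !![0, 1, 0, 0; 0, 0, 0, 0; 0, 0, 0, 0; 0, 0, 0, 0], ?_, ?_⟩
  · rw [orderOf_injective (SemidirectProduct.inl) SemidirectProduct.inl_injective,
      orderOf_injective S.DgSz S.DgSz_injective, huo]
  · intro h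
    have := congrFun (congrFun h 0) 1
    simp at this
  · rw [smul_def]
    have h1 : mat (SemidirectProduct.inl (S.DgSz u) : Lgrp S hF).left = Dm S.s u := rfl
    have h2 : (SemidirectProduct.inl (S.DgSz u) : Lgrp S hF).right = 1 := rfl
    rw [h1, h2]
    have h3 : (!![0, 1, 0, 0; 0, 0, 0, 0; 0, 0, 0, 0; 0, 0, 0, 0] :
        Matrix (Fin 4) (Fin 4) F).map (1 : F ≃+* F) =
        !![0, 1, 0, 0; 0, 0, 0, 0; 0, 0, 0, 0; 0, 0, 0, 0] := by
      ext i j; rfl
    rw [h3]
    have key : (S.s (u : F) * (u : F)) * ((u : F) ^ 2) = 1 := by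
      rw [hsu]
      calc (u : F) ^ 4 * (u : F) * (u : F) ^ 2 = (u : F) ^ 7 := by ring
        _ = 1 := hu7'
    ext i j
    fin_cases i <;> fin_cases j <;>
      simp [Dm, Matrix.mul_apply, Fin.sum_univ_four, sq_apply, key]

end Cfsg.Agent.Helper15.S64
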