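import Mathlib
import Cfsg.Agent.Lib.Helper19.BG16D

/-!
# Bender–Glauberman Theorem C: S1373 and S1364 from frozen statements (helper19)
-/

set_option autoImplicit false
set_option linter.unusedSectionVars false
set_option linter.style.haveILetI false

namespace Cfsg.Agent.Helper19.BG16

open Cfsg Subgroup
open scoped commutatorElement

variable {G : Type*} [Group G]

/-- the frozen statement of S1354 -/
def H1354 (G : Type*) [Group G] : Prop :=
  ∀ (M : Subgroup G), IsCoatom M → ∀ (K : Subgroup G), IsCyclic K →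
    Cfsg.IsPiHallOf (Cfsg.kappa M) K M →
    Cfsg.sigmaCore M ⊓ Subgroup.centralizer (K : Set G) ≠ ⊥ ∧
      (K ≠ ⊥ → ∀ k ∈ K, k ≠ 1 →
        M ⊓ Subgroup.centralizer ({k} : Set G) = K ⊔ (Cfsg.sigmaCore M ⊓ Subgroup.centralizer (K : Set G)))

/-- the frozen statement of S1366 -/
def H1366 (G : Type*) [Group G] : Prop :=
  ∀ (M : Subgroup G), IsCoatom M → ∀ (K U : Subgroup G), Cfsg.IsSigmaDecomposition M K U → K ≠ ⊥ →
    ∃! Mstar : Subgroup G, IsCoatom Mstar ∧ K = Cfsg.sigmaCore Mstar ⊓ Subgroup.centralizer ((Cfsg.sigmaCore M ⊓ Subgroup.centralizer (K : Set G)) : Set G) ∧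
        Cfsg.IsPiHallOf (Cfsg.kappa Mstar) (Cfsg.sigmaCore M ⊓ Subgroup.centralizer (K : Set G)) Mstar

/-- the frozen statement of S1369 -/
def H1369 (G : Type*) [Group G] : Prop :=
  ∀ (M : Subgroup G), IsCoatom M → ∀ (K U : Subgroup G), Cfsg.IsSigmaDecomposition M K U → K ≠ ⊥ →
    ∀ (Mstar : Subgroup G), IsCoatom Mstar →
    K = Cfsg.sigmaCore Mstar ⊓ Subgroup.centralizer ((Cfsg.sigmaCore M ⊓ Subgroup.centralizer (K : Set G)) : Set G) →
    Cfsg.IsPiHallOf (Cfsg.kappa Mstar) (Cfsg.sigmaCore M ⊓ Subgroup.centralizer (K : Set G)) Mstar →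
    (U ≠ ⊥ ∨ ∀ Ustar : Subgroup G, Cfsg.IsSigmaDecomposition Mstar (Cfsg.sigmaCore M ⊓ Subgroup.centralizer (K : Set G)) Ustar → Ustar ≠ ⊥) ∧
      ∀ H : Subgroup G, IsCoatom H → (Cfsg.kappa H).Nonempty →
        ∃ g : G, H = M.map (MulAut.conj g).toMonoidHom ∨ H = Mstar.map (MulAut.conj g).toMonoidHom

/-- the frozen statement of S1372 -/
def H1372 (G : Type*) [Group G] : Prop :=
  ∀ (M : Subgroup G), IsCoatom M → ∀ (K U : Subgroup G), Cfsg.IsSigmaDecomposition M K U → K ≠ ⊥ →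
    U ≠ ⊥ →
    (Nat.card K).Prime ∧ Cfsg.IsTISubset (Cfsg.fittingOf M : Set G) ∧ Cfsg.sigmaCore M ≤ Cfsg.fittingOf M

/-- the third conjunct of the frozen statement of S1431 -/
def H1431c (G : Type*) [Group G] : Prop :=
  ∀ (M : Subgroup G), IsCoatom M → ∀ (K : Subgroup G), Cfsg.IsPiHallOf (Cfsg.kappa M) K M → K ≠ ⊥ →
    (∀ (p : ℕ), p.Prime → p ∣ Nat.card ↥(Cfsg.sigmaCore M ⊓ Subgroup.centralizer (K : Set G)) → ∀ S : Sylow p ↥(Cfsg.sigmaCore M),
        Cfsg.InUniqueMaximal ((S : Subgroup ↥(Cfsg.sigmaCore M)).map (Cfsg.sigmaCore M).subtype) ∧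
        (S : Subgroup ↥(Cfsg.sigmaCore M)).map (Cfsg.sigmaCore M).subtype ≤ M ∧
        ¬ (S : Subgroup ↥(Cfsg.sigmaCore M)).map (Cfsg.sigmaCore M).subtype ≤ (Cfsg.sigmaCore M ⊓ Subgroup.centralizer (K : Set G)))

/-- BG Theorem C (= the statement of S1373): if `K ≠ 1` and `U = 1` then `K*` has prime order. -/
theorem theorem_C_prime [Finite G] (_hG : Cfsg.IsMinSimpleOddOrder G)
    (h51 : H1351 G) (h52 : H1352 G) (h54 : H1354 G) (h66 : H1366 G) (h69 : H1369 G) (h72 : H1372 G)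
    (M : Subgroup G) (hM : IsCoatom M) (K U : Subgroup G)
    (hKU : Cfsg.IsSigmaDecomposition M K U) (hK1 : K ≠ ⊥) (hU : U = ⊥) :
    (Nat.card ↥(Cfsg.sigmaCore M ⊓ Subgroup.centralizer (K : Set G))).Prime := by
  obtain ⟨Ms, ⟨hMs, hKst, hKstH⟩, -⟩ := h66 M hM K U hKU hK1
  obtain ⟨h1, -⟩ := h69 M hM K U hKU hK1 Ms hMs hKst hKstH
  have h2 : ∀ Ustar : Subgroup G, Cfsg.IsSigmaDecomposition Ms
      (Cfsg.sigmaCore M ⊓ Subgroup.centralizer (K : Set G)) Ustar → Ustar ≠ ⊥ := by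
    rcases h1 with h | h
    · exact absurd hU h
    · exact h
  have hcyc : IsCyclic ↥(Cfsg.sigmaCore M ⊓ Subgroup.centralizer (K : Set G)) :=
    (h51 Ms hMs).2 _ hKstH
  obtain ⟨⟨Us, hUs⟩, -⟩ := h52 Ms hMs _ hcyc hKstH
  have hne : Cfsg.sigmaCore M ⊓ Subgroup.centralizer (K : Set G) ≠ ⊥ :=
    (h54 M hM K hKU.cyclic hKU.hall).1
  exact (h72 Ms hMs _ Us hUs hne (h2 Us hUs)).1

/-! ### cyclic and commutative generalities -/

/-- in a finite cyclic group, two elements of the same prime order generate the same subgroup. -/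
theorem mem_zpowers_of_orderOf_eq_prime {C : Type*} [Group C] [Finite C] [IsCyclic C] {q : ℕ}
    (hq : q.Prime) {a b : C} (ha : orderOf a = q) (hb : orderOf b = q) : a ∈ zpowers b := by
  classical
  letI := Fintype.ofFinite C
  have hle : (Finset.univ.filter (fun x : C => x ^ q = 1)).card ≤ q :=
    IsCyclic.card_pow_eq_one_le hq.pos
  have hsub : (Finset.univ.filter (fun x : C => x ∈ zpowers b)) ⊆
      Finset.univ.filter (fun x : C => x ^ q = 1) := by
    intro x hx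
    simp only [Finset.mem_filter, Finset.mem_univ, true_and] at hx ⊢
    obtain ⟨k, rfl⟩ := hx
    rw [← zpow_natCast, ← zpow_mul, mul_comm, zpow_mul, zpow_natCast, ← hb, pow_orderOf_eq_one,
      one_zpow]
  have hcard : (Finset.univ.filter (fun x : C => x ∈ zpowers b)).card = q := by
    rw [← hb, ← Nat.card_zpowers, Nat.card_eq_fintype_card, Fintype.card_subtype]
  have heq := Finset.eq_of_subset_of_card_le hsub (by rw [hcard]; exact hle)
  have h1 : a ∈ Finset.univ.filter (fun x : C => x ^ q = 1) := by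
    simp only [Finset.mem_filter, Finset.mem_univ, true_and]
    rw [← ha, pow_orderOf_eq_one]
  rw [← heq] at h1
  simpa using h1

/-- in a cyclic `q`-subgroup, two subgroups meeting trivially cannot both be nontrivial. -/
theorem eq_bot_or_eq_bot_of_isCyclic [Finite G] {q : ℕ} [hq : Fact q.Prime] {S A B : Subgroup G}
    (hc : IsCyclic S) (hS : IsPGroup q S) (hA : A ≤ S) (hB : B ≤ S) (hAB : A ⊓ B = ⊥) :
    A = ⊥ ∨ B = ⊥ := by
  by_contra hcon
  push Not at hcon
  obtain ⟨hA1, hB1⟩ := hcon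
  have key : ∀ X : Subgroup G, X ≤ S → X ≠ ⊥ → ∃ x ∈ X, orderOf x = q := by
    intro X hX hX1
    have hXp : IsPGroup q X := hS.to_le hX
    have hd : q ∣ Nat.card X := by
      rcases hXp.card_eq_or_dvd with h | h
      · exact absurd (Subgroup.card_eq_one.mp h) hX1
      · exact h
    obtain ⟨x, hx⟩ := exists_prime_orderOf_dvd_card' q hd
    exact ⟨x, x.2, by rw [← hx, Subgroup.orderOf_coe]⟩
  obtain ⟨a, haA, hao⟩ := key A hA hA1
  obtain ⟨b, hbB, hbo⟩ := key B hB hB1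
  haveI := hc
  have h1 : (⟨a, hA haA⟩ : S) ∈ zpowers (⟨b, hB hbB⟩ : S) :=
    mem_zpowers_of_orderOf_eq_prime hq.out (by rw [← hao]; exact Subgroup.orderOf_mk a _)
      (by rw [← hbo]; exact Subgroup.orderOf_mk b _)
  obtain ⟨k, hk⟩ := h1
  have h2 : a = b ^ k := by
    have := congrArg Subtype.val hk
    simpa using this.symm
  have h3 : a ∈ A ⊓ B := ⟨haA, h2 ▸ B.zpow_mem hbB k⟩
  rw [hAB, Subgroup.mem_bot] at h3
  rw [h3, orderOf_one] at hao
  exact hq.out.one_lt.ne hao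

/-- in a finite commutative group a `q`-element lies in every Sylow `q`-subgroup. -/
theorem mem_sylow_of_comm {T : Type*} [Group T] [Finite T] (hT : ∀ a b : T, a * b = b * a)
    {q : ℕ} [hq : Fact q.Prime] (S : Sylow q T) (x : T) (hx : ∃ n : ℕ, x ^ q ^ n = 1) :
    x ∈ (S : Subgroup T) := by
  obtain ⟨n, hn⟩ := hx
  have hpg : IsPGroup q ↥(zpowers x) := by
    obtain ⟨j, -, hj⟩ := (Nat.dvd_prime_pow hq.out).mp (orderOf_dvd_of_pow_eq_one hn)
    apply IsPGroup.of_card (n := j)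
    rw [Nat.card_zpowers, hj]
  obtain ⟨Q, hQ⟩ := hpg.exists_le_sylow
  obtain ⟨g, hg⟩ := MulAction.exists_smul_eq T Q S
  have hxQ : x ∈ (Q : Subgroup T) := hQ (mem_zpowers x)
  have hmem : g * x * g⁻¹ ∈ (S : Subgroup T) := by
    rw [← hg, Sylow.smul_def, Sylow.pointwise_smul_def]
    have := Subgroup.smul_mem_pointwise_smul x (MulAut.conj g) (Q : Subgroup T) hxQ
    simpa [MulAut.smul_def] using this
  have : g * x * g⁻¹ = x := by rw [hT g x]; group
  rwa [this] at hmem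

/-- coprime action: `S = [S, K] C_S(K)`. -/
theorem le_commutator_sup_centralizer [Finite G] {S K : Subgroup G}
    (hn : K ≤ normalizer (S : Set G)) (hcop : (Nat.card K).Coprime (Nat.card S))
    (hsolv : Group.IsSolvable K ∨ Group.IsSolvable S) :
    S ≤ ⁅S, K⁆ ⊔ (S ⊓ centralizer (K : Set G)) := by
  have hDS : ⁅S, K⁆ ≤ S := Cfsg.Agent.Helper1.commutator_le_of_le_normalizer hn
  have hKD : K ≤ normalizer ((⁅S, K⁆ : Subgroup G) : Set G) :=
    Cfsg.Agent.Helper1.le_normalizer_commutator_right S K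
  have hcopD : (Nat.card K).Coprime (Nat.card ↥⁅S, K⁆) :=
    Nat.Coprime.coprime_dvd_right (Subgroup.card_dvd_of_le hDS) hcop
  have hsolvD : Group.IsSolvable K ∨ Group.IsSolvable ↥⁅S, K⁆ := by
    rcases hsolv with h | h
    · exact Or.inl h
    · right
      haveI := h
      exact Group.isSolvable_of_isSolvable_injective (Subgroup.inclusion_injective hDS)
  intro x hx
  obtain ⟨c, hc, hcD⟩ := Cfsg.Agent.Helper1.exists_centralizer_mem_coset ⁅S, K⁆ K hKD hcopD hsolvD x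
    (fun a ha => by
      have : x⁻¹ * a * x * a⁻¹ = ⁅x⁻¹, a⁆ := by rw [commutatorElement_def, inv_inv]
      rw [this]
      exact Subgroup.commutator_mem_commutator (S.inv_mem hx) ha)
  have hcS : c ∈ S := by
    have : c = x * (x⁻¹ * c) := by group
    rw [this]
    exact S.mul_mem hx (hDS hcD)
  have e : x = c * (x⁻¹ * c)⁻¹ := by group
  rw [e]
  have h1 : c ∈ S ⊓ centralizer (K : Set G) := ⟨hcS, hc⟩
  -- the join is a subgroup containing both factors
  have h2 : (x⁻¹ * c)⁻¹ ∈ ⁅S, K⁆ := Subgroup.inv_mem _ hcD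
  exact Subgroup.mul_mem _ (le_sup_right (a := ⁅S, K⁆) h1) (le_sup_left (b := S ⊓ centralizer (K : Set G)) h2)

/-- existence of a complement to a normal Hall `q`-subgroup `Q` of a subgroup `T` of `G`. -/
theorem exists_isComplIn_of_hall [Finite G] {q : ℕ} (hq : q.Prime) {Q T : Subgroup G}
    (hQT : Q ≤ T) (hn : T ≤ normalizer (Q : Set G)) (hQp : IsPGroup q Q)
    (hQi : ¬ q ∣ Q.relIndex T) : ∃ D : Subgroup G, Cfsg.IsComplIn Q D T := by
  haveI hQn' : (Q.subgroupOf T).Normal :=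
    (Subgroup.normal_subgroupOf_iff_le_normalizer hQT).mpr hn
  haveI : Fact q.Prime := ⟨hq⟩
  have hcop : (Nat.card ↥(Q.subgroupOf T)).Coprime (Q.subgroupOf T).index := by
    have h1 : Nat.card ↥(Q.subgroupOf T) = Nat.card Q :=
      Nat.card_congr (Subgroup.subgroupOfEquivOfLe hQT).toEquiv
    obtain ⟨n, hn⟩ := (IsPGroup.iff_card).mp hQp
    rw [h1, hn]
    apply Nat.Coprime.pow_left
    exact (Nat.Prime.coprime_iff_not_dvd hq).mpr hQi
  obtain ⟨D, hDc⟩ := Subgroup.exists_right_complement'_of_coprime hcop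
  have hDc' := isComplIn_of_isComplement' hDc
  rw [Subgroup.map_subgroupOf_eq_of_le hQT] at hDc'
  obtain ⟨h1, h2, h3, h4⟩ := hDc'
  refine ⟨D.map T.subtype, h2, h1, by rwa [inf_comm], ?_⟩
  intro m hm
  obtain ⟨a, ha, b, hb, hab⟩ := h4 m⁻¹ (T.inv_mem hm)
  refine ⟨b⁻¹, Q.inv_mem hb, a⁻¹, (D.map _).inv_mem ha, ?_⟩
  rw [← mul_inv_rev, ← hab, inv_inv]

/-- BG Theorem C (= the statement of S1364): `K*` is cyclic, nontrivial, inside `M_F`, and `M_F`
is not cyclic. -/
theorem theorem_C_cyclic [Finite G] (hG : Cfsg.IsMinSimpleOddOrder G)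
    (h51 : H1351 G) (h54 : H1354 G) (h66 : H1366 G) (h37 : H1437 G) (h31 : H1431c G)
    (M : Subgroup G) (hM : IsCoatom M) (K U : Subgroup G)
    (hKU : Cfsg.IsSigmaDecomposition M K U) (hK1 : K ≠ ⊥) :
    IsCyclic ↥(Cfsg.sigmaCore M ⊓ Subgroup.centralizer (K : Set G)) ∧
      (Cfsg.sigmaCore M ⊓ Subgroup.centralizer (K : Set G)) ≠ ⊥ ∧
      (Cfsg.sigmaCore M ⊓ Subgroup.centralizer (K : Set G)) ≤ Cfsg.fittingHallOf M ∧
      ¬ IsCyclic (Cfsg.fittingHallOf M) := by
  obtain ⟨Ms, ⟨hMs, hKst, hKstH⟩, -⟩ := h66 M hM K U hKU hK1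
  have hcyc : IsCyclic ↥(Cfsg.sigmaCore M ⊓ Subgroup.centralizer (K : Set G)) :=
    (h51 Ms hMs).2 _ hKstH
  have hne : Cfsg.sigmaCore M ⊓ Subgroup.centralizer (K : Set G) ≠ ⊥ :=
    (h54 M hM K hKU.cyclic hKU.hall).1
  have hKM : K ≤ M := hKU.hall.1
  have hSM : Cfsg.sigmaCore M ≤ M := sigmaCore_le M
  refine ⟨hcyc, hne, ?_⟩
  by_cases hFσ : Cfsg.fittingHallOf M = Cfsg.sigmaCore M
  · refine ⟨hFσ ▸ inf_le_left, ?_⟩
    intro hc
    rw [hFσ] at hc
    -- a prime `q` dividing `#K*`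
    have hcard1 : Nat.card ↥(Cfsg.sigmaCore M ⊓ Subgroup.centralizer (K : Set G)) ≠ 1 :=
      fun h => hne (Subgroup.card_eq_one.mp h)
    obtain ⟨q, hq, hqd⟩ := Nat.exists_prime_and_dvd hcard1
    haveI : Fact q.Prime := ⟨hq⟩
    obtain ⟨S⟩ : Nonempty (Sylow q ↥(Cfsg.sigmaCore M)) := inferInstance
    obtain ⟨-, -, hnot⟩ := h31 M hM K hKU.hall hK1 q hq hqd S
    apply hnot
    set SG := (S : Subgroup ↥(Cfsg.sigmaCore M)).map (Cfsg.sigmaCore M).subtype with hSG
    have hSGle : SG ≤ Cfsg.sigmaCore M := Subgroup.map_subtype_le _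
    have hTc : ∀ a b : ↥(Cfsg.sigmaCore M), a * b = b * a := by
      haveI := hc
      have hcm : IsMulCommutative ↥(Cfsg.sigmaCore M) := IsCyclic.isMulCommutative
      intro a b
      exact Subtype.ext
        (Cfsg.Agent.Helper7.MaxComp.comm_of_isMulCommutative hcm a a.2 b b.2)
    -- membership criterion for `SG`
    have hmemSG : ∀ x : G, x ∈ Cfsg.sigmaCore M → (∃ n : ℕ, x ^ q ^ n = 1) → x ∈ SG := by
      intro x hx ⟨n, hn⟩
      have := mem_sylow_of_comm hTc S ⟨x, hx⟩ ⟨n, Subtype.ext (by simpa using hn)⟩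
      exact ⟨⟨x, hx⟩, this, rfl⟩
    have hSGq : IsPGroup q ↥SG := S.2.map _
    -- `K` normalizes `SG`
    have hKn : K ≤ normalizer (SG : Set G) := by
      apply Cfsg.Agent.Helper1.le_normalizer_of_forall_conj_mem
      intro k hk x hx
      have hxσ : x ∈ Cfsg.sigmaCore M := hSGle hx
      have h1 : k * x * k⁻¹ ∈ Cfsg.sigmaCore M := conj_mem_sigmaCore (hKM hk) hxσ
      obtain ⟨n, hn⟩ := hSGq ⟨x, hx⟩
      have hn' : x ^ q ^ n = 1 := by
        have := congrArg Subtype.val hn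
        simpa using this
      refine hmemSG _ h1 ⟨n, ?_⟩
      rw [conj_pow, hn']
      group
    have hcop : (Nat.card K).Coprime (Nat.card SG) := by
      apply Cfsg.Agent.Helper7.BG12.coprime_of_forall_prime
      intro p hp hpK hpS
      have h1 : p ∈ Cfsg.sigma M :=
        Cfsg.Agent.Lead.BGSig.isPiNum_card_sigmaCore M p hp
          (hpS.trans (Subgroup.card_dvd_of_le hSGle))
      exact (hKU.hall.2.1 p hp hpK).2.2.1 h1
    have hKsolv : Group.IsSolvable K := by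
      haveI := hKU.cyclic
      letI := IsCyclic.commGroup (α := K)
      infer_instance
    have hSGc : ∀ a ∈ SG, ∀ b ∈ SG, a * b = b * a := by
      intro a ha b hb
      have := hTc ⟨a, hSGle ha⟩ ⟨b, hSGle hb⟩
      exact congrArg Subtype.val this
    haveI : IsMulCommutative ↥SG := Cfsg.Agent.Helper7.MaxComp.isMulCommutative_of_comm hSGc
    have hdisj := Cfsg.Agent.Helper1.commutator_inf_centralizer_eq_bot K SG hKn hcop
    have hsup := le_commutator_sup_centralizer hKn hcop (Or.inl hKsolv)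
    have hSGcyc : IsCyclic ↥SG := by
      haveI := hc
      have : IsCyclic ↥(S : Subgroup ↥(Cfsg.sigmaCore M)) := inferInstance
      exact isCyclic_of_surjective ((Cfsg.sigmaCore M).subtype.subgroupMap (S : Subgroup ↥(Cfsg.sigmaCore M)))
        ((Cfsg.sigmaCore M).subtype.subgroupMap_surjective _)
    have hAB : ⁅SG, K⁆ ⊓ (SG ⊓ centralizer (K : Set G)) = ⊥ := by
      rw [eq_bot_iff, ← hdisj]
      exact fun x hx => ⟨hx.1, hx.2.2⟩
    have hDle : ⁅SG, K⁆ ≤ SG := Cfsg.Agent.Helper1.commutator_le_of_le_normalizer hKn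
    -- `SG ∩ C(K) ≠ 1`
    have hB1 : SG ⊓ centralizer (K : Set G) ≠ ⊥ := by
      obtain ⟨y, hy⟩ := exists_prime_orderOf_dvd_card' q hqd
      have hyσ : (y : G) ∈ Cfsg.sigmaCore M := (Subgroup.mem_inf.mp y.2).1
      have hyK : (y : G) ∈ centralizer (K : Set G) := (Subgroup.mem_inf.mp y.2).2
      have hyo : orderOf (y : G) = q := by rw [Subgroup.orderOf_coe, hy]
      have hyS : (y : G) ∈ SG := hmemSG _ hyσ ⟨1, by rw [pow_one, ← hyo, pow_orderOf_eq_one]⟩
      intro hbot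
      have : (y : G) ∈ SG ⊓ centralizer (K : Set G) := ⟨hyS, hyK⟩
      rw [hbot, Subgroup.mem_bot] at this
      rw [this, orderOf_one] at hyo
      exact hq.one_lt.ne hyo
    rcases eq_bot_or_eq_bot_of_isCyclic hSGcyc hSGq hDle inf_le_left hAB with h | h
    · have h2 : SG ≤ centralizer (K : Set G) :=
        (Subgroup.commutator_eq_bot_iff_le_centralizer).mp h
      exact le_inf hSGle h2
    · exact absurd h hB1
  · obtain ⟨-, -, hpK, hqp, -, -, Q, hQF, hQn, hQp, hQi, hD⟩ := h37 M hM K U hKU hFσ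
    set q := Nat.card ↥(Cfsg.sigmaCore M ⊓ Subgroup.centralizer (K : Set G)) with hq
    haveI : Fact q.Prime := ⟨hqp⟩
    have hQσ : Q ≤ Cfsg.sigmaCore M := hQF.trans (fittingHallOf_le_sigmaCore hG hM)
    have hKsQ : Cfsg.sigmaCore M ⊓ Subgroup.centralizer (K : Set G) ≤ Q := by
      haveI hQn' : (Q.subgroupOf (Cfsg.sigmaCore M)).Normal :=
        (Subgroup.normal_subgroupOf_iff_le_normalizer hQσ).mpr (hSM.trans hQn)
      have hcop : (Nat.card ↥((Cfsg.sigmaCore M ⊓ Subgroup.centralizer (K : Set G)).subgroupOf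
          (Cfsg.sigmaCore M))).Coprime (Q.subgroupOf (Cfsg.sigmaCore M)).index := by
        rw [Nat.card_congr (Subgroup.subgroupOfEquivOfLe inf_le_left).toEquiv]
        exact (Nat.Prime.coprime_iff_not_dvd hqp).mpr hQi
      have hle := Cfsg.Agent.Helper7.BG12.le_of_coprime_card_index
        (Q.subgroupOf (Cfsg.sigmaCore M)) _ hcop
      intro y hy
      have : (⟨y, (Subgroup.mem_inf.mp hy).1⟩ : ↥(Cfsg.sigmaCore M)) ∈
          Q.subgroupOf (Cfsg.sigmaCore M) := hle hy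
      exact this
    refine ⟨hKsQ.trans hQF, ?_⟩
    intro hc
    -- `Q` is cyclic
    have hQc : IsCyclic ↥Q := by
      haveI := hc
      have h1 : IsCyclic ↥(Q.subgroupOf (Cfsg.fittingHallOf M)) := inferInstance
      exact isCyclic_of_surjective (Subgroup.subgroupOfEquivOfLe hQF).toMonoidHom
        (Subgroup.subgroupOfEquivOfLe hQF).surjective
    obtain ⟨D, hDc⟩ := exists_isComplIn_of_hall hqp hQσ (hSM.trans hQn) hQp hQi
    obtain ⟨-, -, -, hcard, hpow, -⟩ := hD D hDc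
    obtain ⟨g, hg⟩ := hQc.exists_generator
    have hgq : (g : G) ^ q ∈ Q ⊓ Subgroup.centralizer (D : Set G) := (hpow g g.2 g g.2).1
    have hn : Nat.card Q = orderOf (g : G) := by
      rw [Subgroup.orderOf_coe]
      exact (orderOf_eq_card_of_forall_mem_zpowers hg).symm
    have h1 : orderOf ((g : G) ^ q) ∣ Nat.card ↥(Q ⊓ Subgroup.centralizer (D : Set G)) :=
      Subgroup.orderOf_dvd_natCard _ hgq
    have h2 : orderOf ((g : G) ^ q) * Nat.gcd (orderOf (g : G)) q = orderOf (g : G) := by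
      rw [orderOf_pow]
      exact Nat.div_mul_cancel (Nat.gcd_dvd_left _ _)
    have hc0 : 0 < Nat.card ↥(Q ⊓ Subgroup.centralizer (D : Set G)) := Nat.card_pos
    have h3 : orderOf (g : G) ≤ Nat.card ↥(Q ⊓ Subgroup.centralizer (D : Set G)) * q := by
      rw [← h2]
      exact Nat.mul_le_mul (Nat.le_of_dvd hc0 h1) (Nat.le_of_dvd hqp.pos (Nat.gcd_dvd_right _ _))
    rw [← hn, hcard] at h3
    have h4 : q ^ Nat.card K ≤ q ^ 1 := by
      rw [pow_one]
      exact Nat.le_of_mul_le_mul_left h3 hc0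
    have h5 : Nat.card K ≤ 1 := (Nat.pow_le_pow_iff_right hqp.one_lt).mp h4
    exact absurd hpK.one_lt (not_lt.mpr h5)

end Cfsg.Agent.Helper19.BG16
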