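import Mathlib

/-!
# Zassenhaus linearization, part A: a fixed point lemma (helper19)

If every non-identity element of a finite group `G` acting on a finite set has exactly one fixed
point, then `G` has a global fixed point.
-/

set_option autoImplicit false
set_option linter.unusedSectionVars false
set_option linter.unusedVariables false
set_option linter.style.haveILetI false
set_option linter.unusedSimpArgs false

namespace Cfsg.Agent.Helper19.ZassLin

open MulAction

theorem card_orbit_mul_card_stab {G Ω : Type*} [Group G] [MulAction G Ω] (ω : Ω) :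
    Nat.card (orbit G ω) * Nat.card (stabilizer G ω) = Nat.card G := by
  rw [← Nat.card_prod]
  exact Nat.card_congr (orbitProdStabilizerEquivGroup G ω)

theorem exists_fixed_point {G Ω : Type*} [Group G] [Finite G] [Finite Ω] [MulAction G Ω]
    [Nontrivial G] (hu : ∀ g : G, g ≠ 1 → ∃! ω : Ω, g • ω = ω) :
    ∃ ω : Ω, ∀ g : G, g • ω = ω := by
  classical
  haveI := Fintype.ofFinite G
  haveI := Fintype.ofFinite Ω
  by_contra hno
  push Not at hno
  -- the weights
  obtain ⟨w, hw⟩ : ∃ w : Ω → ℕ, ∀ ω, w ω = Nat.card (stabilizer G ω) - 1 := ⟨_, fun _ => rfl⟩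
  have hwf : ∀ ω, w ω = ((Finset.univ.erase (1 : G)).filter (fun g => g • ω = ω)).card := by
    intro ω
    have h1 : (Finset.univ.erase (1 : G)).filter (fun g => g • ω = ω)
        = (Finset.univ.filter (fun g : G => g • ω = ω)).erase 1 := by
      ext g
      simp only [Finset.mem_filter, Finset.mem_erase, Finset.mem_univ, true_and, and_true]
    rw [h1, Finset.card_erase_of_mem (by simp), hw]
    congr 1
    rw [Nat.card_eq_fintype_card, Fintype.card_subtype]
    rfl
  have htot : ∑ ω, w ω = Nat.card G - 1 := by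
    have h := Finset.sum_card_bipartiteAbove_eq_sum_card_bipartiteBelow
      (s := (Finset.univ : Finset Ω)) (t := (Finset.univ.erase (1 : G)))
      (fun (ω : Ω) (g : G) => g • ω = ω)
    have hl : ∑ a ∈ (Finset.univ : Finset Ω),
        ((Finset.univ.erase (1 : G)).bipartiteAbove (fun (ω : Ω) (g : G) => g • ω = ω) a).card
        = ∑ ω, w ω := by
      apply Finset.sum_congr rfl
      intro ω _
      rw [hwf ω]
      rfl
    have hr : ∑ b ∈ (Finset.univ.erase (1 : G)),
        ((Finset.univ : Finset Ω).bipartiteBelow (fun (ω : Ω) (g : G) => g • ω = ω) b).card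
        = Nat.card G - 1 := by
      have : ∀ b ∈ (Finset.univ.erase (1 : G)),
          ((Finset.univ : Finset Ω).bipartiteBelow (fun (ω : Ω) (g : G) => g • ω = ω) b).card
            = 1 := by
        intro b hb
        have hb1 : b ≠ 1 := (Finset.mem_erase.mp hb).1
        obtain ⟨ω, hω, huniq⟩ := hu b hb1
        rw [Finset.card_eq_one]
        refine ⟨ω, ?_⟩
        ext ω'
        simp only [Finset.bipartiteBelow, Finset.mem_filter, Finset.mem_univ, true_and,
          Finset.mem_singleton]
        constructor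
        · intro h; exact huniq ω' h
        · intro h; rw [h]; exact hω
      rw [Finset.sum_congr rfl this, Finset.sum_const, smul_eq_mul, mul_one,
        Finset.card_erase_of_mem (Finset.mem_univ _), Finset.card_univ, Nat.card_eq_fintype_card]
    rw [← hl, h, hr]
  -- weights are constant on orbits
  have hconst : ∀ ω ω', ω' ∈ orbit G ω → w ω' = w ω := by
    intro ω ω' hmem
    obtain ⟨g, rfl⟩ := hmem
    rw [hw, hw]
    congr 1
    exact (Nat.card_congr (stabilizerEquivStabilizer (G := G) (g := g) (a := ω) rfl).toEquiv).symm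
  have horb : ∀ ω, ∑ ω' ∈ (orbit G ω).toFinset, w ω'
      = Nat.card G - Nat.card (orbit G ω) := by
    intro ω
    have h1 : ∑ ω' ∈ (orbit G ω).toFinset, w ω' = ∑ ω' ∈ (orbit G ω).toFinset, w ω := by
      apply Finset.sum_congr rfl
      intro ω' hω'
      exact hconst ω ω' (Set.mem_toFinset.mp hω')
    have h2 := card_orbit_mul_card_stab (G := G) ω
    rw [h1, Finset.sum_const, smul_eq_mul, Set.toFinset_card, ← Nat.card_eq_fintype_card, hw,
      ← h2, Nat.mul_sub, mul_one]
  -- sizes
  have hsize : ∀ ω : Ω, 2 ≤ Nat.card (orbit G ω) := by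
    intro ω
    obtain ⟨g, hg⟩ := hno ω
    have : Nontrivial (orbit G ω) :=
      ⟨⟨(⟨ω, mem_orbit_self ω⟩ : orbit G ω), (⟨g • ω, mem_orbit ω g⟩ : orbit G ω),
        fun h => hg (congrArg Subtype.val h).symm⟩⟩
    exact Finite.one_lt_card
  have hstab : ∀ ω : Ω, 1 ≤ w ω → 2 * Nat.card (orbit G ω) ≤ Nat.card G := by
    intro ω h1
    rw [hw] at h1
    have := card_orbit_mul_card_stab (G := G) ω
    have h2 : 2 ≤ Nat.card (stabilizer G ω) := by omega
    calc 2 * Nat.card (orbit G ω) = Nat.card (orbit G ω) * 2 := by ring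
      _ ≤ Nat.card (orbit G ω) * Nat.card (stabilizer G ω) := Nat.mul_le_mul_left _ h2
      _ = Nat.card G := this
  have hG2 : 2 ≤ Nat.card G := Finite.one_lt_card
  -- first orbit
  obtain ⟨g₀, hg₀⟩ := exists_ne (1 : G)
  obtain ⟨ω₀, hω₀, -⟩ := hu g₀ hg₀
  have hw0 : 1 ≤ w ω₀ := by
    rw [hwf]
    apply Finset.card_pos.mpr
    exact ⟨g₀, by simp [hg₀, hω₀]⟩
  have hex : ∃ ω₁, ω₁ ∉ (orbit G ω₀).toFinset ∧ 1 ≤ w ω₁ := by
    by_contra hcon
    push Not at hcon
    have : ∑ ω' ∈ (orbit G ω₀).toFinset, w ω' = ∑ ω, w ω := by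
      apply Finset.sum_subset (Finset.subset_univ _)
      intro ω' _ hω'
      have := hcon ω' hω'
      omega
    rw [horb, htot] at this
    have := hsize ω₀
    have := hstab ω₀ hw0
    omega
  obtain ⟨ω₁, hω₁, hw1⟩ := hex
  have hdisj : Disjoint (orbit G ω₀).toFinset (orbit G ω₁).toFinset := by
    rw [Finset.disjoint_left]
    intro ω' h0 h1
    apply hω₁
    rw [Set.mem_toFinset] at h0 h1 ⊢
    have e0 : orbit G ω' = orbit G ω₀ := orbit_eq_iff.mpr h0
    have e1 : orbit G ω' = orbit G ω₁ := orbit_eq_iff.mpr h1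
    rw [← e0, e1]
    exact mem_orbit_self ω₁
  have hle : ∑ ω' ∈ (orbit G ω₀).toFinset ∪ (orbit G ω₁).toFinset, w ω' ≤ ∑ ω, w ω :=
    Finset.sum_le_sum_of_subset (Finset.subset_univ _)
  rw [Finset.sum_union hdisj, horb, horb, htot] at hle
  have := hstab ω₀ hw0
  have := hstab ω₁ hw1
  have := hsize ω₀
  have := hsize ω₁
  omega

end Cfsg.Agent.Helper19.ZassLin
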