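import Mathlib

/-!
# Zassenhaus linearization, part B: from an abelian group of prime exponent to a module (helper19)
-/

set_option autoImplicit false
set_option linter.unusedSectionVars false
set_option linter.unusedVariables false
set_option linter.style.haveILetI false
set_option linter.unusedSimpArgs false

namespace Cfsg.Agent.Helper19.ZassLin

universe u

theorem linear_of_comm {G : Type*} [Group G] [Finite G] {A : Type u} [CommGroup A] [Finite A]
    [Nontrivial A] (r : ℕ) [hr : Fact r.Prime] (hexp : ∀ a : A, a ^ r = 1) (act : G → A → A)
    (act_one : ∀ a, act 1 a = a) (act_mul : ∀ g h a, act (g * h) a = act g (act h a))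
    (act_hom : ∀ g a b, act g (a * b) = act g a * act g b)
    (hfpf : ∀ g : G, g ≠ 1 → ∀ a : A, act g a = a → a = 1) :
    ∃ (V : Type u) (_ : AddCommGroup V) (_ : Module (ZMod r) V) (_ : Finite V)
      (ι : G →* (Module.End (ZMod r) V)ˣ), Function.Injective ι ∧
      (∀ g h : G, g ≠ h → IsUnit (((ι g : (Module.End (ZMod r) V)ˣ) : Module.End (ZMod r) V)
        - ((ι h : (Module.End (ZMod r) V)ˣ) : Module.End (ZMod r) V))) ∧
      ¬ r ∣ Nat.card G := by
  have hx0 : ∀ x : Additive A, r • x = 0 := fun x => by
    apply Additive.toMul.injective
    rw [toMul_nsmul, hexp, toMul_zero]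
  haveI instM : Module (ZMod r) (Additive A) := AddCommGroup.zmodModule hx0
  have act_id : ∀ g, act g 1 = 1 := by
    intro g
    have h := act_hom g 1 1
    rw [mul_one] at h
    exact (mul_eq_left.mp h.symm)
  obtain ⟨addHom, haddHom⟩ : ∃ f : G → (Additive A →+ Additive A),
      ∀ (g : G) (x : Additive A), f g x = Additive.ofMul (act g (Additive.toMul x)) := by
    refine ⟨fun g =>
      { toFun := fun x => Additive.ofMul (act g (Additive.toMul x))
        map_zero' := ?_
        map_add' := ?_ }, fun _ _ => rfl⟩
    · show Additive.ofMul (act g (Additive.toMul 0)) = 0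
      rw [toMul_zero, act_id, ofMul_one]
    · intro x y
      show Additive.ofMul (act g (Additive.toMul (x + y)))
        = Additive.ofMul (act g (Additive.toMul x)) + Additive.ofMul (act g (Additive.toMul y))
      rw [toMul_add, act_hom, ofMul_mul]
  obtain ⟨ρ, ρ_apply⟩ : ∃ ρ : G →* Module.End (ZMod r) (Additive A),
      ∀ (g : G) (x : Additive A), (ρ g) x = Additive.ofMul (act g (Additive.toMul x)) := by
    refine ⟨{ toFun := fun g => (addHom g).toZModLinearMap r
              map_one' := ?_
              map_mul' := ?_ }, fun g x => haddHom g x⟩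
    · apply LinearMap.ext
      intro x
      refine (haddHom 1 x).trans ?_
      rw [act_one]
      rfl
    · intro g h
      apply LinearMap.ext
      intro x
      refine (haddHom (g * h) x).trans ?_
      rw [act_mul]
      have e : ((addHom g).toZModLinearMap r * (addHom h).toZModLinearMap r) x
          = addHom g (addHom h x) := rfl
      rw [e, haddHom h x, haddHom g]
      rfl
  haveI : Nontrivial (Additive A) := inferInstanceAs (Nontrivial A)
  haveI : Nontrivial (Module.End (ZMod r) (Additive A)) := by
    obtain ⟨x, hx⟩ := exists_ne (0 : Additive A)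
    refine ⟨⟨1, 0, fun h => hx ?_⟩⟩
    have := congrArg (fun f : Module.End (ZMod r) (Additive A) => f x) h
    simpa using this
  have hunit : ∀ g h : G, g ≠ h → IsUnit (ρ g - ρ h) := by
    intro g h hgh
    rw [Module.End.isUnit_iff]
    have hinj : Function.Injective (ρ g - ρ h) := by
      rw [injective_iff_map_eq_zero]
      intro z hz
      rw [LinearMap.sub_apply, sub_eq_zero, ρ_apply, ρ_apply] at hz
      have hz' : act g (Additive.toMul z) = act h (Additive.toMul z) := Additive.ofMul.injective hz
      have h1 : act (h⁻¹ * g) (Additive.toMul z) = Additive.toMul z := by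
        rw [act_mul, hz', ← act_mul, inv_mul_cancel, act_one]
      have hne : h⁻¹ * g ≠ 1 := by
        intro e
        apply hgh
        rw [inv_mul_eq_one] at e
        exact e.symm
      have := hfpf _ hne _ h1
      apply Additive.toMul.injective
      rw [this, toMul_zero]
    exact ⟨hinj, Finite.injective_iff_surjective.mp hinj⟩
  refine ⟨Additive A, inferInstance, inferInstance, inferInstanceAs (Finite A), ρ.toHomUnits, ?_, ?_, ?_⟩
  · intro g h hgh
    by_contra hne
    have h1 := hunit g h hne
    have h2 : ρ g = ρ h := by
      have := congrArg (fun u : (Module.End (ZMod r) (Additive A))ˣ =>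
        (u : Module.End (ZMod r) (Additive A))) hgh
      simpa only [MonoidHom.coe_toHomUnits] using this
    rw [h2, sub_self] at h1
    exact not_isUnit_zero h1
  · intro g h hgh
    rw [MonoidHom.coe_toHomUnits, MonoidHom.coe_toHomUnits]
    exact hunit g h hgh
  · intro hdvd
    obtain ⟨g, hg⟩ := exists_prime_orderOf_dvd_card' r hdvd
    have hg1 : g ≠ 1 := by
      intro e
      rw [e, orderOf_one] at hg
      exact hr.out.one_lt.ne hg
    have h1 := hunit g 1 hg1
    rw [map_one] at h1
    haveI : CharP (Module.End (ZMod r) (Additive A)) r :=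
      charP_of_injective_algebraMap
        (algebraMap (ZMod r) (Module.End (ZMod r) (Additive A))).injective r
    have h2 : (ρ g - 1) ^ r = 0 := by
      have hgr : g ^ r = 1 := by
        have := pow_orderOf_eq_one g
        rwa [hg] at this
      rw [sub_pow_char_of_commute r (Commute.one_right _), one_pow, ← map_pow, hgr, map_one,
        sub_self]
    have h3 : IsUnit ((ρ g - 1) ^ r) := h1.pow r
    rw [h2] at h3
    exact not_isUnit_zero h3

end Cfsg.Agent.Helper19.ZassLin
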