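import Mathlib
import Cfsg.Agent.Lib.Helper19.ZassLinA
import Cfsg.Agent.Lib.Helper19.ZassLinB

/-!
# Zassenhaus linearization (helper19)

A non-trivial group `G` of fixed-point-free automorphisms of a finite group `K` acts faithfully
and fixed-point-freely on a finite vector space over `ZMod r`, `r` a prime not dividing `|G|`.
No Schur-Zassenhaus: every non-identity element of `G` fixes a unique Sylow `r`-subgroup of `K`,
and a counting argument gives a `G`-invariant one.
-/

set_option autoImplicit false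
set_option linter.unusedSectionVars false
set_option linter.unusedVariables false
set_option linter.style.haveILetI false
set_option linter.unusedSimpArgs false

namespace Cfsg.Agent.Helper19.ZassLin

universe u

theorem linear_of_group {G : Type*} [Group G] [Finite G] {A : Type u} [instA : Group A] [Finite A]
    [Nontrivial A] (hcomm : ∀ a b : A, a * b = b * a)
    (r : ℕ) [hr : Fact r.Prime] (hexp : ∀ a : A, a ^ r = 1) (act : G → A → A)
    (act_one : ∀ a, act 1 a = a) (act_mul : ∀ g h a, act (g * h) a = act g (act h a))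
    (act_hom : ∀ g a b, act g (a * b) = act g a * act g b)
    (hfpf : ∀ g : G, g ≠ 1 → ∀ a : A, act g a = a → a = 1) :
    ∃ (V : Type u) (_ : AddCommGroup V) (_ : Module (ZMod r) V) (_ : Finite V)
      (ι : G →* (Module.End (ZMod r) V)ˣ), Function.Injective ι ∧
      (∀ g h : G, g ≠ h → IsUnit (((ι g : (Module.End (ZMod r) V)ˣ) : Module.End (ZMod r) V)
        - ((ι h : (Module.End (ZMod r) V)ˣ) : Module.End (ZMod r) V))) ∧
      ¬ r ∣ Nat.card G :=
  @linear_of_comm G _ _ A { instA with mul_comm := hcomm } _ _ r _ hexp act act_one act_mul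
    act_hom hfpf

section Fpf

variable {K : Type u} [Group K] [Finite K]

theorem twist_injective (φ : MulAut K) (hφ : ∀ k, φ k = k → k = 1) :
    Function.Injective (fun x : K => x⁻¹ * φ x) := by
  intro x y h
  simp only at h
  have h1 : φ (y * x⁻¹) = y * x⁻¹ := by
    rw [map_mul, map_inv]
    have h2 : φ y = y * (x⁻¹ * φ x) := by rw [h]; group
    rw [h2]; group
  have h2 := hφ _ h1
  exact (mul_inv_eq_one.mp h2).symm

theorem twist_surjective (φ : MulAut K) (hφ : ∀ k, φ k = k → k = 1) (y : K) :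
    ∃ x : K, x⁻¹ * φ x = y :=
  Finite.injective_iff_surjective.mp (twist_injective φ hφ) y

theorem mul_conj (φ : MulAut K) (x : K) : φ * MulAut.conj x = MulAut.conj (φ x) * φ := by
  ext k
  simp [MulAut.mul_apply, MulAut.conj_apply]

variable {r : ℕ} [hr : Fact r.Prime]

theorem smul_smul_sylow (φ : MulAut K) (x : K) (P : Sylow r K) :
    φ • (x • P) = (φ x) • (φ • P) := by
  rw [Sylow.smul_def, Sylow.smul_def, ← mul_smul, ← mul_smul, mul_conj]

theorem exists_fixed_sylow (φ : MulAut K) (hφ : ∀ k, φ k = k → k = 1) :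
    ∃ Q : Sylow r K, φ • Q = Q := by
  obtain ⟨P⟩ : Nonempty (Sylow r K) := inferInstance
  obtain ⟨k, hk⟩ := MulAction.exists_smul_eq K P (φ • P)
  obtain ⟨x, hx⟩ := twist_surjective φ hφ k⁻¹
  refine ⟨x • P, ?_⟩
  rw [smul_smul_sylow, ← hk, ← mul_smul]
  congr 1
  have h2 : φ x = x * k⁻¹ := by rw [← hx]; group
  rw [h2]; group

theorem fixed_sylow_unique (φ : MulAut K) (hφ : ∀ k, φ k = k → k = 1) {Q Q' : Sylow r K}
    (h : φ • Q = Q) (h' : φ • Q' = Q') : Q = Q' := by
  obtain ⟨y, hy⟩ := MulAction.exists_smul_eq K Q Q'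
  have h1 : (φ y) • Q = y • Q := by
    have h3 := smul_smul_sylow φ y Q
    rw [h, hy, h'] at h3
    rw [hy]; exact h3.symm
  have h2 : y⁻¹ * φ y ∈ Subgroup.normalizer (Q : Set K) := by
    rw [← Sylow.smul_eq_iff_mem_normalizer, mul_smul, h1, ← mul_smul, inv_mul_cancel, one_smul]
  have hN : ∀ n ∈ Subgroup.normalizer (Q : Set K),
      φ n ∈ Subgroup.normalizer (Q : Set K) := by
    intro n hn
    rw [← Sylow.smul_eq_iff_mem_normalizer] at hn ⊢
    have h3 := smul_smul_sylow φ n Q
    rw [hn, h] at h3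
    exact h3.symm
  obtain ⟨f, hf⟩ : ∃ f : Subgroup.normalizer (Q : Set K) →
      Subgroup.normalizer (Q : Set K), ∀ n, ((f n : K)) = (n : K)⁻¹ * φ n :=
    ⟨fun n => ⟨(n : K)⁻¹ * φ n, Subgroup.mul_mem _ (Subgroup.inv_mem _ n.2) (hN n n.2)⟩,
      fun _ => rfl⟩
  have hfi : Function.Injective f := by
    intro a b hab
    have h3 := congrArg Subtype.val hab
    rw [hf, hf] at h3
    exact Subtype.ext (twist_injective φ hφ h3)
  obtain ⟨n, hn⟩ := Finite.injective_iff_surjective.mp hfi ⟨_, h2⟩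
  have hny : (n : K) = y := by
    have h3 := congrArg Subtype.val hn
    rw [hf] at h3
    exact twist_injective φ hφ h3
  have hy2 : y ∈ Subgroup.normalizer (Q : Set K) := hny ▸ n.2
  rw [← hy]
  exact (Sylow.smul_eq_iff_mem_normalizer.mpr hy2).symm

theorem exists_invariant_sylow (G : Subgroup (MulAut K))
    (hfpf : ∀ φ ∈ G, φ ≠ 1 → ∀ k : K, φ k = k → k = 1) (hne : G ≠ ⊥) :
    ∃ P : Sylow r K, ∀ g ∈ G, g • P = P := by
  haveI : Nontrivial G := (Subgroup.nontrivial_iff_ne_bot G).mpr hne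
  have hu : ∀ g : G, g ≠ 1 → ∃! Q : Sylow r K, g • Q = Q := by
    intro g hg
    have hg1 : (g : MulAut K) ≠ 1 := fun e => hg (Subtype.ext e)
    obtain ⟨Q, hQ⟩ := exists_fixed_sylow (r := r) (g : MulAut K) (hfpf g g.2 hg1)
    refine ⟨Q, hQ, fun Q' hQ' => ?_⟩
    exact (fixed_sylow_unique (g : MulAut K) (hfpf g g.2 hg1) hQ hQ').symm
  obtain ⟨P, hP⟩ := exists_fixed_point hu
  exact ⟨P, fun g hg => hP ⟨g, hg⟩⟩

/-- the elements of order dividing `r` of the centre of `P` -/
def omegaCenter (r : ℕ) (P : Subgroup K) : Subgroup K where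
  carrier := {x | x ∈ P ∧ (∀ y ∈ P, y * x = x * y) ∧ x ^ r = 1}
  one_mem' := ⟨P.one_mem, fun y _ => by rw [mul_one, one_mul], one_pow r⟩
  mul_mem' := by
    rintro a b ⟨ha, hac, har⟩ ⟨hb, hbc, hbr⟩
    refine ⟨P.mul_mem ha hb, fun y hy => ?_, ?_⟩
    · rw [← mul_assoc, hac y hy, mul_assoc, hbc y hy, mul_assoc]
    · have hc : Commute a b := hbc a ha
      rw [hc.mul_pow, har, hbr, one_mul]
  inv_mem' := by
    rintro a ⟨ha, hac, har⟩
    refine ⟨P.inv_mem ha, fun y hy => ?_, by rw [inv_pow, har, inv_one]⟩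
    have h1 := hac y hy
    calc y * a⁻¹ = a⁻¹ * (a * y) * a⁻¹ := by group
      _ = a⁻¹ * (y * a) * a⁻¹ := by rw [h1]
      _ = a⁻¹ * y := by group

theorem mem_omegaCenter {P : Subgroup K} {x : K} :
    x ∈ omegaCenter r P ↔ x ∈ P ∧ (∀ y ∈ P, y * x = x * y) ∧ x ^ r = 1 := Iff.rfl

end Fpf

/-- **Linearization.** -/
theorem linearize {K : Type u} [Group K] [Finite K] (G : Subgroup (MulAut K))
    (hfpf : ∀ φ ∈ G, φ ≠ 1 → ∀ k : K, φ k = k → k = 1) (hne : G ≠ ⊥) :
    ∃ (r : ℕ) (_ : Fact r.Prime) (V : Type u) (_ : AddCommGroup V) (_ : Module (ZMod r) V)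
      (_ : Finite V) (ι : G →* (Module.End (ZMod r) V)ˣ), Function.Injective ι ∧
      (∀ g h : G, g ≠ h → IsUnit (((ι g : (Module.End (ZMod r) V)ˣ) : Module.End (ZMod r) V)
        - ((ι h : (Module.End (ZMod r) V)ˣ) : Module.End (ZMod r) V))) ∧
      ¬ r ∣ Nat.card G := by
  obtain ⟨φ₀, hφ₀G, hφ₀⟩ : ∃ φ ∈ G, φ ≠ 1 := by
    by_contra hcon
    push Not at hcon
    apply hne
    rw [Subgroup.eq_bot_iff_forall]
    exact hcon
  haveI : Nontrivial K := by
    by_contra hnt
    rw [not_nontrivial_iff_subsingleton] at hnt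
    apply hφ₀
    ext k
    exact Subsingleton.elim _ _
  have hcard : Nat.card K ≠ 1 := (Finite.one_lt_card (α := K)).ne'
  obtain ⟨r, hrdef⟩ : ∃ r, r = (Nat.card K).minFac := ⟨_, rfl⟩
  have hr : r.Prime := hrdef ▸ Nat.minFac_prime hcard
  haveI : Fact r.Prime := ⟨hr⟩
  have hrK : r ∣ Nat.card K := hrdef ▸ Nat.minFac_dvd _
  obtain ⟨P, hP⟩ := exists_invariant_sylow (r := r) G hfpf hne
  -- invariance of `P` elementwise
  have hPmem : ∀ g ∈ G, ∀ x ∈ (P : Subgroup K), g x ∈ (P : Subgroup K) := by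
    intro g hg x hx
    have h1 := congrArg (fun Q : Sylow r K => (Q : Subgroup K)) (hP g hg)
    simp only [Sylow.pointwise_smul_def] at h1
    have h2 := Subgroup.smul_mem_pointwise_smul x g (P : Subgroup K) hx
    rw [h1] at h2
    exact h2
  -- invariance of `V`
  have hVmem : ∀ g ∈ G, ∀ x ∈ omegaCenter r (P : Subgroup K),
      g x ∈ omegaCenter r (P : Subgroup K) := by
    intro g hg x hx
    obtain ⟨hxP, hxc, hxr⟩ := hx
    refine ⟨hPmem g hg x hxP, fun y hy => ?_, by rw [← map_pow, hxr, map_one]⟩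
    have hy' : g⁻¹ y ∈ (P : Subgroup K) := hPmem g⁻¹ (G.inv_mem hg) y hy
    have h1 := hxc _ hy'
    have h2 := congrArg g h1
    rw [map_mul, map_mul, MulAut.apply_inv_self] at h2
    exact h2
  -- `V` is nontrivial
  have hPne : (P : Subgroup K) ≠ ⊥ := Sylow.ne_bot_of_dvd_card P hrK
  haveI : Nontrivial (P : Subgroup K) := (Subgroup.nontrivial_iff_ne_bot _).mpr hPne
  haveI : Nontrivial (Subgroup.center (P : Subgroup K)) := P.isPGroup'.center_nontrivial
  have hdvd : r ∣ Nat.card (Subgroup.center (P : Subgroup K)) := by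
    have hZ : IsPGroup r (Subgroup.center (P : Subgroup K)) := P.isPGroup'.to_subgroup _
    rcases hZ.card_eq_or_dvd with h1 | h1
    · exact absurd h1 (Finite.one_lt_card (α := Subgroup.center (P : Subgroup K))).ne'
    · exact h1
  obtain ⟨z, hz⟩ := exists_prime_orderOf_dvd_card' r hdvd
  have hzV : ((z : (P : Subgroup K)) : K) ∈ omegaCenter r (P : Subgroup K) := by
    refine ⟨(z : (P : Subgroup K)).2, fun y hy => ?_, ?_⟩
    · have h1 := Subgroup.mem_center_iff.mp z.2 ⟨y, hy⟩
      exact congrArg Subtype.val h1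
    · have h1 : z ^ r = 1 := by
        have := pow_orderOf_eq_one z
        rwa [hz] at this
      have h2 := congrArg (fun t : Subgroup.center (P : Subgroup K) => ((t : (P : Subgroup K)) : K)) h1
      simpa using h2
  have hz1 : ((z : (P : Subgroup K)) : K) ≠ 1 := by
    intro e
    have h1 : z = 1 := by
      apply Subtype.ext
      apply Subtype.ext
      exact e
    rw [h1, orderOf_one] at hz
    exact hr.one_lt.ne hz
  haveI : Nontrivial (omegaCenter r (P : Subgroup K)) :=
    ⟨⟨⟨_, hzV⟩, 1, fun e => hz1 (congrArg Subtype.val e)⟩⟩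
  haveI : Finite G := inferInstance
  -- apply the abstract linearization
  refine ⟨r, ⟨hr⟩, ?_⟩
  refine linear_of_group (G := G) (A := omegaCenter r (P : Subgroup K)) ?_ r ?_
    (fun g v => ⟨(g : MulAut K) (v : K), hVmem g g.2 v v.2⟩) ?_ ?_ ?_ ?_
  · intro a b
    exact Subtype.ext (b.2.2.1 a a.2.1)
  · intro a
    exact Subtype.ext a.2.2.2
  · intro a
    exact Subtype.ext rfl
  · intro g h a
    exact Subtype.ext rfl
  · intro g a b
    exact Subtype.ext (map_mul (g : MulAut K) (a : K) (b : K))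
  · intro g hg a ha
    have hg1 : (g : MulAut K) ≠ 1 := fun e => hg (Subtype.ext e)
    have h1 := hfpf g g.2 hg1 (a : K) (congrArg Subtype.val ha)
    exact Subtype.ext h1

end Cfsg.Agent.Helper19.ZassLin
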