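import Mathlib
import Cfsg.Prelude.Def_Blocks
import Cfsg.Agent.Lib.Helper24.CharOrtho
/-!
# S4707 piece COEF (helper16's skeleton `plans/S4707_Skel.lean.txt`): a combination of irreducible characters
vanishing off `1` is a multiple of the regular character
-/

set_option autoImplicit false
set_option linter.unusedSectionVars false
set_option linter.unusedVariables false

namespace Cfsg.Agent.Helper16.ITO

open scoped ComplexConjugate
open Cfsg Cfsg.Agent.Helper24

universe u

namespace COEF

/-- the degree of an irreducible character is fixed by complex conjugation -/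
theorem conj_one {A : Type u} [Group A] [Fintype A] (ψ : IrrCharacter A) :
    conj ((ψ : A → ℂ) 1) = (ψ : A → ℂ) 1 := by
  obtain ⟨n, ρ, hρ, h⟩ := ψ.2
  rw [← h]
  have := char_inv ρ (1 : A)
  rw [inv_one] at this
  exact this.symm

/-- the coefficient formula -/
theorem coeff {A : Type u} [Group A] [Fintype A] [Fintype (IrrCharacter A)]
    (c : IrrCharacter A → ℂ)
    (h : ∀ a : A, a ≠ 1 → ∑ φ : IrrCharacter A, c φ * (φ : A → ℂ) a = 0) (ψ : IrrCharacter A) :
    c ψ = (Nat.card A : ℂ)⁻¹ * ((∑ φ : IrrCharacter A, c φ * (φ : A → ℂ) 1) * (ψ : A → ℂ) 1) := by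
  classical
  have h1 : classInner (∑ φ : IrrCharacter A, c φ • (φ : A → ℂ)) (ψ : A → ℂ) = c ψ := by
    rw [classInner_sum_left]
    have : ∀ φ : IrrCharacter A, classInner (c φ • (φ : A → ℂ)) (ψ : A → ℂ)
        = if φ = ψ then c φ else 0 := by
      intro φ
      rw [classInner_smul_left, irr_orthogonality' φ ψ]
      split_ifs <;> simp
    rw [Finset.sum_congr rfl (fun φ _ => this φ), Finset.sum_ite_eq' Finset.univ ψ c]
    simp
  rw [← h1]
  unfold classInner
  congr 1
  rw [Finset.sum_eq_single (1 : A)]
  · rw [conj_one ψ, Finset.sum_apply]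
    congr 1
  · intro a _ ha
    have : (∑ φ : IrrCharacter A, c φ • (φ : A → ℂ)) a = 0 := by
      rw [Finset.sum_apply]
      simpa using h a ha
    rw [this, zero_mul]
  · intro h'
    exact absurd (Finset.mem_univ _) h'

end COEF

/-- PIECE COEF (generic): a linear combination of the irreducible characters that vanishes off `1` is a multiple of the
regular character: `c φ / φ(1)` is constant. -/
theorem coeff_of_vanish {A : Type u} [Group A] [Fintype A] [Fintype (IrrCharacter A)]
    (c : IrrCharacter A → ℂ)
    (h : ∀ a : A, a ≠ 1 → ∑ φ : IrrCharacter A, c φ * (φ : A → ℂ) a = 0) (φ φ' : IrrCharacter A) :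
    c φ * (φ' : A → ℂ) 1 = c φ' * (φ : A → ℂ) 1 := by
  rw [COEF.coeff c h φ, COEF.coeff c h φ']
  ring

end Cfsg.Agent.Helper16.ITO
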