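import Mathlib
import Cfsg.Agent.Lib.Helper22.W2PDefs
import Cfsg.Agent.Lib.Helper22.StabAction

/-!
# S0720 piece P5 (helper19): a primitive group of degree 10 has no faithful character of degree 2
-/

set_option autoImplicit false
set_option linter.unusedSectionVars false
set_option linter.unusedVariables false
set_option linter.style.haveILetI false
set_option linter.unusedSimpArgs false

namespace Cfsg.Agent.Helper22.W2P

open Cfsg

universe u v

namespace P5

/-- a `2 × 2` matrix with square `1` has determinant `-1` or is `± 1` -/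
theorem mat_sq_one (M : Matrix (Fin 2) (Fin 2) ℂ) (h : M * M = 1) :
    M.det = -1 ∨ M = 1 ∨ M = -1 := by
  have h00 := congrFun (congrFun h 0) 0
  have h01 := congrFun (congrFun h 0) 1
  have h10 := congrFun (congrFun h 1) 0
  have h11 := congrFun (congrFun h 1) 1
  simp only [Matrix.mul_apply, Fin.sum_univ_two, Matrix.one_apply_eq, Matrix.one_apply_ne,
    ne_eq, Fin.zero_eq_one_iff, Fin.one_eq_zero_iff, not_false_eq_true, OfNat.ofNat_ne_one,
    Nat.succ_ne_self] at h00 h01 h10 h11
  by_cases hs : M 0 0 + M 1 1 = 0
  · left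
    rw [Matrix.det_fin_two]
    have hd : M 1 1 = - M 0 0 := by linear_combination hs
    rw [hd]
    linear_combination -h00
  · right
    have hb : M 0 1 = 0 := by
      have h1 : M 0 1 * (M 0 0 + M 1 1) = 0 := by linear_combination h01
      rcases mul_eq_zero.mp h1 with h2 | h2
      · exact h2
      · exact absurd h2 hs
    have hc : M 1 0 = 0 := by
      have h1 : M 1 0 * (M 0 0 + M 1 1) = 0 := by linear_combination h10
      rcases mul_eq_zero.mp h1 with h2 | h2
      · exact h2
      · exact absurd h2 hs
    have ha : (M 0 0 - 1) * (M 0 0 + 1) = 0 := by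
      rw [hb] at h00
      linear_combination h00
    have hd : (M 1 1 - 1) * (M 1 1 + 1) = 0 := by
      rw [hb] at h11
      linear_combination h11
    rcases mul_eq_zero.mp ha with ha1 | ha1 <;> rcases mul_eq_zero.mp hd with hd1 | hd1
    · left
      ext i j
      fin_cases i <;> fin_cases j
      · simpa using (by linear_combination ha1 : M 0 0 = 1)
      · simpa using hb
      · simpa using hc
      · simpa using (by linear_combination hd1 : M 1 1 = 1)
    · exfalso
      apply hs
      linear_combination ha1 + hd1
    · exfalso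
      apply hs
      linear_combination ha1 + hd1
    · right
      ext i j
      fin_cases i <;> fin_cases j
      · simpa using (by linear_combination ha1 : M 0 0 = -1)
      · simpa using hb
      · simpa using hc
      · simpa using (by linear_combination hd1 : M 1 1 = -1)

/-- a transitive subgroup has order divisible by the degree -/
theorem card_dvd_of_transitive {G : Type u} [Group G] [Finite G] {Ω : Type v} [MulAction G Ω]
    (K : Subgroup G) [MulAction.IsPretransitive K Ω] (a : Ω) : Nat.card Ω ∣ Nat.card K := by
  rw [← MulAction.index_stabilizer_of_transitive (G := K) (x := a)]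
  exact Subgroup.index_dvd_card _

end P5

variable {G : Type u} [Group G] [Fintype G] {Ω : Type v} [Fintype Ω] [DecidableEq Ω]
  [MulAction G Ω]

theorem no_faithful_deg_two [FaithfulSMul G Ω] (hprim : MulAction.IsPreprimitive G Ω)
    (hcard : Fintype.card Ω = 10) {ψ : G → ℂ} (hψ : IsCharacter G ψ) (hdeg : ψ 1 = 2)
    (hfaith : ∀ g : G, ψ g = ψ 1 → g = 1) : False := by
  haveI := hprim
  obtain ⟨n, ρ, hρ⟩ := hψ
  have hn : n = 2 := by
    have h1 := ρ.char_one
    rw [hρ, hdeg] at h1
    simp only [Module.finrank_fintype_fun_eq_card, Fintype.card_fin] at h1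
    exact_mod_cast h1.symm
  subst hn
  have hΩ : Nat.card Ω = 10 := by rw [Nat.card_eq_fintype_card, hcard]
  obtain ⟨a⟩ : Nonempty Ω := by
    rw [← Fintype.card_pos_iff, hcard]
    norm_num
  -- the matrices
  set M : G → Matrix (Fin 2) (Fin 2) ℂ := fun g => LinearMap.toMatrix' (ρ g) with hM
  have hM1 : M 1 = 1 := by
    simp only [hM, map_one]
    exact LinearMap.toMatrix'_one
  have hMmul : ∀ g h : G, M (g * h) = M g * M h := by
    intro g h
    simp only [hM, map_mul]
    exact LinearMap.toMatrix'_mul _ _
  have htr : ∀ g : G, (M g).trace = ψ g := by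
    intro g
    rw [← hρ]
    simp only [hM, Representation.character]
    rw [LinearMap.trace_eq_matrix_trace ℂ (Pi.basisFun ℂ (Fin 2)) (ρ g),
      LinearMap.toMatrix_eq_toMatrix']
  have hinj : ∀ g : G, M g = 1 → g = 1 := by
    intro g hg
    apply hfaith
    rw [← htr g, hg, hdeg, Matrix.trace_one]
    simp
  have hinj2 : ∀ g h : G, M g = M h → g = h := by
    intro g h hgh
    have h1 : M (g * h⁻¹) = 1 := by
      rw [hMmul, hgh, ← hMmul, mul_inv_cancel, hM1]
    have := hinj _ h1
    exact mul_inv_eq_one.mp this
  -- the centre is trivial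
  have hcenter : ∀ z : G, z ∈ Subgroup.center G → z = 1 := by
    by_contra hne
    push Not at hne
    obtain ⟨z, hz, hz1⟩ := hne
    have hZ1 : Nat.card (Subgroup.center G) ≠ 1 := by
      intro h1
      have := Subgroup.card_eq_one.mp h1
      rw [this, Subgroup.mem_bot] at hz
      exact hz1 hz
    obtain ⟨q, hq, hqd⟩ := Nat.exists_prime_and_dvd hZ1
    haveI := Fact.mk hq
    obtain ⟨⟨y, hy⟩, hyord⟩ := exists_prime_orderOf_dvd_card' q hqd
    have hyord' : orderOf y = q := by
      rw [← hyord]
      exact (Subgroup.orderOf_mk y hy).symm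
    have hKn : (Subgroup.zpowers y).Normal := by
      refine ⟨fun k hk g => ?_⟩
      have hkc : k ∈ Subgroup.center G :=
        (Subgroup.zpowers_le.mpr hy) hk
      have : g * k * g⁻¹ = k := by
        rw [Subgroup.mem_center_iff] at hkc
        rw [hkc g, mul_inv_cancel_right]
      rw [this]
      exact hk
    haveI := hKn
    have hK : Subgroup.zpowers y ≠ ⊥ := by
      intro h
      rw [Subgroup.zpowers_eq_bot] at h
      rw [h, orderOf_one] at hyord'
      exact hq.one_lt.ne hyord'
    haveI := Cfsg.Agent.Helper22.isPretransitive_of_normal_of_ne_bot (X := Ω) (Subgroup.zpowers y) hK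
    have hdvd := P5.card_dvd_of_transitive (Ω := Ω) (Subgroup.zpowers y) a
    rw [hΩ, Nat.card_zpowers, hyord'] at hdvd
    have := (Nat.prime_dvd_prime_iff_eq Nat.prime_two hq).mp (dvd_trans (by norm_num) hdvd)
    have h5 := (Nat.prime_dvd_prime_iff_eq Nat.prime_five hq).mp (dvd_trans (by norm_num) hdvd)
    omega
  -- involutions have determinant `-1`
  let d : G →* ℂ := (LinearMap.det : ((Fin 2 → ℂ) →ₗ[ℂ] (Fin 2 → ℂ)) →* ℂ).comp ρ
  have hd : ∀ g : G, d g = (M g).det := by
    intro g
    simp only [hM, d, MonoidHom.comp_apply]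
    rw [LinearMap.det_toMatrix']
  have hinv : ∀ t : G, t ≠ 1 → t * t = 1 → d t = -1 := by
    intro t ht1 htt
    rw [hd]
    have hsq : M t * M t = 1 := by rw [← hMmul, htt, hM1]
    rcases P5.mat_sq_one (M t) hsq with h | h | h
    · exact h
    · exact absurd (hinj t h) ht1
    · exfalso
      apply ht1
      apply hcenter
      rw [Subgroup.mem_center_iff]
      intro g
      apply hinj2
      rw [hMmul, hMmul, h]
      simp
  -- the kernel of the determinant has odd order
  have hodd : ¬ 2 ∣ Nat.card d.ker := by
    intro h2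
    obtain ⟨⟨t, ht⟩, htord⟩ := exists_prime_orderOf_dvd_card' 2 h2
    have htord' : orderOf t = 2 := by
      rw [← htord]
      exact (Subgroup.orderOf_mk t ht).symm
    have ht1 : t ≠ 1 := by
      intro h
      rw [h, orderOf_one] at htord'
      omega
    have htt : t * t = 1 := by
      rw [← pow_two, ← htord', pow_orderOf_eq_one]
    have h1 := hinv t ht1 htt
    rw [MonoidHom.mem_ker] at ht
    rw [ht] at h1
    norm_num at h1
  have hker : d.ker = ⊥ := by
    by_contra hne
    haveI := Cfsg.Agent.Helper22.isPretransitive_of_normal_of_ne_bot (X := Ω) d.ker hne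
    have hdvd := P5.card_dvd_of_transitive (Ω := Ω) d.ker a
    rw [hΩ] at hdvd
    exact hodd (dvd_trans (by norm_num) hdvd)
  have hdinj : Function.Injective d := (MonoidHom.ker_eq_bot_iff d).mp hker
  have htriv : ∀ g : G, g = 1 := by
    intro g
    apply hcenter
    rw [Subgroup.mem_center_iff]
    intro h
    apply hdinj
    rw [map_mul, map_mul, mul_comm]
  -- but `G` is transitive on ten points
  obtain ⟨b, hb⟩ : ∃ b : Ω, b ≠ a := by
    by_contra hall
    push Not at hall
    have : Fintype.card Ω ≤ 1 := Fintype.card_le_one_iff.mpr fun x y => by rw [hall x, hall y]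
    omega
  obtain ⟨g, hg⟩ := MulAction.exists_smul_eq G a b
  rw [htriv g, one_smul] at hg
  exact hb hg.symm

end Cfsg.Agent.Helper22.W2P
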