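import Mathlib
import Cfsg.Prelude.Def_Transfer
import Cfsg.Agent.Lib.Helper16.KF9Defs

/-!
# S3805 (helper16's farm-out of helper8's proof), PIECE CENT6 (helper19): the elements of order 6

`c4 = t1 b` and `c5 = t2 a` have order 6; their centralizers have order 6 (core versions with
`|C(t1)| = |C(t2)| = 18` as hypotheses; the wrappers with the exact skeleton signatures are in
`KF9CENT6W.lean` once piece CENT has landed).
-/

set_option autoImplicit false
set_option linter.unusedSectionVars false
set_option linter.unusedVariables false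
set_option linter.style.haveILetI false

namespace Cfsg.Agent.Helper16.KF9

open Cfsg

universe u

variable {G : Type u} [Group G]

/-- `v t v⁻¹ = t` gives `t v = v t` -/
theorem cent6_commute {t v : G} (hcomm : v * t * v⁻¹ = t) : Commute t v := by
  show t * v = v * t
  calc t * v = v * t * v⁻¹ * v := by rw [hcomm]
    _ = v * t := by group

/-- an element of order 3 times a commuting involution has order 6 -/
theorem cent6_order {t v : G} (ht : orderOf t = 3) (hvv : v * v = 1) (hv1 : v ≠ 1)
    (hcomm : v * t * v⁻¹ = t) : orderOf (t * v) = 6 := by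
  have hv2 : orderOf v = 2 := orderOf_eq_prime (by rw [pow_two]; exact hvv) hv1
  have hc : Commute t v := cent6_commute hcomm
  have h := hc.orderOf_mul_eq_mul_orderOf_of_coprime (by rw [ht, hv2]; decide)
  rw [h, ht, hv2]

/-- the centralizer of `t v` has order 6 when `|C(t)| = 18` and some `s ∈ C(t)` with `s² ≠ 1` is
inverted by `v` -/
theorem cent6_card [Finite G] {t s v : G} (ht : orderOf t = 3) (hvv : v * v = 1) (hv1 : v ≠ 1)
    (hcomm : v * t * v⁻¹ = t) (hst : s * t = t * s) (hs : v * s * v⁻¹ = s⁻¹) (hs2 : s * s ≠ 1)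
    (h18 : Nat.card (Subgroup.centralizer ({t} : Set G)) = 18) :
    Nat.card (Subgroup.centralizer ({t * v} : Set G)) = 6 := by
  have hc : Commute t v := cent6_commute hcomm
  have ht3 : t ^ 3 = 1 := by rw [← ht]; exact pow_orderOf_eq_one t
  have hv2 : v ^ 2 = 1 := by rw [pow_two]; exact hvv
  have hpow : (t * v) ^ 4 = t := by
    rw [hc.mul_pow]
    have h1 : t ^ 4 = t := by rw [pow_succ, ht3, one_mul]
    have h2 : v ^ 4 = 1 := by
      have : v ^ 4 = (v ^ 2) ^ 2 := by rw [← pow_mul]
      rw [this, hv2, one_pow]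
    rw [h1, h2, mul_one]
  -- `C(t v) ≤ C(t)`
  have hle : Subgroup.centralizer ({t * v} : Set G) ≤ Subgroup.centralizer ({t} : Set G) := by
    intro g hg
    rw [Subgroup.mem_centralizer_singleton_iff] at hg ⊢
    have hcg : Commute g (t * v) := hg
    have := (hcg.pow_right 4).eq
    rw [hpow] at this
    exact this
  -- `⟨t v⟩ ≤ C(t v)`
  have hz : Subgroup.zpowers (t * v) ≤ Subgroup.centralizer ({t * v} : Set G) := by
    rw [Subgroup.zpowers_le, Subgroup.mem_centralizer_singleton_iff]
  have h6 : 6 ∣ Nat.card (Subgroup.centralizer ({t * v} : Set G)) := by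
    have := Subgroup.card_dvd_of_le hz
    rw [Nat.card_zpowers, cent6_order ht hvv hv1 hcomm] at this
    exact this
  have hd18 : Nat.card (Subgroup.centralizer ({t * v} : Set G)) ∣ 18 := by
    rw [← h18]
    exact Subgroup.card_dvd_of_le hle
  -- `s` centralizes `t` but not `t v`
  have hsD : s ∈ Subgroup.centralizer ({t} : Set G) := by
    rw [Subgroup.mem_centralizer_singleton_iff]
    exact hst
  have hsC : s ∉ Subgroup.centralizer ({t * v} : Set G) := by
    rw [Subgroup.mem_centralizer_singleton_iff]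
    intro hcon
    -- `s t v = t v s`, `t v s = t s⁻¹ v`
    have h1 : v * s = s⁻¹ * v := by
      calc v * s = v * s * v⁻¹ * v := by group
        _ = s⁻¹ * v := by rw [hs]
    have h2 : t * s * v = t * s⁻¹ * v := by
      calc t * s * v = s * t * v := by rw [hst]
        _ = s * (t * v) := by group
        _ = t * v * s := hcon
        _ = t * (v * s) := by group
        _ = t * (s⁻¹ * v) := by rw [h1]
        _ = t * s⁻¹ * v := by group
    have h3 : s = s⁻¹ := by
      have := mul_right_cancel h2
      exact mul_left_cancel this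
    apply hs2
    calc s * s = s * s⁻¹ := by rw [← h3]
      _ = 1 := mul_inv_cancel s
  have hne : Nat.card (Subgroup.centralizer ({t * v} : Set G)) ≠ 18 := by
    intro h
    have heq : Subgroup.centralizer ({t * v} : Set G) = Subgroup.centralizer ({t} : Set G) :=
      Subgroup.eq_of_le_of_card_ge hle (by rw [h, h18])
    rw [heq] at hsC
    exact hsC hsD
  have hpos : 0 < Nat.card (Subgroup.centralizer ({t * v} : Set G)) := Nat.card_pos
  have hle18 : Nat.card (Subgroup.centralizer ({t * v} : Set G)) ≤ 18 := Nat.le_of_dvd (by norm_num) hd18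
  generalize Nat.card (Subgroup.centralizer ({t * v} : Set G)) = n at *
  interval_cases n <;> omega

variable [Finite G] {T : Sylow 3 G}

/-- `b ≠ 1` -/
theorem cent6_b_ne_one (c : Cfg T) : c.b ≠ 1 := by
  intro hb
  have h := c.b2
  rw [hb, one_mul, inv_one, mul_one] at h
  -- `t2 = t2⁻¹` contradicts order 3
  have h2 : c.t2 ^ 2 = 1 := by
    rw [pow_two]
    calc c.t2 * c.t2 = c.t2 * c.t2⁻¹ := by rw [← h]
      _ = 1 := mul_inv_cancel _
  have := orderOf_dvd_of_pow_eq_one h2
  rw [c.o2] at this
  omega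

/-- `a ≠ 1` -/
theorem cent6_a_ne_one (c : Cfg T) : c.a ≠ 1 := by
  intro ha
  have h := c.a1
  rw [ha, one_mul, inv_one, mul_one] at h
  have h2 : c.t1 ^ 2 = 1 := by
    rw [pow_two]
    calc c.t1 * c.t1 = c.t1 * c.t1⁻¹ := by rw [← h]
      _ = 1 := mul_inv_cancel _
  have := orderOf_dvd_of_pow_eq_one h2
  rw [c.o1] at this
  omega

/-- `t * t ≠ 1` for an element of order 3 -/
theorem cent6_sq_ne_one {t : G} (ht : orderOf t = 3) : t * t ≠ 1 := by
  intro h
  have h2 : t ^ 2 = 1 := by rw [pow_two]; exact h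
  have := orderOf_dvd_of_pow_eq_one h2
  rw [ht] at this
  omega

/-- PIECE CENT6 -/
theorem order_c4 (h : Hyp T) (c : Cfg T) : orderOf c.c4 = 6 :=
  cent6_order c.o1 c.bb (cent6_b_ne_one c) c.b1

/-- PIECE CENT6 -/
theorem order_c5 (h : Hyp T) (c : Cfg T) : orderOf c.c5 = 6 :=
  cent6_order c.o2 c.aa (cent6_a_ne_one c) c.a2

/-- PIECE CENT6, core version (`|C(t1)| = 18` as a hypothesis) -/
theorem card_centralizer_c4_core (h : Hyp T) (c : Cfg T)
    (h18 : Nat.card (Subgroup.centralizer ({c.t1} : Set G)) = 18) :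
    Nat.card (Subgroup.centralizer ({c.c4} : Set G)) = 6 :=
  cent6_card c.o1 c.bb (cent6_b_ne_one c) c.b1 (h.comm _ c.ht2 _ c.ht1) c.b2
    (cent6_sq_ne_one c.o2) h18

/-- PIECE CENT6, core version (`|C(t2)| = 18` as a hypothesis) -/
theorem card_centralizer_c5_core (h : Hyp T) (c : Cfg T)
    (h18 : Nat.card (Subgroup.centralizer ({c.t2} : Set G)) = 18) :
    Nat.card (Subgroup.centralizer ({c.c5} : Set G)) = 6 :=
  cent6_card c.o2 c.aa (cent6_a_ne_one c) c.a2 (h.comm _ c.ht1 _ c.ht2) c.a1
    (cent6_sq_ne_one c.o1) h18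

end Cfsg.Agent.Helper16.KF9
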