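import Mathlib

/-!
# S3341 (helper16's farm-out), PIECE ARITH2 (helper19): the final contradiction for `m = 2`
-/

set_option autoImplicit false
set_option linter.unusedSectionVars false
set_option linter.unusedVariables false

namespace Cfsg.Agent.Helper16.SSC

namespace ARITH2

/-- the two-term version -/
theorem core (a δ : ℤ) (d f : ℕ) (ha : a = 1 ∨ a = -1) (hδ : δ = 1 ∨ δ = -1) (hd : 2 ≤ d)
    (hf : 0 < f) (hrel : 1 + a * (d : ℤ) = δ * f)
    (hcc : (1 : ℝ) + (a : ℝ) / (d : ℝ) - 4 * (δ : ℝ) / (f : ℝ) = 0) : False := by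
  have hd0 : (0 : ℝ) < (d : ℝ) := by exact_mod_cast (by omega : 0 < d)
  have hf0 : (0 : ℝ) < (f : ℝ) := by exact_mod_cast hf
  have hd2 : (2 : ℝ) ≤ (d : ℝ) := by exact_mod_cast hd
  rcases ha with rfl | rfl <;> rcases hδ with rfl | rfl
  · -- `f = 1 + d`, `(d - 1)² = 0`
    have hfd : f = 1 + d := by omega
    have hfd' : (f : ℝ) = 1 + (d : ℝ) := by rw [hfd]; push_cast; ring
    push_cast at hcc
    rw [hfd'] at hcc
    have h1d : (0 : ℝ) < 1 + (d : ℝ) := by linarith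
    field_simp at hcc
    nlinarith
  · exfalso
    omega
  · exfalso
    omega
  · -- all terms positive
    push_cast at hcc
    have h1 : (1 : ℝ) / (d : ℝ) ≤ 1 / 2 := by
      rw [div_le_div_iff₀ hd0 (by norm_num)]
      linarith
    have h2 : 0 < 4 * (1 : ℝ) / (f : ℝ) := by positivity
    have h3 : (-1 : ℝ) / (d : ℝ) = -(1 / (d : ℝ)) := by ring
    have h4 : 4 * (-1 : ℝ) / (f : ℝ) = -(4 * (1 : ℝ) / (f : ℝ)) := by ring
    rw [h3, h4] at hcc
    linarith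

end ARITH2

theorem arith_two {ι : Type*} [DecidableEq ι] (Xs : Finset ι) (one : ι) (a : ι → ℤ)
    (deg : ι → ℕ) (f : ℕ) (δ : ℤ)
    (hδ : δ = 1 ∨ δ = -1) (h1 : one ∈ Xs) (ha1 : a one = 1) (hd1 : deg one = 1)
    (hX : Xs.card = 2) (ha : ∀ χ ∈ Xs, a χ = 1 ∨ a χ = -1)
    (hdeg : ∀ χ ∈ Xs, χ ≠ one → 2 ≤ deg χ) (hf : 0 < f)
    (hrel : ∑ χ ∈ Xs, a χ * (deg χ : ℤ) = δ * f)
    (hcc : ∑ χ ∈ Xs, (a χ : ℝ) / (deg χ : ℝ) - 4 * (δ : ℝ) / (f : ℝ) = 0) : False := by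
  obtain ⟨χ, hχne, hXeq⟩ : ∃ χ : ι, χ ≠ one ∧ Xs = {one, χ} := by
    obtain ⟨x, y, hxy, hXxy⟩ := Finset.card_eq_two.1 hX
    rw [hXxy, Finset.mem_insert, Finset.mem_singleton] at h1
    rcases h1 with h | h
    · exact ⟨y, fun hy => hxy (by rw [← h, hy]), by rw [hXxy, h]⟩
    · exact ⟨x, fun hx => hxy (by rw [← h, hx]), by rw [hXxy, h, Finset.pair_comm]⟩
  have hχX : χ ∈ Xs := by rw [hXeq]; simp
  rw [hXeq, Finset.sum_pair hχne.symm, ha1, hd1] at hrel hcc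
  refine ARITH2.core (a χ) δ (deg χ) f (ha χ hχX) hδ (hdeg χ hχX hχne) hf ?_ ?_
  · push_cast at hrel
    linarith
  · push_cast at hcc
    rw [div_one] at hcc
    exact hcc

end Cfsg.Agent.Helper16.SSC

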