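import Mathlib
import Cfsg.Agent.Lib.Lead.M11T5

/-!
# S3341 (helper16's farm-out), PIECES COUNT2 + COUNT4, cores (helper19): the two class multiplication
counts, with Higman's (3,3,3) lemma TRI as a hypothesis.
-/

set_option autoImplicit false
set_option linter.unusedSectionVars false
set_option linter.unusedVariables false
set_option linter.style.haveILetI false

namespace Cfsg.Agent.Helper16.SSC

universe u

namespace COUNT

variable {G : Type u} [Group G] [Finite G]

theorem orderOf_conj (g x : G) : orderOf (g * x * g⁻¹) = orderOf x :=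
  (MulAut.conj g).orderOf_eq x

theorem card_fib_le (a b : G) :
    Nat.card {c : G // c * a * c⁻¹ = b} ≤ Nat.card (Subgroup.centralizer ({a} : Set G)) := by
  by_cases h : ∃ c : G, c * a * c⁻¹ = b
  · exact (Cfsg.Agent.Helper17.M11.T5.card_fib a b h).le
  · have : IsEmpty {c : G // c * a * c⁻¹ = b} := ⟨fun c => h ⟨c.1, c.2⟩⟩
    rw [Nat.card_of_isEmpty]
    exact Nat.zero_le _

/-- if the pairs of conjugates `(x', y')` of `(x, y)` with product `z` all lie in the finite set `K`, then the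
number of conjugating pairs is at most `|K| |C(x)| |C(y)|` -/
theorem card_pairs_le (x y z : G) (K : Finset (G × G))
    (h : ∀ c : G × G, (c.1 * x * c.1⁻¹) * (c.2 * y * c.2⁻¹) = z →
      (c.1 * x * c.1⁻¹, c.2 * y * c.2⁻¹) ∈ K) :
    Nat.card {c : G × G // (c.1 * x * c.1⁻¹) * (c.2 * y * c.2⁻¹) = z} ≤
      K.card * (Nat.card (Subgroup.centralizer ({x} : Set G)) *
        Nat.card (Subgroup.centralizer ({y} : Set G))) := by
  classical
  haveI : Fintype G := Fintype.ofFinite G
  let F : G → G → Finset G := fun a b => Finset.univ.filter (fun c => c * a * c⁻¹ = b)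
  have hF : ∀ a b, (F a b).card ≤ Nat.card (Subgroup.centralizer ({a} : Set G)) := by
    intro a b
    have := card_fib_le a b
    rwa [Nat.card_eq_fintype_card, Fintype.card_subtype] at this
  rw [Nat.card_eq_fintype_card, Fintype.card_subtype]
  have hsub : Finset.univ.filter (fun c : G × G => (c.1 * x * c.1⁻¹) * (c.2 * y * c.2⁻¹) = z) ⊆
      K.biUnion (fun k => F x k.1 ×ˢ F y k.2) := by
    intro c hc
    rw [Finset.mem_filter] at hc
    rw [Finset.mem_biUnion]
    refine ⟨_, h c hc.2, ?_⟩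
    simp [F]
  calc (Finset.univ.filter (fun c : G × G => (c.1 * x * c.1⁻¹) * (c.2 * y * c.2⁻¹) = z)).card
      ≤ (K.biUnion (fun k => F x k.1 ×ˢ F y k.2)).card := Finset.card_le_card hsub
    _ ≤ ∑ k ∈ K, (F x k.1 ×ˢ F y k.2).card := Finset.card_biUnion_le
    _ ≤ ∑ k ∈ K, (Nat.card (Subgroup.centralizer ({x} : Set G)) *
        Nat.card (Subgroup.centralizer ({y} : Set G))) := by
      apply Finset.sum_le_sum
      intro k _
      rw [Finset.card_product]
      exact Nat.mul_le_mul (hF _ _) (hF _ _)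
    _ = K.card * (Nat.card (Subgroup.centralizer ({x} : Set G)) *
        Nat.card (Subgroup.centralizer ({y} : Set G))) := by
      rw [Finset.sum_const, smul_eq_mul]

end COUNT

section Grp

variable {G : Type u} [Group G] [Finite G] (P : Sylow 3 G)

theorem count_four_core
    (htri : ∀ {x y : G}, orderOf x = 3 → orderOf y = 3 → x * y ∈ (P : Subgroup G) → x * y ≠ 1 →
      ¬ IsConj x y → x ∈ (P : Subgroup G) ∧ y ∈ (P : Subgroup G))
    (hcomm : ∀ x y : (P : Subgroup G), x * y = y * x)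
    (hexp : ∀ a ∈ (P : Subgroup G), a ^ 3 = 1)
    (hcard : Nat.card (P : Subgroup G) = 9)
    (hcent : ∀ s ∈ (P : Subgroup G), s ≠ 1 →
      Subgroup.centralizer ({s} : Set G) = (P : Subgroup G))
    {x u : G} (hx : x ∈ (P : Subgroup G)) (hu : u ∈ (P : Subgroup G)) (hx1 : x ≠ 1)
    (hy1 : x * u ≠ 1) (hxu : IsConj x u) (hxi : IsConj x x⁻¹) (hnc : ¬ IsConj x (x * u))
    (hfus : ∀ x' ∈ (P : Subgroup G), IsConj x x' → x' = x ∨ x' = u ∨ x' = x⁻¹ ∨ x' = u⁻¹) :
    Nat.card {c : G × G // (c.1 * x * c.1⁻¹) * (c.2 * (x * u) * c.2⁻¹) = x * (x * u)} ≤ 162 := by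
  classical
  haveI : Fact (Nat.Prime 3) := ⟨by norm_num⟩
  set y := x * u with hydef
  set z := x * y with hzdef
  have hyP : y ∈ (P : Subgroup G) := (P : Subgroup G).mul_mem hx hu
  have hzP : z ∈ (P : Subgroup G) := (P : Subgroup G).mul_mem hx hyP
  have hc : ∀ a ∈ (P : Subgroup G), ∀ b ∈ (P : Subgroup G), a * b = b * a := by
    intro a ha b hb
    exact congrArg Subtype.val (hcomm ⟨a, ha⟩ ⟨b, hb⟩)
  have hx3 : orderOf x = 3 := orderOf_eq_prime (hexp x hx) hx1
  have hy3 : orderOf y = 3 := orderOf_eq_prime (hexp y hyP) hy1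
  have hxxx : x * x * x = 1 := by
    have := hexp x hx
    rw [pow_succ, pow_two] at this
    exact this
  have hxx : x * x = x⁻¹ := eq_inv_of_mul_eq_one_left hxxx
  have hz1 : z ≠ 1 := by
    intro hz
    apply hnc
    have : y = x⁻¹ := by
      have h1 : x * y = 1 := hz
      exact eq_inv_of_mul_eq_one_right h1
    rw [this]
    exact hxi
  have hCx : Nat.card (Subgroup.centralizer ({x} : Set G)) = 9 := by rw [hcent x hx hx1, hcard]
  have hCy : Nat.card (Subgroup.centralizer ({y} : Set G)) = 9 := by rw [hcent y hyP hy1, hcard]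
  have key : ∀ c : G × G, (c.1 * x * c.1⁻¹) * (c.2 * y * c.2⁻¹) = z →
      (c.1 * x * c.1⁻¹, c.2 * y * c.2⁻¹) ∈ ({(x, y), (u⁻¹, u * z)} : Finset (G × G)) := by
    intro c hcz
    set x' := c.1 * x * c.1⁻¹ with hx'
    set y' := c.2 * y * c.2⁻¹ with hy'
    have hxx' : IsConj x x' := isConj_iff.2 ⟨c.1, rfl⟩
    have hyy' : IsConj y y' := isConj_iff.2 ⟨c.2, rfl⟩
    have hnc' : ¬ IsConj x' y' := fun h => hnc ((hxx'.trans h).trans hyy'.symm)
    have hx'3 : orderOf x' = 3 := by rw [hx', COUNT.orderOf_conj, hx3]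
    have hy'3 : orderOf y' = 3 := by rw [hy', COUNT.orderOf_conj, hy3]
    obtain ⟨hx'P, hy'P⟩ := htri hx'3 hy'3 (by rw [hcz]; exact hzP) (by rw [hcz]; exact hz1) hnc'
    have hy'eq : y' = x'⁻¹ * z := by rw [← hcz]; group
    rcases hfus x' hx'P hxx' with h1 | h1 | h1 | h1
    · -- `x' = x`
      have : y' = y := by
        rw [hy'eq, h1, hzdef]
        group
      rw [h1, this]
      simp
    · -- `x' = u`
      exfalso
      have : y' = x⁻¹ := by
        rw [hy'eq, h1, hzdef, hydef, ← hxx]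
        have e1 : x * u = u * x := hc x hx u hu
        calc u⁻¹ * (x * (x * u)) = u⁻¹ * (x * (u * x)) := by rw [e1]
          _ = u⁻¹ * ((x * u) * x) := by group
          _ = u⁻¹ * ((u * x) * x) := by rw [e1]
          _ = x * x := by group
      apply hnc
      rw [this] at hyy'
      exact hxi.trans hyy'.symm
    · -- `x' = x⁻¹`
      exfalso
      have : y' = u := by
        rw [hy'eq, h1, hzdef, hydef, inv_inv]
        calc x * (x * (x * u)) = (x * x * x) * u := by group
          _ = u := by rw [hxxx, one_mul]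
      apply hnc
      rw [this] at hyy'
      exact hxu.trans hyy'.symm
    · -- `x' = u⁻¹`
      have : y' = u * z := by rw [hy'eq, h1, inv_inv]
      rw [h1, this]
      simp
  have hle := COUNT.card_pairs_le x y z _ key
  rw [hCx, hCy] at hle
  refine le_trans hle ?_
  have hK : ({(x, y), (u⁻¹, u * z)} : Finset (G × G)).card ≤ 2 := Finset.card_le_two
  calc ({(x, y), (u⁻¹, u * z)} : Finset (G × G)).card * (9 * 9) ≤ 2 * (9 * 9) :=
        Nat.mul_le_mul_right _ hK
    _ = 162 := by norm_num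

theorem count_two_core
    (htri : ∀ {x y : G}, orderOf x = 3 → orderOf y = 3 → x * y ∈ (P : Subgroup G) → x * y ≠ 1 →
      ¬ IsConj x y → x ∈ (P : Subgroup G) ∧ y ∈ (P : Subgroup G))
    (hcomm : ∀ x y : (P : Subgroup G), x * y = y * x)
    (hexp : ∀ a ∈ (P : Subgroup G), a ^ 3 = 1)
    (hcard : Nat.card (P : Subgroup G) = 9)
    (hcent : ∀ s ∈ (P : Subgroup G), s ≠ 1 →
      Subgroup.centralizer ({s} : Set G) = (P : Subgroup G))
    {x y : G} (hx : x ∈ (P : Subgroup G)) (hy : y ∈ (P : Subgroup G)) (hx1 : x ≠ 1)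
    (hy1 : y ≠ 1) (hxi : IsConj x x⁻¹) (hnc : ¬ IsConj x y)
    (hfus : ∀ x' ∈ (P : Subgroup G), IsConj x x' → x' = x ∨ x' = x⁻¹) :
    Nat.card {c : G × G // (c.1 * x * c.1⁻¹) * (c.2 * y * c.2⁻¹) = x} = 0 := by
  classical
  haveI : Fact (Nat.Prime 3) := ⟨by norm_num⟩
  have hx3 : orderOf x = 3 := orderOf_eq_prime (hexp x hx) hx1
  have hy3 : orderOf y = 3 := orderOf_eq_prime (hexp y hy) hy1
  have hxxx : x * x * x = 1 := by
    have := hexp x hx
    rw [pow_succ, pow_two] at this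
    exact this
  have hxx : x * x = x⁻¹ := eq_inv_of_mul_eq_one_left hxxx
  rw [Nat.card_eq_zero]
  left
  refine ⟨fun c => ?_⟩
  obtain ⟨c, hcz⟩ := c
  set x' := c.1 * x * c.1⁻¹ with hx'
  set y' := c.2 * y * c.2⁻¹ with hy'
  have hxx' : IsConj x x' := isConj_iff.2 ⟨c.1, rfl⟩
  have hyy' : IsConj y y' := isConj_iff.2 ⟨c.2, rfl⟩
  have hnc' : ¬ IsConj x' y' := fun h => hnc ((hxx'.trans h).trans hyy'.symm)
  have hx'3 : orderOf x' = 3 := by rw [hx', COUNT.orderOf_conj, hx3]
  have hy'3 : orderOf y' = 3 := by rw [hy', COUNT.orderOf_conj, hy3]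
  obtain ⟨hx'P, hy'P⟩ := htri hx'3 hy'3 (by rw [hcz]; exact hx) (by rw [hcz]; exact hx1) hnc'
  have hy'eq : y' = x'⁻¹ * x := by rw [← hcz]; group
  rcases hfus x' hx'P hxx' with h1 | h1
  · have h2 : y' = 1 := by rw [hy'eq, h1, inv_mul_cancel]
    apply hy1
    have h3 : c.2 * y * c.2⁻¹ = 1 := h2
    calc y = c.2⁻¹ * (c.2 * y * c.2⁻¹) * c.2 := by group
      _ = 1 := by rw [h3]; group
  · have h2 : y' = x⁻¹ := by rw [hy'eq, h1, inv_inv, hxx]
    apply hnc
    rw [h2] at hyy'
    exact hxi.trans hyy'.symm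

end Grp

end Cfsg.Agent.Helper16.SSC

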