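import Mathlib
import Cfsg.Agent.Lib.Helper19.SSCCOUNTCore
import Cfsg.Agent.Lib.Lead.SSCTRI

/-!
# S3341 (helper16's farm-out), PIECE COUNT2 (helper19)
-/

set_option autoImplicit false
set_option linter.unusedSectionVars false
set_option linter.unusedVariables false

namespace Cfsg.Agent.Helper16.SSC

universe u

section Grp

variable {G : Type u} [Group G] [Finite G] (P : Sylow 3 G)

theorem count_two
    (hcomm : ∀ x y : (P : Subgroup G), x * y = y * x)
    (hexp : ∀ a ∈ (P : Subgroup G), a ^ 3 = 1)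
    (hcard : Nat.card (P : Subgroup G) = 9)
    (hcent : ∀ s ∈ (P : Subgroup G), s ≠ 1 →
      Subgroup.centralizer ({s} : Set G) = (P : Subgroup G))
    {x y : G} (hx : x ∈ (P : Subgroup G)) (hy : y ∈ (P : Subgroup G)) (hx1 : x ≠ 1)
    (hy1 : y ≠ 1) (hxi : IsConj x x⁻¹) (hnc : ¬ IsConj x y)
    (hfus : ∀ x' ∈ (P : Subgroup G), IsConj x x' → x' = x ∨ x' = x⁻¹) :
    Nat.card {c : G × G // (c.1 * x * c.1⁻¹) * (c.2 * y * c.2⁻¹) = x} = 0 :=
  count_two_core P
    (fun h1 h2 h3 h4 h5 => mem_of_mul_mem P hcomm hexp hcard hcent h1 h2 h3 h4 h5)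
    hcomm hexp hcard hcent hx hy hx1 hy1 hxi hnc hfus

end Grp

end Cfsg.Agent.Helper16.SSC
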