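import Mathlib
import Cfsg.Agent.Lib.Lead.SylowTools
import Cfsg.Agent.Lib.Helper3.SmallOrd
import Cfsg.Agent.S0496
import Cfsg.Agent.S0497

/-!
# S3341 (helper16's farm-out), PIECE FIN (helper19): `|G| ≤ 720`, `|P| = 9`, `|N(P) : P| = 4`, `G` simple
`⟹ G ≅ A₆`
-/

set_option autoImplicit false
set_option linter.unusedSectionVars false
set_option linter.unusedVariables false
set_option linter.style.haveILetI false

namespace Cfsg.Agent.Helper16.SSC

universe u

section Chr

variable {G : Type u} [Group G] [Finite G] (P : Sylow 3 G)

theorem fin_step [IsSimpleGroup G] (hcard : Nat.card (P : Subgroup G) = 9)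
    (he : (P : Subgroup G).relIndex (Subgroup.normalizer ((P : Subgroup G) : Set G)) = 4)
    (hle : Nat.card G ≤ 720) : Nonempty (G ≃* alternatingGroup (Fin 6)) := by
  classical
  haveI : Fact (Nat.Prime 3) := ⟨by norm_num⟩
  have h9 : 9 ∣ Nat.card G := by
    rw [← hcard]
    exact Subgroup.card_subgroup_dvd_card _
  have hnp : ¬ (Nat.card G).Prime := by
    intro hp
    rcases (Nat.dvd_prime hp).1 h9 with h | h
    · norm_num at h
    · rw [← h] at hp
      norm_num at hp
  have hG := Cfsg.Agent.Lead.nonabelian_of_not_prime hnp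
  have hnc := Cfsg.Agent.Helper3.SmallOrd.not_comm_of_nonab hG
  have hord := Cfsg.Agent.S0496.result hnc (le_trans hle (by norm_num))
  -- the index of the normalizer
  have hPi : Nat.card (P : Subgroup G) * (P : Subgroup G).index = Nat.card G :=
    Subgroup.card_mul_index _
  have hNi : (P : Subgroup G).relIndex (Subgroup.normalizer ((P : Subgroup G) : Set G)) *
      (Subgroup.normalizer ((P : Subgroup G) : Set G)).index = (P : Subgroup G).index :=
    Subgroup.relIndex_mul_index Subgroup.le_normalizer
  have hmod : (Subgroup.normalizer ((P : Subgroup G) : Set G)).index % 3 = 1 := by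
    have h1 := card_sylow_modEq_one 3 G
    rw [Sylow.card_eq_index_normalizer P] at h1
    exact h1
  rw [hcard] at hPi
  rw [he] at hNi
  rcases hord with h | h | h | h | h | h
  · exfalso; omega
  · exfalso; omega
  · exact Cfsg.Agent.S0497.result h
  · exfalso; omega
  · exfalso; omega
  · exfalso; omega

end Chr

end Cfsg.Agent.Helper16.SSC

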