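import Mathlib
import Cfsg.Agent.Lib.Helper16.SpUDefs

/-!
S2316 farm-out (helper16), piece SPU-RMEM: `U ∩ n B n⁻¹` consists of the unipotent elements with identity
diagonal blocks.
-/

set_option autoImplicit false
set_option linter.unusedSectionVars false
set_option linter.unusedVariables false

namespace Cfsg.Agent.Helper16.SpU

open Matrix Cfsg.Agent.Helper6.SpN Cfsg.Agent.Helper13.SpBN Cfsg.Agent.Helper13.SylO
  Cfsg.Agent.Helper6.Uni Cfsg.Agent.Helper2.WordLen Cfsg.Agent.Helper2.BN Cfsg.Agent.Helper17.BNCox

section comb
variable {m : ℕ} (A : Set (Fin m))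

/-- own copy of the statement of SPU-REV (1): inverting every linked adjacent pair reverses each block -/
theorem spu_rmem_rev_lt (ρ : Equiv.Perm (Fin m ⊕ Fin m))
    (hinv : ∀ a b, key b = key a + 1 → lnk A (key a) → key (ρ b) < key (ρ a)) :
    ∀ (k : ℕ) (c d : Fin m ⊕ Fin m), key d = key c + 1 + k → blk A c d → key (ρ d) < key (ρ c) := by
  intro k
  induction k with
  | zero =>
    intro c d hk hcd
    have hl : lnk A (key c) := by
      apply hcd (key c)
      · rw [min_eq_left (by omega)]
      · rw [max_eq_right (by omega)]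
        omega
    exact hinv c d (by omega) hl
  | succ k ih =>
    intro c d hk hcd
    have hd := key_lt d
    obtain ⟨e, he⟩ := exists_key_eq (m := m) (k := key c + 1) (by omega)
    have hl : lnk A (key c) := by
      apply hcd (key c)
      · rw [min_eq_left (by omega)]
      · rw [max_eq_right (by omega)]
        omega
    have h1 : key (ρ e) < key (ρ c) := hinv c e he hl
    have hed : blk A e d := blk_of_between A hcd (by omega) (by omega) (le_refl _)
    have h2 : key (ρ d) < key (ρ e) := ih e d (by omega) hed
    omega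

end comb

section sp
variable {m : ℕ} {F : Type*} [Field F]

/-- the diagonal of an element of `unipSp` is `1` at all positions -/
theorem spu_rmem_diag {x : symplecticGroup (Fin m) F} (hx : x ∈ unipSp m F) (a : Fin m ⊕ Fin m) :
    x.1 a a = 1 := by
  cases a with
  | inl i => exact hx.2 i
  | inr i =>
    have h := sp_inv_diag hx.1 (Sum.inl i) (hx.2 i)
    rw [inv_apply, sg_mul_self, one_mul] at h
    exact h

/-- PIECE SPU-RMEM, with the statement of `rev_lt` as a hypothesis-free core (own copy of `rev_lt`) -/
theorem mem_R_iff (A : Set (Fin m)) {n : symplecticGroup (Fin m) F}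
    {π : Equiv.Perm (Fin m ⊕ Fin m)} (hn : IsMon n.1 π) (hblk : ∀ a, blk A a (π⁻¹ a))
    (hinv : ∀ a b, key b = key a + 1 → lnk A (key a) → key (π⁻¹ b) < key (π⁻¹ a))
    {x : symplecticGroup (Fin m) F} (hx : x ∈ unipSp m F) :
    n⁻¹ * x * n ∈ bor m F ↔ BlkId A x := by
  have hpi1 : ∀ a, π⁻¹ (π a) = a := fun a => by simp
  have hpi2 : ∀ a, π (π⁻¹ a) = a := fun a => by simp
  -- the entries of the conjugate
  have hent : ∀ a b, (n⁻¹ * x * n).1 a b = 0 ↔ x.1 (π a) (π b) = 0 := by
    intro a b
    rw [conj_inv_apply hn x a b]
    have h1 : (n⁻¹ : symplecticGroup (Fin m) F).1 a (π a) ≠ 0 := by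
      have := hn.inv'.apply_ne_zero (π a)
      rw [hpi1] at this
      exact this
    have h2 : n.1 (π b) b ≠ 0 := hn.apply_ne_zero b
    constructor
    · intro h
      rcases mul_eq_zero.1 h with h | h
      · rcases mul_eq_zero.1 h with h | h
        · exact absurd h h1
        · exact h
      · exact absurd h h2
    · intro h
      rw [h, mul_zero, zero_mul]
  have hrev : ∀ c d : Fin m ⊕ Fin m, blk A c d → key c < key d → key (π⁻¹ d) < key (π⁻¹ c) := by
    intro c d hcd hlt
    exact spu_rmem_rev_lt A π⁻¹ hinv (key d - key c - 1) c d (by omega) hcd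
  constructor
  · intro h c d hcd
    rcases lt_trichotomy (key c) (key d) with hlt | heq | hgt
    · have h1 := hrev c d hcd hlt
      have h2 := h (π⁻¹ c) (π⁻¹ d) h1
      rw [hent, hpi2, hpi2] at h2
      have hne : c ≠ d := fun e => by rw [e] at hlt; exact lt_irrefl _ hlt
      rw [h2, Matrix.one_apply_ne hne]
    · have : c = d := key_injective heq
      subst this
      rw [spu_rmem_diag hx, Matrix.one_apply_eq]
    · have hne : c ≠ d := fun e => by rw [e] at hgt; exact lt_irrefl _ hgt
      rw [hx.1 c d hgt, Matrix.one_apply_ne hne]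
  · intro h a b hab
    rw [hent]
    rcases lt_trichotomy (key (π a)) (key (π b)) with hlt | heq | hgt
    · by_cases hb : blk A (π a) (π b)
      · have hne : π a ≠ π b := fun e => by rw [e] at hlt; exact lt_irrefl _ hlt
        rw [h _ _ hb, Matrix.one_apply_ne hne]
      · exfalso
        have := rev_lt_of_not_blk A π⁻¹ hblk hb hlt
        rw [hpi1, hpi1] at this
        omega
    · exfalso
      have : π a = π b := key_injective heq
      have : a = b := π.injective this
      rw [this] at hab
      exact lt_irrefl _ hab
    · exact hx.1 _ _ hgt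

end sp

end Cfsg.Agent.Helper16.SpU
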