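import Mathlib
import Cfsg.Agent.Lib.Helper16.TC648Defs
import Cfsg.Agent.Lib.Helper16.TC648Core
import Cfsg.Agent.Lib.Helper19.TC648SUMF

/-!
# S3702 (helper16's farm-out), CHAR piece SUMV (helper19)

The sum of `φ · (ν̃ - 1) · ω_cⁿ` over the words of `C_H(t1 t2 t3) = J⟨c⟩`, in terms of the nine class
representatives.
-/

set_option autoImplicit false
set_option linter.unusedSectionVars false
set_option linter.unusedVariables false
set_option linter.style.haveILetI false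
set_option linter.unusedSimpArgs false

namespace Cfsg.Agent.Helper16.TC648

open Cfsg Cfsg.Agent.Helper24
open scoped ComplexConjugate

universe u

/-- the combinatorial part: the distribution of the words `t1^i t2^j t3^k c^l` (`i + j + k ≠ 0`) over the classes -/
theorem sumv_comb (f : Fin 9 → ℂ) (A : Fin 3 → ℂ) (B : Fin 3 → ℂ) (hA : A 0 = 0) :
    ∑ i : Fin 3, ∑ j : Fin 3, ∑ k : Fin 3, ∑ l : Fin 3, f (clsV i j k l) * A (i + j + k) * B l =
      B 0 * ((A 1 + A 2) * (3 * f 0 + 3 * f 1 + 3 * f 2)) +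
      B 1 * (9 * A 1 * f 7 + 9 * A 2 * f 8) + B 2 * (9 * A 2 * f 7 + 9 * A 1 * f 8) := by
  simp only [Fin.sum_univ_three]
  simp (config := {decide := true}) only [clsV, clsJ, if_true, if_false, Fin.reduceAdd, Fin.isValue, zero_add,
    add_zero, hA]
  ring

/-- `ω^(2s)` depends only on `s mod 3` -/
theorem sumv_pow {ω : ℂ} (hω : ω ^ 2 + ω + 1 = 0) (i j k : Fin 3) :
    ω ^ (2 * ((i : ℕ) + (j : ℕ) + (k : ℕ))) = (ω ^ 2) ^ ((i + j + k : Fin 3) : ℕ) := by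
  have h3 : (ω ^ 2) ^ 3 = 1 := by
    have := omega_cube hω
    calc (ω ^ 2) ^ 3 = (ω ^ 3) ^ 2 := by ring
      _ = 1 := by rw [this, one_pow]
  rw [pow_mul, pow_eq_pow_mod _ h3]
  congr 1
  rw [Fin.val_add, Fin.val_add]
  omega

variable {G : Type u} [Group G]

/-- PIECE SUMV -/
theorem sum_V (C : Cfg G) (hF : Facts C) {ω : ℂ} (hω : ω ^ 2 + ω + 1 = 0) {φ : G → ℂ}
    (hφ : IsClassFunction G φ) (n : Fin 3) :
    ∑ i : Fin 3, ∑ j : Fin 3, ∑ k : Fin 3, ∑ l : Fin 3,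
      φ (C.wJ i j k * C.c ^ (l : ℕ)) * (ω ^ (2 * ((i : ℕ) + (j : ℕ) + (k : ℕ))) - 1) *
        ω ^ (2 * (n : ℕ) * (l : ℕ)) =
      81 * ∑ a : Fin 9, tab (sq3 ω) (rowV n) a * φ (C.z a) / (cz a : ℂ) := by
  set f : Fin 9 → ℂ := fun a => φ (C.z a) with hf
  have step : ∀ (i j k : Fin 3) (l : Fin 3),
      φ (C.wJ i j k * C.c ^ (l : ℕ)) * (ω ^ (2 * ((i : ℕ) + (j : ℕ) + (k : ℕ))) - 1) *
          ω ^ (2 * (n : ℕ) * (l : ℕ)) =
        f (clsV i j k l) * (fun s : Fin 3 => (ω ^ 2) ^ (s : ℕ) - 1) (i + j + k) *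
          (fun l : Fin 3 => ω ^ (2 * (n : ℕ) * (l : ℕ))) l := by
    intro i j k l
    rw [sumv_pow hω]
    by_cases hi : i + j + k = 0
    · rw [hi]
      simp
    · have := sumf_conj hφ (hF.conjV i j k l hi)
      simp only [hf]
      rw [this]
  simp_rw [step]
  have hcomb := sumv_comb f (fun s : Fin 3 => (ω ^ 2) ^ (s : ℕ) - 1)
    (fun l : Fin 3 => ω ^ (2 * (n : ℕ) * (l : ℕ))) (by simp)
  beta_reduce at hcomb
  rw [hcomb, sumf_tab]
  have h2 : ω ^ 2 = -ω - 1 := by linear_combination hω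
  have h3 : ω ^ 3 = 1 := omega_cube hω
  have h4 : ω ^ 4 = ω := by linear_combination (ω ^ 2 - ω) * hω
  have h8 : ω ^ 8 = -ω - 1 := by linear_combination (ω ^ 6 - ω ^ 5 + ω ^ 3 - ω ^ 2 + 1) * hω
  fin_cases n <;> simp [tab, rowV, sq3] <;> (try simp only [h8, h4, h2]) <;> ring_nf <;>
    (try simp only [h8, h4, h3, h2]) <;> ring

end Cfsg.Agent.Helper16.TC648
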