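import Mathlib
import Cfsg.Agent.Lib.Helper2.Psln25
import Cfsg.Agent.Lib.Helper2.OutCongr
import Cfsg.Agent.Lib.Helper10.EOAssembly

/-!
# S2262 piece AO-CNTB (helper19): counting the scalar multiples of the powers of `M` in a span.
-/

set_option autoImplicit false
set_option linter.unusedSectionVars false
set_option linter.unusedVariables false

namespace Cfsg.Agent.Helper17.AO

open Polynomial Matrix Cfsg.Agent.Helper2.PN
open Cfsg.Agent.Helper10.EO (star)
open Cfsg.Agent.Helper13.FAut (fixedField mem_fixedField)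

section mat
variable {F : Type*} [Field F] {n : ℕ}

theorem ao_cntb_center (h : GL (Fin n) F) (c : F)
    (hc : (h : Matrix (Fin n) (Fin n) F) = c • (1 : Matrix (Fin n) (Fin n) F)) :
    h ∈ Subgroup.center (GL (Fin n) F) := by
  rw [Subgroup.mem_center_iff]
  intro x
  apply Units.ext
  rw [Units.val_mul, Units.val_mul, hc, Matrix.mul_smul, Matrix.smul_mul, Matrix.mul_one,
    Matrix.one_mul]

theorem ao_cntb_inv_pow (M : GL (Fin n) F) (i : ℕ) :
    ((M ^ i)⁻¹ : GL (Fin n) F).val * (M : Matrix (Fin n) (Fin n) F) ^ i = 1 := by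
  rw [← Units.val_pow_eq_pow_val, ← Units.val_mul, inv_mul_cancel]
  rfl

theorem ao_cntb_smul_one_inj (hn : 1 ≤ n) (a b : F)
    (h : a • (1 : Matrix (Fin n) (Fin n) F) = b • (1 : Matrix (Fin n) (Fin n) F)) : a = b := by
  have := congrFun (congrFun h ⟨0, hn⟩) ⟨0, hn⟩
  simpa using this

theorem ao_cntb_ne_zero (hn : 1 ≤ n) (M : GL (Fin n) F) (a : F) (ha : a ≠ 0) (i : ℕ) :
    a • (M : Matrix (Fin n) (Fin n) F) ^ i ≠ 0 := by
  intro h
  have h1 := congrArg (fun A => ((M ^ i)⁻¹ : GL (Fin n) F).val * A) h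
  simp only [Matrix.mul_smul, Matrix.mul_zero] at h1
  rw [ao_cntb_inv_pow] at h1
  apply ha
  apply ao_cntb_smul_one_inj hn
  rw [h1, zero_smul]

theorem ao_cntb_key (hn : 1 ≤ n) (M : GL (Fin n) F) (k : ℕ)
    (hk : ∀ d, M ^ d ∈ Subgroup.center (GL (Fin n) F) → k ∣ d)
    (c c' : F) (hc : c ≠ 0) (hc' : c' ≠ 0) (i i' : ℕ) (hii : i ≤ i') (hi' : i' < k)
    (h : c • (M : Matrix (Fin n) (Fin n) F) ^ i = c' • (M : Matrix (Fin n) (Fin n) F) ^ i') :
    i = i' ∧ c = c' := by
  obtain ⟨d, rfl⟩ := Nat.exists_eq_add_of_le hii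
  have h1 := congrArg (fun A => ((M ^ i)⁻¹ : GL (Fin n) F).val * A) h
  simp only [Matrix.mul_smul] at h1
  rw [ao_cntb_inv_pow, pow_add, ← Matrix.mul_assoc, ao_cntb_inv_pow, Matrix.one_mul] at h1
  have h2 : (M : Matrix (Fin n) (Fin n) F) ^ d =
      (c'⁻¹ * c) • (1 : Matrix (Fin n) (Fin n) F) := by
    rw [mul_smul, h1, smul_smul, inv_mul_cancel₀ hc', one_smul]
  have h3 : M ^ d ∈ Subgroup.center (GL (Fin n) F) :=
    ao_cntb_center (M ^ d) _ (by rw [Units.val_pow_eq_pow_val]; exact h2)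
  have h4 : k ∣ d := hk d h3
  have hd0 : d = 0 := Nat.eq_zero_of_dvd_of_lt h4 (by omega)
  subst hd0
  refine ⟨rfl, ?_⟩
  rw [pow_zero] at h1
  exact ao_cntb_smul_one_inj hn _ _ h1

theorem count_of_span [Fintype F] (K : Subfield F) (hn : 1 ≤ n) (M : GL (Fin n) F)
    (hspan : ∀ j : ℕ, (M : Matrix (Fin n) (Fin n) F) ^ j ∈ Submodule.span K
      (Set.range fun i : Fin n => (M : Matrix (Fin n) (Fin n) F) ^ (i : ℕ))) :
    ∃ k : ℕ, 0 < k ∧ M ^ k ∈ Subgroup.center (GL (Fin n) F) ∧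
      (Nat.card K - 1) * k ≤ Nat.card K ^ n - 1 := by
  classical
  set k := orderOf (QuotientGroup.mk M : GL (Fin n) F ⧸ Subgroup.center (GL (Fin n) F))
    with hkdef
  have hk0 : 0 < k := orderOf_pos _
  have hmem : ∀ d, M ^ d ∈ Subgroup.center (GL (Fin n) F) ↔ k ∣ d := by
    intro d
    rw [← QuotientGroup.eq_one_iff, QuotientGroup.mk_pow, orderOf_dvd_iff_pow_eq_one]
  refine ⟨k, hk0, (hmem k).2 dvd_rfl, ?_⟩
  have : Fintype K := Fintype.ofFinite K
  let ev : (Fin n → K) → Matrix (Fin n) (Fin n) F :=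
    fun f => ∑ j, f j • (M : Matrix (Fin n) (Fin n) F) ^ (j : ℕ)
  have hex : ∀ (c : Kˣ) (i : Fin k), ∃ f : Fin n → K,
      ev f = ((c : K) : F) • (M : Matrix (Fin n) (Fin n) F) ^ (i : ℕ) := by
    intro c i
    have h1 : (c : K) • (M : Matrix (Fin n) (Fin n) F) ^ (i : ℕ) ∈ Submodule.span K
        (Set.range fun i : Fin n => (M : Matrix (Fin n) (Fin n) F) ^ (i : ℕ)) :=
      Submodule.smul_mem _ _ (hspan i)
    rw [Submodule.mem_span_range_iff_exists_fun] at h1
    obtain ⟨f, hf⟩ := h1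
    exact ⟨f, hf⟩
  choose ψ hψ using hex
  let Ψ : Option (Kˣ × Fin k) → (Fin n → K) := fun o =>
    match o with
    | none => 0
    | some (c, i) => ψ c i
  have hev0 : ev 0 = 0 := by
    apply Finset.sum_eq_zero
    intro j _
    exact zero_smul _ _
  have hcne : ∀ c : Kˣ, ((c : K) : F) ≠ 0 := by
    intro c h0
    exact c.ne_zero (Subtype.ext h0)
  have hinj : Function.Injective Ψ := by
    intro a b hab
    have hev := congrArg ev hab
    rcases a with _ | ⟨c, i⟩ <;> rcases b with _ | ⟨c', i'⟩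
    · rfl
    · exfalso
      have h1 : ev 0 = ev (ψ c' i') := hev
      rw [hev0, hψ] at h1
      exact ao_cntb_ne_zero hn M _ (hcne c') _ h1.symm
    · exfalso
      have h1 : ev (ψ c i) = ev 0 := hev
      rw [hev0, hψ] at h1
      exact ao_cntb_ne_zero hn M _ (hcne c) _ h1
    · have h1 : ev (ψ c i) = ev (ψ c' i') := hev
      rw [hψ, hψ] at h1
      rcases le_total (i : ℕ) (i' : ℕ) with hle | hle
      · obtain ⟨h2, h3⟩ := ao_cntb_key hn M k (fun d hd => (hmem d).1 hd) _ _ (hcne c) (hcne c')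
          _ _ hle i'.2 h1
        have hi : i = i' := Fin.ext h2
        have hc : c = c' := Units.ext (Subtype.ext h3)
        rw [hi, hc]
      · obtain ⟨h2, h3⟩ := ao_cntb_key hn M k (fun d hd => (hmem d).1 hd) _ _ (hcne c') (hcne c)
          _ _ hle i.2 h1.symm
        have hi : i = i' := Fin.ext h2.symm
        have hc : c = c' := Units.ext (Subtype.ext h3.symm)
        rw [hi, hc]
  have hcard := Fintype.card_le_of_injective Ψ hinj
  rw [Fintype.card_option, Fintype.card_prod, Fintype.card_units, Fintype.card_fin,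
    Fintype.card_fun, Fintype.card_fin] at hcard
  rw [Nat.card_eq_fintype_card]
  omega

end mat

end Cfsg.Agent.Helper17.AO
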