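import Mathlib
import Cfsg.Agent.Lib.Helper2.Psln25
import Cfsg.Agent.Lib.Helper2.OutCongr
import Cfsg.Agent.Lib.Helper10.EOAssembly

/-!
# S2262 piece AO-FORM (helper19): the twisted form preserved by `g^{-T} g^σ`.
-/

set_option autoImplicit false
set_option linter.unusedSectionVars false
set_option linter.unusedVariables false

namespace Cfsg.Agent.Helper17.AO

open Polynomial Matrix Cfsg.Agent.Helper2.PN
open Cfsg.Agent.Helper10.EO (star)
open Cfsg.Agent.Helper13.FAut (fixedField mem_fixedField)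

section mat
variable {F : Type*} [Field F] {n : ℕ}

theorem twisted_form (σ : RingAut F) (hσ2 : σ ^ 2 = 1) (g : GL (Fin n) F) :
    (((gT g * fieldGLHom σ g : GL (Fin n) F) : Matrix (Fin n) (Fin n) F).map σ)ᵀ *
        ((g : Matrix (Fin n) (Fin n) F).map σ) *
        ((gT g * fieldGLHom σ g : GL (Fin n) F) : Matrix (Fin n) (Fin n) F) =
      (g : Matrix (Fin n) (Fin n) F).map σ := by
  set G : Matrix (Fin n) (Fin n) F := (g : Matrix (Fin n) (Fin n) F) with hG
  set Gi : Matrix (Fin n) (Fin n) F := ((g⁻¹ : GL (Fin n) F) : Matrix (Fin n) (Fin n) F) with hGi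
  have h2 : Gi * G = 1 := by
    rw [hG, hGi, ← Units.val_mul, inv_mul_cancel]
    rfl
  have hmapmul : ∀ A B : Matrix (Fin n) (Fin n) F, (A * B).map σ = A.map σ * B.map σ :=
    fun A B => Matrix.map_mul (f := (σ : F →+* F))
  have hσσ : ∀ A : Matrix (Fin n) (Fin n) F, (A.map σ).map σ = A := by
    intro A
    ext i j
    have : (σ ^ 2) (A i j) = A i j := by rw [hσ2]; rfl
    exact this
  have hmap1 : (1 : Matrix (Fin n) (Fin n) F).map σ = 1 :=
    Matrix.map_one (σ : F → F) (map_zero σ) (map_one σ)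
  have hh : ((gT g * fieldGLHom σ g : GL (Fin n) F) : Matrix (Fin n) (Fin n) F) =
      Giᵀ * G.map σ := by
    rw [Units.val_mul, gT_coe, fieldGLHom_coe']
  rw [hh, hmapmul, hσσ, Matrix.transpose_mul, Matrix.transpose_map, Matrix.transpose_transpose]
  calc Gᵀ * Gi.map σ * G.map σ * (Giᵀ * G.map σ)
      = Gᵀ * (Gi.map σ * G.map σ) * Giᵀ * G.map σ := by
        simp only [Matrix.mul_assoc]
    _ = Gᵀ * Giᵀ * G.map σ := by rw [← hmapmul, h2, hmap1, Matrix.mul_one]
    _ = G.map σ := by rw [← Matrix.transpose_mul, h2, Matrix.transpose_one, Matrix.one_mul]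

end mat

end Cfsg.Agent.Helper17.AO
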