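import Mathlib
import Cfsg.Agent.Lib.Helper19.CoprimeAbelian

set_option autoImplicit false
set_option linter.unusedSectionVars false
set_option linter.unusedVariables false
set_option linter.style.haveILetI false

/-!
# Coprime action on abelian `p`-groups: an invariant cyclic subgroup over a prescribed socle

* `CoAb.exists_pure_over` : for an invariant subgroup `W` of `p^(e-1)`-th powers there is an
  invariant pure subgroup `B` with `B^(p^(e-1)) = W`.
* `CoAb.exists_generator_of_pure` : if moreover `|W| = p`, then `B` is cyclic of order `p^e`.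
* `exists_invariant_cyclic` : the version inside an ambient group (piece B of S1421).
-/

namespace Cfsg.Agent.Helper19.CoAb

open Subgroup

variable {Γ E : Type*} [Group Γ] [CommGroup E] [MulDistribMulAction Γ E]

/-- an invariant pure subgroup over a prescribed invariant subgroup of `p^(e-1)`-th powers -/
theorem exists_pure_over [Finite Γ] [Finite E] {p : ℕ} [Fact p.Prime]
    (hco : (Nat.card Γ).Coprime p) {e : ℕ} {W : Subgroup E} (hW : Inv Γ W)
    (hWU : W ≤ (powMonoidHom (p ^ (e - 1)) : E →* E).range) :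
    ∃ B : Subgroup E, Inv Γ B ∧ B.map (powMonoidHom (p ^ (e - 1))) = W ∧
      (∀ b ∈ B, b ^ p ^ (e - 1) = 1 → ∃ b' ∈ B, b' ^ p = b) := by
  obtain ⟨B, ⟨hB, hBW⟩, hBmin⟩ := Set.exists_min_image
    {B : Subgroup E | Inv Γ B ∧ B.map (powMonoidHom (p ^ (e - 1))) = W}
    (fun B => Nat.card B) (Set.toFinite _)
    ⟨W.comap (powMonoidHom (p ^ (e - 1))), inv_comap_pow _ hW, by
      rw [Subgroup.map_comap_eq]; exact inf_eq_right.mpr hWU⟩
  have hK : Inv Γ (B ⊓ (powMonoidHom (p ^ (e - 1)) : E →* E).ker) := hB.inf (inv_ker_pow _)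
  have hsup : ∀ B' : Subgroup E, Inv Γ B' → B' ≤ B →
      B' ⊔ (B ⊓ (powMonoidHom (p ^ (e - 1)) : E →* E).ker) = B → B' = B := by
    intro B' hB' hle hsup
    have hmap : B'.map (powMonoidHom (p ^ (e - 1))) = W := by
      have h1 : (B ⊓ (powMonoidHom (p ^ (e - 1)) : E →* E).ker).map
          (powMonoidHom (p ^ (e - 1))) = ⊥ := by
        rw [Subgroup.map_eq_bot_iff]
        exact inf_le_right
      rw [← hBW, ← hsup, Subgroup.map_sup, h1, sup_bot_eq]
    exact Subgroup.eq_of_le_of_card_ge hle (hBmin B' ⟨hB', hmap⟩)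
  have hKle := le_of_superfluous hco hB hK (inv_map_pow p hB)
    (fun b hb => ⟨b, hb, rfl⟩) inf_le_left hsup
  refine ⟨B, hB, hBW, ?_⟩
  intro b hb hb1
  have hbk : b ∈ (powMonoidHom (p ^ (e - 1)) : E →* E).ker := by
    rw [MonoidHom.mem_ker, powMonoidHom_apply]; exact hb1
  obtain ⟨b', hb', hbb'⟩ := hKle ⟨hb, hbk⟩
  exact ⟨b', hb', hbb'⟩

/-- a pure subgroup whose `p^(e-1)`-th powers form a group of order `p` is cyclic of
order `p^e` -/
theorem exists_generator_of_pure {p : ℕ} [Fact p.Prime] {e : ℕ} (he : 1 ≤ e)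
    (hexp : ∀ a : E, a ^ p ^ e = 1) {B W : Subgroup E} (hWc : Nat.card W = p)
    (hBW : B.map (powMonoidHom (p ^ (e - 1))) = W)
    (hpure : ∀ b ∈ B, b ^ p ^ (e - 1) = 1 → ∃ b' ∈ B, b' ^ p = b) :
    ∃ b₀ ∈ B, B = zpowers b₀ ∧ orderOf b₀ = p ^ e := by
  have hp : p.Prime := Fact.out
  -- a nontrivial element of `W`
  have hWne : W ≠ ⊥ := by
    intro h
    rw [h, Subgroup.card_bot] at hWc
    exact hp.one_lt.ne hWc
  obtain ⟨⟨w₀, hw₀W⟩, hw₀1⟩ := (Subgroup.ne_bot_iff_exists_ne_one).mp hWne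
  have hw₀1' : w₀ ≠ 1 := fun h => hw₀1 (Subtype.ext h)
  have hw₀B : w₀ ∈ B.map (powMonoidHom (p ^ (e - 1))) := by rw [hBW]; exact hw₀W
  obtain ⟨b₀, hb₀, hb₀w⟩ := hw₀B
  rw [powMonoidHom_apply] at hb₀w
  -- every element of `W` is a power of `w₀`
  have hgen : ∀ w ∈ W, ∃ k : ℤ, w₀ ^ k = w := by
    intro w hw
    have h := mem_zpowers_of_prime_card (G := W) (p := p) hWc
      (g := ⟨w₀, hw₀W⟩) (g' := ⟨w, hw⟩) (fun h => hw₀1' (by simpa using congrArg Subtype.val h))
    obtain ⟨k, hk⟩ := Subgroup.mem_zpowers_iff.mp h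
    refine ⟨k, ?_⟩
    have := congrArg Subtype.val hk
    simpa using this
  -- one step
  have hstep : ∀ x ∈ B, ∃ k : ℤ, ∃ y ∈ B, x = b₀ ^ k * y ^ p := by
    intro x hx
    have hxW : x ^ p ^ (e - 1) ∈ W := by
      rw [← hBW]; exact ⟨x, hx, rfl⟩
    obtain ⟨k, hk⟩ := hgen _ hxW
    have hz : x * (b₀ ^ k)⁻¹ ∈ B := B.mul_mem hx (B.inv_mem (B.zpow_mem hb₀ k))
    have hz1 : (x * (b₀ ^ k)⁻¹) ^ p ^ (e - 1) = 1 := by
      rw [mul_pow, inv_pow, ← zpow_natCast (b₀ ^ k), ← zpow_mul, mul_comm k, zpow_mul,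
        zpow_natCast, hb₀w, hk, mul_inv_cancel]
    obtain ⟨y, hy, hyz⟩ := hpure _ hz hz1
    refine ⟨k, y, hy, ?_⟩
    rw [hyz, mul_comm, inv_mul_cancel_right]
  have hiter : ∀ j : ℕ, ∀ x ∈ B, ∃ k : ℤ, ∃ y ∈ B, x = b₀ ^ k * y ^ p ^ j := by
    intro j
    induction j with
    | zero =>
      intro x hx
      exact ⟨0, x, hx, by simp⟩
    | succ j ih =>
      intro x hx
      obtain ⟨k, y, hy, hxy⟩ := ih x hx
      obtain ⟨k', z, hz, hyz⟩ := hstep y hy
      refine ⟨k + k' * (p ^ j : ℕ), z, hz, ?_⟩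
      rw [hxy, hyz, mul_pow, ← zpow_natCast (b₀ ^ k'), ← zpow_mul, zpow_add, mul_assoc,
        ← pow_mul, ← pow_succ']
  refine ⟨b₀, hb₀, ?_, ?_⟩
  · apply le_antisymm
    · intro x hx
      obtain ⟨k, y, hy, hxy⟩ := hiter e x hx
      rw [hexp y, mul_one] at hxy
      rw [hxy]
      exact Subgroup.zpow_mem_zpowers b₀ k
    · rw [Subgroup.zpowers_le]; exact hb₀
  · have hdvd : orderOf b₀ ∣ p ^ e := orderOf_dvd_of_pow_eq_one (hexp b₀)
    obtain ⟨k, hk, hkeq⟩ := (Nat.dvd_prime_pow hp).mp hdvd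
    rcases Nat.lt_or_ge k e with hlt | hge
    · exfalso
      apply hw₀1'
      rw [← hb₀w]
      apply orderOf_dvd_iff_pow_eq_one.mp
      rw [hkeq]
      exact pow_dvd_pow p (by omega)
    · rw [hkeq, le_antisymm hk hge]

end Cfsg.Agent.Helper19.CoAb

namespace Cfsg.Agent.Helper19

open Subgroup

universe u

/-- **S1421, piece B.**  `S` abelian of exponent dividing `p^e`, normalised by the `p'`-group
`T`; `L ≤ S` of order `p`, `T`-invariant and consisting of `p^(e-1)`-th powers of elements of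
`S`.  Then `L` lies in a `T`-invariant cyclic subgroup of `S` of order `p^e`. -/
theorem exists_invariant_cyclic {G : Type u} [Group G] [Finite G] {p : ℕ} [Fact p.Prime]
    {S T L : Subgroup G} {e : ℕ} (he : 1 ≤ e)
    (hSab : ∀ a ∈ S, ∀ b ∈ S, a * b = b * a) (hexp : ∀ s ∈ S, s ^ p ^ e = 1)
    (hTS : T ≤ normalizer (S : Set G)) (hco : (Nat.card T).Coprime p) (hLS : L ≤ S)
    (hLc : Nat.card L = p) (hTL : T ≤ normalizer (L : Set G))
    (hLpow : ∀ l ∈ L, ∃ s ∈ S, s ^ p ^ (e - 1) = l) :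
    ∃ P0 : Subgroup G, L ≤ P0 ∧ P0 ≤ S ∧ T ≤ normalizer (P0 : Set G) ∧ IsCyclic P0 ∧
      Nat.card P0 = p ^ e := by
  letI : CommGroup S :=
    { (inferInstance : Group S) with mul_comm := fun a b => Subtype.ext (hSab a a.2 b b.2) }
  letI : MulDistribMulAction T S :=
    { smul := fun t s => ⟨(t : G) * s * (t : G)⁻¹, (mem_normalizer_iff.mp (hTS t.2) s).mp s.2⟩
      one_smul := fun s => Subtype.ext (by
        show ((1 : T) : G) * s * ((1 : T) : G)⁻¹ = s
        simp)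
      mul_smul := fun t t' s => Subtype.ext (by
        show ((t * t' : T) : G) * s * ((t * t' : T) : G)⁻¹ =
          (t : G) * ((t' : G) * s * (t' : G)⁻¹) * (t : G)⁻¹
        simp only [Subgroup.coe_mul, mul_inv_rev]; group)
      smul_mul := fun t a b => Subtype.ext (by
        show (t : G) * ((a * b : S) : G) * (t : G)⁻¹ =
          ((t : G) * a * (t : G)⁻¹) * ((t : G) * b * (t : G)⁻¹)
        simp only [Subgroup.coe_mul]; group)
      smul_one := fun t => Subtype.ext (by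
        show (t : G) * ((1 : S) : G) * (t : G)⁻¹ = 1
        simp) }
  have hsmul : ∀ (t : T) (s : S), ((t • s : S) : G) = (t : G) * s * (t : G)⁻¹ := fun _ _ => rfl
  -- the prescribed socle
  have hW : CoAb.Inv T (L.subgroupOf S) := by
    intro t w hw
    rw [Subgroup.mem_subgroupOf] at hw ⊢
    rw [hsmul]
    exact (mem_normalizer_iff.mp (hTL t.2) _).mp hw
  have hWU : L.subgroupOf S ≤ (powMonoidHom (p ^ (e - 1)) : S →* S).range := by
    intro w hw
    rw [Subgroup.mem_subgroupOf] at hw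
    obtain ⟨s, hs, hsw⟩ := hLpow _ hw
    exact ⟨⟨s, hs⟩, Subtype.ext (by simpa using hsw)⟩
  have hWc : Nat.card (L.subgroupOf S) = p := by
    rw [Nat.card_congr (Subgroup.subgroupOfEquivOfLe hLS).toEquiv, hLc]
  have hexp' : ∀ a : S, a ^ p ^ e = 1 := fun a => Subtype.ext (by simpa using hexp a a.2)
  obtain ⟨B, hB, hBW, hpure⟩ := CoAb.exists_pure_over (Γ := T) (E := S) hco (e := e) hW hWU
  obtain ⟨b₀, hb₀, hBz, hord⟩ := CoAb.exists_generator_of_pure he hexp' hWc hBW hpure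
  have hWB : L.subgroupOf S ≤ B := by
    rw [← hBW]
    rintro _ ⟨b, hb, rfl⟩
    rw [powMonoidHom_apply]
    exact B.pow_mem hb _
  have hconj : ∀ t ∈ T, ∀ x ∈ B.map S.subtype, t * x * t⁻¹ ∈ B.map S.subtype := by
    rintro t ht _ ⟨b, hb, rfl⟩
    exact ⟨(⟨t, ht⟩ : T) • b, hB _ b hb, rfl⟩
  refine ⟨B.map S.subtype, ?_, Subgroup.map_subtype_le _, ?_, ?_, ?_⟩
  · intro l hl
    exact ⟨⟨l, hLS hl⟩, hWB (by rw [Subgroup.mem_subgroupOf]; exact hl), rfl⟩
  · intro t ht
    rw [mem_normalizer_iff]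
    intro x
    constructor
    · exact hconj t ht x
    · intro hx
      have := hconj t⁻¹ (T.inv_mem ht) _ hx
      rw [inv_inv] at this
      have h2 : t⁻¹ * (t * x * t⁻¹) * t = x := by group
      rwa [h2] at this
  · rw [hBz, MonoidHom.map_zpowers]
    infer_instance
  · rw [hBz, MonoidHom.map_zpowers, Nat.card_zpowers]
    show orderOf (b₀ : G) = p ^ e
    rw [Subgroup.orderOf_coe, hord]

end Cfsg.Agent.Helper19
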