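import Mathlib
import Cfsg.Agent.Lib.Helper18.Derangement

set_option autoImplicit false
set_option linter.unusedSectionVars false
set_option linter.unusedVariables false
set_option linter.style.haveILetI false
set_option linter.unusedSimpArgs false

namespace Cfsg.Agent.Helper17.Der1

open MulAction

variable {G : Type*} [Group G] {X : Type*} [MulAction G X]

/-- PIECE JOR (1): Jordan: a finite transitive group on at least two points has a derangement. -/
theorem exists_derangement [Finite G] [Finite X] [IsPretransitive G X] (hX : 2 ≤ Nat.card X) :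
    ∃ g : G, ∀ ω : X, g • ω ≠ ω := by
  by_contra hcon
  push Not at hcon
  have hD : ∀ g : G, (∀ ω : X, g • ω ≠ ω) → g ∈ (⊥ : Subgroup G) := by
    intro g hg
    obtain ⟨ω, hω⟩ := hcon g
    exact absurd hω (hg ω)
  obtain ⟨htr, -⟩ := Cfsg.Agent.Helper18.der_main (X := X) (⊥ : Subgroup G) hD
  have hsub : Subsingleton X := by
    refine ⟨fun x y => ?_⟩
    obtain ⟨g, hg⟩ := htr.exists_smul_eq x y
    have h1 : (g : G) = 1 := Subgroup.mem_bot.mp g.2
    have h2 : g • x = (g : G) • x := rfl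
    rw [h2, h1, one_smul] at hg
    exact hg
  have := Finite.card_le_one_iff_subsingleton.mpr hsub
  omega

/-- PIECE JOR (2): subgroup version. -/
theorem exists_derangement_mem [Finite G] [Finite X] (K : Subgroup G) [IsPretransitive K X]
    (hX : 2 ≤ Nat.card X) : ∃ g ∈ K, ∀ ω : X, g • ω ≠ ω := by
  obtain ⟨g, hg⟩ := exists_derangement (G := K) (X := X) hX
  exact ⟨(g : G), g.2, fun ω => hg ω⟩

/-- PIECE JOR (3): the union of the conjugates of a proper subgroup is proper. -/
theorem exists_not_conj_mem [Finite G] (N L : Subgroup G) (hLN : L ≤ N) (hne : L ≠ N) :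
    ∃ x ∈ N, ∀ n ∈ N, n⁻¹ * x * n ∉ L := by
  have hidx : 2 ≤ Nat.card (↥N ⧸ L.subgroupOf N) := by
    have h1 : Nat.card (↥N ⧸ L.subgroupOf N) = L.relIndex N := rfl
    rw [h1]
    have h2 : L.relIndex N ≠ 0 := by
      have : (L.subgroupOf N).index ≠ 0 := Subgroup.index_ne_zero_of_finite
      exact this
    have h3 : L.relIndex N ≠ 1 := by
      intro h
      exact hne (le_antisymm hLN (Subgroup.relIndex_eq_one.mp h))
    omega
  obtain ⟨g, hg⟩ := exists_derangement (G := N) (X := ↥N ⧸ L.subgroupOf N) hidx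
  refine ⟨(g : G), g.2, fun n hn hmem => ?_⟩
  apply hg ((⟨n, hn⟩ : N) : ↥N ⧸ L.subgroupOf N)
  have h1 : g • (((⟨n, hn⟩ : N) : ↥N ⧸ L.subgroupOf N)) =
      ((g * ⟨n, hn⟩ : N) : ↥N ⧸ L.subgroupOf N) := rfl
  rw [h1, QuotientGroup.eq, Subgroup.mem_subgroupOf]
  have h2 : (((g * ⟨n, hn⟩ : N)⁻¹ * ⟨n, hn⟩ : N) : G) = (n⁻¹ * (g : G) * n)⁻¹ := by
    simp only [Subgroup.coe_mul, Subgroup.coe_inv, mul_inv_rev, inv_inv]
    group
  rw [h2]
  exact L.inv_mem hmem

end Cfsg.Agent.Helper17.Der1
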