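import Mathlib
import Cfsg.Agent.Lib.Helper18.Derangement

set_option autoImplicit false
set_option linter.unusedSectionVars false
set_option linter.unusedVariables false
set_option linter.style.haveILetI false
set_option linter.unusedSimpArgs false

namespace Cfsg.Agent.Helper17.Der1

open MulAction

variable {G : Type*} [Group G] {X : Type*} [MulAction G X]

/-- arithmetic: `1 ≤ f ≤ n` gives `f² + n ≤ (n+1) f`. -/
theorem cc_arith_le (f n : ℕ) (h1 : 1 ≤ f) (h2 : f ≤ n) : f * f + n ≤ (n + 1) * f := by
  obtain ⟨a, rfl⟩ := Nat.exists_eq_add_of_le h1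
  obtain ⟨b, rfl⟩ := Nat.exists_eq_add_of_le h2
  nlinarith [Nat.zero_le (a * b)]

/-- arithmetic: equality forces `f = 1` or `f = n`. -/
theorem cc_arith_eq (f n : ℕ) (h1 : 1 ≤ f) (h2 : f ≤ n) (h : f * f + n = (n + 1) * f) :
    f = 1 ∨ f = n := by
  obtain ⟨a, rfl⟩ := Nat.exists_eq_add_of_le h1
  obtain ⟨b, rfl⟩ := Nat.exists_eq_add_of_le h2
  have hab : a * b = 0 := by nlinarith
  rcases Nat.eq_zero_or_pos a with ha | ha
  · left; omega
  · right
    have hb : b = 0 := by
      rcases Nat.eq_zero_or_pos b with hb | hb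
      · exact hb
      · have := Nat.mul_pos ha hb; omega
    omega

/-- PIECE CC: Cameron--Cohen count with equality analysis. -/
theorem sharp_of_card_der_le [Finite G] [Finite X] [FaithfulSMul G X] [IsPretransitive G X]
    (hX : 2 ≤ Nat.card X)
    (h : Nat.card X * {g : G | ∀ ω : X, g • ω ≠ ω}.ncard ≤ Nat.card G) :
    IsMultiplyPretransitive G X 2 ∧
      ∀ g : G, g ≠ 1 → ∀ a b : X, a ≠ b → g • a = a → g • b ≠ b := by
  classical
  haveI : Fintype G := Fintype.ofFinite G
  haveI : Nonempty X := by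
    rcases isEmpty_or_nonempty X with hE | hN
    · rw [Nat.card_of_isEmpty] at hX; omega
    · exact hN
  obtain ⟨n, hn⟩ : ∃ n, n = Nat.card X := ⟨_, rfl⟩
  obtain ⟨f, hf⟩ : ∃ f : G → ℕ, f = fun g => Nat.card (fixedBy X g) := ⟨_, rfl⟩
  obtain ⟨r, hr⟩ : ∃ r, r = Nat.card (orbitRel.Quotient G (X × X)) := ⟨_, rfl⟩
  obtain ⟨d, hd⟩ : ∃ d : G → ℕ, d = fun g => if (∀ ω : X, g • ω ≠ ω) then 1 else 0 := ⟨_, rfl⟩
  have hGpos : 0 < Nat.card G := Nat.card_pos
  rw [← hn] at h hX
  -- S1
  have S1 : ∑ g : G, f g = Nat.card G := by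
    have hb := Cfsg.Agent.Helper18.burnside_natCard (G := G) (X := X)
    haveI : Unique (orbitRel.Quotient G X) :=
      (pretransitive_iff_unique_quotient_of_nonempty G X).mp inferInstance |>.some
    rw [Nat.card_unique, one_mul] at hb
    rw [hf]; exact hb
  have S2 : ∑ g : G, f g * f g = r * Nat.card G := by
    have hb := Cfsg.Agent.Helper18.burnside_natCard (G := G) (X := X × X)
    rw [hr, ← hb, hf]
    apply Finset.sum_congr rfl
    intro g _
    exact (Cfsg.Agent.Helper18.card_fixedBy_prod g).symm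
  have S3 : ∑ g : G, d g = {g : G | ∀ ω : X, g • ω ≠ ω}.ncard := by
    rw [hd]
    simp only [Finset.sum_ite, Finset.sum_const_zero, add_zero, Finset.sum_const, smul_eq_mul,
      mul_one]
    rw [← Set.ncard_coe_finset]
    congr 1
    ext g
    simp
  -- pointwise facts
  have hfle : ∀ g : G, f g ≤ n := by
    intro g
    rw [hf, hn]
    exact Nat.card_le_card_of_injective (fun x : fixedBy X g => (x : X)) Subtype.val_injective
  have hfpos : ∀ g : G, ¬ (∀ ω : X, g • ω ≠ ω) → 1 ≤ f g := by
    intro g hg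
    push Not at hg
    obtain ⟨ω, hω⟩ := hg
    rw [hf]
    haveI : Nonempty (fixedBy X g) := ⟨⟨ω, hω⟩⟩
    exact Nat.card_pos
  have hfzero : ∀ g : G, (∀ ω : X, g • ω ≠ ω) → f g = 0 := by
    intro g hg
    rw [hf]
    haveI : IsEmpty (fixedBy X g) := ⟨fun x => hg x.1 x.2⟩
    exact Nat.card_of_isEmpty
  have hle : ∀ g : G, f g * f g + n ≤ (n + 1) * f g + n * d g := by
    intro g
    by_cases hg : ∀ ω : X, g • ω ≠ ω
    · have h0 := hfzero g hg
      have hd1 : d g = 1 := by rw [hd]; simp only [if_pos hg]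
      rw [h0, hd1]; omega
    · have hd0 : d g = 0 := by rw [hd]; simp only [if_neg hg]
      rw [hd0]
      have := cc_arith_le (f g) n (hfpos g hg) (hfle g)
      omega
  -- two different orbits on pairs
  obtain ⟨a0, b0, hab0⟩ : ∃ a b : X, a ≠ b := by
    by_contra hcon
    push Not at hcon
    haveI : Subsingleton X := ⟨hcon⟩
    have := Finite.card_le_one_iff_subsingleton.mpr (inferInstance : Subsingleton X)
    omega
  have hdiag : ∀ a c e : X, c ≠ e →
      (Quotient.mk'' (a, a) : orbitRel.Quotient G (X × X)) ≠ Quotient.mk'' (c, e) := by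
    intro a c e hce heq
    rw [Quotient.eq''] at heq
    obtain ⟨g, hg⟩ := heq
    have h1 : g • c = a := congrArg Prod.fst hg
    have h2 : g • e = a := congrArg Prod.snd hg
    exact hce (smul_left_cancel g (h1.trans h2.symm))
  have hr2 : 2 ≤ r := by
    by_contra hcon
    have hle1 : Nat.card (orbitRel.Quotient G (X × X)) ≤ 1 := by rw [← hr]; omega
    haveI := Finite.card_le_one_iff_subsingleton.mp hle1
    exact hdiag a0 a0 b0 hab0 (Subsingleton.elim _ _)
  -- the summed inequality
  have hsum : ∑ g : G, (f g * f g + n) ≤ ∑ g : G, ((n + 1) * f g + n * d g) :=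
    Finset.sum_le_sum (fun g _ => hle g)
  have hL : ∑ g : G, (f g * f g + n) = r * Nat.card G + n * Nat.card G := by
    rw [Finset.sum_add_distrib, S2, Finset.sum_const, Finset.card_univ, smul_eq_mul,
      Nat.card_eq_fintype_card, mul_comm n]
  have hR : ∑ g : G, ((n + 1) * f g + n * d g) =
      (n + 1) * Nat.card G + n * {g : G | ∀ ω : X, g • ω ≠ ω}.ncard := by
    rw [Finset.sum_add_distrib, ← Finset.mul_sum, ← Finset.mul_sum, S1, S3]
  have hrle : r ≤ 2 := by
    rw [hL, hR] at hsum
    have h1 : r * Nat.card G ≤ 2 * Nat.card G := by nlinarith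
    exact Nat.le_of_mul_le_mul_right h1 hGpos
  have hreq : r = 2 := le_antisymm hrle hr2
  -- equality everywhere
  have heq : ∀ g : G, f g * f g + n = (n + 1) * f g + n * d g := by
    intro g0
    by_contra hcon
    have hlt : f g0 * f g0 + n < (n + 1) * f g0 + n * d g0 := lt_of_le_of_ne (hle g0) hcon
    have hsum' : ∑ g : G, (f g * f g + n) < ∑ g : G, ((n + 1) * f g + n * d g) :=
      Finset.sum_lt_sum (fun g _ => hle g) ⟨g0, Finset.mem_univ _, hlt⟩
    rw [hL, hR, hreq] at hsum'
    nlinarith
  -- conclusions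
  constructor
  · rw [MulAction.is_two_pretransitive_iff]
    intro a b c e hab hce
    have hcard2 : Nat.card (orbitRel.Quotient G (X × X)) = 2 := by rw [← hr, hreq]
    obtain ⟨x, y, hxy, huniv⟩ := Nat.card_eq_two_iff.mp hcard2
    have hmem : ∀ q : orbitRel.Quotient G (X × X), q = x ∨ q = y := by
      intro q
      have : q ∈ ({x, y} : Set _) := by rw [huniv]; exact Set.mem_univ _
      simpa using this
    have h1 := hdiag a a b hab
    have h2 := hdiag a c e hce
    have h3 : (Quotient.mk'' (c, e) : orbitRel.Quotient G (X × X)) = Quotient.mk'' (a, b) := by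
      rcases hmem (Quotient.mk'' (a, a)) with e1 | e1 <;>
      rcases hmem (Quotient.mk'' (a, b)) with e2 | e2 <;>
      rcases hmem (Quotient.mk'' (c, e)) with e3 | e3
      · exact absurd (e1.trans e2.symm) h1
      · exact absurd (e1.trans e2.symm) h1
      · exact absurd (e1.trans e3.symm) h2
      · exact e3.trans e2.symm
      · exact e3.trans e2.symm
      · exact absurd (e1.trans e3.symm) h2
      · exact absurd (e1.trans e2.symm) h1
      · exact absurd (e1.trans e2.symm) h1
    rw [Quotient.eq''] at h3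
    obtain ⟨g, hg⟩ := h3
    exact ⟨g, congrArg Prod.fst hg, congrArg Prod.snd hg⟩
  · intro g hg1 a b hab hga hgb
    have hnd : ¬ (∀ ω : X, g • ω ≠ ω) := fun hh => hh a hga
    have hd0 : d g = 0 := by rw [hd]; simp only [if_neg hnd]
    have he := heq g
    rw [hd0, mul_zero, add_zero] at he
    have h2le : 2 ≤ f g := by
      by_contra hcon
      have hle1 : Nat.card (fixedBy X g) ≤ 1 := by
        have : f g = Nat.card (fixedBy X g) := by rw [hf]
        omega
      haveI := Finite.card_le_one_iff_subsingleton.mp hle1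
      have : (⟨a, hga⟩ : fixedBy X g) = ⟨b, hgb⟩ := Subsingleton.elim _ _
      exact hab (congrArg Subtype.val this)
    rcases cc_arith_eq (f g) n (hfpos g hnd) (hfle g) he with h1 | h1
    · omega
    · -- g fixes everything
      have hall : fixedBy X g = Set.univ := by
        apply Set.eq_of_subset_of_ncard_le (Set.subset_univ _) _ (Set.toFinite _)
        rw [Set.ncard_univ, ← Nat.card_coe_set_eq, ← hn, ← h1, hf]
      apply hg1
      apply FaithfulSMul.eq_of_smul_eq_smul (α := X)
      intro x
      rw [one_smul]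
      have : x ∈ fixedBy X g := by rw [hall]; exact Set.mem_univ _
      exact this

end Cfsg.Agent.Helper17.Der1
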