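import Mathlib
import Cfsg.Agent.Lib.Helper18.Derangement

set_option autoImplicit false
set_option linter.unusedSectionVars false
set_option linter.unusedVariables false
set_option linter.style.haveILetI false
set_option linter.unusedSimpArgs false

namespace Cfsg.Agent.Helper17.Der1

open MulAction

variable {G : Type*} [Group G] {X : Type*} [MulAction G X]

/-- PIECE CLS: a single class of derangements with a big centralizer gives the count. -/
theorem card_der_le_of_single_class [Finite G] [Finite X] (y : G)
    (hconj : ∀ g : G, (∀ ω : X, g • ω ≠ ω) → IsConj y g)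
    (hcent : Nat.card X ≤ Nat.card (Subgroup.centralizer ({y} : Set G))) :
    Nat.card X * {g : G | ∀ ω : X, g • ω ≠ ω}.ncard ≤ Nat.card G := by
  have hsub : {g : G | ∀ ω : X, g • ω ≠ ω} ⊆ orbit (ConjAct G) y := by
    intro g hg
    rw [ConjAct.mem_orbit_conjAct]
    exact (hconj g hg).symm
  have h1 : {g : G | ∀ ω : X, g • ω ≠ ω}.ncard ≤ (orbit (ConjAct G) y).ncard :=
    Set.ncard_le_ncard hsub (Set.toFinite _)
  have h2 : (stabilizer (ConjAct G) y).index = (orbit (ConjAct G) y).ncard :=
    MulAction.index_stabilizer (ConjAct G) y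
  have h3 : Nat.card (stabilizer (ConjAct G) y) * (stabilizer (ConjAct G) y).index =
      Nat.card (ConjAct G) := Subgroup.card_mul_index _
  have h4 : Nat.card (ConjAct G) = Nat.card G := rfl
  have h5 : Nat.card (Subgroup.centralizer ({y} : Set G)) =
      Nat.card (stabilizer (ConjAct G) y) :=
    Subgroup.nat_card_centralizer_nat_card_stabilizer y
  rw [← h4, ← h3, ← h5, h2]
  exact Nat.mul_le_mul hcent h1

end Cfsg.Agent.Helper17.Der1
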