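import Mathlib

set_option autoImplicit false
set_option linter.unusedSectionVars false
set_option linter.unusedVariables false
set_option linter.style.haveILetI false
set_option linter.unusedSimpArgs false

namespace Cfsg.Agent.Helper17.Der2

variable {G : Type*} [Group G]

/-- PIECE MIN: a nontrivial normal subgroup of least order. -/
theorem exists_min_normal [Finite G] [Nontrivial G] :
    ∃ N : Subgroup G, N.Normal ∧ N ≠ ⊥ ∧
      ∀ K : Subgroup G, K.Normal → K ≠ ⊥ → K ≤ N → K = N := by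
  classical
  have hex : ∃ n : ℕ, ∃ N : Subgroup G, N.Normal ∧ N ≠ ⊥ ∧ Nat.card N = n :=
    ⟨Nat.card (⊤ : Subgroup G), ⊤, inferInstance, top_ne_bot, rfl⟩
  obtain ⟨N, hNn, hNb, hNc⟩ := Nat.find_spec hex
  refine ⟨N, hNn, hNb, fun K hKn hKb hKN => ?_⟩
  apply Subgroup.eq_of_le_of_card_ge hKN
  rw [hNc]
  exact Nat.find_min' hex ⟨K, hKn, hKb, rfl⟩

end Cfsg.Agent.Helper17.Der2
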