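import Mathlib

set_option autoImplicit false
set_option linter.unusedSectionVars false
set_option linter.unusedVariables false
set_option linter.style.haveILetI false
set_option linter.unusedSimpArgs false

namespace Cfsg.Agent.Helper17.Der2

variable {G : Type*} [Group G]

/-- PIECE PRIMES: a finite group with trivial centre (inside `G`: `N ⊓ centralizer N = ⊥`,
`N ≠ ⊥`) has order divisible by two different primes. -/
theorem exists_two_primes [Finite G] (N : Subgroup G) (hN : N ≠ ⊥)
    (hZ : N ⊓ Subgroup.centralizer (N : Set G) = ⊥) :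
    ∃ p q : ℕ, p.Prime ∧ q.Prime ∧ p ≠ q ∧ p ∣ Nat.card N ∧ q ∣ Nat.card N := by
  have hcard1 : Nat.card N ≠ 1 := by
    intro h
    exact hN (Subgroup.card_eq_one.mp h)
  obtain ⟨p, hp, hpN⟩ := Nat.exists_prime_and_dvd hcard1
  by_contra hcon
  push Not at hcon
  have huniq : ∀ {q : ℕ}, q.Prime → q ∣ Nat.card N → q = p := by
    intro q hq hqN
    by_contra hne
    exact hcon p q hp hq (fun e => hne e.symm) hpN hqN
  have hpos : Nat.card N ≠ 0 := Nat.card_pos.ne'
  have hpow := Nat.eq_prime_pow_of_unique_prime_dvd hpos huniq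
  haveI : Fact p.Prime := ⟨hp⟩
  have hPG : IsPGroup p N := IsPGroup.of_card hpow
  haveI : Nontrivial N := by
    rw [← Subgroup.nontrivial_iff_ne_bot] at hN
    exact hN
  haveI := hPG.center_nontrivial
  obtain ⟨z, hz⟩ := exists_ne (1 : Subgroup.center N)
  have hz1 : ((z : N) : G) ≠ 1 := by
    intro h
    apply hz
    apply Subtype.ext
    apply Subtype.ext
    exact h
  apply hz1
  have hmem : ((z : N) : G) ∈ N ⊓ Subgroup.centralizer (N : Set G) := by
    refine Subgroup.mem_inf.mpr ⟨(z : N).2, ?_⟩
    rw [Subgroup.mem_centralizer_iff]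
    intro n hn
    have := (Subgroup.mem_center_iff.mp z.2) ⟨n, hn⟩
    exact congrArg Subtype.val this
  rw [hZ, Subgroup.mem_bot] at hmem
  exact hmem

end Cfsg.Agent.Helper17.Der2
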