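import Mathlib

set_option autoImplicit false
set_option linter.unusedSectionVars false
set_option linter.unusedVariables false
set_option linter.style.haveILetI false
set_option linter.unusedSimpArgs false

namespace Cfsg.Agent.Helper17.Der2

open MulAction

variable {G : Type*} [Group G] {X : Type*} [MulAction G X]

/-- PIECE REG (2): elementwise version. -/
theorem eq_one_of_smul_eq_of_commute [FaithfulSMul G X] (A K : Subgroup G) [IsPretransitive K X]
    (hcomm : ∀ a ∈ A, ∀ b ∈ K, a * b = b * a) (a : G) (ha : a ∈ A) (ω : X) (h : a • ω = ω) :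
    a = 1 := by
  apply FaithfulSMul.eq_of_smul_eq_smul (α := X)
  intro ω'
  obtain ⟨b, hb⟩ := MulAction.exists_smul_eq K ω ω'
  have hb' : (b : G) • ω = ω' := hb
  rw [one_smul, ← hb', smul_smul, hcomm a ha b b.2, ← smul_smul, h]

/-- PIECE REG: a subgroup `A` centralized by a transitive subgroup `K` is semiregular
(used with `K = A` abelian, and with two commuting normal subgroups). -/
theorem stabilizer_eq_bot_of_commute [FaithfulSMul G X] (A K : Subgroup G) [IsPretransitive K X]
    (hcomm : ∀ a ∈ A, ∀ b ∈ K, a * b = b * a) (ω : X) : stabilizer A ω = ⊥ := by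
  rw [Subgroup.eq_bot_iff_forall]
  intro a ha
  rw [mem_stabilizer_iff] at ha
  have ha' : (a : G) • ω = ω := ha
  have := eq_one_of_smul_eq_of_commute A K hcomm (a : G) a.2 ω ha'
  exact Subtype.ext this

/-- PIECE REG (3): a transitive semiregular subgroup has as many elements as there are points. -/
theorem card_eq_of_regular [Finite G] [Finite X] (A : Subgroup G) [IsPretransitive A X]
    (hsemi : ∀ a ∈ A, ∀ ω : X, a • ω = ω → a = 1) (hX : Nonempty X) :
    Nat.card A = Nat.card X := by
  obtain ⟨x0⟩ := hX
  apply Nat.card_congr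
  refine Equiv.ofBijective (fun a : A => a • x0) ⟨?_, ?_⟩
  · intro a b hab
    have hab' : (a : G) • x0 = (b : G) • x0 := hab
    have h1 : ((b : G)⁻¹ * (a : G)) • x0 = x0 := by
      rw [mul_smul, hab', smul_smul, inv_mul_cancel, one_smul]
    have h2 := hsemi _ (A.mul_mem (A.inv_mem b.2) a.2) x0 h1
    apply Subtype.ext
    have : (a : G) = (b : G) * ((b : G)⁻¹ * (a : G)) := by group
    rw [this, h2, mul_one]
  · intro y
    exact MulAction.exists_smul_eq A x0 y

end Cfsg.Agent.Helper17.Der2
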