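import Mathlib

set_option autoImplicit false
set_option linter.unusedSectionVars false
set_option linter.unusedVariables false
set_option linter.style.haveILetI false
set_option linter.unusedSimpArgs false

namespace Cfsg.Agent.Helper17.Der2

open MulAction

variable {G : Type*} [Group G] {X : Type*} [MulAction G X]

/-- PIECE THREE: with exactly two classes of derangements, among any three derangements two are
conjugate. -/
theorem exists_conj_of_three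
    (h2 : Nat.card {c : ConjClasses G // ∃ g : G, ConjClasses.mk g = c ∧ ∀ ω : X, g • ω ≠ ω} = 2)
    (d₁ d₂ d₃ : G) (h₁ : ∀ ω : X, d₁ • ω ≠ ω) (h₂ : ∀ ω : X, d₂ • ω ≠ ω)
    (h₃ : ∀ ω : X, d₃ • ω ≠ ω) : IsConj d₁ d₂ ∨ IsConj d₁ d₃ ∨ IsConj d₂ d₃ := by
  obtain ⟨x, y, hxy, huniv⟩ := Nat.card_eq_two_iff.mp h2
  have hmem : ∀ c : {c : ConjClasses G // ∃ g : G, ConjClasses.mk g = c ∧ ∀ ω : X, g • ω ≠ ω},
      c = x ∨ c = y := by
    intro c
    have : c ∈ ({x, y} : Set _) := by rw [huniv]; exact Set.mem_univ _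
    simpa using this
  let c₁ : {c : ConjClasses G // ∃ g : G, ConjClasses.mk g = c ∧ ∀ ω : X, g • ω ≠ ω} :=
    ⟨ConjClasses.mk d₁, d₁, rfl, h₁⟩
  let c₂ : {c : ConjClasses G // ∃ g : G, ConjClasses.mk g = c ∧ ∀ ω : X, g • ω ≠ ω} :=
    ⟨ConjClasses.mk d₂, d₂, rfl, h₂⟩
  let c₃ : {c : ConjClasses G // ∃ g : G, ConjClasses.mk g = c ∧ ∀ ω : X, g • ω ≠ ω} :=
    ⟨ConjClasses.mk d₃, d₃, rfl, h₃⟩
  have key : ∀ {a b : G} (ha : ∀ ω : X, a • ω ≠ ω) (hb : ∀ ω : X, b • ω ≠ ω),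
      (⟨ConjClasses.mk a, a, rfl, ha⟩ :
        {c : ConjClasses G // ∃ g : G, ConjClasses.mk g = c ∧ ∀ ω : X, g • ω ≠ ω}) =
      ⟨ConjClasses.mk b, b, rfl, hb⟩ → IsConj a b := by
    intro a b ha hb he
    have := congrArg Subtype.val he
    exact ConjClasses.mk_eq_mk_iff_isConj.mp this
  rcases hmem c₁ with e1 | e1 <;> rcases hmem c₂ with e2 | e2 <;> rcases hmem c₃ with e3 | e3
  · exact Or.inl (key h₁ h₂ (e1.trans e2.symm))
  · exact Or.inl (key h₁ h₂ (e1.trans e2.symm))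
  · exact Or.inr (Or.inl (key h₁ h₃ (e1.trans e3.symm)))
  · exact Or.inr (Or.inr (key h₂ h₃ (e2.trans e3.symm)))
  · exact Or.inr (Or.inr (key h₂ h₃ (e2.trans e3.symm)))
  · exact Or.inr (Or.inl (key h₁ h₃ (e1.trans e3.symm)))
  · exact Or.inl (key h₁ h₂ (e1.trans e2.symm))
  · exact Or.inl (key h₁ h₂ (e1.trans e2.symm))

end Cfsg.Agent.Helper17.Der2
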