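import Mathlib
import Cfsg.Agent.Lib.Helper17.GInv1

set_option autoImplicit false
set_option linter.unusedSectionVars false
set_option linter.unusedVariables false
set_option linter.unusedSimpArgs false
set_option linter.style.haveILetI false

/-!
# Package (alpha) for helper17's GInv: an isometric involution with odd-dimensional eigenspaces
(helper19). Part 1: eigenspaces, projections, extension of maps.
-/

namespace Cfsg.Agent.Helper19.GInvAlpha

open Cfsg.Agent.Helper2.PGeo Module

variable {F : Type*} [Field F] {V : Type*} [AddCommGroup V] [Module F V]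

/-- the eigenspace of `γ` for the eigenvalue `e` -/
def eig (γ : V →ₗ[F] V) (e : F) : Submodule F V := LinearMap.ker (γ - e • LinearMap.id)

theorem mem_eig {γ : V →ₗ[F] V} {e : F} {v : V} : v ∈ eig γ e ↔ γ v = e • v := by
  unfold eig
  rw [LinearMap.mem_ker, LinearMap.sub_apply, LinearMap.smul_apply, LinearMap.id_apply,
    sub_eq_zero]

theorem ker_add_id (γ : V →ₗ[F] V) : LinearMap.ker (γ + LinearMap.id) = eig γ (-1) := by
  ext v
  rw [mem_eig, LinearMap.mem_ker, LinearMap.add_apply, LinearMap.id_apply, neg_one_smul,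
    add_eq_zero_iff_eq_neg]

/-- the hypotheses on the involution -/
structure IsInv (γ : V →ₗ[F] V) (e : F) : Prop where
  two : (2 : F) ≠ 0
  sq : ∀ v, γ (γ v) = v
  ee : e * e = 1

theorem IsInv.neg {γ : V →ₗ[F] V} {e : F} (hI : IsInv γ e) : IsInv γ (-e) :=
  ⟨hI.two, hI.sq, by rw [neg_mul_neg, hI.ee]⟩

/-- the projection on the eigenspace for `e` -/
def proj (γ : V →ₗ[F] V) (e : F) : V →ₗ[F] V := (2 : F)⁻¹ • (LinearMap.id + e • γ)

theorem proj_apply (γ : V →ₗ[F] V) (e : F) (v : V) :
    proj γ e v = (2 : F)⁻¹ • (v + e • γ v) := rfl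

section inv

variable {γ : V →ₗ[F] V} {e : F}

theorem proj_gamma (γ : V →ₗ[F] V) (e : F) (v : V) : proj γ e (γ v) = γ (proj γ e v) := by
  rw [proj_apply, proj_apply, map_smul, map_add, map_smul]

theorem gamma_proj (hI : IsInv γ e) (v : V) : γ (proj γ e v) = e • proj γ e v := by
  rw [proj_apply, map_smul, map_add, map_smul, hI.sq, smul_comm e (2 : F)⁻¹, smul_add e,
    smul_smul e e, hI.ee, one_smul, add_comm]

theorem proj_mem (hI : IsInv γ e) (v : V) : proj γ e v ∈ eig γ e := mem_eig.2 (gamma_proj hI v)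

theorem proj_add_proj (hI : IsInv γ e) (v : V) : proj γ e v + proj γ (-e) v = v := by
  rw [proj_apply, proj_apply, ← smul_add, neg_smul]
  have h1 : v + e • γ v + (v + -(e • γ v)) = (2 : F) • v := by
    rw [two_smul]; abel
  rw [h1, smul_smul, inv_mul_cancel₀ hI.two, one_smul]

theorem proj_of_mem (hI : IsInv γ e) {w : V} (hw : γ w = e • w) : proj γ e w = w := by
  rw [proj_apply, hw, smul_smul, hI.ee, one_smul, ← two_smul F w, smul_smul,
    inv_mul_cancel₀ hI.two, one_smul]

theorem proj_of_mem_neg (hI : IsInv γ e) {w : V} (hw : γ w = -e • w) : proj γ e w = 0 := by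
  rw [proj_apply, hw, smul_smul, mul_neg, hI.ee, neg_one_smul, add_neg_cancel, smul_zero]

theorem proj_neg_of_mem (hI : IsInv γ e) {w : V} (hw : γ w = e • w) : proj γ (-e) w = 0 := by
  rw [proj_apply, hw, smul_smul, neg_mul, hI.ee, neg_one_smul, add_neg_cancel, smul_zero]

theorem gamma_eq (hI : IsInv γ e) (v : V) : γ v = e • proj γ e v + -e • proj γ (-e) v := by
  conv_lhs => rw [← proj_add_proj hI v]
  rw [map_add, gamma_proj hI, gamma_proj hI.neg]

/-- the eigenspaces are orthogonal -/
theorem orth {B : V →ₗ[F] V →ₗ[F] F} (hI : IsInv γ e) (hγiso : ∀ u v, B (γ u) (γ v) = B u v)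
    {u v : V} (hu : γ u = e • u) (hv : γ v = -e • v) : B u v = 0 := by
  have h1 := hγiso u v
  rw [hu, hv] at h1
  simp only [map_smul, LinearMap.smul_apply, smul_eq_mul] at h1
  have h3 : (2 : F) * B u v = 0 := by linear_combination (-1 : F) * h1 - B u v * hI.ee
  rcases mul_eq_zero.1 h3 with h4 | h4
  · exact absurd h4 hI.two
  · exact h4

theorem orth' {B : V →ₗ[F] V →ₗ[F] F} (hI : IsInv γ e) (hγiso : ∀ u v, B (γ u) (γ v) = B u v)
    {u v : V} (hu : γ u = -e • u) (hv : γ v = e • v) : B u v = 0 := by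
  have := orth hI.neg hγiso hu (v := v) (by rw [neg_neg]; exact hv)
  exact this

/-- decomposition of the form along the eigenspaces -/
theorem B_decomp {B : V →ₗ[F] V →ₗ[F] F} (hI : IsInv γ e)
    (hγiso : ∀ u v, B (γ u) (γ v) = B u v) {a a' b b' : V} (ha : γ a = e • a)
    (ha' : γ a' = -e • a') (hb : γ b = e • b) (hb' : γ b' = -e • b') :
    B (a + a') (b + b') = B a b + B a' b' := by
  simp only [map_add, LinearMap.add_apply]
  rw [orth hI hγiso ha hb', orth' hI hγiso ha' hb]
  ring

theorem B_split {B : V →ₗ[F] V →ₗ[F] F} (hI : IsInv γ e)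
    (hγiso : ∀ u v, B (γ u) (γ v) = B u v) (u v : V) :
    B u v = B (proj γ e u) (proj γ e v) + B (proj γ (-e) u) (proj γ (-e) v) := by
  conv_lhs => rw [← proj_add_proj hI u, ← proj_add_proj hI v]
  exact B_decomp hI hγiso (gamma_proj hI u) (gamma_proj hI.neg u) (gamma_proj hI v)
    (gamma_proj hI.neg v)

/-- the restricted form is nondegenerate -/
theorem isEps_restrict {B : V →ₗ[F] V →ₗ[F] F} (h : IsEpsForm B 1) (hI : IsInv γ e)
    (hγiso : ∀ u v, B (γ u) (γ v) = B u v) :
    IsEpsForm (B.domRestrict₁₂ (eig γ e) (eig γ e)) 1 := by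
  refine ⟨h.two, h.sig, h.eps, fun x y => h.symm x y, ?_⟩
  intro w hw
  apply Subtype.ext
  apply h.nondeg
  intro v
  have hw1 : γ (w : V) = e • (w : V) := mem_eig.1 w.2
  rw [← proj_add_proj hI v, map_add, orth hI hγiso hw1 (gamma_proj hI.neg v), add_zero]
  exact hw ⟨proj γ e v, proj_mem hI v⟩

theorem finrank_add [FiniteDimensional F V] (hI : IsInv γ e) :
    finrank F (eig γ e) + finrank F (eig γ (-e)) = finrank F V := by
  have h1 := LinearMap.finrank_range_add_finrank_ker (proj γ e)
  have h2 : LinearMap.range (proj γ e) = eig γ e := by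
    ext v
    constructor
    · rintro ⟨u, rfl⟩
      exact proj_mem hI u
    · intro hv
      exact ⟨v, proj_of_mem hI (mem_eig.1 hv)⟩
  have h3 : LinearMap.ker (proj γ e) = eig γ (-e) := by
    ext v
    constructor
    · intro hv
      have h4 := proj_add_proj hI v
      rw [LinearMap.mem_ker.1 hv, zero_add] at h4
      rw [← h4]
      exact proj_mem hI.neg v
    · intro hv
      exact LinearMap.mem_ker.2 (proj_of_mem_neg hI (mem_eig.1 hv))
  rw [h2, h3] at h1
  exact h1

/-- a pair of vectors of the eigenspace with nonzero product -/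
theorem exists_ne [FiniteDimensional F V] {B : V →ₗ[F] V →ₗ[F] F} (h : IsEpsForm B 1)
    (hI : IsInv γ e) (hγiso : ∀ u v, B (γ u) (γ v) = B u v)
    (hpos : 0 < finrank F (eig γ e)) :
    ∃ u v : V, γ u = e • u ∧ γ v = e • v ∧ B u v ≠ 0 := by
  obtain ⟨u, hu⟩ := Module.finrank_pos_iff_exists_ne_zero.1 hpos
  by_contra hcon
  push Not at hcon
  apply hu
  apply (isEps_restrict h hI hγiso).nondeg
  intro y
  exact hcon u y (mem_eig.1 u.2) (mem_eig.1 y.2)

end inv

end Cfsg.Agent.Helper19.GInvAlpha
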