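import Mathlib
import Cfsg.Agent.Lib.Helper19.GInvAlpha1

set_option autoImplicit false
set_option linter.unusedSectionVars false
set_option linter.unusedVariables false
set_option linter.unusedSimpArgs false
set_option linter.style.haveILetI false

/-!
# Determinant bookkeeping for a similitude with scalar square (for helper17's S2733, helper19)
-/

namespace Cfsg.Agent.Helper19.GInvG1

open Cfsg.Agent.Helper2.PGeo Module Cfsg.Agent.Helper19.GInvAlpha Polynomial

variable {F : Type*} [Field F] {V : Type*} [AddCommGroup V] [Module F V] [FiniteDimensional F V]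
  {B : V →ₗ[F] V →ₗ[F] F}

/-- the determinant of an involution -/
theorem det_inv {γ : V →ₗ[F] V} (hI : IsInv γ 1) :
    LinearMap.det γ = (-1) ^ finrank F (eig γ (-1)) := by
  have hc : IsCompl (eig γ 1) (eig γ (-1)) := by
    constructor
    · rw [Submodule.disjoint_def]
      intro x h1 h2
      have e1 := mem_eig.1 h1
      have e2 := mem_eig.1 h2
      have h3 := proj_of_mem hI e1
      have h4 := proj_of_mem_neg hI e2
      rw [← h3, h4]
    · rw [codisjoint_iff, eq_top_iff]
      intro x _
      rw [← proj_add_proj hI x]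
      exact Submodule.add_mem_sup (proj_mem hI x) (proj_mem hI.neg x)
  have h1 : γ = (Submodule.prodEquivOfIsCompl _ _ hc).toLinearMap ∘ₗ
      (LinearMap.prodMap LinearMap.id ((-1 : F) • LinearMap.id)) ∘ₗ
      (Submodule.prodEquivOfIsCompl _ _ hc).symm.toLinearMap := by
    apply LinearMap.ext
    intro v
    obtain ⟨⟨a, b⟩, rfl⟩ := (Submodule.prodEquivOfIsCompl _ _ hc).surjective v
    rw [LinearMap.comp_apply, LinearMap.comp_apply, LinearEquiv.coe_coe, LinearEquiv.coe_coe,
      LinearEquiv.symm_apply_apply, LinearMap.prodMap_apply, Submodule.coe_prodEquivOfIsCompl',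
      Submodule.coe_prodEquivOfIsCompl', map_add, mem_eig.1 a.2, mem_eig.1 b.2]
    simp
  have h2 := congrArg (fun f => LinearMap.det f) h1
  rw [h2, LinearMap.det_conj, LinearMap.det_prodMap, LinearMap.det_id, LinearMap.det_smul,
    LinearMap.det_id, one_mul, mul_one]

theorem mu_sq (h : IsEpsForm B 1) (g : V →ₗ[F] V) (c μ : F)
    (hg2 : ∀ v, g (g v) = c • v) (hsim : ∀ u v, B (g u) (g v) = μ * B u v)
    (hpos : 0 < finrank F V) : μ * μ = c * c := by
  obtain ⟨u, hu⟩ := Module.finrank_pos_iff_exists_ne_zero.1 hpos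
  obtain ⟨v, hv⟩ : ∃ v, B u v ≠ 0 := by
    by_contra hcon
    push Not at hcon
    exact hu (h.nondeg u hcon)
  have h1 : B (g (g u)) (g (g v)) = μ * (μ * B u v) := by rw [hsim, hsim]
  have h2 : B (g (g u)) (g (g v)) = c * (c * B u v) := by
    rw [hg2, hg2]
    simp only [map_smul, LinearMap.smul_apply, smul_eq_mul]
  apply mul_right_cancel₀ hv
  rw [mul_assoc, ← h1, h2, mul_assoc]

theorem ti_le (h : IsEpsForm B 1) {γ : V →ₗ[F] V} {e : F} (hI : IsInv γ e)
    (hti : ∀ u v, γ u = -e • u → γ v = -e • v → B u v = 0) :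
    finrank F (eig γ (-e)) ≤ finrank F (eig γ e) := by
  have hinj : Function.Injective (B.flip.domRestrict₁₂ (eig γ (-e)) (eig γ e)) := by
    rw [← LinearMap.ker_eq_bot, LinearMap.ker_eq_bot']
    intro v hv
    apply Subtype.ext
    apply h.nondeg
    intro w
    have hs : B v w = B w v := by
      have := h.symm w v
      rwa [one_mul, RingHom.id_apply] at this
    rw [hs, ← proj_add_proj hI w, map_add,
      LinearMap.add_apply, hti _ _ (gamma_proj hI.neg w) (mem_eig.1 v.2), add_zero]
    have := LinearMap.congr_fun hv ⟨proj γ e w, proj_mem hI w⟩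
    exact this
  have := LinearMap.finrank_le_finrank_of_injective hinj
  rwa [show finrank F (↥(eig γ e) →ₗ[F] F) = finrank F (eig γ e) from
    Subspace.dual_finrank_eq] at this

/-- the case of a square -/
theorem sq_case (h : IsEpsForm B 1) (g : V →ₗ[F] V) (c μ : F) (hc : c ≠ 0)
    (hg2 : ∀ v, g (g v) = c • v) (hsim : ∀ u v, B (g u) (g v) = μ * B u v)
    (m : ℕ) (hdim : finrank F V = 2 * (m + 1)) (hdet : LinearMap.det g = -μ ^ (m + 1))
    (d : F) (hd : d * d = c) :
    μ = c ∧ Odd (finrank F (LinearMap.ker (d⁻¹ • g + LinearMap.id))) := by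
  have h2 := h.two
  have hd0 : d ≠ 0 := by
    rintro rfl
    exact hc (by rw [← hd, mul_zero])
  obtain ⟨γ, hγ⟩ : ∃ γ : V →ₗ[F] V, γ = d⁻¹ • g := ⟨_, rfl⟩
  have hγv : ∀ v, γ v = d⁻¹ • g v := fun v => by rw [hγ]; rfl
  have hI : IsInv γ 1 := by
    refine ⟨h2, fun v => ?_, one_mul 1⟩
    rw [hγv, hγv, map_smul, hg2, smul_smul, smul_smul, ← hd]
    field_simp
    exact one_smul F v
  have hg : g = d • γ := by
    rw [hγ, smul_smul, mul_inv_cancel₀ hd0, one_smul]
  have hadd := finrank_add hI
  rw [hdim] at hadd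
  have hdetg : LinearMap.det g = c ^ (m + 1) * (-1) ^ finrank F (eig γ (-1)) := by
    rw [hg, LinearMap.det_smul, det_inv hI, hdim, pow_mul, pow_two, hd]
  have hμμ := mu_sq h g c μ hg2 hsim (by rw [hdim]; omega)
  have hμ : μ = c ∨ μ = -c := by
    have : (μ - c) * (μ + c) = 0 := by linear_combination hμμ
    rcases mul_eq_zero.1 this with h3 | h3
    · left; exact sub_eq_zero.1 h3
    · right; exact eq_neg_of_add_eq_zero_left h3
  have hμ0 : μ ≠ 0 := by
    rcases hμ with rfl | rfl
    · exact hc
    · exact neg_ne_zero.2 hc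
  rw [← hγ, ker_add_id]
  have hμc : μ = c := by
    rcases hμ with h3 | h3
    · exact h3
    · exfalso
      have hγsim : ∀ u v, B (γ u) (γ v) = -B u v := by
        intro u v
        rw [hγv, hγv]
        simp only [map_smul, LinearMap.smul_apply, smul_eq_mul]
        rw [hsim, h3, ← hd]
        field_simp
      have hti : ∀ e : F, e * e = 1 → ∀ u v, γ u = e • u → γ v = e • v → B u v = 0 := by
        intro e he u v hu hv
        have h4 := hγsim u v
        rw [hu, hv] at h4
        simp only [map_smul, LinearMap.smul_apply, smul_eq_mul] at h4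
        have h5 : (2 : F) * B u v = 0 := by linear_combination h4 - B u v * he
        rcases mul_eq_zero.1 h5 with h6 | h6
        · exact absurd h6 h2
        · exact h6
      have l1 := ti_le h hI (hti (-1) (by rw [neg_mul_neg, one_mul]))
      have l2 := ti_le h hI.neg (fun u v hu hv => hti 1 (one_mul 1) u v
        (by rw [hu, neg_neg]) (by rw [hv, neg_neg]))
      rw [neg_neg] at l2
      have hk : finrank F (eig γ (-1)) = m + 1 := by omega
      rw [hk, hdet, h3] at hdetg
      have h7 : (2 : F) * (-c) ^ (m + 1) = 0 := by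
        have : c ^ (m + 1) * (-1) ^ (m + 1) = (-c) ^ (m + 1) := by
          rw [← mul_pow]; congr 1; ring
        rw [this] at hdetg
        linear_combination -hdetg
      rcases mul_eq_zero.1 h7 with h8 | h8
      · exact h2 h8
      · exact neg_ne_zero.2 hc (pow_eq_zero_iff (by omega) |>.1 h8)
  refine ⟨hμc, ?_⟩
  rw [hdet, hμc] at hdetg
  rcases Nat.even_or_odd (finrank F (eig γ (-1))) with hev | hodd
  · exfalso
    rw [hev.neg_one_pow, mul_one] at hdetg
    have h7 : (2 : F) * c ^ (m + 1) = 0 := by linear_combination -hdetg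
    rcases mul_eq_zero.1 h7 with h8 | h8
    · exact h2 h8
    · exact hc (pow_eq_zero_iff (by omega) |>.1 h8)
  · exact hodd

/-- an endomorphism with nonsquare scalar square has determinant `(-c)^(m+1)` -/
theorem det_nonsq (g : V →ₗ[F] V) (c : F) (hg2 : ∀ v, g (g v) = c • v)
    (m : ℕ) (hdim : finrank F V = 2 * (m + 1)) (hns : ¬ IsSquare c) :
    LinearMap.det g = (-c) ^ (m + 1) := by
  classical
  obtain ⟨b, hb⟩ : ∃ b : Basis (Fin (finrank F V)) F V, b = Module.finBasis F V := ⟨_, rfl⟩
  obtain ⟨G, hG⟩ : ∃ G : Matrix (Fin (finrank F V)) (Fin (finrank F V)) F,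
    G = LinearMap.toMatrix b b g := ⟨_, rfl⟩
  have hdetG : G.det = LinearMap.det g := by rw [hG, LinearMap.det_toMatrix]
  have hGG : G * G = c • (1 : Matrix _ _ F) := by
    rw [hG, ← LinearMap.toMatrix_mul, ← LinearMap.toMatrix_one b, ← map_smul]
    congr 1
    apply LinearMap.ext
    intro v
    rw [Module.End.mul_apply, hg2]
    rfl
  obtain ⟨q, hq⟩ : ∃ q : F[X], q = X ^ 2 - C c := ⟨_, rfl⟩
  have hqirr : Irreducible q := by
    rw [hq, X_pow_sub_C_irreducible_iff_of_prime Nat.prime_two]
    intro d hd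
    exact hns ⟨d, by rw [← hd, pow_two]⟩
  have hprod : G.charpoly * (-G).charpoly = q ^ (finrank F V) := by
    unfold Matrix.charpoly
    rw [← Matrix.det_mul]
    have : Matrix.charmatrix G * Matrix.charmatrix (-G) = q • (1 : Matrix _ _ F[X]) := by
      unfold Matrix.charmatrix
      rw [map_neg, sub_neg_eq_add]
      have hcomm : Commute ((Matrix.scalar (Fin (finrank F V))) (X : F[X])) (C.mapMatrix G) :=
        Matrix.scalar_commute _ (fun _ => Commute.all _ _) _
      rw [← hcomm.mul_self_sub_mul_self_eq']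
      have h1 : C.mapMatrix G * C.mapMatrix G = (C c) • (1 : Matrix _ _ F[X]) := by
        rw [← map_mul, hGG]
        refine Matrix.ext fun i j => ?_
        by_cases hij : i = j
        · simp [hij]
        · simp [hij]
      rw [h1, hq, sub_smul]
      congr 1
      refine Matrix.ext fun i j => ?_
      by_cases hij : i = j
      · simp [hij, pow_two]
      · simp [hij]
    rw [this, Matrix.det_smul, Matrix.det_one, mul_one, Fintype.card_fin]
  have hdvd : G.charpoly ∣ q ^ (finrank F V) := ⟨_, hprod.symm⟩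
  obtain ⟨j, hj, hass⟩ := (dvd_prime_pow hqirr.prime _).1 hdvd
  have hqmonic : q.Monic := by
    rw [hq]
    exact monic_X_pow_sub_C c (by norm_num)
  have heq : G.charpoly = q ^ j :=
    eq_of_monic_of_associated (Matrix.charpoly_monic G) (hqmonic.pow j) hass
  have hqdeg : q.natDegree = 2 := by
    rw [hq]
    exact natDegree_X_pow_sub_C
  have hdeg : G.charpoly.natDegree = finrank F V := by
    rw [Matrix.charpoly_natDegree_eq_dim, Fintype.card_fin]
  rw [heq, (hqmonic.natDegree_pow j), hqdeg, hdim] at hdeg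
  have hjm : j = m + 1 := by omega
  rw [← hdetG, Matrix.det_eq_sign_charpoly_coeff, heq, hjm, Fintype.card_fin, hdim,
    coeff_zero_eq_eval_zero, eval_pow, hq, eval_sub, eval_pow, eval_X, eval_C, pow_mul]
  simp

/-- G1 -/
theorem g1 (h : IsEpsForm B 1) (g : V →ₗ[F] V) (c μ : F) (hc : c ≠ 0)
    (hg2 : ∀ v, g (g v) = c • v) (hsim : ∀ u v, B (g u) (g v) = μ * B u v)
    (m : ℕ) (hdim : finrank F V = 2 * (m + 1)) (hdet : LinearMap.det g = -μ ^ (m + 1)) :
    μ = c ∧
      (∀ d : F, d * d = c → Odd (finrank F (LinearMap.ker (d⁻¹ • g + LinearMap.id)))) ∧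
      (¬ IsSquare c → Odd (m + 1)) := by
  have h2 := h.two
  by_cases hsq : IsSquare c
  · obtain ⟨d, hd⟩ := hsq
    refine ⟨(sq_case h g c μ hc hg2 hsim m hdim hdet d hd.symm).1, fun d' hd' => ?_,
      fun hns => absurd ⟨d, hd⟩ hns⟩
    exact (sq_case h g c μ hc hg2 hsim m hdim hdet d' hd').2
  · have hdetg := det_nonsq g c hg2 m hdim hsq
    have hμμ := mu_sq h g c μ hg2 hsim (by rw [hdim]; omega)
    have hμ : μ = c ∨ μ = -c := by
      have : (μ - c) * (μ + c) = 0 := by linear_combination hμμ
      rcases mul_eq_zero.1 this with h3 | h3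
      · left; exact sub_eq_zero.1 h3
      · right; exact eq_neg_of_add_eq_zero_left h3
    have hμc : μ = c := by
      rcases hμ with h3 | h3
      · exact h3
      · exfalso
        rw [hdet, h3] at hdetg
        have h7 : (2 : F) * (-c) ^ (m + 1) = 0 := by linear_combination -hdetg
        rcases mul_eq_zero.1 h7 with h8 | h8
        · exact h2 h8
        · exact neg_ne_zero.2 hc (pow_eq_zero_iff (by omega) |>.1 h8)
    refine ⟨hμc, fun d hd => absurd ⟨d, hd.symm⟩ hsq, fun _ => ?_⟩
    rw [hdet, hμc] at hdetg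
    rcases Nat.even_or_odd (m + 1) with hev | hodd
    · exfalso
      rw [hev.neg_pow] at hdetg
      have h7 : (2 : F) * c ^ (m + 1) = 0 := by linear_combination -hdetg
      rcases mul_eq_zero.1 h7 with h8 | h8
      · exact h2 h8
      · exact hc (pow_eq_zero_iff (by omega) |>.1 h8)
    · exact hodd

end Cfsg.Agent.Helper19.GInvG1
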