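import Mathlib
import Cfsg.Agent.Lib.Helper17.OrthFA35

set_option autoImplicit false
set_option linter.unusedSectionVars false
set_option linter.unusedSimpArgs false
set_option linter.unusedVariables false
set_option linter.style.haveILetI false

/-!
# A form similar to a minus form has no equivariant structure for a field automorphism of order
two (for helper17's S2733; helper19)
-/

namespace Cfsg.Agent.Helper19.GInvInv

open QuadraticMap Matrix Cfsg.Agent.Helper13 Cfsg.Agent.Helper17.OrthOut Cfsg.Agent.Helper17.Spinor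
  Cfsg.Agent.Helper17.ConfAut Cfsg.Agent.Helper17.OrthAut Cfsg.Agent.Helper17.OrthFA
open Cfsg.Agent.S2617

/-- over a finite field some `t ^ 2 + t + ζ` has no root -/
theorem exists_zeta (K : Type*) [Field K] [Finite K] : ∃ ζ : K, ∀ t : K, t ^ 2 + t + ζ ≠ 0 := by
  by_contra hcon
  push Not at hcon
  have hsurj : Function.Surjective (fun t : K => -(t ^ 2 + t)) := by
    intro ζ
    obtain ⟨t, ht⟩ := hcon ζ
    exact ⟨t, by linear_combination (-1 : K) * ht⟩
  have hinj := Finite.injective_iff_surjective.2 hsurj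
  have h1 : (0 : K) = -1 := hinj (by ring)
  have h2 : (1 : K) = 0 := by linear_combination h1
  exact one_ne_zero h2

section counts

variable (F : Type*) [Field F] [Fintype F] [DecidableEq F]

theorem zM_lt (a b a' b' : F) (h0 : zM F 0 a b < zM F 0 a' b') (k : ℕ) :
    zM F k a b < zM F k a' b' := by
  induction k with
  | zero => exact h0
  | succ k ih =>
    have h1 := zM_succ F k a b
    have h2 := zM_succ F k a' b'
    have hq : 2 ≤ Fintype.card F := Fintype.one_lt_card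
    nlinarith

theorem two_le_zM_zero (a' b' t : F) (ht : t ^ 2 + a' * t + b' = 0) : 2 ≤ zM F 0 a' b' := by
  unfold zM
  obtain ⟨w, hw⟩ : ∃ w : (Fin 0 ⊕ Fin 0) ⊕ Fin 2 → F, w = Sum.elim (fun _ => 0) ![t, 1] :=
    ⟨_, rfl⟩
  apply Finset.one_lt_card.2
  refine ⟨0, ?_, w, ?_, ?_⟩
  · simp [Cfsg.quadFormMinus]
  · simp only [Finset.mem_filter, Finset.mem_univ, true_and]
    simp only [Cfsg.quadFormMinus, Finset.univ_eq_empty, Finset.sum_empty, zero_add, hw]
    simp
    linear_combination ht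
  · intro h
    have := congrFun h (Sum.inr 1)
    rw [hw] at this
    simp at this

end counts

variable {F : Type*} [Field F] [Fintype F]

theorem no_twisted_form_of_order_two (m : ℕ) (σ : F ≃+* F) (hσ : orderOf σ = 2) (a b : F)
    (hab : ∀ z₁ z₂ : F, z₁ ^ 2 + a * z₁ * z₂ + b * z₂ ^ 2 = 0 → z₁ = 0 ∧ z₂ = 0)
    (N : Matrix ((Fin m ⊕ Fin m) ⊕ Fin 2) ((Fin m ⊕ Fin m) ⊕ Fin 2) F)
    (hNσ : ∀ v : (Fin m ⊕ Fin m) ⊕ Fin 2 → F, matQ N (fun i => σ (v i)) = σ (matQ N v))
    (hNsim : ∃ h : Matrix ((Fin m ⊕ Fin m) ⊕ Fin 2) ((Fin m ⊕ Fin m) ⊕ Fin 2) F, IsUnit h ∧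
      ∃ c : F, c ≠ 0 ∧ ∀ v, matQ N v = c * matQ (minusMat m a b) (h *ᵥ v)) : False := by
  classical
  -- step 1
  obtain ⟨N', hN'Q, hN'σ⟩ := exists_fixed_matrix σ N hNσ
  obtain ⟨N₀, hN₀⟩ := exists_of_fixed σ hN'σ
  have hN₀Q : matQ (N₀.map (FAut.fixedField σ).subtype) = matQ N := by rw [hN₀, hN'Q]
  -- step 2
  have hMnd : (minusMat m a b + (minusMat m a b)ᵀ).det ≠ 0 := by
    rw [minusMat_det]
    exact mul_ne_zero (pow_ne_zero _ (neg_ne_zero.2 one_ne_zero))
      (disc_ne_zero_of_anisotropic a b hab)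
  have hnd := det_ne_zero_of_sim (FAut.fixedField σ).subtype _ N hMnd N₀ hN₀Q hNsim
  -- step 3
  have hnh : ¬ HypBasis (m + 1) N₀ := by
    apply not_hypBasis (FAut.fixedField σ).subtype m a b hab N₀
    rw [hN₀Q]
    exact hNsim
  -- step 4
  have : Fintype (FAut.fixedField σ) := Fintype.ofFinite _
  obtain ⟨ζ, hζ⟩ := exists_zeta (FAut.fixedField σ)
  have hab₀ := aniso_one_zeta ζ hζ
  obtain ⟨k₀, hk₀u, hk₀⟩ := exists_minus_of_not_hyp m 1 ζ hab₀ N₀ hnd hnh
  obtain ⟨j, hj⟩ : ∃ j : FAut.fixedField σ →+* F, j = (FAut.fixedField σ).subtype := ⟨_, rfl⟩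
  rw [← hj] at hN₀ hN₀Q
  obtain ⟨k, hk⟩ : ∃ k : Matrix ((Fin m ⊕ Fin m) ⊕ Fin 2) ((Fin m ⊕ Fin m) ⊕ Fin 2) F,
    k = k₀.map j := ⟨_, rfl⟩
  have hform : matQ (k₀ᵀ * N₀ * k₀) = matQ (minusMat m 1 ζ) := by
    apply DFunLike.ext
    intro v
    rw [matQ_congr_mul, hk₀]
  have hform' := matQ_map_eq j hform
  have e1 : (k₀ᵀ * N₀ * k₀).map j = kᵀ * N' * k := by
    rw [Matrix.map_mul, Matrix.map_mul, hN₀, ← hk, Matrix.transpose_map, ← hk]
  rw [e1, minusMat_map j m 1 ζ] at hform'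
  have hkv : ∀ v, matQ N (k *ᵥ v) = matQ (minusMat m (j 1) (j ζ)) v := by
    intro v
    rw [← hN'Q, ← matQ_congr_mul, hform']
  have hku : IsUnit k := by
    rw [Matrix.isUnit_iff_isUnit_det, hk, det_map_hom]
    rw [Matrix.isUnit_iff_isUnit_det] at hk₀u
    exact hk₀u.map _
  -- step 5
  obtain ⟨n, hp, hF⟩ := FiniteField.card F (ringChar F)
  have : Fact (ringChar F).Prime := ⟨hp⟩
  have h2f : 2 ∣ (n : ℕ) := by
    have h1 := orderOf_dvd_natCard σ
    rw [hσ, Cfsg.Agent.Helper2.OutCongr.card_ringEquiv hF] at h1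
    exact h1
  have hF' : Fintype.card F = (ringChar F ^ ((n : ℕ) / 2)) ^ 2 := by
    rw [hF, ← pow_mul, Nat.div_mul_cancel h2f]
  have hcardfix : Nat.card (FAut.fixedField σ) = ringChar F ^ ((n : ℕ) / 2) :=
    FAut.card_fixedField σ 2 _ (by norm_num) hσ hF'
  rw [Nat.card_eq_fintype_card] at hcardfix
  obtain ⟨t, ht⟩ := Cfsg.Agent.Helper17.exists_root_quadratic hF' hcardfix j 1 ζ
    (no_root_of_aniso 1 ζ hab₀)
  -- step 6
  have h0a : zM F 0 a b = 1 := zM_zero' F a b hab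
  have h0b := two_le_zM_zero F (j 1) (j ζ) t ht
  have hlt := zM_lt F a b (j 1) (j ζ) (by omega) m
  have hle : zM F m (j 1) (j ζ) ≤ zM F m a b := by
    obtain ⟨h, hu, c, hc0, hh⟩ := hNsim
    unfold zM
    apply Finset.card_le_card_of_injOn (fun v => h *ᵥ (k *ᵥ v))
    · intro v hv
      simp only [Finset.coe_filter, Finset.mem_univ, true_and, Set.mem_ofPred_eq] at hv ⊢
      rw [Cfsg.Agent.Helper17.Spinor.quadFormMinus_eq] at hv ⊢
      have h1 := hh (k *ᵥ v)
      rw [hkv v] at h1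
      have h2 : c * matQ (minusMat m a b) (h *ᵥ k *ᵥ v) = 0 := by
        rw [← h1]
        exact hv
      rcases mul_eq_zero.1 h2 with h0 | h0
      · exact absurd h0 hc0
      · exact h0
    · apply Function.Injective.injOn
      exact (Matrix.mulVec_injective_iff_isUnit.2 hu).comp
        (Matrix.mulVec_injective_iff_isUnit.2 hku)
  omega

end Cfsg.Agent.Helper19.GInvInv
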