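import Mathlib
import Cfsg.Agent.Lib.Helper17.TSLDefs
import Cfsg.Agent.Lib.Helper16.TSLNF
import Cfsg.Agent.Lib.Helper19.TSLHOMCore

/-!
# S3366 piece HOM (helper19): the universal property of `R = ⟨x, y⟩`.
-/

set_option autoImplicit false
set_option linter.unusedSectionVars false
set_option linter.unusedVariables false

namespace Cfsg.Agent.Helper17.TSL

open Cfsg.Agent.Helper2.Symp
open scoped Cfsg.Agent.Helper2.Symp

section abstract

variable {X : Type*} [Group X] [Finite X] (S : Setup X)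

/-! ## piece HOM (uses NF) -/

theorem exists_hom (x y : X) (hx : x ∈ S.R) (hy : y ∈ S.R) (hxy : x * y * x⁻¹ * y⁻¹ ≠ 1)
    {H : Type*} [Group H] (x' y' : H) (hx' : x' ^ 3 = 1) (hy' : y' ^ 3 = 1)
    (hzx : (x' * y' * x'⁻¹ * y'⁻¹) * x' = x' * (x' * y' * x'⁻¹ * y'⁻¹))
    (hzy : (x' * y' * x'⁻¹ * y'⁻¹) * y' = y' * (x' * y' * x'⁻¹ * y'⁻¹))
    (hz3 : (x' * y' * x'⁻¹ * y'⁻¹) ^ 3 = 1) :
    ∃ φ : S.R →* H, φ ⟨x, hx⟩ = x' ∧ φ ⟨y, hy⟩ = y' :=
  exists_hom_core S (fun x y hx hy hxy r hr => normal_form S x y hx hy hxy r hr)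
    x y hx hy hxy x' y' hx' hy' hzx hzy hz3

end abstract

end Cfsg.Agent.Helper17.TSL
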