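import Mathlib
import Cfsg.Agent.Lib.Helper18.InvC2Defs

/-!
# INVN part C2, piece PERM (core): reordering commuting factors; `comm_of_evenComm` is a hypothesis
-/

set_option autoImplicit false
set_option linter.unusedSectionVars false
set_option linter.unusedVariables false

namespace Cfsg.Agent.Helper13.InvN

open Cfsg Cfsg.Lie Cfsg.Agent.Lead.Chev

variable {F : Type*} [Field F] [CharP F 2] {D : ChevalleyDatum} (hF : ChevFacts D F)
include hF

theorem xprod_perm_core
    (hcomm : ∀ r s : ℕ, r < D.nroots → s < D.nroots → evenComm D r s = true →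
      xGL D hF.xadd s (1 : F) * xGL D hF.xadd r 1 = xGL D hF.xadd r 1 * xGL D hF.xadd s 1)
    (L L' : List ℕ) (hp : L.Perm L') (hL : ∀ r ∈ L, r < D.nroots)
    (hc : L.Pairwise fun r s => evenComm D r s = true) : xprod hF L = xprod hF L' := by
  unfold xprod
  apply List.Perm.prod_eq' (hp.map _)
  rw [List.pairwise_map]
  refine hc.imp_of_mem ?_
  intro r s hr hs h
  exact (hcomm r s (hL r hr) (hL s hs) h).symm

end Cfsg.Agent.Helper13.InvN
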