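import Mathlib
import Cfsg.Agent.Lib.Helper19.InvC2PERMCore
import Cfsg.Agent.Lib.Helper25.InvC2COMM

/-!
# INVN part C2, piece PERM: reordering commuting factors
-/

set_option autoImplicit false
set_option linter.unusedSectionVars false
set_option linter.unusedVariables false

namespace Cfsg.Agent.Helper13.InvN

open Cfsg Cfsg.Lie Cfsg.Agent.Lead.Chev

variable {F : Type*} [Field F] [CharP F 2] {D : ChevalleyDatum} (hF : ChevFacts D F)
include hF

theorem xprod_perm (L L' : List ℕ) (hp : L.Perm L') (hL : ∀ r ∈ L, r < D.nroots)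
    (hc : L.Pairwise fun r s => evenComm D r s = true) : xprod hF L = xprod hF L' :=
  xprod_perm_core hF (fun r s hr hs h => comm_of_evenComm hF r s hr hs h 1 1) L L' hp hL hc

end Cfsg.Agent.Helper13.InvN
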