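import Mathlib
import Cfsg.Agent.Lib.Helper18.LSDefs
import Cfsg.Agent.Lib.Helper11.Unitary

set_option autoImplicit false
set_option linter.unusedSectionVars false
set_option linter.unusedVariables false
set_option linter.style.haveILetI false
set_option linter.unusedSimpArgs false

/-!
# S2335 piece O1: a nonzero hermitian matrix has a non-isotropic vector (helper19)
-/

namespace Cfsg.Agent.Helper18.LS

open Matrix

section bf

variable {F : Type*} [Field F] {ι : Type*} [Fintype ι] (φ : F →+* F)

/-- the sesquilinear form `v^* T w` -/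
def bf (T : Matrix ι ι F) (v w : ι → F) : F := (fun i => φ (v i)) ⬝ᵥ (T *ᵥ w)

theorem hq_eq_bf (T : Matrix ι ι F) (w : ι → F) : hq φ T w = bf φ T w w := rfl

theorem bf_add_right (T : Matrix ι ι F) (v w w' : ι → F) :
    bf φ T v (w + w') = bf φ T v w + bf φ T v w' := by
  unfold bf; rw [mulVec_add, dotProduct_add]

theorem bf_sub_right (T : Matrix ι ι F) (v w w' : ι → F) :
    bf φ T v (w - w') = bf φ T v w - bf φ T v w' := by
  unfold bf; rw [mulVec_sub, dotProduct_sub]

theorem bf_smul_right (T : Matrix ι ι F) (v w : ι → F) (s : F) :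
    bf φ T v (s • w) = s * bf φ T v w := by
  unfold bf; rw [mulVec_smul, dotProduct_smul, smul_eq_mul]

theorem bf_add_left (T : Matrix ι ι F) (v v' w : ι → F) :
    bf φ T (v + v') w = bf φ T v w + bf φ T v' w := by
  unfold bf
  have : (fun i => φ ((v + v') i)) = (fun i => φ (v i)) + (fun i => φ (v' i)) := by
    funext i; simp
  rw [this, add_dotProduct]

theorem bf_smul_left (T : Matrix ι ι F) (v w : ι → F) (s : F) :
    bf φ T (s • v) w = φ s * bf φ T v w := by
  unfold bf
  have : (fun i => φ ((s • v) i)) = φ s • (fun i => φ (v i)) := by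
    funext i; simp
  rw [this, smul_dotProduct, smul_eq_mul]

theorem bf_conj (hφφ : ∀ x, φ (φ x) = x) (T : Matrix ι ι F) (hT : ct φ T = T) (v w : ι → F) :
    φ (bf φ T v w) = bf φ T w v := by
  have hTij : ∀ i j, φ (T i j) = T j i := by
    intro i j
    have := congrFun (congrFun hT j) i
    rw [ct_apply] at this
    exact this
  unfold bf
  simp only [dotProduct, mulVec, map_sum, map_mul, hφφ, Finset.mul_sum, hTij]
  rw [Finset.sum_comm]
  apply Finset.sum_congr rfl
  intro j _
  apply Finset.sum_congr rfl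
  intro i _
  ring

theorem bf_single [DecidableEq ι] (T : Matrix ι ι F) (i j : ι) :
    bf φ T (Pi.single i 1) (Pi.single j 1) = T i j := by
  unfold bf
  have h1 : (fun k => φ ((Pi.single i (1 : F) : ι → F) k)) = Pi.single i (1 : F) := by
    funext k
    by_cases hk : k = i
    · subst hk; simp
    · simp [Pi.single_eq_of_ne hk]
  rw [h1, single_one_dotProduct, mulVec_single_one]
  rfl

end bf

variable {F : Type*} [Field F] [Fintype F] {q : ℕ}

/-- O1: a nonzero hermitian matrix has a non-isotropic vector -/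
theorem exists_hq_ne_zero (hF : Fintype.card F = q ^ 2) (φ : F →+* F) (hφ : ∀ x, φ x = x ^ q)
    {ι : Type*} [Fintype ι] [DecidableEq ι] (T : Matrix ι ι F) (hT : ct φ T = T) (h0 : T ≠ 0) :
    ∃ w : ι → F, hq φ T w ≠ 0 := by
  have hφφ := Cfsg.Agent.Helper11.Herm.frob_frob hF φ hφ
  obtain ⟨μ, hμ⟩ := Cfsg.Agent.Helper11.Herm.frob_trace_ne_zero hF φ hφ
  by_contra hcon
  push Not at hcon
  apply h0
  have hB : ∀ v w : ι → F, bf φ T v w = 0 := by
    intro v w
    by_contra hβ
    have h1 := hcon (v + (μ / bf φ T v w) • w)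
    rw [hq_eq_bf] at h1
    simp only [bf_add_left, bf_add_right, bf_smul_right, bf_smul_left] at h1
    have h2 : bf φ T v v = 0 := hcon v
    have h3 : bf φ T w w = 0 := hcon w
    have h4 : bf φ T w v = φ (bf φ T v w) := (bf_conj φ hφφ T hT v w).symm
    rw [h2, h3, h4, ← map_mul, div_mul_cancel₀ _ hβ] at h1
    apply hμ
    have h5 : μ / bf φ T v w * bf φ T v w = μ := div_mul_cancel₀ _ hβ
    rw [mul_zero, add_zero, h5] at h1
    linear_combination h1
  ext i j
  rw [← bf_single φ T i j, hB]
  rfl

end Cfsg.Agent.Helper18.LS
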