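import Mathlib
import Cfsg.Agent.Lib.Helper18.LSDefs
import Cfsg.Agent.Lib.Helper11.Unitary
import Cfsg.Agent.Lib.Helper19.LSO1

set_option autoImplicit false
set_option linter.unusedSectionVars false
set_option linter.unusedVariables false
set_option linter.style.haveILetI false
set_option linter.unusedSimpArgs false

/-!
# S2335 piece O2: if every isotropic vector lies in the radical, the matrix has rank one (helper19)
-/

namespace Cfsg.Agent.Helper18.LS

open Matrix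

section bf

variable {F : Type*} [Field F] {ι : Type*} [Fintype ι] (φ : F →+* F)

theorem bf_eq_zero_of_mulVec (T : Matrix ι ι F) (v w : ι → F) (h : T *ᵥ w = 0) :
    bf φ T v w = 0 := by
  unfold bf; rw [h, dotProduct_zero]

theorem bf_single_left [DecidableEq ι] (T : Matrix ι ι F) (j : ι) (w : ι → F) :
    bf φ T (Pi.single j 1) w = (T *ᵥ w) j := by
  unfold bf
  have h1 : (fun k => φ ((Pi.single j (1 : F) : ι → F) k)) = Pi.single j (1 : F) := by
    funext k
    by_cases hk : k = j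
    · subst hk; simp
    · simp [Pi.single_eq_of_ne hk]
  rw [h1, single_one_dotProduct]

end bf

variable {F : Type*} [Field F] [Fintype F] {q : ℕ}

/-- O2: if every isotropic vector lies in the radical, the matrix has rank one -/
theorem rank_one_of_forall (hF : Fintype.card F = q ^ 2) (φ : F →+* F) (hφ : ∀ x, φ x = x ^ q)
    {ι : Type*} [Fintype ι] [DecidableEq ι] (T : Matrix ι ι F) (hT : ct φ T = T) (h0 : T ≠ 0)
    (hiso : ∀ w : ι → F, hq φ T w = 0 → T *ᵥ w = 0) :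
    ∃ (c : F) (u : ι → F), c ≠ 0 ∧ φ c = c ∧ u ≠ 0 ∧ T = c • uu φ u := by
  have hφφ := Cfsg.Agent.Helper11.Herm.frob_frob hF φ hφ
  have hnorm := Cfsg.Agent.Helper11.Herm.frob_norm_surj hF φ hφ
  obtain ⟨w₁, hw₁⟩ := exists_hq_ne_zero hF φ hφ T hT h0
  rw [hq_eq_bf] at hw₁
  obtain ⟨c₁, hc₁def⟩ : ∃ c₁, c₁ = bf φ T w₁ w₁ := ⟨_, rfl⟩
  have hc₁0 : c₁ ≠ 0 := by rw [hc₁def]; exact hw₁
  have hc₁ : φ c₁ = c₁ := by rw [hc₁def]; exact bf_conj φ hφφ T hT w₁ w₁
  -- the key claim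
  have hkey : ∀ v : ι → F, bf φ T w₁ v = 0 → T *ᵥ v = 0 := by
    intro v hv
    apply hiso
    by_contra hvv
    rw [hq_eq_bf] at hvv
    obtain ⟨b, hbdef⟩ : ∃ b, b = bf φ T v v := ⟨_, rfl⟩
    have hb0 : b ≠ 0 := by rw [hbdef]; exact hvv
    have hb : φ b = b := by rw [hbdef]; exact bf_conj φ hφφ T hT v v
    have hr0 : -c₁ / b ≠ 0 := div_ne_zero (neg_ne_zero.mpr hc₁0) hb0
    have hr : φ (-c₁ / b) = -c₁ / b := by rw [map_div₀, map_neg, hc₁, hb]
    obtain ⟨s, hs0, hs⟩ := hnorm (-c₁ / b) hr0 hr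
    have hvw : bf φ T v w₁ = 0 := by
      rw [← bf_conj φ hφφ T hT w₁ v, hv, map_zero]
    have hw : hq φ T (w₁ + s • v) = 0 := by
      rw [hq_eq_bf]
      simp only [bf_add_left, bf_add_right, bf_smul_right, bf_smul_left]
      rw [hv, hvw, ← hbdef, ← hc₁def]
      have h5 : s * φ s * b = -c₁ := by rw [hs, div_mul_cancel₀ _ hb0]
      linear_combination h5
    have h1 := bf_eq_zero_of_mulVec φ T w₁ _ (hiso _ hw)
    rw [bf_add_right, bf_smul_right, hv, mul_zero, add_zero, ← hc₁def] at h1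
    exact hc₁0 h1
  obtain ⟨u, hudef⟩ : ∃ u : ι → F, u = T *ᵥ w₁ := ⟨_, rfl⟩
  have hTx : ∀ x : ι → F, T *ᵥ x = (bf φ T w₁ x / c₁) • u := by
    intro x
    have h1 : bf φ T w₁ (x - (bf φ T w₁ x / c₁) • w₁) = 0 := by
      rw [bf_sub_right, bf_smul_right, ← hc₁def, div_mul_cancel₀ _ hc₁0, sub_self]
    have h2 := hkey _ h1
    rw [mulVec_sub, mulVec_smul, sub_eq_zero] at h2
    rw [h2, hudef]
  have hu0 : u ≠ 0 := by
    intro hu
    apply hc₁0
    rw [hc₁def]
    apply bf_eq_zero_of_mulVec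
    rw [← hudef, hu]
  refine ⟨c₁⁻¹, u, inv_ne_zero hc₁0, by rw [map_inv₀, hc₁], hu0, ?_⟩
  ext i j
  have h1 : T i j = (T *ᵥ Pi.single j 1) i := by
    rw [mulVec_single_one]; rfl
  have h2 : bf φ T w₁ (Pi.single j 1) = φ (u j) := by
    rw [← bf_conj φ hφφ T hT (Pi.single j 1) w₁, bf_single_left, hudef]
  rw [h1, hTx, h2, Pi.smul_apply, Matrix.smul_apply, uu_apply, smul_eq_mul, smul_eq_mul]
  field_simp

end Cfsg.Agent.Helper18.LS
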