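import Mathlib
import Cfsg.Agent.Lib.Helper18.LS2Defs

set_option autoImplicit false
set_option linter.unusedSectionVars false
set_option linter.unusedVariables false
set_option linter.style.haveILetI false
set_option linter.unusedSimpArgs false

/-!
# S2334 piece HSUB: an abelian subgroup of the Heisenberg-type group (helper19)
-/

namespace Cfsg.Agent.Helper18.LS

open Matrix

variable {F : Type*} [Field F]

theorem adm_entry (φ : F →+* F) {m : ℕ} {u : Fin m → F} {S : Matrix (Fin m) (Fin m) F}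
    (h : Adm φ u S) (i j : Fin m) : S i j + φ (S j i) + u i * φ (u j) = 0 := by
  have h1 := congrFun (congrFun h i) j
  simpa [Matrix.add_apply, ct_apply, uu_apply] using h1

theorem adm_of_entry (φ : F →+* F) {m : ℕ} {u : Fin m → F} {S : Matrix (Fin m) (Fin m) F}
    (h : ∀ i j : Fin m, S i j + φ (S j i) + u i * φ (u j) = 0) : Adm φ u S := by
  unfold Adm
  ext i j
  simpa [Matrix.add_apply, ct_apply, uu_apply] using h i j

theorem adm_zero_zero (φ : F →+* F) (m : ℕ) :
    Adm φ (0 : Fin m → F) (0 : Matrix (Fin m) (Fin m) F) := by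
  apply adm_of_entry
  intro i j
  simp

/-- admissible pairs are closed under the multiplication law -/
theorem adm_mul (φ : F →+* F) (hφφ : ∀ x, φ (φ x) = x) {m : ℕ} {u u' : Fin m → F}
    {S S' : Matrix (Fin m) (Fin m) F} (h : Adm φ u S) (h' : Adm φ u' S') :
    Adm φ (u + u') (S + S' - Matrix.vecMulVec u (fun j => φ (u' j))) := by
  apply adm_of_entry
  intro i j
  have h1 := adm_entry φ h i j
  have h2 := adm_entry φ h' i j
  simp only [Matrix.sub_apply, Matrix.add_apply, Matrix.vecMulVec_apply, Pi.add_apply, map_add,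
    map_sub, map_mul, hφφ]
  linear_combination h1 + h2

/-- inverse of an admissible pair -/
theorem adm_inv (φ : F →+* F) (hφφ : ∀ x, φ (φ x) = x) {m : ℕ} {u : Fin m → F}
    {S : Matrix (Fin m) (Fin m) F} (h : Adm φ u S) : Adm φ (-u) (ct φ S) := by
  apply adm_of_entry
  intro i j
  have h1 := adm_entry φ h i j
  simp only [ct_apply, hφφ, Pi.neg_apply, map_neg]
  linear_combination h1

/-! ## PIECE HSUB -/

theorem exists_heis_sub {G : Type*} [Group G] (φ : F →+* F) (hφφ : ∀ x, φ (φ x) = x) (m : ℕ)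
    (X : (Fin m → F) → Matrix (Fin m) (Fin m) F → G) (hX0 : X 0 0 = 1)
    (hXmul : ∀ (u : Fin m → F) (S : Matrix (Fin m) (Fin m) F) (u' : Fin m → F)
        (S' : Matrix (Fin m) (Fin m) F), Adm φ u S → Adm φ u' S' →
        X u S * X u' S' = X (u + u') (S + S' - Matrix.vecMulVec u (fun j => φ (u' j))))
    (u₀ : Fin m → F) :
    ∃ A : Subgroup G,
      (∀ g, g ∈ A ↔ ∃ (s : F) (S : Matrix (Fin m) (Fin m) F), φ s = s ∧ Adm φ (s • u₀) S ∧
        g = X (s • u₀) S) ∧
      ∀ g ∈ A, ∀ h ∈ A, g * h = h * g := by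
  -- the product of two elements of the set
  have hmul : ∀ (s s' : F) (S S' : Matrix (Fin m) (Fin m) F), φ s = s → φ s' = s' →
      Adm φ (s • u₀) S → Adm φ (s' • u₀) S' →
      X (s • u₀) S * X (s' • u₀) S' =
        X ((s + s') • u₀) (S + S' - (s * s') • uu φ u₀) ∧
      Adm φ ((s + s') • u₀) (S + S' - (s * s') • uu φ u₀) := by
    intro s s' S S' hs hs' hS hS'
    have e1 : s • u₀ + s' • u₀ = (s + s') • u₀ := (add_smul s s' u₀).symm
    have e2 : Matrix.vecMulVec (s • u₀) (fun j => φ ((s' • u₀) j)) = (s * s') • uu φ u₀ := by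
      ext i j
      simp only [Matrix.vecMulVec_apply, Pi.smul_apply, smul_eq_mul, map_mul, hs',
        Matrix.smul_apply, uu_apply]
      ring
    have h1 := hXmul _ _ _ _ hS hS'
    have h2 := adm_mul φ hφφ hS hS'
    rw [e1, e2] at h1 h2
    exact ⟨h1, h2⟩
  refine ⟨{ carrier := {g | ∃ (s : F) (S : Matrix (Fin m) (Fin m) F), φ s = s ∧
              Adm φ (s • u₀) S ∧ g = X (s • u₀) S}
            mul_mem' := ?_
            one_mem' := ?_
            inv_mem' := ?_ }, ?_, ?_⟩
  · rintro g h ⟨s, S, hs, hS, rfl⟩ ⟨s', S', hs', hS', rfl⟩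
    obtain ⟨h1, h2⟩ := hmul s s' S S' hs hs' hS hS'
    exact ⟨s + s', _, by rw [map_add, hs, hs'], h2, h1⟩
  · refine ⟨0, 0, map_zero φ, ?_, ?_⟩
    · rw [zero_smul]; exact adm_zero_zero φ m
    · rw [zero_smul, hX0]
  · rintro g ⟨s, S, hs, hS, rfl⟩
    have hinv := adm_inv φ hφφ hS
    have e0 : -(s • u₀) = (-s) • u₀ := (neg_smul s u₀).symm
    rw [e0] at hinv
    refine ⟨-s, ct φ S, by rw [map_neg, hs], hinv, ?_⟩
    obtain ⟨h1, h2⟩ := hmul s (-s) S (ct φ S) hs (by rw [map_neg, hs]) hS hinv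
    have e3 : S + ct φ S - (s * -s) • uu φ u₀ = 0 := by
      have := hS
      unfold Adm at this
      rw [uu_smul, hs] at this
      rw [mul_neg, neg_smul, sub_neg_eq_add]
      exact this
    rw [add_neg_cancel, zero_smul, e3, hX0] at h1
    exact inv_eq_of_mul_eq_one_right h1
  · intro g
    exact Iff.rfl
  · rintro g ⟨s, S, hs, hS, rfl⟩ h ⟨s', S', hs', hS', rfl⟩
    obtain ⟨h1, -⟩ := hmul s s' S S' hs hs' hS hS'
    obtain ⟨h2, -⟩ := hmul s' s S' S hs' hs hS' hS
    rw [h1, h2, add_comm s s', add_comm S S', mul_comm s s']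

end Cfsg.Agent.Helper18.LS
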