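import Mathlib
import Cfsg.Agent.Lib.Helper18.LSDefs

set_option autoImplicit false
set_option linter.unusedSectionVars false
set_option linter.unusedVariables false
set_option linter.style.haveILetI false
set_option linter.unusedSimpArgs false

/-!
# S2335 piece GRP: the Siegel unipotent radical and its Levi complement in `WSU (m+m) φ` (helper19)
-/

namespace Cfsg.Agent.Helper18.LS

open Matrix Cfsg.Agent.Helper13.SuBN

/-- the index bijection `Fin m ⊕ Fin m ≃ Fin (m+m)`: the second block is listed backwards -/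
def sgE (m : ℕ) : Fin m ⊕ Fin m ≃ Fin (m + m) :=
  (Equiv.sumCongr (Equiv.refl (Fin m)) Fin.revPerm).trans finSumFinEquiv

theorem sgE_inl (m : ℕ) (i : Fin m) : sgE m (Sum.inl i) = Fin.castAdd m i := by
  simp [sgE]

theorem sgE_inr (m : ℕ) (j : Fin m) : sgE m (Sum.inr j) = Fin.natAdd m (Fin.rev j) := by
  simp [sgE]

theorem rev_sgE (m : ℕ) (s : Fin m ⊕ Fin m) : Fin.rev (sgE m s) = sgE m (Sum.swap s) := by
  rcases s with i | j
  · rw [sgE_inl, Sum.swap_inl, sgE_inr]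
    apply Fin.ext
    simp only [Fin.val_rev, Fin.val_castAdd, Fin.val_natAdd]
    have := i.2
    omega
  · rw [sgE_inr, Sum.swap_inr, sgE_inl]
    apply Fin.ext
    simp only [Fin.val_rev, Fin.val_castAdd, Fin.val_natAdd]
    have := j.2
    omega

variable {F : Type*} [Field F]

/-- block matrices, reindexed to `Fin (m+m)` -/
def sgM (m : ℕ) (M : Matrix (Fin m ⊕ Fin m) (Fin m ⊕ Fin m) F) :
    Matrix (Fin (m + m)) (Fin (m + m)) F :=
  Matrix.reindex (sgE m) (sgE m) M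

theorem sgM_apply (m : ℕ) (M : Matrix (Fin m ⊕ Fin m) (Fin m ⊕ Fin m) F) (s t : Fin m ⊕ Fin m) :
    sgM m M (sgE m s) (sgE m t) = M s t := by
  simp [sgM]

theorem sgM_mul (m : ℕ) (M M' : Matrix (Fin m ⊕ Fin m) (Fin m ⊕ Fin m) F) :
    sgM m (M * M') = sgM m M * sgM m M' := by
  unfold sgM
  rw [Matrix.reindex_apply, Matrix.reindex_apply, Matrix.reindex_apply,
    Matrix.submatrix_mul_equiv]

theorem sgM_one (m : ℕ) : sgM m (1 : Matrix (Fin m ⊕ Fin m) (Fin m ⊕ Fin m) F) = 1 := by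
  unfold sgM
  rw [Matrix.reindex_apply, Matrix.submatrix_one_equiv]

theorem sgM_det (m : ℕ) (M : Matrix (Fin m ⊕ Fin m) (Fin m ⊕ Fin m) F) :
    (sgM m M).det = M.det := by
  unfold sgM
  rw [Matrix.det_reindex_self]

theorem sgM_injective (m : ℕ) :
    Function.Injective (sgM m : Matrix (Fin m ⊕ Fin m) (Fin m ⊕ Fin m) F → _) :=
  (Matrix.reindex (sgE m) (sgE m)).injective

theorem dag_sgM (φ : F →+* F) (m : ℕ) (A B C D : Matrix (Fin m) (Fin m) F) :
    dag φ (sgM m (Matrix.fromBlocks A B C D)) =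
      sgM m (Matrix.fromBlocks (ct φ D) (ct φ B) (ct φ C) (ct φ A)) := by
  ext p q
  obtain ⟨s, rfl⟩ := (sgE m).surjective p
  obtain ⟨t, rfl⟩ := (sgE m).surjective q
  rw [dag_apply, rev_sgE, rev_sgE, sgM_apply, sgM_apply]
  rcases s with i | i <;> rcases t with j | j <;> simp [ct_apply]

/-- the matrix of `x S` -/
def sgX (m : ℕ) (ε : F) (S : Matrix (Fin m) (Fin m) F) : Matrix (Fin (m + m)) (Fin (m + m)) F :=
  sgM m (Matrix.fromBlocks 1 (ε • S) 0 1)

/-- the matrix of `d a` -/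
def sgD (φ : F →+* F) (m : ℕ) (a : Matrix (Fin m) (Fin m) F) :
    Matrix (Fin (m + m)) (Fin (m + m)) F :=
  sgM m (Matrix.fromBlocks a 0 0 (ct φ (Matrix.adjugate a)))

theorem sgX_det (m : ℕ) (ε : F) (S : Matrix (Fin m) (Fin m) F) : (sgX m ε S).det = 1 := by
  unfold sgX
  rw [sgM_det, Matrix.det_fromBlocks_zero₂₁, Matrix.det_one, one_mul]

theorem sgX_dag (φ : F →+* F) (ε : F) (hε : φ ε = -ε) (m : ℕ) (S : Matrix (Fin m) (Fin m) F)
    (hS : ct φ S = S) : dag φ (sgX m ε S) * sgX m ε S = 1 := by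
  unfold sgX
  rw [dag_sgM, ← sgM_mul, Matrix.fromBlocks_multiply, ct_one, ct_zero, ct_smul, hS, hε]
  simp only [Matrix.one_mul, Matrix.mul_one, Matrix.mul_zero, Matrix.zero_mul, add_zero, zero_add]
  rw [show ε • S + -ε • S = 0 by rw [neg_smul, add_neg_cancel], Matrix.fromBlocks_one, sgM_one]

theorem sgX_zero (m : ℕ) (ε : F) : sgX m ε (0 : Matrix (Fin m) (Fin m) F) = 1 := by
  unfold sgX
  rw [smul_zero, Matrix.fromBlocks_one, sgM_one]

theorem sgX_add (m : ℕ) (ε : F) (S S' : Matrix (Fin m) (Fin m) F) :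
    sgX m ε (S + S') = sgX m ε S * sgX m ε S' := by
  unfold sgX
  rw [← sgM_mul, Matrix.fromBlocks_multiply]
  simp only [Matrix.one_mul, Matrix.mul_one, Matrix.mul_zero, Matrix.zero_mul, add_zero, zero_add]
  rw [smul_add, add_comm (ε • S)]

theorem sgX_injective (m : ℕ) (ε : F) (hε0 : ε ≠ 0) :
    Function.Injective (sgX m ε : Matrix (Fin m) (Fin m) F → _) := by
  intro S S' h
  unfold sgX at h
  have h1 := sgM_injective m h
  rw [Matrix.fromBlocks_inj] at h1
  have h2 : ε • S = ε • S' := h1.2.1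
  have h3 := congrArg (fun M => ε⁻¹ • M) h2
  simpa [smul_smul, inv_mul_cancel₀ hε0] using h3

theorem sgD_det (φ : F →+* F) (m : ℕ) (a : Matrix (Fin m) (Fin m) F) (ha : a.det = 1) :
    (sgD φ m a).det = 1 := by
  unfold sgD
  rw [sgM_det, Matrix.det_fromBlocks_zero₂₁, ct_det, Matrix.det_adjugate, ha, one_pow, map_one,
    one_mul]

theorem sgD_dag (φ : F →+* F) (hφφ : ∀ x, φ (φ x) = x) (m : ℕ) (a : Matrix (Fin m) (Fin m) F)
    (ha : a.det = 1) : dag φ (sgD φ m a) * sgD φ m a = 1 := by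
  unfold sgD
  rw [dag_sgM, ← sgM_mul, Matrix.fromBlocks_multiply, ct_zero, ct_ct φ hφφ]
  simp only [Matrix.mul_zero, Matrix.zero_mul, add_zero, zero_add]
  rw [Matrix.adjugate_mul, ← ct_mul, Matrix.adjugate_mul, ha, one_smul, ct_one,
    Matrix.fromBlocks_one, sgM_one]

theorem sgD_mul_sgX (φ : F →+* F) (m : ℕ) (ε : F) (a S S' : Matrix (Fin m) (Fin m) F)
    (ha : a.det = 1) (hS' : S' = a * S * ct φ a) :
    sgD φ m a * sgX m ε S = sgX m ε S' * sgD φ m a := by
  unfold sgD sgX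
  rw [← sgM_mul, ← sgM_mul, Matrix.fromBlocks_multiply, Matrix.fromBlocks_multiply]
  simp only [Matrix.one_mul, Matrix.mul_one, Matrix.mul_zero, Matrix.zero_mul, add_zero, zero_add]
  congr 2
  rw [hS', Matrix.smul_mul, Matrix.mul_assoc, ← ct_mul, Matrix.adjugate_mul, ha, one_smul, ct_one,
    Matrix.mul_one, Matrix.mul_smul]

/-! ## PIECE GRP -/

theorem exists_siegel (φ : F →+* F) (hφφ : ∀ x, φ (φ x) = x) (ε : F) (hε0 : ε ≠ 0)
    (hε : φ ε = -ε) (m : ℕ) :
    ∃ (x : Herm φ m → WSU (m + m) φ)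
      (d : {a : Matrix (Fin m) (Fin m) F // a.det = 1} → WSU (m + m) φ),
      x 0 = 1 ∧ (∀ S S', x (S + S') = x S * x S') ∧ Function.Injective x ∧
      ∀ (a : {a : Matrix (Fin m) (Fin m) F // a.det = 1}) (S S' : Herm φ m),
        (S' : Matrix (Fin m) (Fin m) F) = a.1 * (S : Matrix (Fin m) (Fin m) F) * ct φ a.1 →
        d a * x S = x S' * d a := by
  refine ⟨fun S => mkW (sgX m ε S.1) (sgX_det m ε S.1) (sgX_dag φ ε hε m S.1 S.2),
    fun a => mkW (sgD φ m a.1) (sgD_det φ m a.1 a.2) (sgD_dag φ hφφ m a.1 a.2), ?_, ?_, ?_, ?_⟩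
  · apply mt_injective
    rw [mt_mkW, mt_one]
    exact sgX_zero m ε
  · intro S S'
    apply mt_injective
    rw [mt_mul, mt_mkW, mt_mkW, mt_mkW]
    exact sgX_add m ε S.1 S'.1
  · intro S S' h
    have h1 := congrArg Cfsg.Agent.Helper13.SuBN.mt h
    simp only [] at h1
    rw [mt_mkW, mt_mkW] at h1
    exact Subtype.ext (sgX_injective m ε hε0 h1)
  · intro a S S' hS'
    apply mt_injective
    rw [mt_mul, mt_mul, mt_mkW, mt_mkW, mt_mkW]
    exact sgD_mul_sgX φ m ε a.1 S.1 S'.1 a.2 hS'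

end Cfsg.Agent.Helper18.LS
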