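import Mathlib
import Cfsg.Agent.Lib.Helper18.LS2Defs
import Cfsg.Agent.Lib.Helper19.LS2HSUB

set_option autoImplicit false
set_option linter.unusedSectionVars false
set_option linter.unusedVariables false
set_option linter.style.haveILetI false
set_option linter.unusedSimpArgs false

/-!
# S2334 piece GRP2: the unipotent radical (Heisenberg type) and the Levi complement of the
stabilizer of a maximal isotropic subspace in `WSU (2m+1) φ` (helper19)
-/

namespace Cfsg.Agent.Helper18.LS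

open Matrix Cfsg.Agent.Helper13.SuBN

/-- the index bijection `Fin m ⊕ Unit ⊕ Fin m ≃ Fin (2m+1)`: the last block is listed backwards -/
def e3 (m : ℕ) : Fin m ⊕ Unit ⊕ Fin m ≃ Fin (2 * m + 1) where
  toFun s := match s with
    | Sum.inl i => ⟨i.1, by have := i.2; omega⟩
    | Sum.inr (Sum.inl _) => ⟨m, by omega⟩
    | Sum.inr (Sum.inr j) => ⟨2 * m - j.1, by omega⟩
  invFun k := if h : k.1 < m then Sum.inl ⟨k.1, h⟩ else
    if h2 : k.1 = m then Sum.inr (Sum.inl ()) else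
      Sum.inr (Sum.inr ⟨2 * m - k.1, by have := k.2; omega⟩)
  left_inv := by
    rintro (i | _ | j)
    · have := i.2
      simp
    · simp
    · have := j.2
      have h1 : ¬ (2 * m - j.1 < m) := by omega
      have h2 : ¬ (2 * m - j.1 = m) := by omega
      simp only [h1, h2, dite_false]
      congr 2
      apply Fin.ext
      simp only []
      omega
  right_inv := by
    intro k
    have := k.2
    by_cases h : k.1 < m
    · simp [h]
    · by_cases h2 : k.1 = m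
      · have hm : m < 2 * m + 1 := Nat.lt_succ_of_le (Nat.le_mul_of_pos_left m (by norm_num))
        have hk : k = ⟨m, hm⟩ := Fin.ext h2
        subst hk
        simp
      · simp only [h, h2, dite_false]
        apply Fin.ext
        simp only []
        omega

theorem e3_inl (m : ℕ) (i : Fin m) : ((e3 m (Sum.inl i)) : Fin (2 * m + 1)).1 = i.1 := rfl

theorem e3_mid (m : ℕ) (x : Unit) : ((e3 m (Sum.inr (Sum.inl x))) : Fin (2 * m + 1)).1 = m := rfl

theorem e3_inr (m : ℕ) (j : Fin m) :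
    ((e3 m (Sum.inr (Sum.inr j))) : Fin (2 * m + 1)).1 = 2 * m - j.1 := rfl

/-- the swap of the two outer blocks -/
def sw3 (m : ℕ) : Fin m ⊕ Unit ⊕ Fin m → Fin m ⊕ Unit ⊕ Fin m
  | Sum.inl i => Sum.inr (Sum.inr i)
  | Sum.inr (Sum.inl x) => Sum.inr (Sum.inl x)
  | Sum.inr (Sum.inr j) => Sum.inl j

theorem rev_e3 (m : ℕ) (s : Fin m ⊕ Unit ⊕ Fin m) : Fin.rev (e3 m s) = e3 m (sw3 m s) := by
  rcases s with i | x | j
  · apply Fin.ext
    have := i.2
    rw [Fin.val_rev, e3_inl]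
    show _ = 2 * m - i.1
    omega
  · apply Fin.ext
    rw [Fin.val_rev, e3_mid]
    show _ = m
    omega
  · apply Fin.ext
    have := j.2
    rw [Fin.val_rev, e3_inr]
    show _ = j.1
    omega

variable {F : Type*} [Field F]

/-- matrices indexed by the three blocks, reindexed to `Fin (2m+1)` -/
def M3 (m : ℕ) (M : Matrix (Fin m ⊕ Unit ⊕ Fin m) (Fin m ⊕ Unit ⊕ Fin m) F) :
    Matrix (Fin (2 * m + 1)) (Fin (2 * m + 1)) F :=
  Matrix.reindex (e3 m) (e3 m) M

theorem M3_apply (m : ℕ) (M : Matrix (Fin m ⊕ Unit ⊕ Fin m) (Fin m ⊕ Unit ⊕ Fin m) F)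
    (s t : Fin m ⊕ Unit ⊕ Fin m) : M3 m M (e3 m s) (e3 m t) = M s t := by
  simp [M3]

theorem M3_mul (m : ℕ) (M M' : Matrix (Fin m ⊕ Unit ⊕ Fin m) (Fin m ⊕ Unit ⊕ Fin m) F) :
    M3 m (M * M') = M3 m M * M3 m M' := by
  unfold M3
  rw [Matrix.reindex_apply, Matrix.reindex_apply, Matrix.reindex_apply,
    Matrix.submatrix_mul_equiv]

theorem M3_one (m : ℕ) :
    M3 m (1 : Matrix (Fin m ⊕ Unit ⊕ Fin m) (Fin m ⊕ Unit ⊕ Fin m) F) = 1 := by
  unfold M3
  rw [Matrix.reindex_apply, Matrix.submatrix_one_equiv]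

theorem M3_det (m : ℕ) (M : Matrix (Fin m ⊕ Unit ⊕ Fin m) (Fin m ⊕ Unit ⊕ Fin m) F) :
    (M3 m M).det = M.det := by
  unfold M3
  rw [Matrix.det_reindex_self]

theorem M3_injective (m : ℕ) :
    Function.Injective
      (M3 m : Matrix (Fin m ⊕ Unit ⊕ Fin m) (Fin m ⊕ Unit ⊕ Fin m) F → _) :=
  (Matrix.reindex (e3 m) (e3 m)).injective

theorem dag_M3 (φ : F →+* F) (m : ℕ)
    (M : Matrix (Fin m ⊕ Unit ⊕ Fin m) (Fin m ⊕ Unit ⊕ Fin m) F) :
    dag φ (M3 m M) = M3 m (Matrix.of fun s t => φ (M (sw3 m t) (sw3 m s))) := by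
  ext p q
  obtain ⟨s, rfl⟩ := (e3 m).surjective p
  obtain ⟨t, rfl⟩ := (e3 m).surjective q
  rw [dag_apply, rev_e3, rev_e3, M3_apply, M3_apply, Matrix.of_apply]

/-- the general 3 × 3 block matrix -/
def b3 {m : ℕ} (A : Matrix (Fin m) (Fin m) F) (b : Fin m → F) (C : Matrix (Fin m) (Fin m) F)
    (d : Fin m → F) (e : F) (g : Fin m → F) (H : Matrix (Fin m) (Fin m) F) (k : Fin m → F)
    (L : Matrix (Fin m) (Fin m) F) :
    Matrix (Fin m ⊕ Unit ⊕ Fin m) (Fin m ⊕ Unit ⊕ Fin m) F :=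
  Matrix.fromBlocks A (Matrix.fromCols (Matrix.replicateCol Unit b) C)
    (Matrix.fromRows (Matrix.replicateRow Unit d) H)
    (Matrix.fromBlocks (Matrix.of fun _ _ => e) (Matrix.replicateRow Unit g)
      (Matrix.replicateCol Unit k) L)

theorem b3_one (m : ℕ) :
    b3 (1 : Matrix (Fin m) (Fin m) F) 0 0 0 1 0 0 0 1 = 1 := by
  ext s t
  rcases s with i | x | i <;> rcases t with j | y | j <;> simp [b3, Matrix.one_apply]

theorem b3_mul {m : ℕ} (A : Matrix (Fin m) (Fin m) F) (b : Fin m → F)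
    (C : Matrix (Fin m) (Fin m) F) (d : Fin m → F) (e : F) (g : Fin m → F)
    (H : Matrix (Fin m) (Fin m) F) (k : Fin m → F) (L : Matrix (Fin m) (Fin m) F)
    (A' : Matrix (Fin m) (Fin m) F) (b' : Fin m → F)
    (C' : Matrix (Fin m) (Fin m) F) (d' : Fin m → F) (e' : F) (g' : Fin m → F)
    (H' : Matrix (Fin m) (Fin m) F) (k' : Fin m → F) (L' : Matrix (Fin m) (Fin m) F) :
    b3 A b C d e g H k L * b3 A' b' C' d' e' g' H' k' L' =
      b3 (A * A' + Matrix.vecMulVec b d' + C * H') (A *ᵥ b' + e' • b + C *ᵥ k')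
        (A * C' + Matrix.vecMulVec b g' + C * L')
        (d ᵥ* A' + e • d' + g ᵥ* H') (d ⬝ᵥ b' + e * e' + g ⬝ᵥ k')
        (d ᵥ* C' + e • g' + g ᵥ* L')
        (H * A' + Matrix.vecMulVec k d' + L * H') (H *ᵥ b' + e' • k + L *ᵥ k')
        (H * C' + Matrix.vecMulVec k g' + L * L') := by
  ext s t
  rcases s with i | x | i <;> rcases t with j | y | j <;>
    simp [b3, Matrix.mul_apply, Fintype.sum_sum_type, Matrix.vecMulVec_apply, Matrix.mulVec,
      Matrix.vecMul, dotProduct, mul_comm] <;> ring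

theorem dag_b3 (φ : F →+* F) {m : ℕ} (A : Matrix (Fin m) (Fin m) F) (b : Fin m → F)
    (C : Matrix (Fin m) (Fin m) F) (d : Fin m → F) (e : F) (g : Fin m → F)
    (H : Matrix (Fin m) (Fin m) F) (k : Fin m → F) (L : Matrix (Fin m) (Fin m) F) :
    dag φ (M3 m (b3 A b C d e g H k L)) =
      M3 m (b3 (ct φ L) (fun j => φ (g j)) (ct φ C) (fun j => φ (k j)) (φ e)
        (fun j => φ (b j)) (ct φ H) (fun j => φ (d j)) (ct φ A)) := by
  rw [dag_M3]
  congr 1
  ext s t
  rcases s with i | x | i <;> rcases t with j | y | j <;> simp [b3, sw3, ct_apply]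

/-- upper unitriangular block matrices -/
def utX {m : ℕ} (b : Fin m → F) (C : Matrix (Fin m) (Fin m) F) (g : Fin m → F) :
    Matrix (Fin m ⊕ Unit ⊕ Fin m) (Fin m ⊕ Unit ⊕ Fin m) F :=
  b3 1 b C 0 1 g 0 0 1

theorem utX_zero (m : ℕ) : utX (0 : Fin m → F) 0 0 = 1 := b3_one m

theorem utX_mul {m : ℕ} (b : Fin m → F) (C : Matrix (Fin m) (Fin m) F) (g : Fin m → F)
    (b' : Fin m → F) (C' : Matrix (Fin m) (Fin m) F) (g' : Fin m → F) :
    utX b C g * utX b' C' g' = utX (b + b') (C + C' + Matrix.vecMulVec b g') (g + g') := by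
  unfold utX
  rw [b3_mul]
  congr 1
  · simp
  · simp [add_comm]
  · simp only [Matrix.one_mul, Matrix.mul_one]
    abel
  · simp
  · simp
  · simp [add_comm]
  · simp
  · simp
  · simp

theorem utX_det {m : ℕ} (b : Fin m → F) (C : Matrix (Fin m) (Fin m) F) (g : Fin m → F) :
    (utX b C g).det = 1 := by
  unfold utX b3
  have h0 : Matrix.fromRows (Matrix.replicateRow Unit (0 : Fin m → F))
      (0 : Matrix (Fin m) (Fin m) F) = 0 := by
    ext s j
    rcases s with x | i <;> simp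
  have h1 : Matrix.replicateCol Unit (0 : Fin m → F) = 0 := by
    ext i x
    simp
  rw [h0, Matrix.det_fromBlocks_zero₂₁, Matrix.det_one, one_mul, h1,
    Matrix.det_fromBlocks_zero₂₁, Matrix.det_one, mul_one]
  simp

theorem utX_inj {m : ℕ} {b b' : Fin m → F} {C C' : Matrix (Fin m) (Fin m) F} {g g' : Fin m → F}
    (h : utX b C g = utX b' C' g') : C = C' := by
  ext i j
  have h1 := congrFun (congrFun h (Sum.inl i)) (Sum.inr (Sum.inr j))
  simpa [utX, b3] using h1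

/-- block diagonal matrices -/
def dgD {m : ℕ} (A : Matrix (Fin m) (Fin m) F) (e : F) (L : Matrix (Fin m) (Fin m) F) :
    Matrix (Fin m ⊕ Unit ⊕ Fin m) (Fin m ⊕ Unit ⊕ Fin m) F :=
  b3 A 0 0 0 e 0 0 0 L

theorem dgD_mul {m : ℕ} (A : Matrix (Fin m) (Fin m) F) (e : F) (L : Matrix (Fin m) (Fin m) F)
    (A' : Matrix (Fin m) (Fin m) F) (e' : F) (L' : Matrix (Fin m) (Fin m) F) :
    dgD A e L * dgD A' e' L' = dgD (A * A') (e * e') (L * L') := by
  unfold dgD
  rw [b3_mul]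
  congr 1 <;> simp

theorem dgD_det {m : ℕ} (A : Matrix (Fin m) (Fin m) F) (e : F) (L : Matrix (Fin m) (Fin m) F) :
    (dgD A e L).det = A.det * (e * L.det) := by
  unfold dgD b3
  have h0 : Matrix.fromRows (Matrix.replicateRow Unit (0 : Fin m → F))
      (0 : Matrix (Fin m) (Fin m) F) = 0 := by
    ext s j
    rcases s with x | i <;> simp
  have h1 : Matrix.replicateCol Unit (0 : Fin m → F) = 0 := by
    ext i x
    simp
  rw [h0, Matrix.det_fromBlocks_zero₂₁, h1, Matrix.det_fromBlocks_zero₂₁]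
  simp

theorem dgD_mul_utX {m : ℕ} (A : Matrix (Fin m) (Fin m) F) (e : F)
    (L : Matrix (Fin m) (Fin m) F) (C : Matrix (Fin m) (Fin m) F) :
    dgD A e L * utX 0 C 0 = b3 A 0 (A * C) 0 e 0 0 0 L := by
  unfold dgD utX
  rw [b3_mul]
  congr 1 <;> simp

theorem utX_mul_dgD {m : ℕ} (A : Matrix (Fin m) (Fin m) F) (e : F)
    (L : Matrix (Fin m) (Fin m) F) (C : Matrix (Fin m) (Fin m) F) :
    utX 0 C 0 * dgD A e L = b3 A 0 (C * L) 0 e 0 0 0 L := by
  unfold dgD utX
  rw [b3_mul]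
  congr 1 <;> simp

/-- the matrix of `X u S` -/
def hsX (φ : F →+* F) (m : ℕ) (u : Fin m → F) (S : Matrix (Fin m) (Fin m) F) :
    Matrix (Fin (2 * m + 1)) (Fin (2 * m + 1)) F :=
  M3 m (utX u S (fun j => -φ (u j)))

theorem hsX_det (φ : F →+* F) (m : ℕ) (u : Fin m → F) (S : Matrix (Fin m) (Fin m) F) :
    (hsX φ m u S).det = 1 := by
  unfold hsX
  rw [M3_det, utX_det]

theorem hsX_dag (φ : F →+* F) (hφφ : ∀ x, φ (φ x) = x) (m : ℕ) (u : Fin m → F)
    (S : Matrix (Fin m) (Fin m) F) (h : Adm φ u S) :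
    dag φ (hsX φ m u S) * hsX φ m u S = 1 := by
  unfold hsX utX
  rw [dag_b3, ← M3_mul]
  have e1 : b3 (ct φ (1 : Matrix (Fin m) (Fin m) F)) (fun j => φ (-φ (u j))) (ct φ S)
      (fun j => φ ((0 : Fin m → F) j)) (φ 1) (fun j => φ (u j))
      (ct φ (0 : Matrix (Fin m) (Fin m) F)) (fun j => φ ((0 : Fin m → F) j))
      (ct φ (1 : Matrix (Fin m) (Fin m) F)) = utX (-u) (ct φ S) (fun j => φ (u j)) := by
    unfold utX
    rw [ct_one, ct_zero, map_one]
    congr 1
    · ext j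
      simp [hφφ]
    · ext j
      simp
    · ext j
      simp
  rw [e1]
  have e2 : b3 (1 : Matrix (Fin m) (Fin m) F) u S 0 1 (fun j => -φ (u j)) 0 0 1 =
      utX u S (fun j => -φ (u j)) := rfl
  rw [e2, utX_mul]
  have e3 : -u + u = 0 := neg_add_cancel u
  have e4 : (fun j => φ (u j)) + (fun j => -φ (u j)) = (0 : Fin m → F) := by
    ext j
    simp
  have e5 : ct φ S + S + Matrix.vecMulVec (-u) (fun j => -φ (u j)) = 0 := by
    have h1 : Matrix.vecMulVec (-u) (fun j => -φ (u j)) = uu φ u := by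
      ext i j
      simp [Matrix.vecMulVec_apply, uu_apply]
    rw [h1, add_comm (ct φ S) S]
    exact h
  rw [e3, e4, e5, utX_zero, M3_one]

theorem hsX_zero (φ : F →+* F) (m : ℕ) : hsX φ m (0 : Fin m → F) 0 = 1 := by
  unfold hsX
  have e : (fun j => -φ ((0 : Fin m → F) j)) = (0 : Fin m → F) := by
    ext j
    simp
  rw [e, utX_zero, M3_one]

theorem hsX_mul (φ : F →+* F) (m : ℕ) (u u' : Fin m → F) (S S' : Matrix (Fin m) (Fin m) F) :
    hsX φ m u S * hsX φ m u' S' =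
      hsX φ m (u + u') (S + S' - Matrix.vecMulVec u (fun j => φ (u' j))) := by
  unfold hsX
  rw [← M3_mul, utX_mul]
  congr 2
  · have : Matrix.vecMulVec u (fun j => -φ (u' j)) = -Matrix.vecMulVec u (fun j => φ (u' j)) := by
      ext i j
      simp [Matrix.vecMulVec_apply]
    rw [this, sub_eq_add_neg]
  · ext j
    simp only [Pi.add_apply, map_add, neg_add]

theorem hsX_inj (φ : F →+* F) (m : ℕ) {S S' : Matrix (Fin m) (Fin m) F}
    (h : hsX φ m (0 : Fin m → F) S = hsX φ m (0 : Fin m → F) S') : S = S' := by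
  unfold hsX at h
  exact utX_inj (M3_injective m h)

/-- the matrix of `d a` -/
noncomputable def hsD (φ : F →+* F) (m : ℕ) (a : Matrix (Fin m) (Fin m) F) :
    Matrix (Fin (2 * m + 1)) (Fin (2 * m + 1)) F :=
  M3 m (dgD a (φ a.det / a.det) (ct φ a⁻¹))

theorem hsD_det (φ : F →+* F) (m : ℕ) (a : Matrix (Fin m) (Fin m) F) (ha : a.det ≠ 0) :
    (hsD φ m a).det = 1 := by
  unfold hsD
  rw [M3_det, dgD_det, ct_det, Matrix.det_nonsing_inv, Ring.inverse_eq_inv', map_inv₀]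
  have h2 : φ a.det ≠ 0 := by
    intro h
    exact ha ((map_eq_zero φ).mp h)
  field_simp

theorem hsD_dag (φ : F →+* F) (hφφ : ∀ x, φ (φ x) = x) (m : ℕ) (a : Matrix (Fin m) (Fin m) F)
    (ha : a.det ≠ 0) : dag φ (hsD φ m a) * hsD φ m a = 1 := by
  unfold hsD dgD
  rw [dag_b3, ← M3_mul]
  have hu : IsUnit a.det := isUnit_iff_ne_zero.mpr ha
  have h2 : φ a.det ≠ 0 := by
    intro h
    exact ha ((map_eq_zero φ).mp h)
  have e1 : b3 (ct φ (ct φ a⁻¹)) (fun j => φ ((0 : Fin m → F) j))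
      (ct φ (0 : Matrix (Fin m) (Fin m) F)) (fun j => φ ((0 : Fin m → F) j))
      (φ (φ a.det / a.det)) (fun j => φ ((0 : Fin m → F) j))
      (ct φ (0 : Matrix (Fin m) (Fin m) F)) (fun j => φ ((0 : Fin m → F) j)) (ct φ a) =
      dgD a⁻¹ (a.det / φ a.det) (ct φ a) := by
    unfold dgD
    rw [ct_ct φ hφφ, ct_zero, map_div₀, hφφ]
    congr 1 <;> (ext j; simp)
  rw [e1]
  have e2 : b3 a 0 0 0 (φ a.det / a.det) 0 0 0 (ct φ a⁻¹) =
      dgD a (φ a.det / a.det) (ct φ a⁻¹) := rfl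
  rw [e2, dgD_mul, Matrix.nonsing_inv_mul a hu, ← ct_mul, Matrix.nonsing_inv_mul a hu, ct_one]
  have e3 : a.det / φ a.det * (φ a.det / a.det) = 1 := by
    field_simp
  rw [e3]
  exact (congrArg (M3 m) (b3_one m)).trans (M3_one m)

theorem hsD_mul_hsX (φ : F →+* F) (m : ℕ) (a S S' : Matrix (Fin m) (Fin m) F)
    (ha : a.det ≠ 0) (hS' : S' = a * S * ct φ a) :
    hsD φ m a * hsX φ m (0 : Fin m → F) S = hsX φ m (0 : Fin m → F) S' * hsD φ m a := by
  unfold hsD hsX
  have e : (fun j => -φ ((0 : Fin m → F) j)) = (0 : Fin m → F) := by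
    ext j
    simp
  have hu : IsUnit a.det := isUnit_iff_ne_zero.mpr ha
  rw [e, ← M3_mul, ← M3_mul, dgD_mul_utX, utX_mul_dgD, hS', Matrix.mul_assoc (a * S), ← ct_mul,
    Matrix.nonsing_inv_mul a hu, ct_one, Matrix.mul_one]

/-! ## PIECE GRP2 -/

theorem exists_heis (φ : F →+* F) (hφφ : ∀ x, φ (φ x) = x) (m : ℕ) :
    ∃ (X : (Fin m → F) → Matrix (Fin m) (Fin m) F → WSU (2 * m + 1) φ)
      (d : {a : Matrix (Fin m) (Fin m) F // a.det ≠ 0} → WSU (2 * m + 1) φ),
      X 0 0 = 1 ∧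
      (∀ (u : Fin m → F) (S : Matrix (Fin m) (Fin m) F) (u' : Fin m → F)
        (S' : Matrix (Fin m) (Fin m) F), Adm φ u S → Adm φ u' S' →
        X u S * X u' S' = X (u + u') (S + S' - Matrix.vecMulVec u (fun j => φ (u' j)))) ∧
      (∀ S S' : Matrix (Fin m) (Fin m) F, Adm φ (0 : Fin m → F) S → Adm φ (0 : Fin m → F) S' →
        X 0 S = X 0 S' → S = S') ∧
      ∀ (a : {a : Matrix (Fin m) (Fin m) F // a.det ≠ 0}) (S S' : Matrix (Fin m) (Fin m) F),
        Adm φ (0 : Fin m → F) S → S' = a.1 * S * ct φ a.1 → d a * X 0 S = X 0 S' * d a := by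
  classical
  let X : (Fin m → F) → Matrix (Fin m) (Fin m) F → WSU (2 * m + 1) φ := fun u S =>
    if h : Adm φ u S then mkW (hsX φ m u S) (hsX_det φ m u S) (hsX_dag φ hφφ m u S h) else 1
  have hX : ∀ u S (h : Adm φ u S), mt (X u S) = hsX φ m u S := by
    intro u S h
    show mt (if h : Adm φ u S then mkW (hsX φ m u S) (hsX_det φ m u S) (hsX_dag φ hφφ m u S h)
      else 1) = _
    rw [dif_pos h, mt_mkW]
  refine ⟨X, fun a => mkW (hsD φ m a.1) (hsD_det φ m a.1 a.2) (hsD_dag φ hφφ m a.1 a.2),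
    ?_, ?_, ?_, ?_⟩
  · apply mt_injective
    rw [hX 0 0 (adm_zero_zero φ m), mt_one]
    exact hsX_zero φ m
  · intro u S u' S' h h'
    apply mt_injective
    rw [mt_mul, hX u S h, hX u' S' h', hX _ _ (adm_mul φ hφφ h h')]
    exact hsX_mul φ m u u' S S'
  · intro S S' h h' hXX
    have h1 := congrArg Cfsg.Agent.Helper13.SuBN.mt hXX
    rw [hX 0 S h, hX 0 S' h'] at h1
    exact hsX_inj φ m h1
  · intro a S S' h hS'
    have h' : Adm φ (0 : Fin m → F) S' := by
      apply adm_of_entry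
      intro i j
      have hS := fun i j => adm_entry φ h i j
      simp only [Pi.zero_apply, zero_mul, add_zero] at hS ⊢
      -- S' + ct S' = a (S + ct S) ct a = 0
      have hz : S + ct φ S = 0 := by
        ext i j
        simpa [Matrix.add_apply, ct_apply] using hS i j
      have hz' : S' + ct φ S' = 0 := by
        rw [hS', ct_mul, ct_mul, ct_ct φ hφφ, ← Matrix.mul_assoc, ← Matrix.add_mul,
          ← Matrix.mul_add, hz, Matrix.mul_zero, Matrix.zero_mul]
      have := congrFun (congrFun hz' i) j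
      simpa [Matrix.add_apply, ct_apply] using this
    apply mt_injective
    rw [mt_mul, mt_mul, mt_mkW, hX 0 S h, hX 0 S' h']
    exact hsD_mul_hsX φ m a.1 S S' a.2 hS'

end Cfsg.Agent.Helper18.LS
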