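import Mathlib
import Cfsg.Agent.Lib.Helper18.WCDefs

/-!
S2244 farm-out (helper18), piece WC-DEC-E7 (table): two-sided decomposition witnesses for the
56 non-fundamental positive roots of `E₇`.
-/

set_option autoImplicit false
set_option linter.unusedSectionVars false
set_option linter.unusedVariables false

namespace Cfsg.Agent.Helper18.WC

open Cfsg Cfsg.Lie Cfsg.Agent.Lead.Chev Cfsg.Agent.Helper6.ChevL Cfsg.Agent.Helper6.Uni
open scoped commutatorElement

/-- the witnesses `(r, a, s)` (with `N = 1`, `N' = -1`) -/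
def wc_dec_e7_tab : List (ℕ × ℕ × ℕ) :=
  [(65, 63, 64), (67, 64, 66), (68, 63, 67), (70, 66, 69), (71, 64, 70), (72, 63, 71), (74, 69, 73), (75, 66, 74), (76, 64, 75), (77, 63, 76), (79, 69, 78), (80, 66, 79), (81, 64, 80), (82, 63, 81), (83, 73, 79), (84, 66, 83), (85, 64, 84), (86, 63, 85), (87, 69, 84), (88, 64, 87), (89, 63, 88), (90, 66, 88), (91, 63, 90), (92, 64, 91), (94, 73, 93), (95, 69, 94), (96, 66, 95), (97, 64, 96), (98, 63, 97), (99, 78, 95), (100, 66, 99), (101, 64, 100), (102, 63, 101), (103, 69, 100), (104, 64, 103), (105, 63, 104), (106, 66, 104), (107, 63, 106), (108, 64, 107), (109, 73, 103), (110, 64, 109), (111, 63, 110), (112, 66, 110), (113, 63, 112), (114, 64, 113), (115, 69, 112), (116, 63, 115), (117, 64, 116), (118, 66, 117), (119, 78, 115), (120, 63, 119), (121, 64, 120), (122, 66, 121), (123, 69, 122), (124, 73, 123), (125, 93, 124)]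

theorem wc_dec_e7_all : ∀ r < chevE7.nroots, chevE7.IsPosRoot r → NonSimple chevE7 r →
    ∃ w ∈ wc_dec_e7_tab, w.1 = r ∧ DecOK chevE7 r w.2.1 w.2.2 1 (-1) := by
  decide +kernel

section Chev

/-- WC-DEC-E7 (table) -/
theorem exists_dec_E7 (r : ℕ) (hr : chevE7.IsPosRoot r) (hns : NonSimple chevE7 r) :
    ∃ a s N N', DecOK chevE7 r a s N N' ∧ (N = 1 ∨ N = -1) ∧ (N' = 1 ∨ N' = -1) := by
  obtain ⟨w, -, -, hdec⟩ := wc_dec_e7_all r hr.1 hr hns
  exact ⟨w.2.1, w.2.2, 1, -1, hdec, Or.inl rfl, Or.inr rfl⟩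

end Chev

end Cfsg.Agent.Helper18.WC
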