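import Mathlib
import Cfsg.Agent.Lib.Helper9.A3UC
import Cfsg.Agent.Lib.Helper20.A3LAM2
import Cfsg.Agent.Lib.Helper9.A3LAM
import Cfsg.Agent.Lib.Helper14.A3QL
import Cfsg.Agent.Lib.Helper14.A3Q1
import Cfsg.Agent.Lib.Helper14.A3ZER
import Cfsg.Agent.Lib.Helper2.A3F2
import Cfsg.Agent.Lib.Helper23.A3FIB3
import Cfsg.Agent.Lib.Helper25.A3_555
import Cfsg.Agent.Lib.Helper25.A3R0
import Cfsg.Agent.Lib.Helper22.A3F1
import Cfsg.Agent.Lib.Helper14.A3F3
import Cfsg.Agent.Lib.Helper2.A3S16

/-!
# S3117 piece ASM16: the abstract lemma for `|W| = 16`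
-/

set_option autoImplicit false
set_option linter.unusedSectionVars false
set_option linter.unusedVariables false

namespace Cfsg.Agent.Helper20.A3

variable {W U : Type*} [Group W] [Group U] [Finite W] [Finite U]

/-- anisotropic: only `1` is singular -/
theorem asm16_eq_one_of_n0 (q : W → U) (hn0 : n0 q = 0) (w : W) (hw : q w = 1) : w = 1 := by
  by_contra hne
  unfold n0 at hn0
  have : IsEmpty {w : W // w ≠ 1 ∧ q w = 1} := by
    rcases Nat.card_eq_zero.1 hn0 with h | h
    · exact h
    · exact absurd (inferInstance : Finite {w : W // w ≠ 1 ∧ q w = 1}) (not_finite_iff_infinite.2 h)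
  exact this.elim ⟨w, hne, hw⟩

/-- the zero set of `λ ∘ q` for a faithful character: `1` and the nontrivial singular vectors -/
theorem asm16_card_zer_two (hU : ∀ u : U, u * u = 1) (q : W → U) (hq : IsQuadMap q)
    (l : U →* Multiplicative (ZMod 2)) (hl : ∀ v : U, l v = 1 ↔ v = 1) :
    Nat.card (zer (fun w => Multiplicative.toAdd (l (q w)))) = n0 q + 1 := by
  classical
  have h1 := q_one (W := W) hU q hq
  unfold n0
  have e : (zer (fun w => Multiplicative.toAdd (l (q w)))) = {w : W | q w = 1} := by
    ext w
    rw [mem_zer, Set.mem_ofPred_eq]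
    constructor
    · intro h
      apply (hl _).1
      exact h
    · intro h
      show Multiplicative.toAdd (l (q w)) = 0
      rw [h, map_one]
      rfl
  rw [e]
  have e2 : {w : W | q w = 1} = insert (1 : W) {w : W | w ≠ 1 ∧ q w = 1} := by
    ext w
    simp only [Set.mem_ofPred_eq, Set.mem_insert_iff]
    constructor
    · intro h
      by_cases hw : w = 1
      · exact Or.inl hw
      · exact Or.inr ⟨hw, h⟩
    · rintro (rfl | ⟨-, h⟩)
      · exact h1
      · exact h
  rw [e2]
  have hfin : ({w : W | w ≠ 1 ∧ q w = 1}).Finite := Set.toFinite _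
  have := Set.ncard_insert_of_notMem (a := (1 : W)) (s := {w : W | w ≠ 1 ∧ q w = 1})
    (by simp) hfin
  show _ = Nat.card ↑{w : W | w ≠ 1 ∧ q w = 1} + 1
  rw [Nat.card_coe_set_eq, Nat.card_coe_set_eq, this]

/-- in exponent two, `x * y = 1` forces `x = y` -/
theorem asm16_eq_of_mul_eq_one (hW : ∀ w : W, w * w = 1) (x y : W) (h : x * y = 1) : x = y := by
  have h2 := hW y
  have : x * y = y * y := by rw [h, h2]
  exact mul_right_cancel this

/-- the zero set of `λ_u ∘ q`, anisotropic case -/
theorem asm16_zer_eq (hU : ∀ u : U, u * u = 1) (q : W → U) (hq : IsQuadMap q) (hn0 : n0 q = 0) (u : U)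
    (l : U →* Multiplicative (ZMod 2)) (hl : ∀ v : U, l v = 1 ↔ (v = 1 ∨ v = u)) :
    zer (fun w => Multiplicative.toAdd (l (q w))) = insert (1 : W) {w : W | q w = u} := by
  have h1 := q_one (W := W) hU q hq
  ext w
  rw [mem_zer, Set.mem_insert_iff, Set.mem_ofPred_eq]
  constructor
  · intro h
    have h' : l (q w) = 1 := h
    rcases (hl _).1 h' with h2 | h2
    · exact Or.inl (asm16_eq_one_of_n0 q hn0 w h2)
    · exact Or.inr h2
  · rintro (rfl | h)
    · show Multiplicative.toAdd (l (q 1)) = 0
      rw [h1, map_one]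
      rfl
    · show Multiplicative.toAdd (l (q w)) = 0
      rw [h, (hl u).2 (Or.inr rfl)]
      rfl

/-- **A3-ASM16.** The abstract lemma, order `16`. -/
theorem abs_sixteen (hW : ∀ w : W, w * w = 1) (hU : ∀ u : U, u * u = 1) (q : W → U)
    (hq : IsQuadMap q) (R : Subgroup (MulAut W))
    (hR : ∀ g ∈ R, ∃ h : MulAut U, ∀ w, q (g w) = h (q w))
    (hcard : Nat.card W = 16) (hcount : n0 q + Nat.card U ≤ 4) : Group.IsSolvable R := by
  classical
  have hle : Nat.card U ≤ 4 := by omega
  have hq1 := q_one (W := W) hU q hq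
  rcases card_U_cases hU hle with h1 | h2 | h4
  · have := n0_of_card_one (W := W) q h1
    omega
  · exfalso
    obtain ⟨l, hl⟩ := exists_char_two (U := U) h2
    have hQ := isQuad_comp hU q hq l
    have hz := zer_card_sixteen hW _ hQ hcard
    have hcz := asm16_card_zer_two hU q hq l hl
    omega
  · have hn0 : n0 q = 0 := by omega
    rcases sixteen_cases hW hU q hq hcard h4 hn0 with ⟨u, hu, h3, v, hv, hv3⟩ | h5
    · refine solv_of_fiber_three hW hU q hq R hR hcard h4 hn0 u hu h3 ?_ ⟨v, hv, hv3⟩
      intro v hv hv3 x y hx hy hxy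
      obtain ⟨l, hl⟩ := exists_char hU h4 v hv
      have hQ := isQuad_comp hU q hq l
      have hz := card_zer_comp hU q hq hn0 v hv l hl
      have hmul := zer_mul_of_card_four hW _ hQ hcard (by rw [hz, hv3])
      have hze := asm16_zer_eq hU q hq hn0 v l hl
      have hxz : x ∈ zer (fun w => Multiplicative.toAdd (l (q w))) := by
        rw [hze]; exact Or.inr hx
      have hyz : y ∈ zer (fun w => Multiplicative.toAdd (l (q w))) := by
        rw [hze]; exact Or.inr hy
      have hxy' := hmul x hxz y hyz
      rw [hze] at hxy'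
      rcases hxy' with h | h
      · exact absurd (asm16_eq_of_mul_eq_one hW x y h) hxy
      · exact h
    · -- the case `(5, 5, 5)`
      have hsurj : Function.Surjective q := by
        intro u
        by_cases hu : u = 1
        · exact ⟨1, by rw [hu, hq1]⟩
        · have h := h5 u hu
          have hne : Nonempty {w : W // q w = u} := by
            by_contra hh
            rw [not_nonempty_iff] at hh
            rw [Nat.card_of_isEmpty] at h
            omega
          obtain ⟨⟨w, hw⟩⟩ := hne
          exact ⟨w, hw⟩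
      refine solv_of_qStab hU q R hR hsurj (by omega) ?_
      obtain ⟨u, hu⟩ : ∃ u : U, u ≠ 1 := by
        by_contra hh
        push Not at hh
        have hss : Subsingleton U := ⟨fun a b => by rw [hh a, hh b]⟩
        have hne : Nonempty U := ⟨1⟩
        have : Nat.card U = 1 := Nat.card_eq_one_iff_unique.2 ⟨hss, hne⟩
        omega
      obtain ⟨l, hl⟩ := exists_char hU h4 u hu
      have hQ := isQuad_comp hU q hq l
      have hz := card_zer_comp hU q hq hn0 u hu l hl
      have hze := asm16_zer_eq hU q hq hn0 u l hl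
      obtain ⟨hprod, hspan⟩ := zer_six hW _ hQ hcard (by rw [hz, h5 u hu])
      refine solv_qStab_five hW hU q hq R u hu (h5 u hu) ?_ ?_
      · rw [hze] at hspan
        rw [← hspan]
        apply le_antisymm
        · exact Subgroup.closure_mono (Set.subset_insert _ _)
        · rw [Subgroup.closure_le]
          rintro w (rfl | hw)
          · exact one_mem _
          · exact Subgroup.subset_closure hw
      · intro x y z s t hx hy hz' hs ht hnd
        have hm : ∀ w : W, q w = u → w ∈ zer (fun w => Multiplicative.toAdd (l (q w))) := by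
          intro w hw
          rw [hze]; exact Or.inr hw
        have hne1 : ∀ w : W, q w = u → (1 : W) ≠ w := by
          intro w hw h
          rw [← h, hq1] at hw
          exact hu hw.symm
        refine hprod x y z s t (hm x hx) (hm y hy) (hm z hz') (hm s hs) (hm t ht) ?_
        rw [List.nodup_cons]
        refine ⟨?_, hnd⟩
        simp only [List.mem_cons, List.mem_nil_iff, or_false, not_or]
        exact ⟨hne1 x hx, hne1 y hy, hne1 z hz', hne1 s hs, hne1 t ht⟩

end Cfsg.Agent.Helper20.A3
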