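import Mathlib
import Cfsg.Agent.Lib.Helper9.A3UC
import Cfsg.Agent.Lib.Helper20.A3LAM2
import Cfsg.Agent.Lib.Helper23.A3W8A
import Cfsg.Agent.Lib.Helper7.A3INV
import Cfsg.Agent.Lib.Helper2.A3W8B

/-!
# S3117 piece ASM8: the abstract lemma for `|W| = 8`
-/

set_option autoImplicit false
set_option linter.unusedSectionVars false
set_option linter.unusedVariables false

namespace Cfsg.Agent.Helper20.A3

variable {W U : Type*} [Group W] [Group U] [Finite W] [Finite U]

/-- **A3-ASM8.** The abstract lemma, order `8`. -/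
theorem abs_eight (hW : ∀ w : W, w * w = 1) (hU : ∀ u : U, u * u = 1) (q : W → U)
    (hq : IsQuadMap q) (R : Subgroup (MulAut W))
    (hR : ∀ g ∈ R, ∃ h : MulAut U, ∀ w, q (g w) = h (q w))
    (hcard : Nat.card W = 8) (hcount : n0 q + Nat.card U ≤ 4) : Group.IsSolvable R := by
  have hle : Nat.card U ≤ 4 := by omega
  have hN : ∃ N : Subgroup W, N ≠ ⊥ ∧ Nat.card N ≤ 4 ∧ ∀ g ∈ R, ∀ n ∈ N, g n ∈ N := by
    rcases card_U_cases hU hle with h1 | h2 | h4
    · have := n0_of_card_one (W := W) q h1
      omega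
    · exact exists_inv_eight_two hW hU q hq R hR hcard h2 (by omega)
    · exact exists_inv_eight_four hW hU q hq R hR hcard h4 (by omega)
  obtain ⟨N, hN0, hN4, hNR⟩ := hN
  have hidx : N.index ≤ 4 := by
    have h := N.card_mul_index
    rw [hcard] at h
    have h2 : 1 < Nat.card N := (Subgroup.one_lt_card_iff_ne_bot N).2 hN0
    by_contra hh
    push Not at hh
    nlinarith
  exact solv_of_inv hW R N hNR hN4 hidx

end Cfsg.Agent.Helper20.A3
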