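import Mathlib
import Cfsg.Agent.Lib.Helper20.A5QDefs
import Cfsg.Agent.Lib.Helper19.PGroupBasic

/-!
# S3106 piece CF0: a minimal normal subgroup of `Y` inside `Φ(P)` is central in `P`, of exponent `2`,
and of order `2` or `16`
-/

set_option autoImplicit false
set_option linter.unusedSectionVars false
set_option linter.unusedVariables false
set_option linter.style.haveILetI false

namespace Cfsg.Agent.Helper20.A5Q

open Cfsg.Agent.Helper22.SecRank

variable {Y : Type*} [Group Y] [Finite Y] {P : Subgroup Y}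

/-- a nontrivial normal subgroup inside the `2`-group `P` contains a nontrivial element centralised by `P` -/
theorem cf0_exists_central (hP : IsPGroup 2 P) (U : Subgroup Y) (hUP : U ≤ P) (hUn : U.Normal)
    (hU1 : U ≠ ⊥) : ∃ w ∈ U, w ≠ 1 ∧ ∀ g ∈ P, g * w = w * g := by
  have : Fact (Nat.Prime 2) := ⟨Nat.prime_two⟩
  have hn : (U.subgroupOf P).Normal := hUn.subgroupOf P
  have hne : U.subgroupOf P ≠ ⊥ := by
    intro h
    apply hU1
    rw [eq_bot_iff]
    intro w hw
    have : (⟨w, hUP hw⟩ : ↥P) ∈ U.subgroupOf P := by rw [Subgroup.mem_subgroupOf]; exact hw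
    rw [h, Subgroup.mem_bot] at this
    rw [Subgroup.mem_bot]
    exact congrArg Subtype.val this
  have h1 := Cfsg.Agent.Helper19.normal_inf_center_ne_bot hP (U.subgroupOf P) hne
  obtain ⟨w, hw1⟩ := (Subgroup.ne_bot_iff_exists_ne_one).mp h1
  have hwmem := w.2
  rw [Subgroup.mem_inf, Subgroup.mem_subgroupOf] at hwmem
  refine ⟨((w : ↥P) : Y), hwmem.1, ?_, ?_⟩
  · intro h
    apply hw1
    apply Subtype.ext
    apply Subtype.ext
    exact h
  · intro g hg
    have := Subgroup.mem_center_iff.mp hwmem.2 ⟨g, hg⟩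
    exact congrArg Subtype.val this

/-- an element of order `5` centralises a normal subgroup of order `4` or `8` -/
theorem cf0_fix5 (U : Subgroup Y) (hUn : U.Normal) (f : Y) (hf : orderOf f = 5)
    (hcard : Nat.card U = 4 ∨ Nat.card U = 8) : ∀ u ∈ U, f * u * f⁻¹ = u := by
  have : Fact (Nat.Prime 5) := ⟨by norm_num⟩
  have hc5 : Nat.card (Subgroup.zpowers f) = 5 := by rw [Nat.card_zpowers, hf]
  have hG : IsPGroup 5 (Subgroup.zpowers f) := IsPGroup.of_card (n := 1) (by rw [hc5, pow_one])
  letI : MulAction (Subgroup.zpowers f) U :=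
    MulAction.compHom U ((MulAut.conjNormal : Y →* MulAut U).comp (Subgroup.zpowers f).subtype)
  have hsmul : ∀ (g : Subgroup.zpowers f) (u : U), ((g • u : U) : Y) = g * u * (g : Y)⁻¹ := fun g u => rfl
  let Fx : Subgroup U :=
    { carrier := {u | f * (u : Y) * f⁻¹ = u}
      mul_mem' := by
        intro a b ha hb
        simp only [Set.mem_ofPred_eq] at ha hb ⊢
        rw [Subgroup.coe_mul]
        calc f * ((a : Y) * b) * f⁻¹ = (f * a * f⁻¹) * (f * b * f⁻¹) := by group
          _ = a * b := by rw [ha, hb]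
      one_mem' := by simp
      inv_mem' := by
        intro a ha
        simp only [Set.mem_ofPred_eq] at ha ⊢
        rw [Subgroup.coe_inv]
        calc f * (a : Y)⁻¹ * f⁻¹ = (f * a * f⁻¹)⁻¹ := by group
          _ = (a : Y)⁻¹ := by rw [ha] }
  have hfix : MulAction.fixedPoints (Subgroup.zpowers f) U = (Fx : Set U) := by
    ext u
    constructor
    · intro h
      have h1 := h ⟨f, Subgroup.mem_zpowers f⟩
      have h2 := congrArg Subtype.val h1
      rw [hsmul] at h2
      exact h2
    · intro h g
      have hu : f * (u : Y) * f⁻¹ = u := h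
      apply Subtype.ext
      rw [hsmul]
      obtain ⟨k, hk⟩ := Subgroup.mem_zpowers_iff.1 g.2
      have hcomm : Commute f (u : Y) := by
        have : f * (u : Y) = u * f := by
          calc f * (u : Y) = (f * u * f⁻¹) * f := by group
            _ = u * f := by rw [hu]
        exact this
      have hcomm' : Commute (g : Y) (u : Y) := by
        rw [← hk]
        exact hcomm.zpow_left k
      have : (g : Y) * u = u * g := hcomm'
      rw [this]
      group
  have hmod := hG.card_modEq_card_fixedPoints U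
  rw [hfix] at hmod
  have hdvd : Nat.card Fx ∣ Nat.card U := Subgroup.card_subgroup_dvd_card Fx
  have hmod' : Nat.card U % 5 = Nat.card Fx % 5 := hmod
  have hFx : Nat.card Fx = Nat.card U := by
    rcases hcard with h4 | h8
    · rw [h4] at hdvd hmod' ⊢
      have hle : Nat.card Fx ≤ 4 := Nat.le_of_dvd (by norm_num) hdvd
      have hpos : 0 < Nat.card Fx := Nat.card_pos
      interval_cases (Nat.card Fx) <;> omega
    · rw [h8] at hdvd hmod' ⊢
      have hle : Nat.card Fx ≤ 8 := Nat.le_of_dvd (by norm_num) hdvd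
      have hpos : 0 < Nat.card Fx := Nat.card_pos
      interval_cases (Nat.card Fx) <;> omega
  have htop : Fx = ⊤ := Subgroup.eq_top_of_card_eq Fx hFx
  intro u hu
  have : (⟨u, hu⟩ : U) ∈ Fx := by rw [htop]; exact Subgroup.mem_top _
  exact this

/-- **A5Q-CF0.** A minimal normal subgroup of `Y` inside `Φ(P)` is central in `P`, of exponent
`2`, and of order `2` or `16`. -/
theorem min_normal_facts (h : A5S Y P) (U : Subgroup Y) (hUn : U.Normal) (hUΦ : U ≤ Sq P)
    (hU1 : U ≠ ⊥) (hmin : ∀ K : Subgroup Y, K.Normal → K ≤ U → K = ⊥ ∨ K = U) :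
    (∀ u ∈ U, ∀ x ∈ P, u * x = x * u) ∧ (∀ u ∈ U, u ^ 2 = 1) ∧
      (Nat.card U = 2 ∨ Nat.card U = 16) := by
  have : Fact (Nat.Prime 2) := ⟨Nat.prime_two⟩
  have hPn : P.Normal := h.normal
  have hUP : U ≤ P := hUΦ.trans (Sq_le P)
  -- (a) `U` is central in `P`
  have hcen : ∀ u ∈ U, ∀ x ∈ P, u * x = x * u := by
    have hCn : (Subgroup.centralizer (P : Set Y)).Normal := inferInstance
    have hZn : (U ⊓ Subgroup.centralizer (P : Set Y)).Normal :=
      ⟨fun n hn g => ⟨hUn.conj_mem n hn.1 g, hCn.conj_mem n hn.2 g⟩⟩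
    rcases hmin _ hZn inf_le_left with h0 | h0
    · exfalso
      obtain ⟨w, hwU, hw1, hwc⟩ := cf0_exists_central h.pgroup U hUP hUn hU1
      have : w ∈ U ⊓ Subgroup.centralizer (P : Set Y) :=
        ⟨hwU, Subgroup.mem_centralizer_iff.2 (fun x hx => hwc x hx)⟩
      rw [h0, Subgroup.mem_bot] at this
      exact hw1 this
    · intro u hu x hx
      have : u ∈ U ⊓ Subgroup.centralizer (P : Set Y) := by rw [h0]; exact hu
      exact (Subgroup.mem_centralizer_iff.1 this.2 x hx).symm
  have hab : ∀ u ∈ U, ∀ v ∈ U, u * v = v * u := fun u hu v hv => hcen u hu v (hUP hv)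
  -- (b) exponent two
  have hexp : ∀ u ∈ U, u ^ 2 = 1 := by
    let E : Subgroup Y :=
      { carrier := {u | u ∈ U ∧ u ^ 2 = 1}
        mul_mem' := by
          rintro a b ⟨ha, ha2⟩ ⟨hb, hb2⟩
          refine ⟨mul_mem ha hb, ?_⟩
          have hc : Commute a b := hab a ha b hb
          rw [hc.mul_pow, ha2, hb2, one_mul]
        one_mem' := ⟨one_mem _, one_pow _⟩
        inv_mem' := by
          rintro a ⟨ha, ha2⟩
          exact ⟨inv_mem ha, by rw [inv_pow, ha2, inv_one]⟩ }
    have hEn : E.Normal := by
      refine ⟨fun n hn g => ⟨hUn.conj_mem n hn.1 g, ?_⟩⟩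
      have : (g * n * g⁻¹) ^ 2 = g * n ^ 2 * g⁻¹ := by rw [conj_pow]
      rw [this, hn.2]; group
    have hEU : E ≤ U := fun u hu => hu.1
    rcases hmin E hEn hEU with h0 | h0
    · exfalso
      -- an involution of `U`
      have hUp : IsPGroup 2 U := h.pgroup.to_le hUP
      have hnt : Nontrivial U := (Subgroup.nontrivial_iff_ne_bot U).mpr hU1
      obtain ⟨n, hn0, hn⟩ := hUp.nontrivial_iff_card.mp hnt
      have hdvd : 2 ∣ Nat.card U := by rw [hn]; exact dvd_pow_self _ (ne_of_gt hn0)
      obtain ⟨x, hx⟩ := exists_prime_orderOf_dvd_card' 2 hdvd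
      have hxE : (x : Y) ∈ E := by
        refine ⟨x.2, ?_⟩
        have := pow_orderOf_eq_one x
        rw [hx] at this
        have h2 := congrArg Subtype.val this
        simpa using h2
      rw [h0, Subgroup.mem_bot] at hxE
      have hx1 : x = 1 := Subtype.ext hxE
      rw [hx1, orderOf_one] at hx
      omega
    · intro u hu
      have : u ∈ E := by rw [h0]; exact hu
      exact this.2
  refine ⟨hcen, hexp, ?_⟩
  -- (c) the order
  have hle : Nat.card U ≤ 16 := by
    have := h.rank U ⊥ bot_le (by
      intro k hk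
      rw [Subgroup.mem_normalizer_iff]
      intro x
      simp only [Subgroup.mem_bot]
      constructor
      · rintro rfl; group
      · intro hx
        have : x = k⁻¹ * (k * x * k⁻¹) * k := by group
        rw [this, hx]; group) (fun k hk => by rw [Subgroup.mem_bot]; exact hexp k hk)
    rw [Subgroup.card_bot, mul_one] at this
    exact this
  have hUp : IsPGroup 2 U := h.pgroup.to_le hUP
  obtain ⟨n, hn⟩ := hUp.exists_card_eq
  have hne1 : Nat.card U ≠ 1 := by
    intro h1
    exact hU1 (Subgroup.card_eq_one.1 h1)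
  have hn4 : n ≤ 4 := by
    by_contra hh
    push Not at hh
    have : 2 ^ 5 ≤ 2 ^ n := Nat.pow_le_pow_right (by norm_num) hh
    omega
  have hcases : Nat.card U = 2 ∨ Nat.card U = 16 ∨ Nat.card U = 4 ∨ Nat.card U = 8 := by
    interval_cases n <;> omega
  rcases hcases with h2 | h16 | h48
  · exact Or.inl h2
  · exact Or.inr h16
  · exfalso
    obtain ⟨f, t, hf, -, -, -⟩ := h.elems
    have hfU := cf0_fix5 U hUn f hf h48
    -- the centraliser of `U` is everything
    have hCn : (Subgroup.centralizer (U : Set Y)).Normal := inferInstance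
    have hPC : P ≤ Subgroup.centralizer (U : Set Y) := by
      intro x hx
      rw [Subgroup.mem_centralizer_iff]
      intro u hu
      exact hcen u hu x hx
    have hfC : f ∈ Subgroup.centralizer (U : Set Y) := by
      rw [Subgroup.mem_centralizer_iff]
      intro u hu
      have := hfU u hu
      calc u * f = (f * u * f⁻¹) * f := by rw [this]
        _ = f * u := by group
    have hfP : f ∉ P := by
      intro hfP
      obtain ⟨k, hk⟩ := (IsPGroup.iff_orderOf.1 h.pgroup) ⟨f, hfP⟩
      have : orderOf (⟨f, hfP⟩ : P) = orderOf f := Subgroup.orderOf_mk f hfP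
      rw [this, hf] at hk
      have h5 : (5 : ℕ).Prime := by norm_num
      have := (Nat.prime_dvd_prime_iff_eq h5 Nat.prime_two).1
        (h5.dvd_of_dvd_pow (by rw [← hk]))
      omega
    have hCtop : Subgroup.centralizer (U : Set Y) = ⊤ := by
      rcases h.simple _ hCn hPC with h0 | h0
      · rw [h0] at hfC; exact absurd hfC hfP
      · exact h0
    obtain ⟨u, huU, hu1⟩ : ∃ u ∈ U, u ≠ 1 := by
      by_contra hh
      push Not at hh
      apply hU1
      rw [eq_bot_iff]
      intro x hx
      rw [Subgroup.mem_bot]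
      exact hh x hx
    have hucen : ∀ y : Y, y * u = u * y := by
      intro y
      have : y ∈ Subgroup.centralizer (U : Set Y) := by rw [hCtop]; exact Subgroup.mem_top _
      exact (Subgroup.mem_centralizer_iff.1 this u huU).symm
    have hKn : (Subgroup.zpowers u).Normal := by
      refine ⟨fun n hn g => ?_⟩
      obtain ⟨k, rfl⟩ := Subgroup.mem_zpowers_iff.1 hn
      have : g * u ^ k * g⁻¹ = u ^ k := by
        have hc : Commute g u := hucen g
        have hc' : Commute g (u ^ k) := hc.zpow_right k
        calc g * u ^ k * g⁻¹ = u ^ k * g * g⁻¹ := by rw [hc'.eq]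
          _ = u ^ k := by group
      rw [this]
      exact Subgroup.mem_zpowers_iff.2 ⟨k, rfl⟩
    have hKU : Subgroup.zpowers u ≤ U := (Subgroup.zpowers_le).2 huU
    rcases hmin _ hKn hKU with h0 | h0
    · have : u ∈ Subgroup.zpowers u := Subgroup.mem_zpowers u
      rw [h0, Subgroup.mem_bot] at this
      exact hu1 this
    · have hcK : Nat.card (Subgroup.zpowers u) = 2 := by
        rw [Nat.card_zpowers]
        exact orderOf_eq_prime (hexp u huU) hu1
      rw [h0] at hcK
      omega

end Cfsg.Agent.Helper20.A5Q
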