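import Mathlib
import Cfsg.Agent.Lib.Helper8.ABDefs

/-!
# S3301 piece AB-EXCIN (helper19): the exceptional configuration with `z ∈ Q` is impossible.
-/

set_option autoImplicit false
set_option linter.unusedSectionVars false
set_option linter.unusedVariables false
set_option linter.style.haveILetI false

namespace Cfsg.Agent.Helper8.AB

open Cfsg.Agent.Helper8.XS

/-- the product of two elements "anticommuting" with `z` commutes with `z` -/
theorem abexcin_mul {G : Type*} [Group G] {u z a b : G} (huu : u * u = 1) (hau : a * u = u * a)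
    (ha : a * z = u * (z * a)) (hb : b * z = u * (z * b)) : a * b * z = z * (a * b) := by
  calc a * b * z = a * (b * z) := by rw [mul_assoc]
    _ = a * (u * (z * b)) := by rw [hb]
    _ = (a * u) * (z * b) := by rw [mul_assoc]
    _ = (u * a) * (z * b) := by rw [hau]
    _ = u * ((a * z) * b) := by simp only [mul_assoc]
    _ = u * ((u * (z * a)) * b) := by rw [ha]
    _ = (u * u) * (z * (a * b)) := by simp only [mul_assoc]
    _ = z * (a * b) := by rw [huu, one_mul]

section block

variable {G : Type*} [Group G] [Finite G] {A : Type*} [CommGroup A] {z : G} {H : Subgroup G}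
  [Fintype (G ⧸ H)] {φ : ↥H →* A} {n : ℕ}

/-- PIECE AB-EXCIN: the exceptional configuration with `z ∈ Q` is impossible. -/
theorem exc_in (gl : Glob z H φ n) (u : G) (Q : Subgroup G) (xs : XSp Q u)
    (v : G) (hvQ : ∀ x ∈ Q, v⁻¹ * x * v ∈ Q) (hvH : v ∈ H) (huH : u ∈ H) (huz : u ≠ z)
    (hzQ : z ∈ Q)
    (hexc : ∀ e ∈ Q, e ∉ H → v⁻¹ * e⁻¹ * v * e ∈ H → valH (psi φ) (v⁻¹ * e⁻¹ * v * e) ≠ 1) :
    False := by
  have huu := xs.hzz
  have hu1 := xs.hz1
  have huzc : u * z = z * u := (gl.hH u).1 huH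
  -- the elements of `Q` outside `H` anticommute with `z`
  have hanti : ∀ a ∈ Q, a ∉ H → a * z = u * (z * a) := by
    intro a ha haH
    rcases xs.hcomm a ha z hzQ with h | h
    · exact absurd ((gl.hH a).2 h) haH
    · exact h
  have hP : ∀ a ∈ Q, ∀ b ∈ Q, a ∉ H → b ∉ H → a * b ∈ H := by
    intro a ha b hb haH hbH
    rw [gl.hH]
    exact abexcin_mul huu (xs.hcen a ha) (hanti a ha haH) (hanti b hb hbH)
  -- `z` is not central in `Q`
  obtain ⟨e0, he0, he0H⟩ : ∃ e0 ∈ Q, e0 ∉ H := by
    by_contra hcon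
    push Not at hcon
    rcases xs.hcenter z hzQ (fun x hx => ((gl.hH x).1 (hcon x hx)).symm) with h | h
    · exact gl.hz1 h
    · exact huz h.symm
  have hconjH : ∀ a : G, a ∉ H → v⁻¹ * a * v ∉ H := by
    intro a haH hc
    apply haH
    have := H.mul_mem (H.mul_mem hvH hc) (H.inv_mem hvH)
    simpa [mul_assoc] using this
  have he0i : e0⁻¹ ∉ H := fun h => he0H (by simpa using H.inv_mem h)
  obtain ⟨k, hk⟩ : ∃ k, k = v⁻¹ * e0⁻¹ * v * e0 := ⟨_, rfl⟩
  have hkQ : k ∈ Q := by
    rw [hk]; exact Q.mul_mem (hvQ _ (Q.inv_mem he0)) he0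
  have hkH : k ∈ H := by
    rw [hk]; exact hP _ (hvQ _ (Q.inv_mem he0)) _ he0 (hconjH _ he0i) he0H
  have hne := hexc e0 he0 he0H (hk ▸ hkH)
  rw [← hk, valH_of_mem _ hkH, psi_apply] at hne
  -- `k * k = u`
  have hkk : k * k = u := by
    rcases xs.hsq k hkQ with h | h
    · exfalso
      apply hne
      rw [← map_pow]
      have e : (⟨k, hkH⟩ : ↥H) ^ 2 = 1 := by rw [pow_two]; exact Subtype.ext h
      rw [e, map_one]
    · exact h
  have hphiu : φ ⟨u, huH⟩ ≠ 1 := by
    intro h
    apply hne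
    rw [← map_pow]
    have e : (⟨k, hkH⟩ : ↥H) ^ 2 = ⟨u, huH⟩ := by rw [pow_two]; exact Subtype.ext hkk
    rw [e, h]
  -- `Q ⊓ H` is abelian
  have hab : ∀ a ∈ Q, ∀ b ∈ Q, a ∈ H → b ∈ H → a * b = b * a := by
    intro a ha b hb haH hbH
    rcases xs.hcomm a ha b hb with h | h
    · exact h
    · exfalso
      apply hphiu
      have e : (⟨a, haH⟩ : ↥H) * ⟨b, hbH⟩ = ⟨u, huH⟩ * (⟨b, hbH⟩ * ⟨a, haH⟩) := Subtype.ext h
      have e2 := congrArg φ e
      rw [map_mul, map_mul, map_mul, mul_comm (φ ⟨b, hbH⟩)] at e2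
      exact mul_right_cancel (e2.symm.trans (one_mul _).symm)
  -- `k` is not central in `Q`
  obtain ⟨e1, he1, he1k⟩ : ∃ e1 ∈ Q, k * e1 ≠ e1 * k := by
    by_contra hcon
    push Not at hcon
    rcases xs.hcenter k hkQ hcon with h | h
    · rw [h, one_mul] at hkk; exact hu1 hkk.symm
    · rw [h, huu] at hkk; exact hu1 hkk.symm
  have he1H : e1 ∉ H := fun h => he1k (hab k hkQ e1 he1 hkH h)
  have he1z := hanti e1 he1 he1H
  have he1k' : e1 * k = u * (k * e1) := by
    rcases xs.hcomm e1 he1 k hkQ with h | h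
    · exact absurd h.symm he1k
    · exact h
  have hwQ : z * k ∈ Q := Q.mul_mem hzQ hkQ
  have hwe1 : z * k * e1 = e1 * (z * k) := by
    symm
    calc e1 * (z * k) = (e1 * z) * k := by rw [mul_assoc]
      _ = (u * (z * e1)) * k := by rw [he1z]
      _ = u * (z * (e1 * k)) := by simp only [mul_assoc]
      _ = u * (z * (u * (k * e1))) := by rw [he1k']
      _ = u * ((z * u) * (k * e1)) := by simp only [mul_assoc]
      _ = u * ((u * z) * (k * e1)) := by rw [huzc]
      _ = (u * u) * (z * k * e1) := by simp only [mul_assoc]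
      _ = z * k * e1 := by rw [huu, one_mul]
  have hwF : ∀ x ∈ Q, x ∈ H → z * k * x = x * (z * k) := by
    intro x hx hxH
    have h1 : z * x = x * z := ((gl.hH x).1 hxH).symm
    have h2 : k * x = x * k := hab k hkQ x hx hkH hxH
    calc z * k * x = z * (k * x) := by rw [mul_assoc]
      _ = z * (x * k) := by rw [h2]
      _ = (z * x) * k := by rw [mul_assoc]
      _ = (x * z) * k := by rw [h1]
      _ = x * (z * k) := by rw [mul_assoc]
  have hwc : ∀ x ∈ Q, z * k * x = x * (z * k) := by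
    intro x hx
    by_cases hxH : x ∈ H
    · exact hwF x hx hxH
    · have he1i : e1⁻¹ ∉ H := fun h => he1H (by simpa using H.inv_mem h)
      have hf := hP _ (Q.inv_mem he1) x hx he1i hxH
      have hfc := hwF _ (Q.mul_mem (Q.inv_mem he1) hx) hf
      calc z * k * x = z * k * (e1 * (e1⁻¹ * x)) := by rw [mul_inv_cancel_left]
        _ = (z * k * e1) * (e1⁻¹ * x) := by rw [mul_assoc (z * k)]
        _ = (e1 * (z * k)) * (e1⁻¹ * x) := by rw [hwe1]
        _ = e1 * (z * k * (e1⁻¹ * x)) := by rw [mul_assoc e1]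
        _ = e1 * ((e1⁻¹ * x) * (z * k)) := by rw [hfc]
        _ = (e1 * (e1⁻¹ * x)) * (z * k) := by rw [mul_assoc e1]
        _ = x * (z * k) := by rw [mul_inv_cancel_left]
  rcases xs.hcenter (z * k) hwQ hwc with h | h
  · have hkz : k = z := by
      calc k = (z * z) * k := by rw [gl.hzz, one_mul]
        _ = z * (z * k) := by rw [mul_assoc]
        _ = z := by rw [h, mul_one]
    rw [hkz, gl.hzz] at hkk
    exact hu1 hkk.symm
  · have hkz : k = z * u := by
      calc k = (z * z) * k := by rw [gl.hzz, one_mul]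
        _ = z * (z * k) := by rw [mul_assoc]
        _ = z * u := by rw [h]
    have h1 : k * k = 1 := by
      rw [hkz]
      calc z * u * (z * u) = z * ((u * z) * u) := by simp only [mul_assoc]
        _ = z * ((z * u) * u) := by rw [huzc]
        _ = (z * z) * (u * u) := by simp only [mul_assoc]
        _ = 1 := by rw [gl.hzz, huu, one_mul]
    rw [h1] at hkk
    exact hu1 hkk.symm

end block

end Cfsg.Agent.Helper8.AB
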