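import Mathlib
import Cfsg.Agent.Lib.Helper8.ABDefs

/-!
# S3301 piece AB-MINTR (helper19): the transfer of `ψ` at `y` as a product over all cosets.
-/

set_option autoImplicit false
set_option linter.unusedSectionVars false
set_option linter.unusedVariables false
set_option linter.style.haveILetI false

namespace Cfsg.Agent.Helper8.AB

open Cfsg.Agent.Helper8.XS

/-- a coset is fixed by `y` iff the conjugate of `y` by its representative lies in `H` -/
theorem abmintr_fixed_iff {G : Type*} [Group G] (H : Subgroup G) (y : G) (c : G ⧸ H) :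
    y • c = c ↔ c.out⁻¹ * y * c.out ∈ H := by
  conv_lhs => rw [← QuotientGroup.out_eq' c]
  rw [MulAction.Quotient.smul_mk, eq_comm, QuotientGroup.eq, smul_eq_mul, mul_assoc]

/-- a coset in the orbit of a `y`-fixed coset is that coset -/
theorem abmintr_orbit_fixed {G : Type*} [Group G] (H : Subgroup G) (y : G) (c d : G ⧸ H)
    (hc : y • c = c) (hd : d ∈ MulAction.orbit (Subgroup.zpowers y) c) : d = c := by
  obtain ⟨g, rfl⟩ := hd
  have h1 : Subgroup.zpowers y ≤ MulAction.stabilizer G c :=
    Subgroup.zpowers_le.2 (MulAction.mem_stabilizer_iff.2 hc)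
  have h2 := h1 g.2
  rw [MulAction.mem_stabilizer_iff] at h2
  exact h2

/-- PIECE AB-MINTR -/
theorem transfer_eq_prod {G : Type*} [Group G] [Finite G] {A : Type*} [CommGroup A]
    (H : Subgroup G) [Fintype (G ⧸ H)] (ψ : ↥H →* A) (y : G)
    (hmin : ∀ w : ↥H, orderOf (w : G) < orderOf y → ψ w = 1) :
    MonoidHom.transfer ψ y = ∏ c : G ⧸ H, valH ψ (c.out⁻¹ * y * c.out) := by
  classical
  haveI : Fintype (Quotient (MulAction.orbitRel (Subgroup.zpowers y) (G ⧸ H))) := Fintype.ofFinite _
  rw [MonoidHom.transfer_eq_prod_quotient_orbitRel_zpowers_quot ψ y]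
  rw [← Finset.prod_fiberwise (Finset.univ)
    (fun c : G ⧸ H => (Quotient.mk'' c : Quotient (MulAction.orbitRel (Subgroup.zpowers y) (G ⧸ H))))
    (fun c => valH ψ (c.out⁻¹ * y * c.out))]
  apply Finset.prod_congr rfl
  intro q _
  have hqout : (Quotient.mk'' q.out : Quotient (MulAction.orbitRel (Subgroup.zpowers y) (G ⧸ H))) = q :=
    Quotient.out_eq' q
  -- membership in the fibre means membership in the orbit of `q.out`
  have hfib : ∀ c : G ⧸ H,
      (Quotient.mk'' c : Quotient (MulAction.orbitRel (Subgroup.zpowers y) (G ⧸ H))) = q →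
      c ∈ MulAction.orbit (Subgroup.zpowers y) q.out := by
    intro c hc
    rw [← hqout] at hc
    have := Quotient.exact' hc
    exact (MulAction.orbitRel_apply).1 this
  by_cases hm : Function.minimalPeriod (y • ·) q.out = 1
  · -- fixed coset
    have hfixed : y • q.out = q.out := Function.minimalPeriod_eq_one_iff_isFixedPt.1 hm
    rw [Finset.prod_eq_single_of_mem q.out (by simp [hqout])]
    · rw [valH_of_mem ψ ((abmintr_fixed_iff H y q.out).1 hfixed)]
      congr 1
      apply Subtype.ext
      simp only [hm, pow_one]
    · intro c hc hne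
      exfalso
      apply hne
      rw [Finset.mem_filter] at hc
      exact abmintr_orbit_fixed H y q.out c hfixed (hfib c hc.2)
  · -- moved cosets
    have hper : Function.IsPeriodicPt (y • ·) (orderOf y) q.out := by
      unfold Function.IsPeriodicPt Function.IsFixedPt
      rw [smul_iterate, pow_orderOf_eq_one]
      exact one_smul G q.out
    have hdvd : Function.minimalPeriod (y • ·) q.out ∣ orderOf y := hper.minimalPeriod_dvd
    have hpos : 0 < orderOf y := orderOf_pos y
    have hm0 : Function.minimalPeriod (y • ·) q.out ≠ 0 := by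
      intro h0
      rw [h0, zero_dvd_iff] at hdvd
      omega
    have hm2 : 1 < Function.minimalPeriod (y • ·) q.out := by omega
    rw [hmin]
    · symm
      apply Finset.prod_eq_one
      intro c hc
      rw [Finset.mem_filter] at hc
      apply valH_of_not_mem
      intro hcH
      have hcfix : y • c = c := (abmintr_fixed_iff H y c).2 hcH
      -- then `q.out` lies in the orbit of the fixed coset `c`
      have h1 := hfib c hc.2
      have h2 : q.out ∈ MulAction.orbit (Subgroup.zpowers y) c := by
        rw [MulAction.orbit_eq_iff.2 h1]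
        exact MulAction.mem_orbit_self _
      have h3 := abmintr_orbit_fixed H y c q.out hcfix h2
      apply hm
      rw [Function.minimalPeriod_eq_one_iff_isFixedPt]
      show y • q.out = q.out
      rw [h3]
      exact hcfix
    · show orderOf (q.out.out⁻¹ * y ^ Function.minimalPeriod (y • ·) q.out * q.out.out) < orderOf y
      have e : q.out.out⁻¹ * y ^ Function.minimalPeriod (y • ·) q.out * q.out.out =
          MulAut.conj q.out.out⁻¹ (y ^ Function.minimalPeriod (y • ·) q.out) := by
        simp
      rw [e, MulEquiv.orderOf_eq, orderOf_pow_of_dvd hm0 hdvd]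
      exact Nat.div_lt_self hpos hm2

end Cfsg.Agent.Helper8.AB
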