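import Mathlib
import Cfsg.Agent.Lib.Helper19.SylowNormal

set_option autoImplicit false

namespace Cfsg.Agent.Helper19

variable {G : Type*} [Group G]

/-- A nonabelian simple normal subgroup `T` is not contained in an `r`-subgroup. -/
theorem not_le_of_simple_nonabelian [Finite G] (T : Subgroup G) (hT : IsSimpleGroup T)
    (hna : ¬ IsMulCommutative T) {r : ℕ} [Fact r.Prime] (P : Subgroup G) (hP : IsPGroup r P) :
    ¬ T ≤ P := by
  intro hle
  have hTp : IsPGroup r T := hP.to_le hle
  have : Nontrivial T := hT.toNontrivial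
  have hc : Nontrivial (Subgroup.center T) := hTp.center_nontrivial
  have hn : (Subgroup.center T).Normal := inferInstance
  rcases hT.eq_bot_or_eq_top_of_normal _ hn with h | h
  · rw [h] at hc
    exact not_nontrivial _ hc
  · apply hna
    constructor
    constructor
    intro a b
    have ha : a ∈ Subgroup.center T := by rw [h]; trivial
    rw [Subgroup.mem_center_iff] at ha
    exact (ha b).symm

/-- For `T` normal nonabelian simple and `R` a Sylow `r`-subgroup meeting `T` nontrivially,
`N_G(R ∩ T)` is a proper subgroup. -/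
theorem normalizer_inf_ne_top [Finite G] (T : Subgroup G) [T.Normal] (hT : IsSimpleGroup T)
    (hna : ¬ IsMulCommutative T) {r : ℕ} [Fact r.Prime] (R : Sylow r G)
    (hR0 : (R : Subgroup G) ⊓ T ≠ ⊥) :
    Subgroup.normalizer (((R : Subgroup G) ⊓ T : Subgroup G) : Set G) ≠ ⊤ := by
  intro htop
  have hnorm : ((R : Subgroup G) ⊓ T).Normal := Subgroup.normalizer_eq_top_iff.mp htop
  have hn' : (((R : Subgroup G) ⊓ T).subgroupOf T).Normal := hnorm.subgroupOf T
  rcases hT.eq_bot_or_eq_top_of_normal _ hn' with h | h
  · apply hR0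
    rw [Subgroup.subgroupOf_eq_bot] at h
    have : (R : Subgroup G) ⊓ T ⊓ T = (R : Subgroup G) ⊓ T := by
      rw [inf_assoc, inf_idem]
    rw [disjoint_iff, this] at h
    exact h
  · rw [Subgroup.subgroupOf_eq_top] at h
    have hle : T ≤ (R : Subgroup G) := le_trans h inf_le_left
    exact not_le_of_simple_nonabelian T hT hna (R : Subgroup G) R.2 hle

end Cfsg.Agent.Helper19
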