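import Mathlib
import Cfsg.Agent.Lib.Helper25.AppC3

/-!
# BG Appendix C, step (T7): rigidity (helper19)

`rigid`: a relation `x(l) · x(g)^t · x(m)^{t²} = 1` with `l ≠ 0` forces `l ∈ -ψ(U)`
(given the rationality statement (T5)+(T6) as a hypothesis `hrat`).
-/

set_option autoImplicit false
set_option linter.unusedVariables false
set_option linter.unusedSectionVars false
set_option linter.style.haveILetI false

namespace Cfsg.Agent.Helper19.AppC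

open Cfsg.Agent.Helper25.AppC

universe u v

/-! ### two identities in commutative groups -/

theorem addc_aux1 {C : Type*} [AddCommGroup C] {a b c d f g k : C}
    (H : -a + b + -c + d = -f + g) : b + d + -g + -k = a + c + -k + -f := by
  have e : b + d + -g + -k - (a + c + -k + -f) = (-a + b + -c + d) - (-f + g) := by abel
  rw [← sub_eq_zero, e, H, sub_self]

theorem mulc_aux1 {C : Type*} [CommGroup C] {a b c d f g k : C}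
    (H : a⁻¹ * b * c⁻¹ * d = f⁻¹ * g) : b * d * g⁻¹ * k⁻¹ = a * c * k⁻¹ * f⁻¹ :=
  addc_aux1 (C := Additive C) (a := Additive.ofMul a) (b := Additive.ofMul b)
    (c := Additive.ofMul c) (d := Additive.ofMul d) (f := Additive.ofMul f)
    (g := Additive.ofMul g) (k := Additive.ofMul k) H

theorem addc_aux2 {C : Type*} [AddCommGroup C] {a c k f : C}
    (H : a + c + -k + -f = 0) : -k + a = -c + f := by
  have e : -k + a - (-c + f) = a + c + -k + -f := by abel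
  rw [← sub_eq_zero, e, H]

theorem mulc_aux2 {C : Type*} [CommGroup C] {a c k f : C}
    (H : a * c * k⁻¹ * f⁻¹ = 1) : k⁻¹ * a = c⁻¹ * f :=
  addc_aux2 (C := Additive C) (a := Additive.ofMul a) (c := Additive.ofMul c)
    (k := Additive.ofMul k) (f := Additive.ofMul f) H


/-! ### the computation in `Y ⋊ ⟨s⟩` -/

section frob

variable {G : Type u} [Group G]

theorem not_dvd_neg_one {p : ℕ} (hp : p.Prime) : ¬ (p : ℤ) ∣ -1 := by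
  intro h
  rw [dvd_neg] at h
  have := Int.natCast_dvd_natCast.mp (by simpa using h : ((p : ℕ) : ℤ) ∣ ((1 : ℕ) : ℤ))
  exact hp.one_lt.ne' (Nat.dvd_one.mp this)

/-- the key computation of (T7) in `Y ⋊ ⟨s⟩`, with `t ^ j` written as `y⁻¹ * s ^ j * y` -/
theorem frob_rigid {p : ℕ} {Y : Subgroup G} {s : G} (h : Frob p Y s) {y : G} (hy : y ∈ Y)
    {e A B : ℤ}
    (hrel : (y⁻¹ * s ^ (-1 : ℤ) * y) * s ^ e * (y⁻¹ * s ^ (-1 : ℤ) * y)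
        = s ^ A * (y⁻¹ * s ^ (-2 : ℤ) * y) * s ^ B) :
    y⁻¹ * s ^ (1 - A) * y = s ^ (e - A) * (y⁻¹ * s ^ (A + 1 - e) * y) * s ^ (-A) := by
  letI : CommGroup ↥Y := { (inferInstance : Group ↥Y) with
    mul_comm := fun a b => Subtype.ext (h.Y_comm a a.2 b b.2) }
  let φ : ℤ → ↥Y := fun j => ⟨s ^ j * y * (s ^ j)⁻¹, h.zpow_conj_mem j hy⟩
  have hφ : ∀ j, (φ j : G) = s ^ j * y * (s ^ j)⁻¹ := fun j => rfl
  -- the two sides of `hrel`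
  have h1 : (y⁻¹ * s ^ (-1 : ℤ) * y) * s ^ e * (y⁻¹ * s ^ (-1 : ℤ) * y)
      = (((φ 0)⁻¹ * φ (-1) * (φ (e - 1))⁻¹ * φ (e - 2) : ↥Y) : G) * s ^ (e - 2) := by
    simp only [Subgroup.coe_mul, Subgroup.coe_inv, hφ]
    group
  have h2 : s ^ A * (y⁻¹ * s ^ (-2 : ℤ) * y) * s ^ B
      = (((φ A)⁻¹ * φ (A - 2) : ↥Y) : G) * s ^ (A + B - 2) := by
    simp only [Subgroup.coe_mul, Subgroup.coe_inv, hφ]
    group
  set V₁ : ↥Y := (φ 0)⁻¹ * φ (-1) * (φ (e - 1))⁻¹ * φ (e - 2) with hV₁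
  set V₂ : ↥Y := (φ A)⁻¹ * φ (A - 2) with hV₂
  have hV : V₁ = V₂ := by
    have h3 : (V₁ : G) * s ^ (e - 2) = (V₂ : G) * s ^ (A + B - 2) := by rw [← h1, ← h2, hrel]
    have h4 : s ^ ((e - 2) - (A + B - 2)) = ((V₁⁻¹ * V₂ : ↥Y) : G) := by
      rw [zpow_sub, Subgroup.coe_mul, Subgroup.coe_inv]
      have : s ^ (e - 2) = (V₁ : G)⁻¹ * ((V₂ : G) * s ^ (A + B - 2)) := by
        rw [← h3, inv_mul_cancel_left]
      rw [this]; group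
    have h5 : s ^ ((e - 2) - (A + B - 2)) = 1 :=
      h.zpow_mem_Y (by rw [h4]; exact (V₁⁻¹ * V₂).2)
    have h6 : (V₁⁻¹ * V₂ : ↥Y) = 1 := Subtype.ext (by rw [← h4, h5]; rfl)
    exact inv_mul_eq_one.mp h6
  -- the fixed point
  have hz := mulc_aux1 (k := φ (A - 1)) hV
  set z : ↥Y := φ 0 * φ (e - 1) * (φ (A - 1))⁻¹ * (φ A)⁻¹ with hz_def
  have hfix : s ^ (-1 : ℤ) * (z : G) * (s ^ (-1 : ℤ))⁻¹ = z := by
    have e1 : s ^ (-1 : ℤ) * (z : G) * (s ^ (-1 : ℤ))⁻¹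
        = ((φ (-1) * φ (e - 2) * (φ (A - 2))⁻¹ * (φ (A - 1))⁻¹ : ↥Y) : G) := by
      simp only [hz_def, Subgroup.coe_mul, Subgroup.coe_inv, hφ]
      group
    rw [e1, hz]
  have hz1 : (z : G) = 1 := h.fpf_zpow (not_dvd_neg_one h.hp) z.2 hfix
  -- conjugate by `s ^ (1 - A)`
  have hz' : φ (1 - A) * φ (e - A) * (φ 0)⁻¹ * (φ 1)⁻¹ = 1 := by
    apply Subtype.ext
    have e1 : ((φ (1 - A) * φ (e - A) * (φ 0)⁻¹ * (φ 1)⁻¹ : ↥Y) : G)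
        = s ^ (1 - A) * (z : G) * (s ^ (1 - A))⁻¹ := by
      simp only [hz_def, Subgroup.coe_mul, Subgroup.coe_inv, hφ]
      group
    rw [e1, hz1]
    simp
  have hfin := mulc_aux2 hz'
  have l1 : y⁻¹ * s ^ (1 - A) * y = (((φ 0)⁻¹ * φ (1 - A) : ↥Y) : G) * s ^ (1 - A) := by
    simp only [Subgroup.coe_mul, Subgroup.coe_inv, hφ]
    group
  have l2 : s ^ (e - A) * (y⁻¹ * s ^ (A + 1 - e) * y) * s ^ (-A)
      = (((φ (e - A))⁻¹ * φ 1 : ↥Y) : G) * s ^ (1 - A) := by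
    simp only [Subgroup.coe_mul, Subgroup.coe_inv, hφ]
    group
  rw [l1, l2, hfin]

end frob

/-! ### rigidity -/

section rigid

variable {G : Type u} [Group G] {F : Type v} [Field F] {p : ℕ}

theorem not_dvd_two (S : Setup G F p) : ¬ (p : ℤ) ∣ 2 := by
  intro h
  have h1 : p ∣ 2 := Int.natCast_dvd_natCast.mp (by simpa using h : ((p : ℕ) : ℤ) ∣ ((2 : ℕ) : ℤ))
  exact S.hp2 ((Nat.prime_dvd_prime_iff_eq S.hp Nat.prime_two).mp h1)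

/-- a power `t ^ k` with `p ∤ k` does not lie in `P` -/
theorem t_zpow_ne_x (S : Setup G F p) {k : ℤ} (hk : ¬ (p : ℤ) ∣ k) (c : F) : S.t ^ k ≠ S.x c := by
  intro h
  have h2 : (1 : F) = 0 := by
    refine S.toolB k hk 1 1 S.U.one_mem ⟨1, 1, S.U.one_mem, ?_⟩
    rw [h, mul_one, S.x_comm c 1, mul_inv_cancel_right]
  exact one_ne_zero h2

/-- **(T7) rigidity** -/
theorem rigid [Finite G] (S : Setup G F p)
    (hrat : ∀ (a b : F) (i : ℤ), ¬ (p : ℤ) ∣ i → S.x a * S.t ^ i * S.x b ∈ S.K →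
      (∃ n : ℤ, a = n) ∧ ∃ n : ℤ, b = n)
    {l g m : F} (hl : l ≠ 0)
    (h : S.x l * (S.t⁻¹ * S.x g * S.t) * ((S.t ^ 2)⁻¹ * S.x m * S.t ^ 2) = 1) :
    ∃ u ∈ S.U, l = - S.ψ u := by
  have hp2 := not_dvd_two S
  have hpm2 : ¬ (p : ℤ) ∣ -2 := by rwa [dvd_neg]
  have ht2 : S.t ^ 2 = S.t ^ (2 : ℤ) := (zpow_ofNat S.t 2).symm
  rw [ht2] at h
  -- Step 1: `g ≠ 0`
  have hg0 : g ≠ 0 := by
    rintro rfl
    apply hl
    refine S.toolB 2 hp2 l 1 S.U.one_mem ⟨-m, 1, S.U.one_mem, ?_⟩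
    rw [S.x_zero] at h
    have h1 : S.x l = (S.t ^ (2 : ℤ))⁻¹ * (S.x m)⁻¹ * S.t ^ (2 : ℤ) := by
      have h0 : S.x l = S.x l * (S.t⁻¹ * 1 * S.t) := by group
      have := eq_inv_of_mul_eq_one_left h
      rw [h0, this]; group
    rw [mul_one, mul_one, h1, S.x_neg]
    group
  -- Step 2: polar form of `g`, conjugate by `w`
  obtain ⟨e, he, u₀, hu₀, hg⟩ := S.polar g hg0
  have hu₀' : u₀⁻¹ ∈ S.U := S.U.inv_mem hu₀
  have hw : S.t⁻¹ * u₀⁻¹ * S.t ∈ S.U := by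
    have := S.t_zpow_norm' 1 hu₀'
    rwa [zpow_one] at this
  have hw₂ : S.t * u₀⁻¹ * S.t⁻¹ ∈ S.U := S.t_norm _ hu₀'
  set w := S.t⁻¹ * u₀⁻¹ * S.t with hw_def
  set w₂ := S.t * u₀⁻¹ * S.t⁻¹ with hw₂_def
  have c1 : w * S.x l * w⁻¹ = S.x (S.ψ w * l) := S.conj w hw l
  have c2 : w * (S.t⁻¹ * S.x g * S.t) * w⁻¹ = S.t⁻¹ * S.s ^ (e : ℤ) * S.t := by
    have e1 : w * (S.t⁻¹ * S.x g * S.t) * w⁻¹ = S.t⁻¹ * (u₀⁻¹ * S.x g * u₀) * S.t := by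
      rw [hw_def]; group
    rw [e1, S.conj_inv hu₀, hg]
    have : (S.ψ u₀)⁻¹ * ((e : F) * S.ψ u₀) = (e : F) := by
      have := S.ψ_ne u₀ hu₀
      field_simp
    rw [this, S.x_natCast, zpow_natCast]
  have c3 : w * ((S.t ^ (2 : ℤ))⁻¹ * S.x m * S.t ^ (2 : ℤ)) * w⁻¹
      = (S.t ^ (2 : ℤ))⁻¹ * S.x (S.ψ w₂ * m) * S.t ^ (2 : ℤ) := by
    have e1 : w * ((S.t ^ (2 : ℤ))⁻¹ * S.x m * S.t ^ (2 : ℤ)) * w⁻¹
        = (S.t ^ (2 : ℤ))⁻¹ * (w₂ * S.x m * w₂⁻¹) * S.t ^ (2 : ℤ) := by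
      rw [hw_def, hw₂_def]; group
    rw [e1, S.conj w₂ hw₂]
  have hrel1 : S.x (S.ψ w * l) * (S.t⁻¹ * S.s ^ (e : ℤ) * S.t)
      * ((S.t ^ (2 : ℤ))⁻¹ * S.x (S.ψ w₂ * m) * S.t ^ (2 : ℤ)) = 1 := by
    rw [← c1, ← c2, ← c3]
    have : w * S.x l * w⁻¹ * (w * (S.t⁻¹ * S.x g * S.t) * w⁻¹)
        * (w * ((S.t ^ (2 : ℤ))⁻¹ * S.x m * S.t ^ (2 : ℤ)) * w⁻¹)
        = w * (S.x l * (S.t⁻¹ * S.x g * S.t) * ((S.t ^ (2 : ℤ))⁻¹ * S.x m * S.t ^ (2 : ℤ))) * w⁻¹ := by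
      group
    rw [this, h]; group
  set l' := S.ψ w * l with hl'
  set m' := S.ψ w₂ * m with hm'
  -- Step 3: membership in `K`
  have hK : S.x (-l') * S.t ^ (-2 : ℤ) * S.x (-m') = S.t ^ (-1 : ℤ) * S.s ^ (e : ℤ) * S.t ^ (-1 : ℤ) := by
    have h1 : S.t⁻¹ * S.s ^ (e : ℤ) * S.t = (S.x l')⁻¹ * ((S.t ^ (2 : ℤ))⁻¹ * S.x m' * S.t ^ (2 : ℤ))⁻¹ := by
      have h2 : S.x l' * (S.t⁻¹ * S.s ^ (e : ℤ) * S.t) = ((S.t ^ (2 : ℤ))⁻¹ * S.x m' * S.t ^ (2 : ℤ))⁻¹ :=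
        eq_inv_of_mul_eq_one_left hrel1
      rw [← h2, inv_mul_cancel_left]
    have h3 : S.t ^ (-1 : ℤ) * S.s ^ (e : ℤ) * S.t ^ (-1 : ℤ)
        = (S.t⁻¹ * S.s ^ (e : ℤ) * S.t) * S.t ^ (-2 : ℤ) := by group
    rw [h3, h1, S.x_neg, S.x_neg]
    group
  have hmemK : S.x (-l') * S.t ^ (-2 : ℤ) * S.x (-m') ∈ S.K := by
    rw [hK]
    exact S.K.mul_mem (S.K.mul_mem (S.K.zpow_mem S.t_mem_K _) (S.K.zpow_mem S.s_mem_K _))
      (S.K.zpow_mem S.t_mem_K _)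
  obtain ⟨⟨A, hA⟩, ⟨B, hB⟩⟩ := hrat (-l') (-m') (-2) hpm2 hmemK
  rw [hA, hB, S.x_intCast, S.x_intCast] at hK
  -- Step 4: the computation in `Y ⋊ ⟨s⟩`
  obtain ⟨y, hy, hty⟩ := S.exists_w
  have ht : ∀ j : ℤ, S.t ^ j = y⁻¹ * S.s ^ j * y := by
    intro j
    have : y⁻¹ * S.s * y = y⁻¹ * S.s * (y⁻¹)⁻¹ := by rw [inv_inv]
    rw [hty, this, conj_zpow, inv_inv]
  have hkey := frob_rigid S.frob hy (e := (e : ℤ)) (A := A) (B := B)
    (by rw [← ht, ← ht]; exact hK.symm)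
  rw [← ht, ← ht] at hkey
  -- Step 5: `A ≡ 1`
  have hA1 : (p : ℤ) ∣ 1 - A := by
    by_contra hi
    by_cases hj : (p : ℤ) ∣ A + 1 - (e : ℤ)
    · rw [(S.t_zpow_eq_one_iff).mpr hj, mul_one, ← zpow_add, ← S.x_intCast] at hkey
      exact t_zpow_ne_x S hi _ hkey
    · have hkey' : S.t ^ (1 - A) = (S.x (((e : ℤ) - A : ℤ) : F) * 1) * S.t ^ (A + 1 - (e : ℤ))
          * (S.x ((-A : ℤ) : F) * 1) := by
        rw [mul_one, mul_one, S.x_intCast, S.x_intCast]; exact hkey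
      obtain ⟨ha, hb, -⟩ := S.toolB_distinct hi hj S.U.one_mem S.U.one_mem hkey'
      have h1 : (p : ℤ) ∣ (e : ℤ) - A := S.intCast_eq_zero_iff.mp ha
      have h2 : (p : ℤ) ∣ -A := S.intCast_eq_zero_iff.mp hb
      have h3 : (p : ℤ) ∣ (e : ℤ) := by
        have := dvd_sub h1 h2
        simpa using this
      exact he (Int.natCast_dvd_natCast.mp h3)
  -- Step 6: conclusion
  have hAF : (A : F) = 1 := by
    have := S.intCast_eq_zero_iff.mpr hA1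
    push_cast at this
    exact (sub_eq_zero.mp this).symm
  refine ⟨w⁻¹, S.U.inv_mem hw, ?_⟩
  rw [S.ψ_inv hw]
  have hw0 := S.ψ_ne w hw
  have h5 : S.ψ w * l = -1 := by
    have : -l' = 1 := by rw [hA, hAF]
    rw [hl'] at this
    linear_combination -this
  field_simp
  linear_combination h5
  
end rigid

end Cfsg.Agent.Helper19.AppC
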