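import Mathlib
import Cfsg.Agent.Lib.Helper25.AppC0

/-!
# BG Appendix C: the sandwich step (T8) and the iteration (T9)

From the `K`-relations `t^a s^b t^c = s^-c t^-b s^-a` (`a + b + c = 0`) and the rigidity of the
relations `x₀(l) x₁(g) x₂(m) = 1`, the set `{a ∈ U | ∃ b ∈ U, ψ a + ψ b = 2}` is closed under
`a ↦ t⁻³ a⁻¹ t³`, hence (iterating `p` times, `p` odd, `t^p = 1`) under inversion.
-/

set_option autoImplicit false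
set_option linter.unusedSectionVars false
set_option linter.unusedVariables false
set_option linter.style.haveILetI false

namespace Cfsg.Agent.Helper19.AppC

open Cfsg.Agent.Helper25.AppC

universe u v

variable {G : Type u} [Group G] {F : Type v} [Field F] {p : ℕ}

/-! ### basic facts on a `Setup` -/

theorem x_zero (S : Setup G F p) : S.x 0 = 1 := by
  have h := S.x_add 0 0
  rw [add_zero] at h
  exact mul_eq_left.mp h.symm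

theorem x_neg (S : Setup G F p) (a : F) : S.x (-a) = (S.x a)⁻¹ := by
  have h := S.x_add a (-a)
  rw [add_neg_cancel, x_zero] at h
  exact (inv_eq_of_mul_eq_one_right h.symm).symm

theorem x_sub (S : Setup G F p) (a b : F) : S.x (a - b) = S.x a * (S.x b)⁻¹ := by
  rw [sub_eq_add_neg, S.x_add, x_neg]

theorem x_natCast (S : Setup G F p) (n : ℕ) : S.x (n : F) = S.x 1 ^ n := by
  induction n with
  | zero => rw [Nat.cast_zero, x_zero, pow_zero]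
  | succ k ih => rw [Nat.cast_succ, S.x_add, ih, pow_succ]

theorem ψ_one (S : Setup G F p) : S.ψ 1 = 1 := by
  have h := S.ψ_mul 1 S.U.one_mem 1 S.U.one_mem
  rw [mul_one] at h
  have h0 := S.ψ_ne 1 S.U.one_mem
  exact (mul_eq_left₀ h0).mp h.symm

theorem ψ_inv (S : Setup G F p) {u : G} (hu : u ∈ S.U) : S.ψ u⁻¹ = (S.ψ u)⁻¹ := by
  have h := S.ψ_mul u hu u⁻¹ (S.U.inv_mem hu)
  rw [mul_inv_cancel, ψ_one] at h
  exact eq_inv_of_mul_eq_one_right h.symm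

/-- moving an element of `U` to the right -/
theorem x_mul_U_mul_x (S : Setup G F p) {u : G} (hu : u ∈ S.U) (a b : F) :
    S.x a * u * S.x b = S.x (a + S.ψ u * b) * u := by
  have h := S.conj u hu b
  rw [S.x_add, ← h]
  group

/-- conjugation by powers of `t` preserves `U` -/
theorem t_zpow_conj_mem (S : Setup G F p) (n : ℤ) {u : G} (hu : u ∈ S.U) :
    S.t ^ n * u * (S.t ^ n)⁻¹ ∈ S.U := by
  have hnat : ∀ k : ℕ, ∀ w ∈ S.U, S.t ^ k * w * (S.t ^ k)⁻¹ ∈ S.U := by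
    intro k
    induction k with
    | zero => intro w hw; simpa using hw
    | succ k ih =>
      intro w hw
      have h1 := S.t_norm _ (ih w hw)
      have h2 : S.t ^ (k + 1) * w * (S.t ^ (k + 1))⁻¹ = S.t * (S.t ^ k * w * (S.t ^ k)⁻¹) * S.t⁻¹ := by
        rw [pow_succ']
        group
      rw [h2]; exact h1
  -- reduce `n` modulo `p`
  have hp0 : (p : ℤ) ≠ 0 := by
    have := S.hp.pos
    exact_mod_cast this.ne'
  have h1 : S.t ^ n = S.t ^ (n % (p : ℤ)) := by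
    conv_lhs => rw [← Int.emod_add_mul_ediv n p]
    rw [zpow_add, zpow_mul, zpow_natCast, S.t_pow, one_zpow, mul_one]
  have h2 : 0 ≤ n % (p : ℤ) := Int.emod_nonneg n hp0
  obtain ⟨k, hk⟩ := Int.eq_ofNat_of_zero_le h2
  rw [h1, hk, zpow_natCast]
  exact hnat k u hu

/-! ### the sandwich step -/

/-- **(T8)**: the set `E_U = {a ∈ U | ∃ b ∈ U, ψ a + ψ b = 2}` is closed under `a ↦ t⁻³ a⁻¹ t³`. -/
theorem sandwich (S : Setup G F p)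
    (hrel : ∀ a b c : ℤ, a + b + c = 0 →
      S.t ^ a * S.x 1 ^ b * S.t ^ c = S.x 1 ^ (-c) * S.t ^ (-b) * S.x 1 ^ (-a))
    (hrig : ∀ l g m : F,
      S.x l * (S.t⁻¹ * S.x g * S.t) * (S.t ^ (-2 : ℤ) * S.x m * S.t ^ (2 : ℤ)) = 1 →
        l = 0 ∨ ∃ u ∈ S.U, l = -S.ψ u)
    {a b : G} (ha : a ∈ S.U) (hb : b ∈ S.U) (hab : S.ψ a + S.ψ b = 2) :
    ∃ b' ∈ S.U, S.ψ (S.t ^ (-3 : ℤ) * a⁻¹ * S.t ^ (3 : ℤ)) + S.ψ b' = 2 := by
  set t := S.t with ht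
  set s := S.x 1 with hs
  -- the conjugates of `a`, `b`
  set a3 : G := t ^ (-3 : ℤ) * a * t ^ (3 : ℤ) with ha3
  set a2 : G := t ^ (-2 : ℤ) * a * t ^ (2 : ℤ) with ha2
  set a1 : G := t⁻¹ * a * t with ha1
  set b2 : G := t ^ (-2 : ℤ) * b * t ^ (2 : ℤ) with hb2
  set b1 : G := t⁻¹ * b * t with hb1
  have mem_conj : ∀ (n : ℤ) (w : G), w ∈ S.U → t ^ (-n) * w * t ^ n ∈ S.U := by
    intro n w hw
    have := t_zpow_conj_mem S (-n) hw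
    rwa [zpow_neg, inv_inv, ← zpow_neg] at this
  have ha3U : a3 ∈ S.U := mem_conj 3 a ha
  have ha2U : a2 ∈ S.U := mem_conj 2 a ha
  have ha1U : a1 ∈ S.U := by
    have := mem_conj 1 a ha
    simpa [ha1] using this
  have hb2U : b2 ∈ S.U := mem_conj 2 b hb
  have hb1U : b1 ∈ S.U := by
    have := mem_conj 1 b hb
    simpa [hb1] using this
  -- the starting relation `a s a⁻¹ b s b⁻¹ = s²`
  have hstart : (a * s * a⁻¹) * (b * s * b⁻¹) = s ^ (2 : ℤ) := by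
    rw [hs, S.conj a ha, S.conj b hb, ← S.x_add, mul_one, mul_one, hab]
    have := x_natCast S 2
    rw [Nat.cast_ofNat] at this
    rw [this]
    norm_cast
  -- the three `K`-relations
  have h1 : t ^ (-3 : ℤ) * s ^ (2 : ℤ) * t ^ (1 : ℤ) = s ^ (-1 : ℤ) * t ^ (-2 : ℤ) * s ^ (3 : ℤ) := by
    have := hrel (-3) 2 1 (by norm_num)
    simpa using this
  have h2 : t ^ (-3 : ℤ) * s ^ (1 : ℤ) * t ^ (2 : ℤ) = s ^ (-2 : ℤ) * t ^ (-1 : ℤ) * s ^ (3 : ℤ) := by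
    have := hrel (-3) 1 2 (by norm_num)
    simpa using this
  have h3 : t ^ (-2 : ℤ) * s ^ (1 : ℤ) * t ^ (1 : ℤ) = s ^ (-1 : ℤ) * t ^ (-1 : ℤ) * s ^ (2 : ℤ) := by
    have := hrel (-2) 1 1 (by norm_num)
    simpa using this
  -- (★)
  have hstar : s ^ (-1 : ℤ) * t ^ (-2 : ℤ) * s ^ (3 : ℤ) =
      a3 * (s ^ (-2 : ℤ) * t ^ (-1 : ℤ) * s ^ (3 : ℤ)) * (a2⁻¹ * b2) *
        (s ^ (-1 : ℤ) * t ^ (-1 : ℤ) * s ^ (2 : ℤ)) * b1⁻¹ := by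
    rw [← h1, ← h2, ← h3, ← hstart, ha3, ha2, hb2, hb1]
    group
  -- rearranged
  have hre : (s ^ (2 : ℤ) * a3⁻¹ * s ^ (-1 : ℤ)) * t ^ (-2 : ℤ) * (s ^ (3 : ℤ) * b1 * s ^ (-2 : ℤ)) =
      t ^ (-1 : ℤ) * (s ^ (3 : ℤ) * (a2⁻¹ * b2) * s ^ (-1 : ℤ)) * t ^ (-1 : ℤ) := by
    have e1 : (s ^ (2 : ℤ) * a3⁻¹ * s ^ (-1 : ℤ)) * t ^ (-2 : ℤ) * (s ^ (3 : ℤ) * b1 * s ^ (-2 : ℤ)) =
        s ^ (2 : ℤ) * a3⁻¹ * (s ^ (-1 : ℤ) * t ^ (-2 : ℤ) * s ^ (3 : ℤ)) * b1 * s ^ (-2 : ℤ) := by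
      group
    rw [e1, hstar]
    group
  -- powers of `s` as values of `x`
  have hsz : ∀ n : ℤ, s ^ n = S.x (n : F) := by
    intro n
    cases n with
    | ofNat k => rw [Int.ofNat_eq_natCast, zpow_natCast, Int.cast_natCast, x_natCast]
    | negSucc k =>
      rw [zpow_negSucc, Int.cast_negSucc, x_neg, x_natCast]
  -- the three `U`-transport identities
  have hL : s ^ (2 : ℤ) * a3⁻¹ * s ^ (-1 : ℤ) = S.x (2 - (S.ψ a3)⁻¹) * a3⁻¹ := by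
    rw [hsz, hsz, x_mul_U_mul_x S (S.U.inv_mem ha3U), ψ_inv S ha3U]
    congr 2
    push_cast
    ring
  have hM : a1⁻¹ * (s ^ (3 : ℤ) * b1 * s ^ (-2 : ℤ)) =
      S.x ((S.ψ a1)⁻¹ * (3 - 2 * S.ψ b1)) * (a1⁻¹ * b1) := by
    rw [hsz, hsz, x_mul_U_mul_x S hb1U]
    have := x_mul_U_mul_x S (S.U.inv_mem ha1U) 0 (((3 : ℤ) : F) + S.ψ b1 * ((-2 : ℤ) : F))
    rw [x_zero, one_mul, zero_add, ψ_inv S ha1U] at this
    rw [← mul_assoc, this, mul_assoc]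
    congr 2
    push_cast
    ring
  have hR : s ^ (3 : ℤ) * (a2⁻¹ * b2) * s ^ (-1 : ℤ) =
      S.x (3 - (S.ψ a2)⁻¹ * S.ψ b2) * (a2⁻¹ * b2) := by
    rw [hsz, hsz, x_mul_U_mul_x S (S.U.mul_mem (S.U.inv_mem ha2U) hb2U),
      S.ψ_mul _ (S.U.inv_mem ha2U) _ hb2U, ψ_inv S ha2U]
    congr 2
    push_cast
    ring
  -- commutation with powers of `t`
  have hc1 : a3⁻¹ * t ^ (-2 : ℤ) = t ^ (-2 : ℤ) * a1⁻¹ := by
    rw [ha3, ha1]; group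
  have hc2 : (a2⁻¹ * b2) * t ^ (-1 : ℤ) = t ^ (-1 : ℤ) * (a1⁻¹ * b1) := by
    rw [ha2, hb2, ha1, hb1]; group
  set l₀ : F := 2 - (S.ψ a3)⁻¹ with hl₀
  set m₁ : F := (S.ψ a1)⁻¹ * (3 - 2 * S.ψ b1) with hm₁
  set g₁ : F := 3 - (S.ψ a2)⁻¹ * S.ψ b2 with hg₁
  have hfin : S.x l₀ * t ^ (-2 : ℤ) * S.x m₁ = t ^ (-1 : ℤ) * S.x g₁ * t ^ (-1 : ℤ) := by
    have e1 : (s ^ (2 : ℤ) * a3⁻¹ * s ^ (-1 : ℤ)) * t ^ (-2 : ℤ) * (s ^ (3 : ℤ) * b1 * s ^ (-2 : ℤ)) =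
        S.x l₀ * t ^ (-2 : ℤ) * S.x m₁ * (a1⁻¹ * b1) := by
      rw [hL]
      calc S.x l₀ * a3⁻¹ * t ^ (-2 : ℤ) * (s ^ (3 : ℤ) * b1 * s ^ (-2 : ℤ))
          = S.x l₀ * (a3⁻¹ * t ^ (-2 : ℤ)) * (s ^ (3 : ℤ) * b1 * s ^ (-2 : ℤ)) := by group
        _ = S.x l₀ * t ^ (-2 : ℤ) * (a1⁻¹ * (s ^ (3 : ℤ) * b1 * s ^ (-2 : ℤ))) := by
            rw [hc1]; group
        _ = S.x l₀ * t ^ (-2 : ℤ) * S.x m₁ * (a1⁻¹ * b1) := by
            rw [hM]; group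
    have e2 : t ^ (-1 : ℤ) * (s ^ (3 : ℤ) * (a2⁻¹ * b2) * s ^ (-1 : ℤ)) * t ^ (-1 : ℤ) =
        t ^ (-1 : ℤ) * S.x g₁ * t ^ (-1 : ℤ) * (a1⁻¹ * b1) := by
      rw [hR]
      calc t ^ (-1 : ℤ) * (S.x g₁ * (a2⁻¹ * b2)) * t ^ (-1 : ℤ)
          = t ^ (-1 : ℤ) * S.x g₁ * ((a2⁻¹ * b2) * t ^ (-1 : ℤ)) := by group
        _ = t ^ (-1 : ℤ) * S.x g₁ * t ^ (-1 : ℤ) * (a1⁻¹ * b1) := by
            rw [hc2]; group
    rw [e1, e2] at hre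
    exact mul_right_cancel hre
  -- the relation `x₀(-l₀) x₁(g₁) x₂(-m₁) = 1`
  have hrel3 : S.x (-l₀) * (t⁻¹ * S.x g₁ * t) * (t ^ (-2 : ℤ) * S.x (-m₁) * t ^ (2 : ℤ)) = 1 := by
    rw [x_neg, x_neg]
    have e : t⁻¹ * S.x g₁ * t = (t ^ (-1 : ℤ) * S.x g₁ * t ^ (-1 : ℤ)) * t ^ (2 : ℤ) := by group
    rw [e, ← hfin]
    group
  rcases hrig (-l₀) g₁ (-m₁) hrel3 with h0 | ⟨u, hu, hlu⟩
  · -- `l₀ = 0` is impossible
    exfalso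
    have h1 : (S.ψ a3)⁻¹ = 2 := by
      have : l₀ = 0 := neg_eq_zero.mp h0
      rw [hl₀, sub_eq_zero] at this
      exact this.symm
    have h2 : S.ψ a3⁻¹ = ((2 : ℕ) : F) := by
      rw [ψ_inv S ha3U, h1]; norm_num
    have h3 := S.rat a3⁻¹ (S.U.inv_mem ha3U) 2 h2
    rw [h3, ψ_one] at h2
    have h4 : ((1 : ℕ) : F) = 0 := by
      have : (1 : F) = 2 := by rw [h2]; norm_num
      have h5 : (2 : F) - 1 = 0 := by rw [← this]; ring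
      have h6 : (2 : F) - 1 = 1 := by ring
      rw [h6] at h5
      rw [Nat.cast_one]; exact h5
    exact one_ne_zero (by rw [Nat.cast_one] at h4; exact h4)
  · refine ⟨u, hu, ?_⟩
    have h1 : l₀ = S.ψ u := neg_injective hlu
    have h2 : t ^ (-3 : ℤ) * a⁻¹ * t ^ (3 : ℤ) = a3⁻¹ := by
      rw [ha3]; group
    rw [h2, ψ_inv S ha3U, ← h1, hl₀]
    ring

/-! ### the iteration -/

/-- **(T9)**: closure under `a ↦ t⁻³ a⁻¹ t³` gives closure under inversion (`p` odd, `t^p = 1`). -/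
theorem inv_closed_of_sandwich (S : Setup G F p)
    (hsand : ∀ a ∈ S.U, (∃ b ∈ S.U, S.ψ a + S.ψ b = 2) →
      S.t ^ (-3 : ℤ) * a⁻¹ * S.t ^ (3 : ℤ) ∈ S.U ∧
        ∃ b' ∈ S.U, S.ψ (S.t ^ (-3 : ℤ) * a⁻¹ * S.t ^ (3 : ℤ)) + S.ψ b' = 2)
    {a : G} (ha : a ∈ S.U) (hE : ∃ b ∈ S.U, S.ψ a + S.ψ b = 2) :
    ∃ b' ∈ S.U, (S.ψ a)⁻¹ + S.ψ b' = 2 := by
  have key : ∀ k : ℕ, S.t ^ (-(3 * (k : ℤ))) * a ^ ((-1 : ℤ) ^ k) * S.t ^ (3 * (k : ℤ)) ∈ S.U ∧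
      ∃ b' ∈ S.U, S.ψ (S.t ^ (-(3 * (k : ℤ))) * a ^ ((-1 : ℤ) ^ k) * S.t ^ (3 * (k : ℤ))) + S.ψ b' = 2 := by
    intro k
    induction k with
    | zero => simpa using ⟨ha, hE⟩
    | succ k ih =>
      obtain ⟨h1, h2⟩ := hsand _ ih.1 ih.2
      have e : S.t ^ (-3 : ℤ) * (S.t ^ (-(3 * (k : ℤ))) * a ^ ((-1 : ℤ) ^ k) * S.t ^ (3 * (k : ℤ)))⁻¹ *
          S.t ^ (3 : ℤ) =
          S.t ^ (-(3 * ((k + 1 : ℕ) : ℤ))) * a ^ ((-1 : ℤ) ^ (k + 1)) * S.t ^ (3 * ((k + 1 : ℕ) : ℤ)) := by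
        have e1 : (-1 : ℤ) ^ (k + 1) = -((-1 : ℤ) ^ k) := by rw [pow_succ]; ring
        have e2 : (3 * ((k + 1 : ℕ) : ℤ)) = 3 * (k : ℤ) + 3 := by push_cast; ring
        rw [e1, e2, zpow_neg a, neg_add, zpow_add, zpow_add]
        group
      rw [e] at h1 h2
      exact ⟨h1, h2⟩
  obtain ⟨-, b', hb', h⟩ := key p
  refine ⟨b', hb', ?_⟩
  have hodd : Odd p := S.hp.odd_of_ne_two S.hp2
  have e1 : (-1 : ℤ) ^ p = -1 := hodd.neg_one_pow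
  have e2 : S.t ^ (3 * (p : ℤ)) = 1 := by
    rw [mul_comm, zpow_mul, zpow_natCast, S.t_pow, one_zpow]
  have e3 : S.t ^ (-(3 * (p : ℤ))) = 1 := by rw [zpow_neg, e2, inv_one]
  rw [e1, e2, e3, one_mul, mul_one, zpow_neg_one, ψ_inv S ha] at h
  exact h

/-- `sandwich` + `inv_closed_of_sandwich` -/
theorem inv_closed_of_rigidity (S : Setup G F p)
    (hrel : ∀ a b c : ℤ, a + b + c = 0 →
      S.t ^ a * S.x 1 ^ b * S.t ^ c = S.x 1 ^ (-c) * S.t ^ (-b) * S.x 1 ^ (-a))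
    (hrig : ∀ l g m : F,
      S.x l * (S.t⁻¹ * S.x g * S.t) * (S.t ^ (-2 : ℤ) * S.x m * S.t ^ (2 : ℤ)) = 1 →
        l = 0 ∨ ∃ u ∈ S.U, l = -S.ψ u)
    {a b : G} (ha : a ∈ S.U) (hb : b ∈ S.U) (hab : S.ψ a + S.ψ b = 2) :
    ∃ b' ∈ S.U, (S.ψ a)⁻¹ + S.ψ b' = 2 := by
  apply inv_closed_of_sandwich S ?_ ha ⟨b, hb, hab⟩
  rintro a' ha' ⟨b'', hb'', hab'⟩
  refine ⟨?_, sandwich S hrel hrig ha' hb'' hab'⟩
  have := t_zpow_conj_mem S (-3) (S.U.inv_mem ha')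
  rwa [zpow_neg, inv_inv, ← zpow_neg] at this

end Cfsg.Agent.Helper19.AppC
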