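import Mathlib
import Cfsg.Agent.Lib.Helper19.AppC7
import Cfsg.Agent.Lib.Helper19.AppC8

/-!
# BG Appendix C: (T7)+(T8)+(T9) assembled (helper19)

`inv_closed_of_rigid`: rigidity (T7) ⟹ `E = E⁻¹` (the K-relations are taken from helper25's `AppC3`).
`inv_closed_of_rat`: the rationality statement (T5)+(T6) ⟹ `E = E⁻¹`.
-/

set_option autoImplicit false
set_option linter.unusedVariables false
set_option linter.unusedSectionVars false

namespace Cfsg.Agent.Helper19.AppC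

open Cfsg.Agent.Helper25.AppC

universe u v

variable {G : Type u} [Group G] {F : Type v} [Field F] {p : ℕ}

/-- (T8)+(T9) with rigidity in the shape of `rigid` -/
theorem inv_closed_of_rigid [Finite G] (S : Setup G F p)
    (hrig : ∀ l g m : F, l ≠ 0 →
      S.x l * (S.t⁻¹ * S.x g * S.t) * ((S.t ^ 2)⁻¹ * S.x m * S.t ^ 2) = 1 →
        ∃ u ∈ S.U, l = - S.ψ u)
    {a b : G} (ha : a ∈ S.U) (hb : b ∈ S.U) (hab : S.ψ a + S.ψ b = 2) :
    ∃ b' ∈ S.U, (S.ψ a)⁻¹ + S.ψ b' = 2 := by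
  refine inv_closed_of_rigidity S (fun a b c habc => S.KR habc) (fun l g m h => ?_) ha hb hab
  by_cases hl : l = 0
  · exact Or.inl hl
  · refine Or.inr (hrig l g m hl ?_)
    rw [zpow_neg, zpow_ofNat] at h
    exact h

/-- (T7)+(T8)+(T9): the rationality statement (T5)+(T6) implies `E = E⁻¹` -/
theorem inv_closed_of_rat [Finite G] (S : Setup G F p)
    (hrat : ∀ (a b : F) (i : ℤ), ¬ (p : ℤ) ∣ i → S.x a * S.t ^ i * S.x b ∈ S.K →
      (∃ n : ℤ, a = n) ∧ ∃ n : ℤ, b = n)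
    {a b : G} (ha : a ∈ S.U) (hb : b ∈ S.U) (hab : S.ψ a + S.ψ b = 2) :
    ∃ b' ∈ S.U, (S.ψ a)⁻¹ + S.ψ b' = 2 :=
  inv_closed_of_rigid S (fun l g m hl h => rigid S hrat hl h) ha hb hab

end Cfsg.Agent.Helper19.AppC
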