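import Mathlib
import Cfsg.Prelude.Def_Blocks
import Cfsg.Agent.Lib.Helper24.CharOrtho
import Cfsg.Agent.Lib.Helper1.TLDDCHAR
import Cfsg.Agent.Lib.Helper23.B2Defs

/-!
# S4705, PIECE CNT (helper19, for helper23): the order of `G`.
-/

set_option autoImplicit false
set_option linter.unusedSectionVars false
set_option linter.unusedVariables false
set_option linter.style.haveILetI false

namespace Cfsg.Agent.Helper23.B2

open scoped ComplexConjugate
open Cfsg Cfsg.Agent.Helper24 Cfsg.Agent.Helper16.ITO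

universe u

variable {G : Type u} [Group G] [Fintype G]

namespace CNT

/-- a central element acts as a scalar of norm one. -/
theorem central_scalar (χ : IrrCharacter G) {z : G} (hz : z ∈ Subgroup.center G) :
    ∃ c : ℂ, ‖c‖ = 1 ∧ ∀ g : G, (χ : G → ℂ) (z * g) = c * (χ : G → ℂ) g := by
  obtain ⟨lam, hlam⟩ := Cfsg.Agent.Helper5.TLD.dchar_exists_central_hom (Subgroup.center G)
    (fun z hz h => (Subgroup.mem_center_iff.1 hz h).symm) χ
  refine ⟨((lam ⟨z, hz⟩ : ℂˣ) : ℂ), ?_, fun g => hlam ⟨z, hz⟩ g⟩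
  have h1 : (lam ⟨z, hz⟩) ^ (Nat.card (Subgroup.center G)) = 1 := by
    rw [← map_pow, pow_card_eq_one', map_one]
  have h2 : ((lam ⟨z, hz⟩ : ℂˣ) : ℂ) ^ (Nat.card (Subgroup.center G)) = 1 := by
    have := congrArg (fun u : ℂˣ => (u : ℂ)) h1
    simpa using this
  exact Complex.norm_eq_one_of_pow_eq_one h2 Nat.card_pos.ne'

variable {p : ℕ} [Fact p.Prime] {P : Sylow p G} {ζ : IrrCharacter G}

/-- central elements are `p`-regular (else `P` would be central, hence normal). -/
theorem center_not_dvd (h : Core p P ζ) {z : G} (hz : z ∈ Subgroup.center G) :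
    ¬ p ∣ orderOf z := by
  intro hd
  have hpp : p.Prime := Fact.out
  have ho : orderOf z ≠ 0 := (orderOf_pos z).ne'
  set a := z ^ (orderOf z / p) with ha
  have hoa : orderOf a = p := orderOf_pow_orderOf_div ho hd
  have haZ : a ∈ Subgroup.center G := Subgroup.pow_mem _ hz _
  have hcard : Nat.card (Subgroup.zpowers a) = p := by rw [Nat.card_zpowers, hoa]
  have hpg : IsPGroup p (Subgroup.zpowers a) := IsPGroup.of_card (n := 1) (by rw [hcard, pow_one])
  obtain ⟨Q, hQ⟩ := hpg.exists_le_sylow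
  have hQcard : Nat.card (Q : Subgroup G) = p := by
    rw [Sylow.card_eq_multiplicity, ← Sylow.card_eq_multiplicity P, h.cardP]
  have hQeq : Subgroup.zpowers a = (Q : Subgroup G) :=
    Subgroup.eq_of_le_of_card_ge hQ (by rw [hQcard, hcard])
  have hQn : (Q : Subgroup G).Normal := by
    rw [← hQeq]
    constructor
    intro x hx g
    obtain ⟨k, rfl⟩ := hx
    have hk : a ^ k ∈ Subgroup.center G := Subgroup.zpow_mem _ haZ k
    have : g * a ^ k * g⁻¹ = a ^ k := by
      rw [Subgroup.mem_center_iff.1 hk g]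
      group
    rw [this]
    exact ⟨k, rfl⟩
  haveI := Sylow.unique_of_normal Q hQn
  have hPQ : P = Q := Subsingleton.elim _ _
  exact h.nn (hPQ ▸ hQn)

/-- the values at a central element. -/
theorem central_values (h : Core p P ζ) {z : G} (hz : z ∈ Subgroup.center G) :
    ∃ c : ℂ, c * conj c = 1 ∧ (ζ : G → ℂ) z = c * ((p : ℂ) - 2) ∧
      (ζ : G → ℂ) (z * z) = c * c * ((p : ℂ) - 2) := by
  obtain ⟨c, hc, hmul⟩ := central_scalar ζ hz
  refine ⟨c, ?_, ?_, ?_⟩
  · rw [Complex.mul_conj', hc]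
    simp
  · have := hmul 1
    rw [mul_one, h.deg] at this
    exact this
  · have h1 := hmul z
    have h2 := hmul 1
    rw [mul_one, h.deg] at h2
    rw [h1, h2]
    ring

end CNT

variable {p : ℕ} [Fact p.Prime] {P : Sylow p G} {ζ : IrrCharacter G}

/-- PIECE CNT (§6): the order of `G`. -/
theorem card_eq (h : Core p P ζ)
    (horth : classInner (sym2 (ζ : G → ℂ)) (lam2 (ζ : G → ℂ)) = 0)
    (hsum : ∀ g : G, ¬ p ∣ orderOf g → g ∈ Subgroup.center G ∨
      (‖(ζ : G → ℂ) g‖ = 1 ∧ (ζ : G → ℂ) (g * g) = ((p : ℂ) - 2) * (ζ : G → ℂ) g ^ 2) ∨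
      ((ζ : G → ℂ) g = 0 ∧ (ζ : G → ℂ) (g * g) = 0))
    (hsing : (∑ g : G, if p ∣ orderOf g then (‖(ζ : G → ℂ) g‖ ^ 2 : ℂ) else 0) =
        (Nat.card G : ℂ) * ((p : ℂ) - 2) / p ∧
      (∑ g : G, if p ∣ orderOf g then sym2 (ζ : G → ℂ) g * conj (lam2 (ζ : G → ℂ) g) else 0) =
        (Nat.card G : ℂ) * ((p : ℂ) - 3) / (2 * p)) :
    Nat.card G = p * (p - 1) * (p - 2) * Nat.card (Subgroup.center G) := by
  classical
  have hpp : p.Prime := Fact.out
  have hp5 : 5 < p := h.hp
  obtain ⟨hs1, hs2⟩ := hsing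
  set x : ℂ := (p : ℂ) with hx
  set N : ℂ := (Nat.card G : ℂ) with hN
  set zc : ℂ := (Nat.card (Subgroup.center G) : ℂ) with hzc
  have hx0 : x ≠ 0 := by
    rw [hx]; exact_mod_cast hpp.ne_zero
  have hx2 : x - 2 ≠ 0 := by
    rw [hx, sub_ne_zero]
    intro h2
    have : p = 2 := by exact_mod_cast h2
    omega
  have hx3 : x - 3 ≠ 0 := by
    rw [hx, sub_ne_zero]
    intro h3
    have : p = 3 := by exact_mod_cast h3
    omega
  have hN0 : N ≠ 0 := by
    rw [hN]; exact_mod_cast (Nat.card_pos (α := G)).ne'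
  -- the sums
  set S1 : ℂ := ∑ g : G, if p ∣ orderOf g then (‖(ζ : G → ℂ) g‖ ^ 2 : ℂ) else 0 with hS1
  set S2 : ℂ := ∑ g : G, if p ∣ orderOf g then
    sym2 (ζ : G → ℂ) g * conj (lam2 (ζ : G → ℂ) g) else 0 with hS2
  set R1 : ℂ := ∑ g : G, if p ∣ orderOf g then 0 else (‖(ζ : G → ℂ) g‖ ^ 2 : ℂ) with hR1
  set R2 : ℂ := ∑ g : G, if p ∣ orderOf g then 0 else
    sym2 (ζ : G → ℂ) g * conj (lam2 (ζ : G → ℂ) g) with hR2
  -- e1 : orthogonality of `ζ` with itself
  have e1 : S1 + R1 = N := by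
    have h1 : classInner (ζ : G → ℂ) (ζ : G → ℂ) = 1 := by
      rw [irr_orthogonality ζ.2 ζ.2, if_pos rfl]
    unfold classInner at h1
    have h2 : ∑ g : G, (ζ : G → ℂ) g * conj ((ζ : G → ℂ) g) = N := by
      have h3 : N * ((Nat.card G : ℂ)⁻¹ * ∑ g : G, (ζ : G → ℂ) g * conj ((ζ : G → ℂ) g)) = N * 1 :=
        congrArg (fun t => N * t) h1
      rw [← mul_assoc, mul_inv_cancel₀ hN0, one_mul, mul_one] at h3
      exact h3
    rw [← h2, hS1, hR1, ← Finset.sum_add_distrib]
    refine Finset.sum_congr rfl fun g _ => ?_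
    rw [Complex.mul_conj']
    by_cases hg : p ∣ orderOf g <;> simp [hg]
  -- e2 : orthogonality of `sym2` and `lam2`
  have e2 : S2 + R2 = 0 := by
    unfold classInner at horth
    have h2 : ∑ g : G, sym2 (ζ : G → ℂ) g * conj (lam2 (ζ : G → ℂ) g) = 0 := by
      rcases mul_eq_zero.1 horth with h0 | h0
      · exact absurd (inv_eq_zero.1 h0) hN0
      · exact h0
    rw [← h2, hS2, hR2, ← Finset.sum_add_distrib]
    refine Finset.sum_congr rfl fun g _ => ?_
    by_cases hg : p ∣ orderOf g <;> simp [hg]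
  -- e4, e5 : the singular sums
  have e4 : S1 * x = N * (x - 2) := by
    rw [hs1]; field_simp
  have e5 : S2 * (2 * x) = N * (x - 3) := by
    rw [hs2]; field_simp
  -- the number of central elements
  have hcount : ∑ g : G, (if g ∈ Subgroup.center G then (1 : ℂ) else 0) = zc := by
    rw [Finset.sum_boole, hzc, Nat.card_eq_fintype_card, Fintype.card_subtype]
  -- e3 : the pointwise identity on `p`-regular elements
  have e3 : 4 * R2 = (x - 1) * (x - 3) * (2 * (x - 2) ^ 2 * zc - R1) := by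
    rw [← hcount, hR1, hR2, Finset.mul_sum, Finset.mul_sum, ← Finset.sum_sub_distrib,
      Finset.mul_sum]
    refine Finset.sum_congr rfl fun g _ => ?_
    by_cases hg : p ∣ orderOf g
    · have hgZ : g ∉ Subgroup.center G := fun hZ => CNT.center_not_dvd h hZ hg
      simp [hg, hgZ]
    · rw [if_neg hg, if_neg hg]
      have hnorm : ((‖(ζ : G → ℂ) g‖ : ℂ)) ^ 2 = (ζ : G → ℂ) g * conj ((ζ : G → ℂ) g) := by
        rw [Complex.mul_conj']
      have hconjx : conj x = x := by rw [hx]; exact Complex.conj_natCast p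
      by_cases hgZ : g ∈ Subgroup.center G
      · rw [if_pos hgZ]
        obtain ⟨c, hc, hv1, hv2⟩ := CNT.central_values h hgZ
        rw [← hx] at hv1 hv2
        rw [hnorm]
        simp only [sym2, lam2]
        rw [hv1, hv2]
        simp only [map_div₀, map_sub, map_mul, map_pow, map_ofNat, hconjx]
        linear_combination ((x - 2) ^ 2 * ((x - 2) ^ 2 - 1) * (c * conj c + 2)) * hc
      · rw [if_neg hgZ]
        rcases hsum g hg with hZ | ⟨hn1, hv⟩ | ⟨hu, hv⟩
        · exact absurd hZ hgZ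
        · have huu : (ζ : G → ℂ) g * conj ((ζ : G → ℂ) g) = 1 := by
            rw [Complex.mul_conj', hn1]; simp
          rw [hnorm, huu]
          simp only [sym2, lam2]
          rw [hv]
          simp only [map_div₀, map_sub, map_mul, map_pow, map_ofNat, hconjx]
          linear_combination (-(x - 1) * (x - 3) *
            ((ζ : G → ℂ) g * conj ((ζ : G → ℂ) g) + 1)) * huu
        · simp only [sym2, lam2]
          rw [hu, hv]
          simp
  -- the final algebra
  have key : 2 * (x - 3) * (x - 2) * (N - x * (x - 1) * (x - 2) * zc) = 0 := by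
    linear_combination x * e3 - 4 * x * e2 + 2 * e5 - (x - 1) * (x - 3) * x * e1 +
      (x - 1) * (x - 3) * e4
  have hfin : N = x * (x - 1) * (x - 2) * zc := by
    have h2 : (2 : ℂ) * (x - 3) * (x - 2) ≠ 0 :=
      mul_ne_zero (mul_ne_zero two_ne_zero hx3) hx2
    exact sub_eq_zero.1 ((mul_eq_zero.1 key).resolve_left h2)
  have hp1 : 1 ≤ p := by omega
  have hp2 : 2 ≤ p := by omega
  have hcast : ((Nat.card G : ℕ) : ℂ) =
      ((p * (p - 1) * (p - 2) * Nat.card (Subgroup.center G) : ℕ) : ℂ) := by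
    push_cast [Nat.cast_sub hp1, Nat.cast_sub hp2]
    exact hfin
  exact_mod_cast hcast
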