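import Mathlib
import Cfsg.Agent.Lib.Helper19.BG152A
import Cfsg.Agent.Lib.Helper19.BG16D
import Cfsg.Agent.Lib.Helper7.Signalizer
import Cfsg.Agent.Lib.Helper7.BG121a
import Cfsg.Agent.Lib.Helper7.BG16a
import Cfsg.Agent.Lib.Helper1.PiHall
import Cfsg.Agent.Lib.Lead.BGThmC2

/-!
# The configuration of BG Theorem 15.2 (helper19)

`S` (= `M_σ`) a non-nilpotent solvable group, `K` acting coprimely on it with prime action and
`|C_S(K)| = q` prime, `Q` a normal Sylow `q`-subgroup of `S` and `D` a `K`-invariant complement.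
Then `DK` is a Frobenius group with nilpotent kernel `D`, and helper8's Frobenius–Wielandt
formula gives the whole structure: `|K|` prime, `Q₀ = C_Q(D)` normal, `Q/Q₀` a chief factor of
order `q ^ |K|`, `[D,D]` centralises `Q`, and `Q` is not narrow.
-/

set_option autoImplicit false
set_option linter.unusedSectionVars false
set_option linter.unusedVariables false
set_option linter.style.haveILetI false

namespace Cfsg.Agent.Helper19.BG152

open Cfsg Subgroup
open scoped commutatorElement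

variable {G : Type*} [Group G] [Finite G]

theorem normalizer_le_normalizer_centralizer (H : Subgroup G) :
    normalizer (H : Set G) ≤ normalizer ((centralizer (H : Set G) : Subgroup G) : Set G) := by
  apply Cfsg.Agent.Helper1.le_normalizer_of_forall_conj_mem
  intro g hg c hc
  rw [mem_centralizer_iff]
  intro h hh
  have h1 : g⁻¹ * h * g⁻¹⁻¹ ∈ H := (mem_normalizer_iff.mp (inv_mem hg) h).mp hh
  have h2 := mem_centralizer_iff.mp hc _ h1
  have e1 : h * (g * c * g⁻¹) = g * ((g⁻¹ * h * g⁻¹⁻¹) * c) * g⁻¹ := by group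
  have e2 : g * c * g⁻¹ * h = g * (c * (g⁻¹ * h * g⁻¹⁻¹)) * g⁻¹ := by group
  rw [e1, e2, h2]

/-- the configuration of BG Theorem 15.2 -/
structure Ctx (S K Q D : Subgroup G) (q : ℕ) : Prop where
  hq : q.Prime
  hodd : Odd (Nat.card G)
  hK1 : K ≠ ⊥
  hKS : K ≤ normalizer (S : Set G)
  hcop : (Nat.card K).Coprime (Nat.card S)
  hSsolv : Group.IsSolvable S
  hKsolv : Group.IsSolvable K
  hpr : ∀ k ∈ K, k ≠ 1 → S ⊓ centralizer ({k} : Set G) = S ⊓ centralizer (K : Set G)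
  hKs : Nat.card ↥(S ⊓ centralizer (K : Set G)) = q
  hSQ : S ≤ normalizer (Q : Set G)
  hKQ : K ≤ normalizer (Q : Set G)
  hQq : IsPGroup q Q
  hQi : ¬ q ∣ Q.relIndex S
  hcompl : IsComplIn Q D S
  hKD : K ≤ normalizer (D : Set G)
  hnn : ¬ Group.IsNilpotent S

namespace Ctx

variable {S K Q D : Subgroup G} {q : ℕ} (c : Ctx S K Q D q)
include c

theorem QS : Q ≤ S := c.hcompl.1

theorem DS : D ≤ S := c.hcompl.2.1

theorem card_S : Nat.card S = Nat.card Q * Nat.card D :=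
  Cfsg.Agent.Helper7.IsComplIn.card_eq c.hcompl

theorem relIndex_eq : Q.relIndex S = Nat.card D := by
  have h1 := Cfsg.Agent.Lead.BGThmC2.card_eq_mul_relIndex c.QS
  rw [c.card_S] at h1
  exact (Nat.eq_of_mul_eq_mul_left Nat.card_pos h1).symm

theorem q_not_dvd_D : ¬ q ∣ Nat.card D := by
  rw [← c.relIndex_eq]; exact c.hQi

theorem q_dvd_S : q ∣ Nat.card S := by
  rw [← c.hKs]; exact Subgroup.card_dvd_of_le inf_le_left

theorem q_not_dvd_K : ¬ q ∣ Nat.card K := by
  intro h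
  have := Nat.eq_one_of_dvd_coprimes c.hcop h c.q_dvd_S
  exact c.hq.one_lt.ne' this

theorem q_ne_two : q ≠ 2 := by
  rintro rfl
  have h1 : 2 ∣ Nat.card G := c.q_dvd_S.trans (Subgroup.card_subgroup_dvd_card S)
  exact (Nat.not_even_iff_odd.mpr c.hodd) (even_iff_two_dvd.mpr h1)

theorem Ks_le_Q : S ⊓ centralizer (K : Set G) ≤ Q := by
  have hH : IsPiHallOf {p | p = q} Q S := by
    refine ⟨c.QS, ?_, ?_⟩
    · intro p hp hpd
      haveI : Fact q.Prime := ⟨c.hq⟩
      obtain ⟨n, hn⟩ := (IsPGroup.iff_card).mp c.hQq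
      rw [hn] at hpd
      exact (Nat.prime_dvd_prime_iff_eq hp c.hq).mp (hp.dvd_of_dvd_pow hpd)
    · rintro p hp rfl
      exact c.hQi
  apply Cfsg.Agent.Helper1.PiHall.le_of_isPiHallOf_of_le_normalizer hH c.hSQ inf_le_left
  intro p hp hpd
  rw [c.hKs] at hpd
  exact (Nat.prime_dvd_prime_iff_eq hp c.hq).mp hpd

theorem Ks_ne_bot : S ⊓ centralizer (K : Set G) ≠ ⊥ := by
  intro h
  have := c.hKs
  rw [h, Subgroup.card_bot] at this
  exact c.hq.one_lt.ne this

theorem Q_inf_centralizer_K : Q ⊓ centralizer (K : Set G) = S ⊓ centralizer (K : Set G) :=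
  le_antisymm (inf_le_inf_right _ c.QS) (le_inf c.Ks_le_Q inf_le_right)

theorem hUn : ∀ e ∈ K, ∀ u ∈ D, e * u * e⁻¹ ∈ D := fun e he u hu =>
  (mem_normalizer_iff.mp (c.hKD he) u).mp hu

theorem hfpf : ∀ e ∈ K, e ≠ 1 → ∀ u ∈ D, e * u = u * e → u = 1 := by
  intro e he he1 u hu heu
  have h1 : u ∈ S ⊓ centralizer ({e} : Set G) := by
    refine ⟨c.DS hu, ?_⟩
    show u ∈ centralizer ({e} : Set G)
    rw [mem_centralizer_iff]
    intro y hy
    rw [Set.mem_singleton_iff] at hy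
    rw [hy]; exact heu
  rw [c.hpr e he he1] at h1
  have h2 : u ∈ Q ⊓ D := ⟨c.Ks_le_Q h1, hu⟩
  rw [c.hcompl.2.2.1, mem_bot] at h2
  exact h2

theorem coprime_K_D : (Nat.card K).Coprime (Nat.card D) :=
  Nat.Coprime.coprime_dvd_right (Subgroup.card_dvd_of_le c.DS) c.hcop

theorem D_inf_K : D ⊓ K = ⊥ :=
  (Subgroup.disjoint_of_coprime_natCard c.coprime_K_D.symm).eq_bot

theorem D_nil : Group.IsNilpotent ↥D :=
  Cfsg.Agent.Helper8.SecRep.kernel_nilpotent D K c.hK1 c.D_inf_K c.hUn c.hfpf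

theorem Q_nil : Group.IsNilpotent ↥Q := by
  haveI : Fact q.Prime := ⟨c.hq⟩
  exact c.hQq.isNilpotent

theorem not_D_le : ¬ D ≤ centralizer (Q : Set G) := fun h =>
  c.hnn (isNilpotent_of_isComplIn_of_le_centralizer c.hcompl c.Q_nil c.D_nil h)

theorem D_le_normalizer_Q : D ≤ normalizer (Q : Set G) := c.DS.trans c.hSQ

theorem DK_le_normalizer_Q : D ⊔ K ≤ normalizer (Q : Set G) := sup_le c.D_le_normalizer_Q c.hKQ

theorem card_DK_dvd : Nat.card ↥(D ⊔ K) ∣ Nat.card D * Nat.card K :=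
  Cfsg.Agent.Helper7.card_sup_dvd_mul_of_le_normalizer c.hKD

theorem q_not_dvd_DK : ¬ q ∣ Nat.card ↥(D ⊔ K) := by
  intro h
  rcases (Nat.Prime.dvd_mul c.hq).mp (h.trans c.card_DK_dvd) with h | h
  · exact c.q_not_dvd_D h
  · exact c.q_not_dvd_K h

theorem coprime_L {L : Subgroup G} (hLQ : L ≤ Q) :
    (Nat.card ↥L).Coprime (Nat.card ↥(D ⊔ K)) := by
  haveI : Fact q.Prime := ⟨c.hq⟩
  obtain ⟨n, hn⟩ := (IsPGroup.iff_card).mp (c.hQq.to_le hLQ)
  rw [hn]
  apply Nat.Coprime.pow_left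
  exact (Nat.Prime.coprime_iff_not_dvd c.hq).mpr c.q_not_dvd_DK

theorem inf_centralizer_K {L : Subgroup G} (hLS : L ≤ S) :
    L ⊓ centralizer (K : Set G) = L ⊓ (S ⊓ centralizer (K : Set G)) := by
  rw [← inf_assoc, inf_eq_left.mpr hLS]

theorem prime_action_L {L : Subgroup G} (hLS : L ≤ S) :
    ∀ e ∈ K, e ≠ 1 → L ⊓ centralizer ({e} : Set G) = L ⊓ centralizer (K : Set G) := by
  intro e he he1
  rw [c.inf_centralizer_K hLS, ← c.hpr e he he1, ← inf_assoc, inf_eq_left.mpr hLS]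

theorem solvable_L {L : Subgroup G} (hLQ : L ≤ Q) : Group.IsSolvable ↥L := by
  haveI := c.hSsolv
  exact Group.isSolvable_of_isSolvable_injective (Subgroup.inclusion_injective (hLQ.trans c.QS))

/-- the Frobenius–Wielandt formula for a `DK`-invariant subgroup of `Q` -/
theorem fw {L : Subgroup G} (hLQ : L ≤ Q) (hLn : D ⊔ K ≤ normalizer (L : Set G)) :
    Nat.card ↥(L ⊓ centralizer ((D ⊔ K : Subgroup G) : Set G)) ^ Nat.card ↥K * Nat.card ↥L =
      Nat.card ↥(L ⊓ centralizer (K : Set G)) ^ Nat.card ↥K *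
        Nat.card ↥(L ⊓ centralizer (D : Set G)) :=
  Cfsg.Agent.Helper8.SecRep.fw_group D K c.hUn c.hfpf c.D_nil _ L rfl (c.solvable_L hLQ) hLn
    (c.coprime_L hLQ)

theorem Ks_inf_Q0 :
    (S ⊓ centralizer (K : Set G)) ⊓ (Q ⊓ centralizer (D : Set G)) = ⊥ := by
  rcases le_or_inf_eq_bot_of_prime_card (A := S ⊓ centralizer (K : Set G))
    (L := Q ⊓ centralizer (D : Set G)) (by rw [c.hKs]; exact c.hq) with h | h
  · exfalso
    apply c.not_D_le
    -- `Q ⊓ C(D ⊔ K) = K*`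
    have h1 : Q ⊓ centralizer ((D ⊔ K : Subgroup G) : Set G) = S ⊓ centralizer (K : Set G) := by
      rw [centralizer_sup', ← inf_assoc]
      apply le_antisymm
      · rw [← c.Q_inf_centralizer_K]
        exact inf_le_inf_right _ inf_le_left
      · exact le_inf h inf_le_right
    have h2 := c.fw le_rfl c.DK_le_normalizer_Q
    rw [h1, c.Q_inf_centralizer_K] at h2
    have hpos : 0 < Nat.card ↥(S ⊓ centralizer (K : Set G)) ^ Nat.card ↥K :=
      pow_pos Nat.card_pos _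
    have h3 : Nat.card ↥Q = Nat.card ↥(Q ⊓ centralizer (D : Set G)) :=
      Nat.eq_of_mul_eq_mul_left hpos h2
    have h4 : Q ⊓ centralizer (D : Set G) = Q :=
      Subgroup.eq_of_le_of_card_ge inf_le_left h3.le
    have h5 : Q ≤ centralizer (D : Set G) := h4 ▸ inf_le_right
    exact Subgroup.le_centralizer_iff.mp h5
  · exact h

theorem centralizer_DK_eq_bot {L : Subgroup G} (hLQ : L ≤ Q) :
    L ⊓ centralizer ((D ⊔ K : Subgroup G) : Set G) = ⊥ := by
  rw [eq_bot_iff, ← c.Ks_inf_Q0, centralizer_sup']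
  intro x hx
  obtain ⟨hxL, hxD, hxK⟩ := hx
  exact ⟨⟨c.QS (hLQ hxL), hxK⟩, ⟨hLQ hxL, hxD⟩⟩

/-- `|K|` is prime -/
theorem card_K_prime : (Nat.card K).Prime := by
  rcases card_prime_or_centralizer_eq D K Q c.hK1 c.hUn c.hfpf c.D_nil (c.solvable_L le_rfl)
    c.DK_le_normalizer_Q (c.coprime_L le_rfl) (c.prime_action_L c.QS) with h | h
  · exact h
  · exfalso
    rw [c.centralizer_DK_eq_bot le_rfl, c.Q_inf_centralizer_K] at h
    exact c.Ks_ne_bot h.symm

/-- **the key dichotomy** for `DK`-invariant subgroups of `Q` -/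
theorem star {L : Subgroup G} (hLQ : L ≤ Q) (hLn : D ⊔ K ≤ normalizer (L : Set G)) :
    L ≤ Q ⊓ centralizer (D : Set G) ∨
      (S ⊓ centralizer (K : Set G) ≤ L ∧
        Nat.card L = q ^ Nat.card K * Nat.card ↥(L ⊓ centralizer (D : Set G))) := by
  have h1 := c.fw hLQ hLn
  rw [c.centralizer_DK_eq_bot hLQ, Subgroup.card_bot, one_pow, one_mul] at h1
  rcases le_or_inf_eq_bot_of_prime_card (A := S ⊓ centralizer (K : Set G)) (L := L)
    (by rw [c.hKs]; exact c.hq) with h | h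
  · right
    refine ⟨h, ?_⟩
    have h2 : L ⊓ centralizer (K : Set G) = S ⊓ centralizer (K : Set G) :=
      le_antisymm (inf_le_inf_right _ (hLQ.trans c.QS)) (le_inf h inf_le_right)
    rw [h2, c.hKs] at h1
    exact h1
  · left
    have h2 : L ⊓ centralizer (K : Set G) = ⊥ := by
      rw [c.inf_centralizer_K (hLQ.trans c.QS), inf_comm, h]
    rw [h2, Subgroup.card_bot, one_pow, one_mul] at h1
    have h3 : L ⊓ centralizer (D : Set G) = L := Subgroup.eq_of_le_of_card_ge inf_le_left h1.le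
    exact le_inf hLQ (h3 ▸ inf_le_right)

theorem Q0_lt : Q ⊓ centralizer (D : Set G) < Q := by
  refine lt_of_le_of_ne inf_le_left ?_
  intro h
  apply c.not_D_le
  have h5 : Q ≤ centralizer (D : Set G) := h ▸ inf_le_right
  exact Subgroup.le_centralizer_iff.mp h5

theorem card_Q : Nat.card Q = Nat.card ↥(Q ⊓ centralizer (D : Set G)) * q ^ Nat.card K := by
  rcases c.star le_rfl c.DK_le_normalizer_Q with h | ⟨-, h⟩
  · exact absurd h c.Q0_lt.not_ge
  · rw [h, mul_comm]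

theorem DK_le_normalizer_Q0 :
    D ⊔ K ≤ normalizer ((Q ⊓ centralizer (D : Set G) : Subgroup G) : Set G) := by
  have h1 : D ⊔ K ≤ normalizer ((centralizer (D : Set G) : Subgroup G) : Set G) :=
    (sup_le Subgroup.le_normalizer c.hKD).trans (normalizer_le_normalizer_centralizer D)
  exact (le_inf c.DK_le_normalizer_Q h1).trans Subgroup.inf_normalizer_le_normalizer_inf

/-- a `DK`-invariant subgroup of `Q` containing `Q₀` and of the same order as ... is `Q` -/
theorem eq_of_star {L : Subgroup G} (hLQ : L ≤ Q) (hQ0L : Q ⊓ centralizer (D : Set G) ≤ L)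
    (h : Nat.card L = q ^ Nat.card K * Nat.card ↥(L ⊓ centralizer (D : Set G))) : L = Q := by
  have h1 : L ⊓ centralizer (D : Set G) = Q ⊓ centralizer (D : Set G) :=
    le_antisymm (inf_le_inf_right _ hLQ) (le_inf hQ0L inf_le_right)
  rw [h1, mul_comm, ← c.card_Q] at h
  exact Subgroup.eq_of_le_of_card_ge hLQ h.ge

theorem Q_le_normalizer_Q0 :
    Q ≤ normalizer ((Q ⊓ centralizer (D : Set G) : Subgroup G) : Set G) := by
  set Q0 := Q ⊓ centralizer (D : Set G) with hQ0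
  set L := Q ⊓ normalizer (Q0 : Set G) with hL
  have hLn : D ⊔ K ≤ normalizer (L : Set G) :=
    (le_inf c.DK_le_normalizer_Q (c.DK_le_normalizer_Q0.trans Subgroup.le_normalizer)).trans
      Subgroup.inf_normalizer_le_normalizer_inf
  rcases c.star (inf_le_left : L ≤ Q) hLn with h | ⟨-, h⟩
  · exact absurd h (inf_normalizer_not_le c.Q_nil c.Q0_lt)
  · have hQ0L : Q0 ≤ L := le_inf inf_le_left Subgroup.le_normalizer
    have h1 := c.eq_of_star inf_le_left hQ0L h
    rw [← h1]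
    exact inf_le_right

theorem S_le_normalizer_Q0 :
    S ≤ normalizer ((Q ⊓ centralizer (D : Set G) : Subgroup G) : Set G) := by
  intro s hs
  obtain ⟨a, ha, d, hd, rfl⟩ := c.hcompl.2.2.2 s hs
  exact Subgroup.mul_mem _ (c.Q_le_normalizer_Q0 ha)
    (c.DK_le_normalizer_Q0 (Subgroup.mem_sup_left hd))

theorem K_le_normalizer_Q0 :
    K ≤ normalizer ((Q ⊓ centralizer (D : Set G) : Subgroup G) : Set G) :=
  le_sup_right.trans c.DK_le_normalizer_Q0

theorem frattiniOf_le_Q0 : frattiniOf Q ≤ Q ⊓ centralizer (D : Set G) := by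
  set Q0 := Q ⊓ centralizer (D : Set G) with hQ0
  have hLn : D ⊔ K ≤ normalizer ((Q0 ⊔ frattiniOf Q : Subgroup G) : Set G) :=
    Cfsg.Agent.Helper7.BG16.le_normalizer_sup c.DK_le_normalizer_Q0
      (c.DK_le_normalizer_Q.trans (normalizer_le_normalizer_frattiniOf Q))
  have hLQ : Q0 ⊔ frattiniOf Q ≤ Q := sup_le inf_le_left (frattiniOf_le Q)
  rcases c.star hLQ hLn with h | ⟨-, h⟩
  · exact le_sup_right.trans h
  · exact absurd (c.eq_of_star hLQ le_sup_left h) (sup_frattiniOf_ne c.Q0_lt)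

theorem pow_mem_Q0 {a : G} (ha : a ∈ Q) : a ^ q ∈ Q ⊓ centralizer (D : Set G) := by
  haveI : Fact q.Prime := ⟨c.hq⟩
  exact c.frattiniOf_le_Q0 (pow_mem_frattiniOf c.hQq ha)

theorem commutator_mem_Q0 {a b : G} (ha : a ∈ Q) (hb : b ∈ Q) :
    a * b * a⁻¹ * b⁻¹ ∈ Q ⊓ centralizer (D : Set G) := by
  haveI : Fact q.Prime := ⟨c.hq⟩
  exact c.frattiniOf_le_Q0 (commutator_mem_frattiniOf c.hQq ha hb)

theorem minimal {N : Subgroup G} (h1 : Q ⊓ centralizer (D : Set G) < N) (h2 : N < Q) :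
    ¬ D ⊔ K ≤ normalizer (N : Set G) := by
  intro hn
  rcases c.star h2.le hn with h | ⟨-, h⟩
  · exact absurd h h1.not_ge
  · exact h2.ne (c.eq_of_star h2.le h1.le h)

theorem isCyclic_Ks : IsCyclic ↥(S ⊓ centralizer (K : Set G)) := by
  haveI : Fact q.Prime := ⟨c.hq⟩
  exact isCyclic_of_prime_card c.hKs

/-- `[D, D]` centralises `Q` -/
theorem commutator_D_le : ⁅D, D⁆ ≤ centralizer (Q : Set G) := by
  have hcyc : IsCyclic ↥(Q ⊓ centralizer (K : Set G)) := by
    rw [c.Q_inf_centralizer_K]; exact c.isCyclic_Ks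
  rw [Subgroup.commutator_le]
  intro a ha b hb
  rw [commutatorElement_def, mem_centralizer_iff]
  intro x hx
  exact (Cfsg.Agent.Helper8.SecRep.comm_centralizes D K c.hUn c.hfpf c.D_nil _ Q rfl
    (c.solvable_L le_rfl) c.DK_le_normalizer_Q (c.coprime_L le_rfl) hcyc a ha b hb x hx).symm

theorem D_inf_centralizer_K : D ⊓ centralizer (K : Set G) = ⊥ := by
  rw [eq_bot_iff, ← c.hcompl.2.2.1]
  intro x hx
  exact ⟨c.Ks_le_Q ⟨c.DS hx.1, hx.2⟩, hx.1⟩

theorem D_solvable : Group.IsSolvable ↥D := by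
  haveI := c.hSsolv
  exact Group.isSolvable_of_isSolvable_injective (Subgroup.inclusion_injective c.DS)

/-- `Q` is not narrow (in particular it has `q`-rank at least three) -/
theorem not_isNarrow : ¬ Cfsg.IsNarrow q ↥Q := by
  intro hnar
  haveI : Fact q.Prime := ⟨c.hq⟩
  apply c.not_D_le
  have hodd : Odd (Nat.card ↥(D ⊔ K)) :=
    Odd.of_dvd_nat c.hodd (Subgroup.card_subgroup_dvd_card _)
  have hsolv : Group.IsSolvable ↥(D ⊔ K) :=
    Cfsg.Agent.Helper7.isSolvable_sup_of_le_normalizer c.hKD c.D_solvable c.hKsolv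
  have hcop : (Nat.card ↥(D ⊔ K)).Coprime q :=
    ((Nat.Prime.coprime_iff_not_dvd c.hq).mpr c.q_not_dvd_DK).symm
  have h1 := commutator_le_centralizer_of_narrow q c.q_ne_two Q (D ⊔ K) c.hQq hnar
    c.DK_le_normalizer_Q hodd hsolv hcop
  have h2 : D ≤ ⁅D, K⁆ :=
    Cfsg.Agent.Helper19.BG16.le_commutator_of_fpf c.hKD c.coprime_K_D (Or.inl c.hKsolv)
      c.D_inf_centralizer_K
  exact (h2.trans (Subgroup.commutator_mono le_sup_left le_sup_right)).trans h1

end Ctx

end Cfsg.Agent.Helper19.BG152
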