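import Mathlib
import Cfsg.Agent.Lib.Helper19.BG152B
import Cfsg.Agent.Lib.Helper8.FitPrime3
import Cfsg.Agent.Lib.Helper7.Bender
import Cfsg.Agent.S1445

/-!
# Existence of the configuration of BG Theorem 15.2 (helper19)

`S` non-nilpotent solvable, `K` acting coprimely with prime action, `|C_S(K)| = q` prime and
`[S, K] = S`.  Then (S1445) `C_S(K) ≤ F(S)`, hence `C_S(K) ≤ O_q(S)`; an element of prime order
of `K` acts fixed-point-freely on `S / O_q(S)`, which is therefore nilpotent, `S` has a normal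
Sylow `q`-subgroup `Q`, and Schur–Zassenhaus gives a `K`-invariant complement `D`.
-/

set_option autoImplicit false
set_option linter.unusedSectionVars false
set_option linter.unusedVariables false
set_option linter.style.haveILetI false

namespace Cfsg.Agent.Helper19.BG152

open Cfsg Subgroup
open scoped commutatorElement

universe u

variable {G : Type u} [Group G] [Finite G]

/-- `C_S(K) ≤ O_q(S)`-like normal `q`-subgroup. -/
theorem exists_core {S K : Subgroup G} {q : ℕ} (hq : q.Prime) (hodd : Odd (Nat.card G))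
    (hKS : K ≤ normalizer (S : Set G)) (hcop : (Nat.card K).Coprime (Nat.card S))
    (hSsolv : Group.IsSolvable S) (hKsolv : Group.IsSolvable K)
    (hpr : ∀ k ∈ K, k ≠ 1 → S ⊓ centralizer ({k} : Set G) = S ⊓ centralizer (K : Set G))
    (hKs : Nat.card ↥(S ⊓ centralizer (K : Set G)) = q)
    (hcomm : S ≤ ⁅S, K⁆) (hnn : ¬ Group.IsNilpotent S) :
    ∃ N₀ : Subgroup G, N₀ ≤ S ∧ IsPGroup q N₀ ∧ S ⊔ K ≤ normalizer (N₀ : Set G) ∧
      S ⊓ centralizer (K : Set G) ≤ N₀ := by
  haveI : Fact q.Prime := ⟨hq⟩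
  obtain ⟨Γ, hΓdef⟩ : ∃ Γ : Subgroup G, Γ = S ⊔ K := ⟨_, rfl⟩
  have hSΓ : S ≤ Γ := hΓdef ▸ le_sup_left
  have hKΓ : K ≤ Γ := hΓdef ▸ le_sup_right
  haveI hnorm : (S.subgroupOf Γ).Normal := by
    rw [hΓdef]
    exact Cfsg.Agent.Helper7.normal_subgroupOf_sup hKS
  haveI hsolvΓ : Group.IsSolvable Γ := by
    rw [hΓdef]
    exact Cfsg.Agent.Helper7.isSolvable_sup_of_le_normalizer hKS hSsolv hKsolv
  have hoddΓ : Odd (Nat.card Γ) := Odd.of_dvd_nat hodd (Subgroup.card_subgroup_dvd_card Γ)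
  have hsup : S.subgroupOf Γ ⊔ K.subgroupOf Γ = ⊤ := by
    rw [← subgroupOf_sup hSΓ hKΓ, ← hΓdef, subgroupOf_self]
  have hcS : Nat.card (S.subgroupOf Γ) = Nat.card S :=
    Nat.card_congr (subgroupOfEquivOfLe hSΓ).toEquiv
  have hcK : Nat.card (K.subgroupOf Γ) = Nat.card K :=
    Nat.card_congr (subgroupOfEquivOfLe hKΓ).toEquiv
  have hcop' : (Nat.card (S.subgroupOf Γ)).Coprime (Nat.card (K.subgroupOf Γ)) := by
    rw [hcS, hcK]
    exact hcop.symm
  -- transfer of centralisers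
  have hcentK : ∀ z : Γ, z ∈ centralizer ((K.subgroupOf Γ : Subgroup Γ) : Set Γ) ↔
      (z : G) ∈ centralizer (K : Set G) := by
    intro z
    rw [mem_centralizer_iff, mem_centralizer_iff]
    constructor
    · intro h k hk
      have h2 := h ⟨k, hKΓ hk⟩ (by
        show (⟨k, hKΓ hk⟩ : Γ) ∈ K.subgroupOf Γ
        rw [mem_subgroupOf]; exact hk)
      exact congrArg Subtype.val h2
    · intro h k hk
      apply Subtype.ext
      exact h (k : G) (mem_subgroupOf.mp hk)
  have hcentx : ∀ (x z : Γ), z ∈ centralizer ({x} : Set Γ) ↔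
      (z : G) ∈ centralizer ({(x : G)} : Set G) := by
    intro x z
    rw [mem_centralizer_iff, mem_centralizer_iff]
    constructor
    · intro h k hk
      rw [Set.mem_singleton_iff] at hk
      rw [hk]
      exact congrArg Subtype.val (h x rfl)
    · intro h k hk
      rw [Set.mem_singleton_iff] at hk
      rw [hk]
      apply Subtype.ext
      exact h (x : G) rfl
  have hprime : ∀ x ∈ K.subgroupOf Γ, x ≠ 1 →
      S.subgroupOf Γ ⊓ centralizer ({x} : Set Γ) =
        S.subgroupOf Γ ⊓ centralizer ((K.subgroupOf Γ : Subgroup Γ) : Set Γ) := by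
    intro x hx hx1
    have hxG : (x : G) ≠ 1 := fun h => hx1 (Subtype.ext h)
    have h1 := hpr (x : G) (mem_subgroupOf.mp hx) hxG
    ext z
    rw [mem_inf, mem_inf, hcentK, hcentx, mem_subgroupOf]
    have h2 : (z : G) ∈ S ⊓ centralizer ({(x : G)} : Set G) ↔
        (z : G) ∈ S ⊓ centralizer (K : Set G) := by rw [h1]
    rw [mem_inf, mem_inf] at h2
    exact h2
  -- the fixed points of `K` on `S`, inside `Γ`
  have hfixcard : Nat.card ↥(S.subgroupOf Γ ⊓
      centralizer ((K.subgroupOf Γ : Subgroup Γ) : Set Γ)) = q := by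
    rw [← hKs]
    have hmap : (S.subgroupOf Γ ⊓
        centralizer ((K.subgroupOf Γ : Subgroup Γ) : Set Γ)).map Γ.subtype =
        S ⊓ centralizer (K : Set G) := by
      ext z
      constructor
      · rintro ⟨w, hw, rfl⟩
        rw [SetLike.mem_coe, mem_inf, hcentK, mem_subgroupOf] at hw
        exact hw
      · intro hz
        rw [mem_inf] at hz
        refine ⟨⟨z, hSΓ hz.1⟩, ?_, rfl⟩
        rw [SetLike.mem_coe, mem_inf, hcentK, mem_subgroupOf]
        exact hz
    rw [← hmap, Subgroup.card_map_of_injective Γ.subtype_injective]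
  by_cases hF : fittingOf (S.subgroupOf Γ) ⊓
      centralizer ((K.subgroupOf Γ : Subgroup Γ) : Set Γ) = ⊥
  · exfalso
    have h45 := Cfsg.Agent.S1445.result hoddΓ (S.subgroupOf Γ) (K.subgroupOf Γ) hsup hcop'
      hprime hF
    have hS' : S.subgroupOf Γ ≤ ⁅S.subgroupOf Γ, K.subgroupOf Γ⁆ := by
      intro z hz
      have h1 : (z : G) ∈ ⁅S, K⁆ := hcomm (mem_subgroupOf.mp hz)
      have h2 : (⁅S.subgroupOf Γ, K.subgroupOf Γ⁆).map Γ.subtype = ⁅S, K⁆ := by
        rw [Subgroup.map_commutator, Subgroup.map_subgroupOf_eq_of_le hSΓ,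
          Subgroup.map_subgroupOf_eq_of_le hKΓ]
      rw [← h2] at h1
      obtain ⟨w, hw, hwz⟩ := h1
      have : w = z := Subtype.ext hwz
      rw [← this]; exact hw
    have htop : fittingSubgroup (S.subgroupOf Γ) = ⊤ := by
      rw [eq_top_iff]
      intro z _
      obtain ⟨w, hw, hwz⟩ := h45 (hS' z.2)
      have : w = z := Subtype.ext hwz
      rw [← this]
      exact hw
    have hnil1 : Group.IsNilpotent (fittingSubgroup (S.subgroupOf Γ)) :=
      Cfsg.Agent.Helper7.fittingSubgroup_isNilpotent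
    rw [htop] at hnil1
    have hnil2 : Group.IsNilpotent (S.subgroupOf Γ) :=
      Group.nilpotent_of_mulEquiv (Subgroup.topEquiv : (⊤ : Subgroup (S.subgroupOf Γ)) ≃* _)
    exact hnn (Group.nilpotent_of_mulEquiv (subgroupOfEquivOfLe hSΓ))
  · -- a nontrivial element of `F(S) ∩ C(K)`
    have hex : ∃ x ∈ fittingOf (S.subgroupOf Γ) ⊓
        centralizer ((K.subgroupOf Γ : Subgroup Γ) : Set Γ), x ≠ 1 := by
      by_contra hcon
      push Not at hcon
      apply hF
      rw [eq_bot_iff]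
      intro x hx
      rw [mem_bot]; exact hcon x hx
    obtain ⟨x, hx, hx1⟩ := hex
    have hxfix : x ∈ S.subgroupOf Γ ⊓
        centralizer ((K.subgroupOf Γ : Subgroup Γ) : Set Γ) :=
      ⟨Cfsg.Agent.Helper8.FitPrime.fittingOf_le _ hx.1, hx.2⟩
    -- the fixed point group is generated by `x`
    have hgen : ∀ z ∈ S.subgroupOf Γ ⊓
        centralizer ((K.subgroupOf Γ : Subgroup Γ) : Set Γ), z ∈ zpowers x := by
      intro z hz
      have h1 : zpowers (⟨x, hxfix⟩ : ↥(S.subgroupOf Γ ⊓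
          centralizer ((K.subgroupOf Γ : Subgroup Γ) : Set Γ))) = ⊤ := by
        apply zpowers_eq_top_of_prime_card (p := q) hfixcard
        intro h
        exact hx1 (congrArg Subtype.val h)
      have h2 : (⟨z, hz⟩ : ↥(S.subgroupOf Γ ⊓
          centralizer ((K.subgroupOf Γ : Subgroup Γ) : Set Γ))) ∈
          zpowers (⟨x, hxfix⟩ : ↥(S.subgroupOf Γ ⊓
          centralizer ((K.subgroupOf Γ : Subgroup Γ) : Set Γ))) := by rw [h1]; exact mem_top _
      obtain ⟨n, hn⟩ := mem_zpowers_iff.mp h2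
      refine mem_zpowers_iff.mpr ⟨n, ?_⟩
      have := congrArg Subtype.val hn
      simpa using this
    have hxq : x ^ q = 1 := by
      have h1 : (⟨x, hxfix⟩ : ↥(S.subgroupOf Γ ⊓
          centralizer ((K.subgroupOf Γ : Subgroup Γ) : Set Γ))) ^ q = 1 := by
        rw [← hfixcard]; exact pow_card_eq_one'
      have := congrArg Subtype.val h1
      simpa using this
    -- `x ∈ O_q(S)`
    have hxcore : x ∈ Cfsg.Agent.Helper8.FitPrime.pCoreOf q (S.subgroupOf Γ) := by
      obtain ⟨y, hy, hyx⟩ := hx.1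
      refine ⟨y, ?_, hyx⟩
      apply Cfsg.Agent.Helper7.mem_pCore_of_mem_fittingSubgroup q hy
      refine ⟨1, ?_⟩
      rw [pow_one]
      apply Subtype.ext
      have : ((y ^ q : ↥(S.subgroupOf Γ)) : Γ) = x ^ q := by
        rw [← hyx]; simp
      rw [this, hxq]; rfl
    haveI hcn : (Cfsg.Agent.Helper8.FitPrime.pCoreOf q (S.subgroupOf Γ)).Normal :=
      Cfsg.Agent.Helper8.FitPrime.pCoreOf_normal q _
    refine ⟨(Cfsg.Agent.Helper8.FitPrime.pCoreOf q (S.subgroupOf Γ)).map Γ.subtype, ?_, ?_, ?_, ?_⟩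
    · rintro _ ⟨w, hw, rfl⟩
      exact mem_subgroupOf.mp (Cfsg.Agent.Helper8.FitPrime.pCoreOf_le q _ hw)
    · exact (Cfsg.Agent.Helper8.FitPrime.pCoreOf_isPGroup q _).map _
    · rw [← hΓdef]
      apply Cfsg.Agent.Helper1.le_normalizer_of_forall_conj_mem
      rintro g hg _ ⟨w, hw, rfl⟩
      refine ⟨⟨g, hg⟩ * w * ⟨g, hg⟩⁻¹, hcn.conj_mem w hw ⟨g, hg⟩, ?_⟩
      simp
    · intro z hz
      rw [mem_inf] at hz
      have h1 : (⟨z, hSΓ hz.1⟩ : Γ) ∈ S.subgroupOf Γ ⊓
          centralizer ((K.subgroupOf Γ : Subgroup Γ) : Set Γ) := by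
        rw [mem_inf, hcentK, mem_subgroupOf]
        exact hz
      have h2 := hgen _ h1
      have h3 : zpowers x ≤ Cfsg.Agent.Helper8.FitPrime.pCoreOf q (S.subgroupOf Γ) := by
        rw [zpowers_le]; exact hxcore
      exact ⟨⟨z, hSΓ hz.1⟩, h3 h2, rfl⟩

/-- **Existence of the configuration.** -/
theorem exists_ctx {S K : Subgroup G} {q : ℕ} (hq : q.Prime) (hodd : Odd (Nat.card G))
    (hK1 : K ≠ ⊥)
    (hKS : K ≤ normalizer (S : Set G)) (hcop : (Nat.card K).Coprime (Nat.card S))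
    (hSsolv : Group.IsSolvable S) (hKsolv : Group.IsSolvable K)
    (hpr : ∀ k ∈ K, k ≠ 1 → S ⊓ centralizer ({k} : Set G) = S ⊓ centralizer (K : Set G))
    (hKs : Nat.card ↥(S ⊓ centralizer (K : Set G)) = q)
    (hcomm : S ≤ ⁅S, K⁆) (hnn : ¬ Group.IsNilpotent S) :
    ∃ Q D : Subgroup G, Ctx S K Q D q ∧ normalizer (S : Set G) ≤ normalizer (Q : Set G) := by
  haveI : Fact q.Prime := ⟨hq⟩
  obtain ⟨N₀, hN₀S, hN₀q, hN₀n, hfixN₀⟩ :=
    exists_core hq hodd hKS hcop hSsolv hKsolv hpr hKs hcomm hnn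
  -- an element of prime order of `K`
  have hKcard : Nat.card ↥K ≠ 1 := fun h => hK1 (Subgroup.card_eq_one.mp h)
  obtain ⟨r, hr, hrK⟩ := Nat.exists_prime_and_dvd hKcard
  haveI : Fact r.Prime := ⟨hr⟩
  obtain ⟨x, hx⟩ := exists_prime_orderOf_dvd_card' (G := ↥K) r hrK
  have hx1 : (x : G) ≠ 1 := by
    intro h1
    have : x = 1 := Subtype.ext h1
    rw [this, orderOf_one] at hx
    exact hr.one_lt.ne hx
  have hxr : (x : G) ^ r = 1 := by
    have h1 : x ^ r = 1 := by rw [← hx]; exact pow_orderOf_eq_one x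
    have := congrArg Subtype.val h1
    simpa using this
  haveI : (N₀.subgroupOf S).Normal :=
    (Subgroup.normal_subgroupOf_iff_le_normalizer hN₀S).mpr (le_sup_left.trans hN₀n)
  have hcopr : r.Coprime (Nat.card ↥N₀) :=
    Nat.Coprime.coprime_dvd_left hrK
      (Nat.Coprime.coprime_dvd_right (Subgroup.card_dvd_of_le hN₀S) hcop)
  have hfix : S ⊓ centralizer ({(x : G)} : Set G) ≤ N₀ := by
    rw [hpr (x : G) x.2 hx1]; exact hfixN₀
  have hnil := isNilpotent_quotient_of_fpf_mod S N₀ (x : G) hN₀S (hKS x.2)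
    (hN₀n (le_sup_right (a := S) x.2)) hr hxr hcopr hfix
  obtain ⟨Q, hQS, hQq, hQi, hQn⟩ :=
    exists_normal_sylow_of_nilpotent_quotient S N₀ hN₀S hN₀q hnil
  -- Schur–Zassenhaus in `S ⊔ K`
  obtain ⟨Γ, hΓdef⟩ : ∃ Γ : Subgroup G, Γ = S ⊔ K := ⟨_, rfl⟩
  have hSΓ : S ≤ Γ := hΓdef ▸ le_sup_left
  have hKΓ : K ≤ Γ := hΓdef ▸ le_sup_right
  haveI hsolvΓ : Group.IsSolvable Γ := by
    rw [hΓdef]
    exact Cfsg.Agent.Helper7.isSolvable_sup_of_le_normalizer hKS hSsolv hKsolv
  have hqS : q ∣ Nat.card S := by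
    rw [← hKs]; exact Subgroup.card_dvd_of_le inf_le_left
  have hqK : ¬ q ∣ Nat.card K := by
    intro h
    have := Nat.eq_one_of_dvd_coprimes hcop h hqS
    exact hq.one_lt.ne' this
  have hΓn : Γ ≤ normalizer (Q : Set G) := by
    rw [hΓdef]
    exact sup_le (le_normalizer.trans hQn) (hKS.trans hQn)
  have hrelSΓ : S.relIndex Γ ∣ Nat.card K := by
    have h1 : Nat.card Γ = Nat.card S * S.relIndex Γ :=
      Cfsg.Agent.Lead.BGThmC2.card_eq_mul_relIndex hSΓ
    have h2 : Nat.card Γ ∣ Nat.card S * Nat.card K := by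
      rw [hΓdef]
      exact Cfsg.Agent.Helper7.card_sup_dvd_mul_of_le_normalizer hKS
    rw [h1] at h2
    exact Nat.dvd_of_mul_dvd_mul_left Nat.card_pos h2
  have hHall : IsPiHallOf ({q} : Set ℕ) Q Γ := by
    refine ⟨hQS.trans hSΓ, ?_, ?_⟩
    · intro p hp hpQ
      obtain ⟨n, hn⟩ := IsPGroup.iff_card.mp hQq
      rw [hn] at hpQ
      exact (Nat.prime_dvd_prime_iff_eq hp hq).mp (hp.dvd_of_dvd_pow hpQ)
    · intro p hp hpq hd
      rw [Set.mem_singleton_iff] at hpq
      subst hpq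
      rw [← Subgroup.relIndex_mul_relIndex Q S Γ hQS hSΓ] at hd
      rcases (Nat.Prime.dvd_mul hp).mp hd with h | h
      · exact hQi h
      · exact hqK (h.trans hrelSΓ)
  obtain ⟨E, hE, hKE, -, -⟩ := Cfsg.Agent.Helper1.PiHall.exists_isComplIn_ge hHall hΓn hKΓ
    (by
      intro p hp hpK hpq
      rw [Set.mem_singleton_iff] at hpq
      subst hpq
      exact hqK hpK)
  refine ⟨Q, E ⊓ S, ?_, hQn⟩
  have hcompl : IsComplIn Q (E ⊓ S) S := by
    refine ⟨hQS, inf_le_right, ?_, ?_⟩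
    · rw [eq_bot_iff, ← hE.2.2.1]
      intro z hz
      exact ⟨hz.2.1, hz.1⟩
    · intro s hs
      obtain ⟨a, ha, b, hb, hab⟩ := hE.2.2.2 s⁻¹ (hSΓ (S.inv_mem hs))
      refine ⟨b⁻¹, Q.inv_mem hb, a⁻¹, ⟨E.inv_mem ha, ?_⟩, ?_⟩
      · have h1 : a = s⁻¹ * b⁻¹ := by rw [hab]; group
        rw [h1]
        exact S.inv_mem (S.mul_mem (S.inv_mem hs) (S.inv_mem (hQS hb)))
      · have h1 : s = (s⁻¹)⁻¹ := by group
        rw [h1, hab]; group
  exact
    { hq := hq
      hodd := hodd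
      hK1 := hK1
      hKS := hKS
      hcop := hcop
      hSsolv := hSsolv
      hKsolv := hKsolv
      hpr := hpr
      hKs := hKs
      hSQ := le_normalizer.trans hQn
      hKQ := hKS.trans hQn
      hQq := hQq
      hQi := hQi
      hcompl := hcompl
      hKD := by
        intro k hk
        have h1 : k ∈ normalizer (E : Set G) := le_normalizer (hKE hk)
        have h2 : k ∈ normalizer (S : Set G) := hKS hk
        rw [mem_normalizer_iff] at h1 h2 ⊢
        intro z
        rw [mem_inf, mem_inf, ← h1 z, ← h2 z]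
      hnn := hnn }

end Cfsg.Agent.Helper19.BG152
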