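import Mathlib
import Cfsg.Prelude.Def_OddOrder
import Cfsg.Prelude.Def_OddOrderLocal
import Cfsg.Agent.Lib.Helper19.BG152A
import Cfsg.Agent.Lib.Helper19.BG16D
import Cfsg.Agent.Lib.Lead.BGThmC2

/-!
# `K ≠ 1` and `U ≠ 1` force `|K|` prime (helper19)

BG section 14/15 folklore (Peterfalvi, Theorem 14.2 consequences): if the Hall `κ(M)`-subgroup `K`
of a maximal subgroup `M` is nontrivial and `M ≠ K M_σ`, then `|K|` is a prime.  The proof is the
Frobenius–Wielandt fixed point formula (helper8 `fw_group`) for the Frobenius groups `U K` and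
`U X` (`X ≤ K` of prime order) acting on `M_σ`, together with the prime action of `K` on `M_σ`.

* `card_prime_or_le_centralizer`: the purely group theoretic statement.
* `card_prime_of_frobenius`: the BG form with plain hypotheses.
* `card_eq_or_prime_of_hall_kappa`: from the first two clauses of S1430 for `(M, K)`.
* `card_K_prime_of_U_ne_bot`: for a standard factorisation `M = K U M_σ`.
-/

set_option autoImplicit false
set_option linter.unusedSectionVars false
set_option linter.unusedVariables false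
set_option linter.style.haveILetI false

namespace Cfsg.Agent.Helper19.BGKPrime

open Cfsg Subgroup
open Cfsg.Agent.Helper19

section general

variable {X : Type*} [Group X] [Finite X]

/-- A Frobenius group `U ⋊ E` acting coprimely on a solvable group `L`, with `E` acting with
prime action (`C_L(e) = C_L(E)` for `1 ≠ e ∈ E`): either `|E|` is prime or `U` centralises `L`. -/
theorem card_prime_or_le_centralizer (U E L : Subgroup X) (hE1 : E ≠ ⊥)
    (hUn : ∀ e ∈ E, ∀ u ∈ U, e * u * e⁻¹ ∈ U)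
    (hfpf : ∀ e ∈ E, e ≠ 1 → ∀ u ∈ U, e * u = u * e → u = 1)
    (hsolv : Group.IsSolvable ↥L)
    (hn : U ⊔ E ≤ normalizer (L : Set X))
    (hcop : (Nat.card ↥L).Coprime (Nat.card ↥(U ⊔ E)))
    (hpr : ∀ e ∈ E, e ≠ 1 → L ⊓ centralizer ({e} : Set X) = L ⊓ centralizer (E : Set X)) :
    (Nat.card E).Prime ∨ L ≤ centralizer (U : Set X) := by
  have hUE : U ⊓ E = ⊥ := by
    rw [eq_bot_iff]
    rintro u ⟨hu, he⟩
    by_contra h1
    exact h1 (hfpf u he h1 u hu rfl)
  have hnil := Cfsg.Agent.Helper8.SecRep.kernel_nilpotent U E hE1 hUE hUn hfpf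
  rcases BG152.card_prime_or_centralizer_eq U E L hE1 hUn hfpf hnil hsolv hn hcop hpr with h | h
  · exact Or.inl h
  · right
    have hfw := Cfsg.Agent.Helper8.SecRep.fw_group U E hUn hfpf hnil _ L rfl hsolv hn hcop
    rw [h] at hfw
    have hpos : 0 < Nat.card ↥(L ⊓ centralizer (E : Set X)) ^ Nat.card ↥E :=
      pow_pos Nat.card_pos _
    have h2 : Nat.card ↥L = Nat.card ↥(L ⊓ centralizer (U : Set X)) :=
      Nat.eq_of_mul_eq_mul_left hpos hfw
    have h3 : L ⊓ centralizer (U : Set X) = L := Subgroup.eq_of_le_of_card_ge inf_le_left h2.le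
    rw [← h3]; exact inf_le_right

end general

variable {G : Type*} [Group G] [Finite G]

/-- **BG form, plain hypotheses.**  `K ≠ 1` acting with prime action on `M_σ` and as a group of
fixed-point-free automorphisms on the nontrivial Hall subgroup `U` of `M = M_σ K U`, whose primes
are not in `σ(M)`: then `|K|` is a prime. -/
theorem card_prime_of_frobenius (hG : IsMinSimpleOddOrder G) {M : Subgroup G} (hM : IsCoatom M)
    {K U : Subgroup G} (hKM : K ≤ M) (hK1 : K ≠ ⊥) (hUM : U ≤ M) (hU1 : U ≠ ⊥)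
    (hKU : K ≤ normalizer (U : Set G))
    (hfpf : ∀ k ∈ K, k ≠ 1 → U ⊓ centralizer ({k} : Set G) = ⊥)
    (hpr : ∀ k ∈ K, k ≠ 1 →
      sigmaCore M ⊓ centralizer ({k} : Set G) = sigmaCore M ⊓ centralizer (K : Set G))
    (hcop : (Nat.card (sigmaCore M)).Coprime (Nat.card ↥(U ⊔ K)))
    (hgen : M ≤ sigmaCore M ⊔ K ⊔ U)
    (hUσ : ∀ r : ℕ, r.Prime → r ∣ Nat.card U → r ∉ sigma M)
    (hUh : (Nat.card U).Coprime (U.relIndex M)) :
    (Nat.card K).Prime := by
  haveI : Group.IsSolvable ↥M := hG.2.2.2 M hM.1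
  have hSM : sigmaCore M ≤ M := Cfsg.Agent.Helper14.BGTrans.piCoreOf_le (sigma M) M
  have hMS : M ≤ normalizer (sigmaCore M : Set G) :=
    Cfsg.Agent.Helper14.BGTrans.le_normalizer_piCoreOf (sigma M) M
  have hUn : ∀ e ∈ K, ∀ u ∈ U, e * u * e⁻¹ ∈ U := fun e he u hu =>
    (mem_normalizer_iff.mp (hKU he) u).mp hu
  have hfpf' : ∀ e ∈ K, e ≠ 1 → ∀ u ∈ U, e * u = u * e → u = 1 := by
    intro e he he1 u hu hc
    have h1 : u ∈ U ⊓ centralizer ({e} : Set G) := by
      refine ⟨hu, ?_⟩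
      show u ∈ centralizer ({e} : Set G)
      rw [mem_centralizer_iff]
      intro h hh
      rw [Set.mem_singleton_iff] at hh
      rw [hh]; exact hc
    rw [hfpf e he he1] at h1
    exact (mem_bot).mp h1
  have hsolv : Group.IsSolvable ↥(sigmaCore M) :=
    Group.isSolvable_of_isSolvable_injective (Subgroup.inclusion_injective hSM)
  rcases card_prime_or_le_centralizer U K (sigmaCore M) hK1 hUn hfpf' hsolv
      ((sup_le hUM hKM).trans hMS) hcop hpr with h | h
  · exact h
  · exfalso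
    -- `U` is normal in `M`
    have hUE : U ⊓ K = ⊥ := by
      rw [eq_bot_iff]
      rintro u ⟨hu, he⟩
      by_contra h1
      exact h1 (hfpf' u he h1 u hu rfl)
    have hnil := Cfsg.Agent.Helper8.SecRep.kernel_nilpotent U K hK1 hUE hUn hfpf'
    have hMU : M ≤ normalizer (U : Set G) := by
      refine hgen.trans (sup_le (sup_le ?_ hKU) le_normalizer)
      intro s hs
      have hsc := h hs
      rw [mem_normalizer_iff]
      intro u
      have e1 : ∀ v ∈ U, s * v * s⁻¹ = v := by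
        intro v hv
        have := (mem_centralizer_iff.mp hsc) v hv
        rw [← this]; group
      constructor
      · intro hu; rw [e1 u hu]; exact hu
      · intro hu
        have h2 : s⁻¹ * (s * u * s⁻¹) * s = u := by group
        have h3 : s⁻¹ * (s * u * s⁻¹) * s = s * u * s⁻¹ := by
          have := (mem_centralizer_iff.mp hsc) _ hu
          calc s⁻¹ * (s * u * s⁻¹) * s = s⁻¹ * ((s * u * s⁻¹) * s) := by group
            _ = s⁻¹ * (s * (s * u * s⁻¹)) := by rw [this]
            _ = s * u * s⁻¹ := by group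
        rw [← h2, h3]; exact hu
    haveI : (U.subgroupOf M).Normal :=
      (Subgroup.normal_subgroupOf_iff_le_normalizer hUM).mpr hMU
    have hcard : Nat.card ↥(U.subgroupOf M) = Nat.card U :=
      Nat.card_congr (Subgroup.subgroupOfEquivOfLe hUM).toEquiv
    have hUcard : Nat.card U ≠ 1 := fun h1 => hU1 (Subgroup.card_eq_one.mp h1)
    obtain ⟨r, hr, hrU⟩ := Nat.exists_prime_and_dvd hUcard
    refine hUσ r hr hrU (BG16.mem_sigma_of_nilpotent_hall hG hM (U.subgroupOf M)
      (Cfsg.Agent.Helper7.isNilpotent_subgroupOf hUM hnil) ?_ hr ?_)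
    · rw [hcard]; exact hUh
    · rw [hcard]; exact hrU

/-- **Hall form** (the shape of the first two clauses of S1430 for `(M, K)`): for a nontrivial
Hall `κ(M)`-subgroup `K` of the maximal subgroup `M`, either `M = K M_σ` (in the form
`|M| = |K| |M_σ|`) or `|K|` is a prime. -/
theorem card_eq_or_prime_of_hall_kappa (hG : IsMinSimpleOddOrder G) {M : Subgroup G}
    (hM : IsCoatom M) (hσ : IsPiHallOf (sigma M) (sigmaCore M) M)
    {K : Subgroup G} (hK : IsPiHallOf (kappa M) K M) (hK1 : K ≠ ⊥)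
    (hpr : ∀ k ∈ K, k ≠ 1 →
      sigmaCore M ⊓ centralizer ({k} : Set G) = sigmaCore M ⊓ centralizer (K : Set G))
    (hU : ∃ U : Subgroup G, IsMulCommutative U ∧
      IsPiHallOf {q | q.Prime ∧ q ∉ kappa M ∧ q ∉ sigma M} U M ∧
      K ≤ normalizer (U : Set G) ∧ ∀ k ∈ K, k ≠ 1 → U ⊓ centralizer ({k} : Set G) = ⊥) :
    Nat.card M = Nat.card K * Nat.card (sigmaCore M) ∨ (Nat.card K).Prime := by
  obtain ⟨U, -, hUH, hKU, hfpf⟩ := hU
  have hSM : sigmaCore M ≤ M := hσ.1
  have hMS : M ≤ normalizer (sigmaCore M : Set G) :=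
    Cfsg.Agent.Helper14.BGTrans.le_normalizer_piCoreOf (sigma M) M
  have hKσ : ∀ p : ℕ, p.Prime → p ∣ Nat.card K → p ∉ sigma M := fun p hp hpK =>
    (hK.2.1 p hp hpK).2.2.1
  have hUσ : ∀ p : ℕ, p.Prime → p ∣ Nat.card U → p ∉ sigma M := fun p hp hpU =>
    (hUH.2.1 p hp hpU).2.2
  -- `M = M_σ K U`
  have hgen : M ≤ sigmaCore M ⊔ K ⊔ U := by
    have hTM : sigmaCore M ⊔ K ⊔ U ≤ M := sup_le (sup_le hSM hK.1) hUH.1
    rw [← Subgroup.relIndex_eq_one]
    rw [Nat.eq_one_iff_not_exists_prime_dvd]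
    intro p hp hpd
    by_cases h1 : p ∈ sigma M
    · exact hσ.2.2 p hp h1 (hpd.trans (Subgroup.relIndex_dvd_of_le_left M
        (le_sup_left.trans le_sup_left)))
    · by_cases h2 : p ∈ kappa M
      · exact hK.2.2 p hp h2 (hpd.trans (Subgroup.relIndex_dvd_of_le_left M
          (le_sup_right.trans le_sup_left)))
      · exact hUH.2.2 p hp ⟨hp, h2, h1⟩ (hpd.trans (Subgroup.relIndex_dvd_of_le_left M
          le_sup_right))
  have hcopSK : (Nat.card (sigmaCore M)).Coprime (Nat.card K) := by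
    apply Nat.Coprime.symm
    apply Nat.coprime_of_dvd
    intro p hp hpK hpS
    exact hKσ p hp hpK (hσ.2.1 p hp hpS)
  by_cases hU1 : U = ⊥
  · left
    rw [hU1, sup_bot_eq] at hgen
    have hTM : sigmaCore M ⊔ K = M := le_antisymm (sup_le hSM hK.1) hgen
    have h1 : Nat.card M ∣ Nat.card (sigmaCore M) * Nat.card K := by
      have h0 := Cfsg.Agent.Helper7.card_sup_dvd_mul_of_le_normalizer (hK.1.trans hMS)
      rwa [hTM] at h0
    have h2 : Nat.card (sigmaCore M) * Nat.card K ∣ Nat.card M :=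
      Nat.Coprime.mul_dvd_of_dvd_of_dvd hcopSK (Subgroup.card_dvd_of_le hSM)
        (Subgroup.card_dvd_of_le hK.1)
    rw [Nat.dvd_antisymm h1 h2, mul_comm]
  · right
    refine card_prime_of_frobenius hG hM hK.1 hK1 hUH.1 hU1 hKU hfpf hpr ?_ hgen hUσ ?_
    · apply Nat.coprime_of_dvd
      intro p hp hpS hpUK
      have h1 : Nat.card ↥(U ⊔ K) ∣ Nat.card U * Nat.card K :=
        Cfsg.Agent.Helper7.card_sup_dvd_mul_of_le_normalizer hKU
      rcases (Nat.Prime.dvd_mul hp).mp (hpUK.trans h1) with h | h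
      · exact hUσ p hp h (hσ.2.1 p hp hpS)
      · exact hKσ p hp h (hσ.2.1 p hp hpS)
    · apply Nat.coprime_of_dvd
      intro p hp hpU
      exact hUH.2.2 p hp (hUH.2.1 p hp hpU)

/-- **Standard factorisation form.**  In `M = K U M_σ` with `K ≠ 1` and `U ≠ 1`, `|K|` is a prime.
`hfpf` is the conclusion of S1353 for `(M, K, U)`, `hpr` the first clause of S1430 for `(M, K)`
and `hσ` the first clause of S1350 for `M`. -/
theorem card_K_prime_of_U_ne_bot (hG : IsMinSimpleOddOrder G) {M : Subgroup G}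
    (hM : IsCoatom M) (hσ : IsPiHallOf (sigma M) (sigmaCore M) M)
    {K U : Subgroup G} (hKU : IsSigmaDecomposition M K U) (hK1 : K ≠ ⊥) (hU1 : U ≠ ⊥)
    (hpr : ∀ k ∈ K, k ≠ 1 →
      sigmaCore M ⊓ centralizer ({k} : Set G) = sigmaCore M ⊓ centralizer (K : Set G))
    (hfpf : ∀ k ∈ K, k ≠ 1 → U ⊓ centralizer ({k} : Set G) = ⊥) :
    (Nat.card K).Prime := by
  have hUσ : ∀ p : ℕ, p.Prime → p ∣ Nat.card U → p ∉ sigma M := fun p hp hpU =>
    Cfsg.Agent.Lead.BGThmC.not_mem_sigma_of_dvd_card M K U hKU hσ hp hpU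
  have hKσ : ∀ p : ℕ, p.Prime → p ∣ Nat.card K → p ∉ sigma M := fun p hp hpK =>
    (hKU.hall.2.1 p hp hpK).2.2.1
  refine card_prime_of_frobenius hG hM hKU.hall.1 hK1 hKU.compl.1 hU1 hKU.normal hfpf hpr
    ?_ ?_ hUσ ?_
  · apply Nat.coprime_of_dvd
    intro p hp hpS hpUK
    have h1 : Nat.card ↥(U ⊔ K) ∣ Nat.card U * Nat.card K :=
      Cfsg.Agent.Helper7.card_sup_dvd_mul_of_le_normalizer hKU.normal
    rcases (Nat.Prime.dvd_mul hp).mp (hpUK.trans h1) with h | h
    · exact hUσ p hp h (hσ.2.1 p hp hpS)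
    · exact hKσ p hp h (hσ.2.1 p hp hpS)
  · intro m hm
    obtain ⟨a, ha, b, hb, rfl⟩ := hKU.compl.2.2.2 m hm
    have hb' : b ∈ sigmaCore M ⊔ K := by rw [sup_comm]; exact hb
    exact mul_mem (le_sup_right (a := sigmaCore M ⊔ K) ha) (le_sup_left (b := U) hb')
  · have hcard := Cfsg.Agent.Helper7.IsComplIn.card_eq hKU.compl
    have hcard' : Nat.card M = Nat.card U * U.relIndex M :=
      Cfsg.Agent.Lead.BGThmC2.card_eq_mul_relIndex hKU.compl.1
    have hrel : U.relIndex M = Nat.card ↥(K ⊔ sigmaCore M) := by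
      have hUpos : 0 < Nat.card U := Nat.card_pos
      apply Nat.eq_of_mul_eq_mul_left hUpos
      rw [← hcard', hcard]
    rw [hrel]
    apply Nat.coprime_of_dvd
    intro p hp hpU hpKS
    rcases Cfsg.Agent.Lead.BGThmC2.prime_dvd_card_sup M K U hKU hp hpKS with h | h
    · exact Cfsg.Agent.Lead.BGThmC2.not_mem_kappa_of_dvd_card M K U hKU hp hpU h
    · exact hUσ p hp hpU h

end Cfsg.Agent.Helper19.BGKPrime
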