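import Mathlib
import Cfsg.Agent.Lib.Helper19.BG152C
import Cfsg.Agent.Lib.Helper19.BGKPrime
import Cfsg.Agent.Lib.Helper19.BG16E
import Cfsg.Agent.Lib.Helper11.BG108B

/-!
# BG Theorem 15.2 (c)-(e) = the statement of S1437 (helper19)

Conditional on the frozen statements S1350, S1351, S1352, S1353, S1354, S1366, S1369, S1404, S1426,
S1429, S1430 (taken as hypotheses `H13xx G`, `H14xx G`).
-/

set_option autoImplicit false
set_option linter.unusedSectionVars false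
set_option linter.unusedVariables false
set_option linter.style.haveILetI false

namespace Cfsg.Agent.Helper19.BG152

open Cfsg Subgroup
open scoped commutatorElement

universe u

variable {G : Type u} [Group G]

/-- the frozen statement of S1426 -/
def H1426 (G : Type*) [Group G] : Prop :=
  ∀ (M : Subgroup G), IsCoatom M → ∀ (E : Subgroup G), Cfsg.IsComplIn E (Cfsg.sigmaCore M) M →
    Cfsg.sigmaCore M ⊓ Subgroup.centralizer (E : Set G) ≤ ⁅Cfsg.sigmaCore M, Cfsg.sigmaCore M⁆ ∧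
      ⁅Cfsg.sigmaCore M, E⁆ = Cfsg.sigmaCore M ∧
      ∀ g : G, g ∉ M → IsCyclic ↥(Cfsg.sigmaCore M ⊓ M.map (MulAut.conj g).toMonoidHom) ∧
        (∀ p : ℕ, p.Prime → p ∣ Nat.card ↥(Cfsg.sigmaCore M ⊓ M.map (MulAut.conj g).toMonoidHom) → p ∉ Cfsg.beta M) ∧
        Cfsg.sigmaCore M ⊓ M.map (MulAut.conj g).toMonoidHom ⊓ ⁅Cfsg.sigmaCore M, Cfsg.sigmaCore M⁆ = ⊥

/-- the frozen statement of S1429 -/
def H1429 (G : Type*) [Group G] : Prop :=
  ∀ (M : Subgroup G), IsCoatom M →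
    ¬ (∀ q : ℕ, q.Prime → q ∣ Nat.card M → q ∉ Cfsg.sigma M → q ∈ Cfsg.kappa M) →
    ∀ (p : ℕ) [Fact p.Prime], p ∣ Nat.card M → p ∉ Cfsg.sigma M ∪ Cfsg.kappa M → ∀ (S : Sylow p M),
    Nat.card ↥(Subgroup.closure {x : G | x ∈ (S : Subgroup M).map M.subtype ∧ x ^ p = 1}) ≤ p ^ 2 ∧
      Cfsg.sigmaCore M ⊓ Subgroup.centralizer ((Subgroup.closure {x : G | x ∈ (S : Subgroup M).map M.subtype ∧ x ^ p = 1} : Subgroup G) : Set G) = ⊥ ∧
      Group.IsNilpotent (Cfsg.sigmaCore M)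

/-- the frozen statement of S1430 -/
def H1430 (G : Type*) [Group G] : Prop :=
  ∀ (M : Subgroup G), IsCoatom M → ∀ (K : Subgroup G), Cfsg.IsPiHallOf (Cfsg.kappa M) K M → K ≠ ⊥ →
    (∀ k ∈ K, k ≠ 1 → Cfsg.sigmaCore M ⊓ Subgroup.centralizer ({k} : Set G) = (Cfsg.sigmaCore M ⊓ Subgroup.centralizer (K : Set G))) ∧
      (∃ U : Subgroup G, IsMulCommutative U ∧ Cfsg.IsPiHallOf {q | q.Prime ∧ q ∉ Cfsg.kappa M ∧ q ∉ Cfsg.sigma M} U M ∧
        K ≤ Subgroup.normalizer (U : Set G) ∧ ∀ k ∈ K, k ≠ 1 → U ⊓ Subgroup.centralizer ({k} : Set G) = ⊥) ∧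
      ∀ X : Subgroup G, X ≤ K → (Nat.card X).Prime →
        M ⊓ Subgroup.normalizer (X : Set G) = K ⊔ (Cfsg.sigmaCore M ⊓ Subgroup.centralizer (K : Set G)) ∧ M ⊓ Subgroup.normalizer (K : Set G) = K ⊔ (Cfsg.sigmaCore M ⊓ Subgroup.centralizer (K : Set G)) ∧
        ∀ Mstar : Subgroup G, IsCoatom Mstar → Subgroup.normalizer (X : Set G) ≤ Mstar → X ≤ Cfsg.sigmaCore Mstar

variable [Finite G]

/-- a complement of a normal Sylow `q`-subgroup is a Hall `q'`-subgroup -/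
theorem isPiHallOf_of_isComplIn {Q D S : Subgroup G} {q : ℕ} (hq : q.Prime) (hQq : IsPGroup q Q)
    (hQi : ¬ q ∣ Q.relIndex S) (h : IsComplIn Q D S) :
    IsPiHallOf {p | p.Prime ∧ p ≠ q} D S := by
  have h1 := Cfsg.Agent.Helper7.IsComplIn.card_eq h
  have h2 := Cfsg.Agent.Lead.BGThmC2.card_eq_mul_relIndex h.1
  have h3 := Cfsg.Agent.Lead.BGThmC2.card_eq_mul_relIndex h.2.1
  have h4 : Q.relIndex S = Nat.card D := by
    rw [h1] at h2
    exact (Nat.eq_of_mul_eq_mul_left Nat.card_pos h2).symm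
  have h5 : D.relIndex S = Nat.card Q := by
    rw [h1, mul_comm] at h3
    exact (Nat.eq_of_mul_eq_mul_left Nat.card_pos h3).symm
  refine ⟨h.2.1, ?_, ?_⟩
  · intro p hp hpD
    refine ⟨hp, ?_⟩
    intro hpq
    subst hpq
    rw [h4] at hQi
    exact hQi hpD
  · intro p hp hpπ hd
    rw [h5] at hd
    haveI : Fact q.Prime := ⟨hq⟩
    obtain ⟨n, hn⟩ := IsPGroup.iff_card.mp hQq
    rw [hn] at hd
    exact hpπ.2 ((Nat.prime_dvd_prime_iff_eq hp hq).mp (hp.dvd_of_dvd_pow hd))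

/-- `Q ∩ C(D)` does not change when `D` is replaced by a conjugate under an element normalising
`Q` and `Q ∩ C(D)`. -/
theorem inf_centralizer_map_conj {Q D : Subgroup G} {m : G}
    (hmQ : m ∈ normalizer (Q : Set G))
    (hmQ0 : m ∈ normalizer ((Q ⊓ centralizer (D : Set G) : Subgroup G) : Set G)) :
    Q ⊓ centralizer ((D.map (MulAut.conj m).toMonoidHom : Subgroup G) : Set G) =
      Q ⊓ centralizer (D : Set G) := by
  have key : ∀ z : G, z ∈ centralizer ((D.map (MulAut.conj m).toMonoidHom : Subgroup G) : Set G) ↔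
      m⁻¹ * z * m⁻¹⁻¹ ∈ centralizer (D : Set G) := by
    intro z
    rw [mem_centralizer_iff, mem_centralizer_iff]
    constructor
    · intro h d hd
      have h1 := h (m * d * m⁻¹) ⟨d, hd, by simp [MulAut.conj_apply]⟩
      calc d * (m⁻¹ * z * m⁻¹⁻¹) = m⁻¹ * ((m * d * m⁻¹) * z) * m := by group
        _ = m⁻¹ * (z * (m * d * m⁻¹)) * m := by rw [h1]
        _ = m⁻¹ * z * m⁻¹⁻¹ * d := by group
    · rintro h _ ⟨d, hd, rfl⟩
      have h1 := h d hd
      show (MulAut.conj m) d * z = z * (MulAut.conj m) d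
      rw [MulAut.conj_apply]
      calc m * d * m⁻¹ * z = m * (d * (m⁻¹ * z * m⁻¹⁻¹)) * m⁻¹ := by group
        _ = m * ((m⁻¹ * z * m⁻¹⁻¹) * d) * m⁻¹ := by rw [h1]
        _ = z * (m * d * m⁻¹) := by group
  have hmi : m⁻¹ ∈ normalizer (Q : Set G) := inv_mem hmQ
  have hmi0 : m⁻¹ ∈ normalizer ((Q ⊓ centralizer (D : Set G) : Subgroup G) : Set G) :=
    inv_mem hmQ0
  ext z
  rw [mem_inf, key]
  constructor
  · rintro ⟨hzQ, hzc⟩
    have h1 : m⁻¹ * z * m⁻¹⁻¹ ∈ Q ⊓ centralizer (D : Set G) :=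
      ⟨(mem_normalizer_iff.mp hmi z).mp hzQ, hzc⟩
    exact (mem_normalizer_iff.mp hmi0 z).mpr h1
  · intro hz
    have h1 := (mem_normalizer_iff.mp hmi0 z).mp hz
    exact ⟨hz.1, h1.2⟩

/-- the configuration of BG Theorem 15.2 exists when `M_F ≠ M_σ` -/
theorem exists_ctx_of_ne (hG : Cfsg.IsMinSimpleOddOrder G)
    (h50 : BG16.H1350 G) (h51 : BG16.H1351 G) (h52 : BG16.H1352 G) (h53 : BG16.H1353 G)
    (h54 : BG16.H1354 G) (h66 : BG16.H1366 G) (h69 : BG16.H1369 G) (h04 : BG16.H1404 G)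
    (h26 : H1426 G) (h29 : H1429 G) (h30 : H1430 G)
    (M : Subgroup G) (hM : IsCoatom M) (K U : Subgroup G) (hKU : Cfsg.IsSigmaDecomposition M K U)
    (hne : Cfsg.fittingHallOf M ≠ Cfsg.sigmaCore M) :
    U = ⊥ ∧ K ≠ ⊥ ∧ Cfsg.sigmaCore M = ⁅M, M⁆ ∧ IsComplIn K (sigmaCore M) M ∧
      (Nat.card ↥(sigmaCore M ⊓ centralizer (K : Set G))).Prime ∧
      ∃ Q D : Subgroup G,
        Ctx (sigmaCore M) K Q D (Nat.card ↥(sigmaCore M ⊓ centralizer (K : Set G))) ∧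
        normalizer (sigmaCore M : Set G) ≤ normalizer (Q : Set G) := by
  obtain ⟨hHall, hHallG, -⟩ := h50 M hM
  haveI hMsolv : Group.IsSolvable ↥M := hG.2.2.2 M hM.1
  have hSM : sigmaCore M ≤ M := hHall.1
  have hMS : M ≤ normalizer (sigmaCore M : Set G) :=
    Cfsg.Agent.Helper14.BGTrans.le_normalizer_piCoreOf (sigma M) M
  have hKM : K ≤ M := hKU.hall.1
  -- Step 0: `M_σ` is not nilpotent
  have hnn : ¬ Group.IsNilpotent ↥(sigmaCore M) := by
    intro hnil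
    apply hne
    apply le_antisymm (BG16.fittingHallOf_le_sigmaCore hG hM)
    apply Cfsg.Agent.Helper7.le_fittingHallOf hSM hMS hnil
    apply Nat.coprime_of_dvd
    intro p hp h1 h2
    exact hHall.2.2 p hp (hHall.2.1 p hp h1) h2
  -- Step 1: `U = 1`
  have hU : U = ⊥ := by
    by_contra hU1
    have hUcard : Nat.card U ≠ 1 := fun h => hU1 (Subgroup.card_eq_one.mp h)
    obtain ⟨r, hr, hrU⟩ := Nat.exists_prime_and_dvd hUcard
    haveI : Fact r.Prime := ⟨hr⟩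
    have hrσ := Cfsg.Agent.Lead.BGThmC.not_mem_sigma_of_dvd_card M K U hKU hHall hr hrU
    have hrκ := Cfsg.Agent.Lead.BGThmC2.not_mem_kappa_of_dvd_card M K U hKU hr hrU
    have hrM : r ∣ Nat.card M := hrU.trans (Subgroup.card_dvd_of_le hKU.compl.1)
    obtain ⟨S⟩ : Nonempty (Sylow r M) := inferInstance
    have h := (h29 M hM (fun h => hrκ (h r hr hrM hrσ)) r hrM
      (by
        rintro (h | h)
        · exact hrσ h
        · exact hrκ h) S).2.2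
    exact hnn h
  -- `K ≠ 1`
  have hK1 : K ≠ ⊥ := by
    intro hK
    have h1 : M ≤ sigmaCore M := by
      intro m hm
      obtain ⟨a, ha, b, hb, rfl⟩ := hKU.compl.2.2.2 m hm
      rw [hU, mem_bot] at ha
      rw [hK, bot_sup_eq] at hb
      rw [ha, one_mul]; exact hb
    exact (BG16.commutator_lt hG hM).not_ge
      (h1.trans (BG16.sigmaCore_le_commutator hG h04 hM))
  -- `M' = M_σ`
  have hder := (BG16.theorem_C_derived hG h50 h53 h04 M hM K U hKU hK1).1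
  rw [hU, bot_sup_eq] at hder
  -- Step 2: `q = |K*|` is a prime
  have hq : (Nat.card ↥(sigmaCore M ⊓ centralizer (K : Set G))).Prime := by
    obtain ⟨Ms, ⟨hMs, hKst, hKstH⟩, -⟩ := h66 M hM K U hKU hK1
    obtain ⟨h1, -⟩ := h69 M hM K U hKU hK1 Ms hMs hKst hKstH
    have h2 : ∀ Ustar : Subgroup G, Cfsg.IsSigmaDecomposition Ms
        (Cfsg.sigmaCore M ⊓ Subgroup.centralizer (K : Set G)) Ustar → Ustar ≠ ⊥ := by
      rcases h1 with h | h
      · exact absurd hU h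
      · exact h
    have hcyc : IsCyclic ↥(Cfsg.sigmaCore M ⊓ Subgroup.centralizer (K : Set G)) :=
      (h51 Ms hMs).2 _ hKstH
    obtain ⟨⟨Us, hUs⟩, -⟩ := h52 Ms hMs _ hcyc hKstH
    have hne' : Cfsg.sigmaCore M ⊓ Subgroup.centralizer (K : Set G) ≠ ⊥ :=
      (h54 M hM K hKU.cyclic hKU.hall).1
    exact BGKPrime.card_K_prime_of_U_ne_bot hG hMs (h50 Ms hMs).1 hUs hne' (h2 Us hUs)
      (h30 Ms hMs _ hKstH hne').1 (h53 Ms hMs _ Us hUs)
  -- Step 3: the configuration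
  have hcop : (Nat.card K).Coprime (Nat.card (sigmaCore M)) := by
    apply Nat.coprime_of_dvd
    intro p hp hpK hpS
    exact (hKU.hall.2.1 p hp hpK).2.2.1 (hHall.2.1 p hp hpS)
  have hSsolv : Group.IsSolvable ↥(sigmaCore M) :=
    Group.isSolvable_of_isSolvable_injective (Subgroup.inclusion_injective hSM)
  have hKsolv : Group.IsSolvable ↥K :=
    Group.isSolvable_of_isSolvable_injective (Subgroup.inclusion_injective hKM)
  have hcomplK : IsComplIn K (sigmaCore M) M := by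
    refine ⟨hKM, hSM, (Subgroup.disjoint_of_coprime_natCard hcop).eq_bot, ?_⟩
    intro m hm
    obtain ⟨a, ha, b, hb, rfl⟩ := hKU.compl.2.2.2 m hm
    rw [hU, mem_bot] at ha
    rw [ha, one_mul]
    have hb' : b⁻¹ ∈ sigmaCore M ⊔ K := by rw [sup_comm]; exact inv_mem hb
    obtain ⟨n, hn, k, hk, hnk⟩ := Cfsg.Agent.Helper1.exists_mul_of_mem_sup (hKM.trans hMS) hb'
    refine ⟨k⁻¹, inv_mem hk, n⁻¹, inv_mem hn, ?_⟩
    rw [← inv_inv b, hnk, mul_inv_rev]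
  have hMgen : M ≤ K ⊔ sigmaCore M := by
    intro m hm
    obtain ⟨a, ha, b, hb, rfl⟩ := hcomplK.2.2.2 m hm
    exact mul_mem (mem_sup_left ha) (mem_sup_right hb)
  have hcomm : sigmaCore M ≤ ⁅sigmaCore M, K⁆ := (h26 M hM K hcomplK).2.1.ge
  obtain ⟨Q, D, c, hQn⟩ := exists_ctx hq hG.1 hK1 (hKM.trans hMS) hcop hSsolv hKsolv
    (h30 M hM K hKU.hall hK1).1 rfl hcomm hnn
  exact ⟨hU, hK1, hder.symm, hcomplK, hq, Q, D, c, hQn⟩

/-- **BG Theorem 15.2 (c)-(e)** (= the statement of S1437). -/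
theorem Fcore_structure (hG : Cfsg.IsMinSimpleOddOrder G)
    (h50 : BG16.H1350 G) (h51 : BG16.H1351 G) (h52 : BG16.H1352 G) (h53 : BG16.H1353 G)
    (h54 : BG16.H1354 G) (h66 : BG16.H1366 G) (h69 : BG16.H1369 G) (h04 : BG16.H1404 G)
    (h26 : H1426 G) (h29 : H1429 G) (h30 : H1430 G)
    (M : Subgroup G) (hM : IsCoatom M) (K U : Subgroup G) (hKU : Cfsg.IsSigmaDecomposition M K U)
    (hne : Cfsg.fittingHallOf M ≠ Cfsg.sigmaCore M) :
    U = ⊥ ∧ Cfsg.sigmaCore M = ⁅M, M⁆ ∧ (Nat.card K).Prime ∧ (Nat.card ↥(Cfsg.sigmaCore M ⊓ Subgroup.centralizer (K : Set G))).Prime ∧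
      Nat.card ↥(Cfsg.sigmaCore M ⊓ Subgroup.centralizer (K : Set G)) ∣ Nat.card (Cfsg.fittingHallOf M) ∧ Nat.card ↥(Cfsg.sigmaCore M ⊓ Subgroup.centralizer (K : Set G)) ∈ Cfsg.beta M ∧
      ∃ Q : Subgroup G, Q ≤ Cfsg.fittingHallOf M ∧ M ≤ Subgroup.normalizer (Q : Set G) ∧ IsPGroup (Nat.card ↥(Cfsg.sigmaCore M ⊓ Subgroup.centralizer (K : Set G))) Q ∧
        ¬ Nat.card ↥(Cfsg.sigmaCore M ⊓ Subgroup.centralizer (K : Set G)) ∣ Q.relIndex (Cfsg.sigmaCore M) ∧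
        ∀ D : Subgroup G, Cfsg.IsComplIn Q D (Cfsg.sigmaCore M) →
          Group.IsNilpotent D ∧ M ≤ Subgroup.normalizer ((Q ⊓ Subgroup.centralizer (D : Set G) : Subgroup G) : Set G) ∧
          Q ⊓ Subgroup.centralizer (D : Set G) < Q ∧
          Nat.card Q = Nat.card ↥(Q ⊓ Subgroup.centralizer (D : Set G)) * Nat.card ↥(Cfsg.sigmaCore M ⊓ Subgroup.centralizer (K : Set G)) ^ Nat.card K ∧
          (∀ a ∈ Q, ∀ b ∈ Q, a ^ Nat.card ↥(Cfsg.sigmaCore M ⊓ Subgroup.centralizer (K : Set G)) ∈ Q ⊓ Subgroup.centralizer (D : Set G) ∧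
            a * b * a⁻¹ * b⁻¹ ∈ Q ⊓ Subgroup.centralizer (D : Set G)) ∧
          ∀ N : Subgroup G, Q ⊓ Subgroup.centralizer (D : Set G) < N → N < Q → ¬ M ≤ Subgroup.normalizer (N : Set G) := by
  obtain ⟨hU, hK1, hder, hcomplK, hq, Q, D, c, hQn⟩ :=
    exists_ctx_of_ne hG h50 h51 h52 h53 h54 h66 h69 h04 h26 h29 h30 M hM K U hKU hne
  obtain ⟨hHall, hHallG, -⟩ := h50 M hM
  have hSM : sigmaCore M ≤ M := hHall.1
  have hKM : K ≤ M := hKU.hall.1
  have hMgen : M ≤ K ⊔ sigmaCore M := by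
    intro m hm
    obtain ⟨a, ha, b, hb, rfl⟩ := hcomplK.2.2.2 m hm
    exact mul_mem (mem_sup_left ha) (mem_sup_right hb)
  haveI : Fact (Nat.card ↥(sigmaCore M ⊓ centralizer (K : Set G))).Prime := ⟨hq⟩
  have hMQ : M ≤ normalizer (Q : Set G) := hMgen.trans (sup_le c.hKQ c.hSQ)
  have hMQ0 : M ≤ normalizer ((Q ⊓ centralizer (D : Set G) : Subgroup G) : Set G) :=
    hMgen.trans (sup_le c.K_le_normalizer_Q0 c.S_le_normalizer_Q0)
  have hQM : Q ≤ M := c.QS.trans hSM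
  have hqS : Nat.card ↥(sigmaCore M ⊓ centralizer (K : Set G)) ∣ Nat.card (sigmaCore M) :=
    Subgroup.card_dvd_of_le inf_le_left
  have hqσ : Nat.card ↥(sigmaCore M ⊓ centralizer (K : Set G)) ∈ sigma M := hHall.2.1 _ hq hqS
  have hqQ : Nat.card ↥(sigmaCore M ⊓ centralizer (K : Set G)) ∣ Nat.card Q :=
    Subgroup.card_dvd_of_le c.Ks_le_Q
  -- `Q ≤ M_F`
  have hQF : Q ≤ fittingHallOf M := by
    apply Cfsg.Agent.Helper7.le_fittingHallOf hQM hMQ c.Q_nil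
    obtain ⟨n, hn⟩ := IsPGroup.iff_card.mp c.hQq
    rw [hn]
    apply Nat.Coprime.pow_left
    rw [Nat.Prime.coprime_iff_not_dvd hq]
    rw [← Subgroup.relIndex_mul_relIndex Q (sigmaCore M) M c.QS hSM]
    intro hd
    rcases (Nat.Prime.dvd_mul hq).mp hd with h | h
    · exact c.hQi h
    · exact hHall.2.2 _ hq hqσ h
  -- `q ∈ β(M)`
  have hQr : ¬ PRankLE (Nat.card ↥(sigmaCore M ⊓ centralizer (K : Set G))) 2 ↥Q :=
    fun h => c.not_isNarrow (Or.inl h)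
  have hβ : Nat.card ↥(sigmaCore M ⊓ centralizer (K : Set G)) ∈ beta M := by
    refine ⟨⟨hq, fun h => hQr (Cfsg.Agent.Helper7.BG12.pRankLE_of_injective (Subgroup.inclusion hQM)
      (Subgroup.inclusion_injective hQM) h)⟩, ?_⟩
    by_contra hni
    have hr : ¬ PRankLE (Nat.card ↥(sigmaCore M ⊓ centralizer (K : Set G))) 2 G :=
      fun h => hQr (Cfsg.Agent.Helper7.BG12.pRankLE_of_injective Q.subtype Q.subtype_injective h)
    obtain ⟨P, hP⟩ := Cfsg.Agent.Helper11.BG108.exists_isNarrow_of_not_ideal hG hr hni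
    have hQi : ¬ Nat.card ↥(sigmaCore M ⊓ centralizer (K : Set G)) ∣ Q.index := by
      rw [← Subgroup.relIndex_mul_index c.QS]
      intro hd
      rcases (Nat.Prime.dvd_mul hq).mp hd with h | h
      · exact c.hQi h
      · exact hHallG.2 _ hq hqσ h
    obtain ⟨P', hP'⟩ := exists_sylow_eq_of_normal Q c.hQq hQi
    have e : ↥(P : Subgroup G) ≃* ↥Q :=
      (Sylow.equiv P P').trans (MulEquiv.subgroupCongr hP')
    exact c.not_isNarrow (Cfsg.Agent.Helper8.Narrow.isNarrow_of_mulEquiv e hP)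
  refine ⟨hU, hder, c.card_K_prime, hq, hqQ.trans (Subgroup.card_dvd_of_le hQF), hβ,
    Q, hQF, hMQ, c.hQq, c.hQi, ?_⟩
  intro D' hD'
  have hπD := isPiHallOf_of_isComplIn hq c.hQq c.hQi c.hcompl
  have hπD' := isPiHallOf_of_isComplIn hq c.hQq c.hQi hD'
  haveI := c.hSsolv
  obtain ⟨m, hm, hconj⟩ := Cfsg.Agent.Helper1.PiHall.exists_conj_of_isPiHallOf hπD hπD'
  have hQ0eq : Q ⊓ centralizer (D' : Set G) = Q ⊓ centralizer (D : Set G) := by
    rw [← hconj]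
    exact inf_centralizer_map_conj (c.hSQ hm) (c.S_le_normalizer_Q0 hm)
  rw [hQ0eq]
  refine ⟨?_, hMQ0, c.Q0_lt, c.card_Q, fun a ha b hb => ⟨c.pow_mem_Q0 ha, c.commutator_mem_Q0 ha hb⟩,
    ?_⟩
  · rw [← hconj]
    exact BG16.isNilpotent_map_of_isNilpotent _ D c.D_nil
  · intro N h1 h2 hn
    exact c.minimal h1 h2 ((sup_le (c.DS.trans hSM) hKM).trans hn)

end Cfsg.Agent.Helper19.BG152
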