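import Mathlib
import Cfsg.Agent.Lib.Helper19.BG16E
import Cfsg.Agent.Lib.Helper19.BGKPrime

/-!
# BG Theorem C, `|K*|` prime, without S1372 (helper19)

`theorem_C_prime'` = the statement of S1373 from the frozen statements S1350, S1351, S1352, S1353,
S1354, S1366, S1369 and the first clause of S1430 (prime action), via `BGKPrime`.
-/

set_option autoImplicit false
set_option linter.unusedSectionVars false
set_option linter.unusedVariables false

namespace Cfsg.Agent.Helper19.BG16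

open Cfsg Subgroup

variable {G : Type*} [Group G]

/-- the first clause of the frozen statement of S1430 (prime action of `K` on `M_σ`) -/
def H1430a (G : Type*) [Group G] : Prop :=
  ∀ (M : Subgroup G), IsCoatom M → ∀ (K : Subgroup G), Cfsg.IsPiHallOf (Cfsg.kappa M) K M → K ≠ ⊥ →
    ∀ k ∈ K, k ≠ 1 → Cfsg.sigmaCore M ⊓ Subgroup.centralizer ({k} : Set G) =
      (Cfsg.sigmaCore M ⊓ Subgroup.centralizer (K : Set G))

/-- BG Theorem C (= the statement of S1373): if `K ≠ 1` and `U = 1` then `K*` has prime order. -/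
theorem theorem_C_prime' [Finite G] (hG : Cfsg.IsMinSimpleOddOrder G)
    (h50 : H1350 G) (h51 : H1351 G) (h52 : H1352 G) (h53 : H1353 G) (h54 : H1354 G)
    (h66 : H1366 G) (h69 : H1369 G) (h30 : H1430a G)
    (M : Subgroup G) (hM : IsCoatom M) (K U : Subgroup G)
    (hKU : Cfsg.IsSigmaDecomposition M K U) (hK1 : K ≠ ⊥) (hU : U = ⊥) :
    (Nat.card ↥(Cfsg.sigmaCore M ⊓ Subgroup.centralizer (K : Set G))).Prime := by
  obtain ⟨Ms, ⟨hMs, hKst, hKstH⟩, -⟩ := h66 M hM K U hKU hK1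
  obtain ⟨h1, -⟩ := h69 M hM K U hKU hK1 Ms hMs hKst hKstH
  have h2 : ∀ Ustar : Subgroup G, Cfsg.IsSigmaDecomposition Ms
      (Cfsg.sigmaCore M ⊓ Subgroup.centralizer (K : Set G)) Ustar → Ustar ≠ ⊥ := by
    rcases h1 with h | h
    · exact absurd hU h
    · exact h
  have hcyc : IsCyclic ↥(Cfsg.sigmaCore M ⊓ Subgroup.centralizer (K : Set G)) :=
    (h51 Ms hMs).2 _ hKstH
  obtain ⟨⟨Us, hUs⟩, -⟩ := h52 Ms hMs _ hcyc hKstH
  have hne : Cfsg.sigmaCore M ⊓ Subgroup.centralizer (K : Set G) ≠ ⊥ :=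
    (h54 M hM K hKU.cyclic hKU.hall).1
  exact BGKPrime.card_K_prime_of_U_ne_bot hG hMs (h50 Ms hMs).1 hUs hne (h2 Us hUs)
    (h30 Ms hMs _ hKstH hne) (h53 Ms hMs _ Us hUs)

end Cfsg.Agent.Helper19.BG16
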