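import Mathlib
import Cfsg.Agent.Lib.Helper19.BG152D
import Cfsg.Agent.Lib.Helper4.BGSigA
import Cfsg.Agent.Lib.Helper1.BG152
import Cfsg.Agent.Lib.Helper7.PLocal4
import Cfsg.Agent.Lib.Helper7.Layer
import Cfsg.Agent.Lib.Helper7.MaxComp5
import Cfsg.Agent.Lib.Helper7.FStar3
import Cfsg.Agent.Lib.Lead.BGThmB

/-!
# BG Theorem B(b) = the statement of S1356 (helper19)

`M'' ≤ F(M) = C_M(M_F) M_F`, and `F(M) ≤ M'` when `κ(M)` is nonempty.  Conditional on frozen
statements taken as hypotheses.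
-/

set_option autoImplicit false
set_option linter.unusedSectionVars false
set_option linter.unusedVariables false
set_option linter.style.haveILetI false

namespace Cfsg.Agent.Helper19.BG16

open Cfsg Subgroup
open scoped commutatorElement

universe u

variable {G : Type u} [Group G] [Finite G]

/-- `F(M) ≤ C_M(M_F) M_F`: general (the Hall subgroup `M_F` of the nilpotent group `F(M)` has a
complement, which centralises it). -/
theorem fittingOf_le_centralizer_sup (M : Subgroup G) :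
    fittingOf M ≤ (M ⊓ centralizer (fittingHallOf M : Set G)) ⊔ fittingHallOf M := by
  have hnilF : Group.IsNilpotent ↥(fittingOf M) := Cfsg.Agent.Lead.BGThmB.fittingOf_isNilpotent M
  haveI : Group.IsNilpotent ↥(fittingOf M) := hnilF
  haveI : Group.IsSolvable ↥(fittingOf M) := inferInstance
  have hNF : fittingHallOf M ≤ fittingOf M := Cfsg.Agent.Lead.BGThmB.fittingHallOf_le_fittingOf M
  have hFM : fittingOf M ≤ M := Subgroup.map_subtype_le _
  have hMN : M ≤ normalizer (fittingHallOf M : Set G) :=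
    Cfsg.Agent.Helper7.le_normalizer_fittingHallOf M
  have hcop := Cfsg.Agent.Helper7.fittingHallOf_coprime M
  have hHall : IsPiHallOf {p | p.Prime ∧ p ∣ Nat.card (fittingHallOf M)} (fittingHallOf M)
      (fittingOf M) := by
    refine ⟨hNF, fun p hp hd => ⟨hp, hd⟩, ?_⟩
    rintro p hp ⟨-, hpN⟩ hd
    have h1 : (fittingHallOf M).relIndex (fittingOf M) ∣ (fittingHallOf M).relIndex M := by
      rw [← Subgroup.relIndex_mul_relIndex _ _ _ hNF hFM]
      exact Dvd.intro _ rfl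
    have h2 := Nat.eq_one_of_dvd_coprimes hcop hpN (hd.trans h1)
    exact hp.one_lt.ne' h2
  obtain ⟨E, hE, -, hEπ, -⟩ := Cfsg.Agent.Helper1.PiHall.exists_isComplIn_ge (X := ⊥) hHall
    (hFM.trans hMN) bot_le (by
      intro p hp hd
      rw [Subgroup.card_bot] at hd
      exact absurd (Nat.dvd_one.1 hd) hp.one_lt.ne')
  intro x hx
  obtain ⟨a, ha, b, hb, rfl⟩ := hE.2.2.2 x hx
  refine mul_mem (mem_sup_left ⟨hFM (hE.1 ha), ?_⟩) (mem_sup_right hb)
  apply Cfsg.Agent.Helper7.mem_centralizer_of_isNilpotent_of_coprime (fittingOf M)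
    (fittingHallOf M) hnilF hNF (hFM.trans hMN) a (hE.1 ha)
  apply Nat.coprime_of_dvd
  intro p hp h1 h2
  exact hEπ p hp (h1.trans (Subgroup.orderOf_dvd_natCard E ha)) ⟨hp, h2⟩

/-- `M` normalises `C_M(H)` for `H` normalised by `M`. -/
theorem le_normalizer_inf_centralizer {M H : Subgroup G} (hMH : M ≤ normalizer (H : Set G)) :
    M ≤ normalizer ((M ⊓ centralizer (H : Set G) : Subgroup G) : Set G) := by
  apply Cfsg.Agent.Helper1.le_normalizer_of_forall_conj_mem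
  intro m hm c hc
  refine ⟨M.mul_mem (M.mul_mem hm hc.1) (M.inv_mem hm), ?_⟩
  have h1 := BG152.normalizer_le_normalizer_centralizer H (hMH hm)
  exact (mem_normalizer_iff.mp h1 c).mp hc.2

/-- if `C_M(M_F)` is nilpotent then `F(M) = C_M(M_F) M_F` -/
theorem fittingOf_eq_of_isNilpotent (M : Subgroup G)
    (hnil : Group.IsNilpotent ↥(M ⊓ centralizer (fittingHallOf M : Set G))) :
    fittingOf M = (M ⊓ centralizer (fittingHallOf M : Set G)) ⊔ fittingHallOf M := by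
  apply le_antisymm (fittingOf_le_centralizer_sup M)
  apply sup_le
  · exact Cfsg.Agent.Helper1.BG152.le_fittingOf inf_le_left
      (le_normalizer_inf_centralizer (Cfsg.Agent.Helper7.le_normalizer_fittingHallOf M)) hnil
  · exact Cfsg.Agent.Lead.BGThmB.fittingHallOf_le_fittingOf M

/-- Case `M_F = M_σ`: if `C_M(M_σ) = Z(M_σ) X` with `X` cyclic then `C_M(M_σ)` is nilpotent. -/
theorem isNilpotent_centralizer_of_cyclic {M S X : Subgroup G} (hXc : IsCyclic X)
    (h : M ⊓ centralizer (S : Set G) = (S ⊓ centralizer (S : Set G)) ⊔ X) :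
    Group.IsNilpotent ↥(M ⊓ centralizer (S : Set G)) := by
  have hX : X ≤ centralizer (S : Set G) := (le_sup_right.trans h.ge).trans inf_le_right
  have hcomm : ∀ u ∈ (S ⊓ centralizer (S : Set G)) ⊔ X,
      ∀ v ∈ (S ⊓ centralizer (S : Set G)) ⊔ X, u * v = v * u := by
    have hle : (S ⊓ centralizer (S : Set G)) ⊔ X ≤
        centralizer (((S ⊓ centralizer (S : Set G)) ⊔ X : Subgroup G) : Set G) := by
      rw [BG152.centralizer_sup']
      apply sup_le
      · apply le_inf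
        · intro z hz
          rw [mem_centralizer_iff]
          intro w hw
          exact mem_centralizer_iff.mp hz.2 w hw.1
        · intro z hz
          rw [mem_centralizer_iff]
          intro x hx
          exact (mem_centralizer_iff.mp (hX hx) z hz.1).symm
      · apply le_inf
        · intro x hx
          rw [mem_centralizer_iff]
          intro z hz
          exact mem_centralizer_iff.mp (hX hx) z hz.1
        · intro x hx
          rw [mem_centralizer_iff]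
          intro y hy
          exact Cfsg.Agent.Helper7.comm_of_mem_isCyclic X hXc hy hx
    intro u hu v hv
    exact (mem_centralizer_iff.mp (hle hu) v hv).symm
  rw [h]
  haveI := Cfsg.Agent.Helper7.MaxComp.isMulCommutative_of_comm hcomm
  exact Cfsg.Agent.Helper7.isNilpotent_of_isMulCommutative _

/-- A subgroup `C` of `M'` centralising the normal subgroup `M_F`, with `M'/M_F` nilpotent, is
nilpotent (central extension). -/
theorem isNilpotent_of_le_commutator_of_le_centralizer {M C : Subgroup G}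
    (hCM' : C ≤ ⁅M, M⁆) (hCc : C ≤ centralizer (fittingHallOf M : Set G))
    (hnil : Group.IsNilpotent
      ↥((commutator ↥M).map (QuotientGroup.mk' (Cfsg.fittingHall ↥M)))) :
    Group.IsNilpotent ↥C := by
  have hCM : C ≤ M := hCM'.trans (commutator_le_self M)
  -- work with `C' = C.subgroupOf M`
  let f : ↥(C.subgroupOf M) →* ↥M ⧸ Cfsg.fittingHall ↥M :=
    (QuotientGroup.mk' (Cfsg.fittingHall ↥M)).comp (C.subgroupOf M).subtype
  have hker : f.ker ≤ Subgroup.center ↥(C.subgroupOf M) := by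
    intro x hx
    rw [MonoidHom.mem_ker] at hx
    have h1 : (x : ↥M) ∈ Cfsg.fittingHall ↥M := by
      have : (QuotientGroup.mk' (Cfsg.fittingHall ↥M)) (x : ↥M) = 1 := hx
      rwa [QuotientGroup.mk'_apply, QuotientGroup.eq_one_iff] at this
    have h2 : ((x : ↥M) : G) ∈ fittingHallOf M := ⟨(x : ↥M), h1, rfl⟩
    rw [Subgroup.mem_center_iff]
    intro y
    have hy : ((y : ↥M) : G) ∈ C := mem_subgroupOf.mp y.2
    have h3 := mem_centralizer_iff.mp (hCc hy) _ h2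
    apply Subtype.ext
    apply Subtype.ext
    show ((y : ↥M) : G) * ((x : ↥M) : G) = ((x : ↥M) : G) * ((y : ↥M) : G)
    exact h3.symm
  have hrange : f.range ≤ (commutator ↥M).map (QuotientGroup.mk' (Cfsg.fittingHall ↥M)) := by
    rintro _ ⟨x, rfl⟩
    refine ⟨(x : ↥M), ?_, rfl⟩
    have hx : ((x : ↥M) : G) ∈ ⁅M, M⁆ := hCM' (mem_subgroupOf.mp x.2)
    rw [← Subgroup.map_subtype_commutator] at hx
    obtain ⟨w, hw, hwx⟩ := hx
    have : w = (x : ↥M) := Subtype.ext hwx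
    rw [← this]; exact hw
  have hnilr : Group.IsNilpotent ↥f.range := isNilpotent_of_le hrange hnil
  have hker' : f.rangeRestrict.ker ≤ Subgroup.center ↥(C.subgroupOf M) := by
    rw [MonoidHom.ker_rangeRestrict]; exact hker
  have hnilC' : Group.IsNilpotent ↥(C.subgroupOf M) := by
    haveI := hnilr
    exact Subgroup.isNilpotent_of_ker_le_center f.rangeRestrict hker'
  haveI := hnilC'
  exact Group.nilpotent_of_mulEquiv (Subgroup.subgroupOfEquivOfLe hCM)

/-- In the configuration of BG 15.2, with `M = K S`: `C_M(Q) ≤ S`. -/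
theorem centralizer_le_of_ctx {M S K Q D : Subgroup G} {q : ℕ} (c : BG152.Ctx S K Q D q)
    [Group.IsSolvable ↥M] (hcompl : IsComplIn K S M) (hMS : M ≤ normalizer (S : Set G)) :
    M ⊓ centralizer (Q : Set G) ≤ S := by
  have hp : (Nat.card K).Prime := c.card_K_prime
  have hcardM : Nat.card M = Nat.card K * Nat.card S :=
    Cfsg.Agent.Helper7.IsComplIn.card_eq hcompl
  have hSHall : IsPiHallOf {r | r.Prime ∧ r ≠ Nat.card K} S M := by
    refine Cfsg.Agent.Helper1.PiHall.isPiHallOf_of_card hcompl.2.1 (m := Nat.card S)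
      (k := Nat.card K) (by rw [hcardM, mul_comm]) ?_ ?_ rfl
    · intro r hr hrS
      refine ⟨hr, ?_⟩
      intro hrp
      rw [hrp] at hrS
      have := Nat.eq_one_of_dvd_coprimes c.hcop (dvd_refl _) hrS
      exact hp.one_lt.ne' this
    · intro r hr hrK hrπ
      exact hrπ.2 ((Nat.prime_dvd_prime_iff_eq hr hp).mp hrK)
  have hKHall : IsPiHallOf {r | r = Nat.card K} K M := by
    refine Cfsg.Agent.Helper1.PiHall.isPiHallOf_of_card hcompl.1 (m := Nat.card K)
      (k := Nat.card S) hcardM ?_ ?_ rfl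
    · intro r hr hrK
      exact (Nat.prime_dvd_prime_iff_eq hr hp).mp hrK
    · intro r hr hrS hrπ
      have hrπ' : r = Nat.card K := hrπ
      rw [hrπ'] at hrS
      have := Nat.eq_one_of_dvd_coprimes c.hcop (dvd_refl _) hrS
      exact hp.one_lt.ne' this
  apply Cfsg.Agent.Helper1.PiHall.le_of_isPiHallOf_of_le_normalizer hSHall hMS inf_le_left
  intro r hr hrC
  refine ⟨hr, ?_⟩
  intro hrp
  rw [hrp] at hrC
  haveI : Fact (Nat.card K).Prime := ⟨hp⟩
  obtain ⟨x, hx⟩ := exists_prime_orderOf_dvd_card'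
    (G := ↥(M ⊓ centralizer (Q : Set G))) (Nat.card K) hrC
  have hxo : orderOf (x : G) = Nat.card K := by rw [Subgroup.orderOf_coe, hx]
  have hxM : (x : G) ∈ M := x.2.1
  have hxc : (x : G) ∈ centralizer (Q : Set G) := x.2.2
  have hZM : zpowers (x : G) ≤ M := by rw [zpowers_le]; exact hxM
  obtain ⟨m, hm, hconj⟩ := Cfsg.Agent.Helper1.PiHall.exists_conj_le_of_isPiHallOf hKHall hZM
    (by
      intro r hr hrd
      rw [Nat.card_zpowers, hxo] at hrd
      exact (Nat.prime_dvd_prime_iff_eq hr hp).mp hrd)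
  have hkK : m * (x : G) * m⁻¹ ∈ K :=
    hconj ⟨(x : G), mem_zpowers _, by simp [MulAut.conj_apply]⟩
  have hk1 : m * (x : G) * m⁻¹ ≠ 1 := by
    intro h
    have h1 : (x : G) = 1 := by
      have : (x : G) = m⁻¹ * (m * (x : G) * m⁻¹) * m := by group
      rw [this, h]; group
    rw [h1, orderOf_one] at hxo
    exact hp.one_lt.ne hxo
  -- `m x m⁻¹` centralises `Q`
  have hMgen : M ≤ K ⊔ S := by
    intro y hy
    obtain ⟨a, ha, b, hb, rfl⟩ := hcompl.2.2.2 y hy
    exact mul_mem (mem_sup_left ha) (mem_sup_right hb)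
  have hMQ : M ≤ normalizer (Q : Set G) := hMgen.trans (sup_le c.hKQ c.hSQ)
  have hkc : m * (x : G) * m⁻¹ ∈ centralizer (Q : Set G) :=
    (mem_normalizer_iff.mp (BG152.normalizer_le_normalizer_centralizer Q (hMQ hm)) _).mp hxc
  have hQle : Q ≤ S ⊓ centralizer (K : Set G) := by
    rw [← c.hpr _ hkK hk1]
    intro z hz
    refine ⟨c.QS hz, ?_⟩
    show z ∈ centralizer ({m * (x : G) * m⁻¹} : Set G)
    rw [mem_centralizer_iff]
    intro w hw
    rw [Set.mem_singleton_iff] at hw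
    rw [hw]
    exact (mem_centralizer_iff.mp hkc z hz).symm
  have h1 : Nat.card Q ≤ q := by
    rw [← c.hKs]; exact Subgroup.card_le_of_le hQle
  have h2 := c.card_Q
  have hq1 : 1 < q := c.hq.one_lt
  have h3 : q ^ 2 ≤ q ^ Nat.card K := Nat.pow_le_pow_right c.hq.pos hp.two_le
  have h4 : 0 < Nat.card ↥(Q ⊓ centralizer (D : Set G)) := Nat.card_pos
  have h5 : q ^ 2 ≤ Nat.card Q := by
    rw [h2]
    calc q ^ 2 ≤ q ^ Nat.card K := h3
      _ = 1 * q ^ Nat.card K := (one_mul _).symm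
      _ ≤ Nat.card ↥(Q ⊓ centralizer (D : Set G)) * q ^ Nat.card K :=
        Nat.mul_le_mul_right _ h4
  nlinarith

/-- `M = S E` with `S` normal and `E'` abelian: `M'' ≤ S`. -/
theorem derived2_le_of_abelian_derived {M S E : Subgroup G} (hcompl : IsComplIn E S M)
    (hMS : M ≤ normalizer (S : Set G)) (hEab : IsMulCommutative ↥⁅E, E⁆) :
    ⁅⁅M, M⁆, ⁅M, M⁆⁆ ≤ S := by
  have hfac : ∀ l ∈ M, ∃ n ∈ S, ∃ d ∈ E, l = n * d := by
    intro l hl
    obtain ⟨a, ha, b, hb, hab⟩ := hcompl.2.2.2 l⁻¹ (M.inv_mem hl)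
    refine ⟨b⁻¹, S.inv_mem hb, a⁻¹, E.inv_mem ha, ?_⟩
    rw [← mul_inv_rev, ← hab, inv_inv]
  have h1 : ⁅M, M⁆ ≤ S ⊔ ⁅E, E⁆ :=
    Cfsg.Agent.Helper4.BGSig.commutator_le_sup_of_factor hcompl.2.1 hMS hcompl.1 hfac
  have hE'N : ⁅E, E⁆ ≤ normalizer (S : Set G) :=
    ((commutator_le_self E).trans hcompl.1).trans hMS
  have h3 : ⁅S ⊔ ⁅E, E⁆, S ⊔ ⁅E, E⁆⁆ ≤ S ⊔ ⁅⁅E, E⁆, ⁅E, E⁆⁆ :=
    Cfsg.Agent.Helper4.BGSig.commutator_le_sup_of_factor le_sup_left
      (sup_le le_normalizer hE'N) le_sup_right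
      (fun l hl => Cfsg.Agent.Helper1.exists_mul_of_mem_sup hE'N hl)
  have h4 : ⁅⁅E, E⁆, ⁅E, E⁆⁆ = ⊥ := by
    rw [Subgroup.commutator_eq_bot_iff_le_centralizer]
    exact Subgroup.le_centralizer_iff_isMulCommutative.mpr hEab
  rw [h4, sup_bot_eq] at h3
  exact (Subgroup.commutator_mono h1 h1).trans h3

/-- In the configuration of BG 15.2, `S'` lies in the nilpotent group `Q [D, D]`. -/
theorem derived_isNilpotent_of_ctx {S K Q D : Subgroup G} {q : ℕ} (c : BG152.Ctx S K Q D q) :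
    Group.IsNilpotent ↥⁅S, S⁆ := by
  have h1 : ⁅S, S⁆ ≤ Q ⊔ ⁅D, D⁆ :=
    Cfsg.Agent.Helper4.BGSig.commutator_le_sup_of_factor c.QS c.hSQ c.DS c.hcompl.2.2.2
  have hD'D : ⁅D, D⁆ ≤ D := commutator_le_self D
  have hD'N : ⁅D, D⁆ ≤ normalizer (Q : Set G) := (hD'D.trans c.DS).trans c.hSQ
  have hcompl : IsComplIn Q ⁅D, D⁆ (Q ⊔ ⁅D, D⁆) := by
    refine ⟨le_sup_left, le_sup_right, ?_, ?_⟩
    · rw [eq_bot_iff, ← c.hcompl.2.2.1]
      exact inf_le_inf_left _ hD'D
    · intro l hl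
      exact Cfsg.Agent.Helper1.exists_mul_of_mem_sup hD'N hl
  have hnil : Group.IsNilpotent ↥(Q ⊔ ⁅D, D⁆) :=
    BG152.isNilpotent_of_isComplIn_of_le_centralizer hcompl c.Q_nil
      (isNilpotent_of_le hD'D c.D_nil) c.commutator_D_le
  exact isNilpotent_of_le h1 hnil

/-- A normal `ℓ`-subgroup of `M` with `ℓ ∈ κ(M)` is trivial (from the last clause of S1430). -/
theorem normal_kappa_subgroup_eq_bot (hG : IsMinSimpleOddOrder G) {M : Subgroup G}
    (hM : IsCoatom M) (hHall : IsPiHallOf (sigma M) (sigmaCore M) M) {K : Subgroup G}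
    (hK : IsPiHallOf (kappa M) K M) (hKc : IsCyclic K)
    (h30c : ∀ X : Subgroup G, X ≤ K → (Nat.card X).Prime → ∀ Mstar : Subgroup G, IsCoatom Mstar →
      normalizer (X : Set G) ≤ Mstar → X ≤ sigmaCore Mstar)
    {ℓ : ℕ} (hℓ : ℓ ∈ kappa M) {R : Subgroup G} (hRM : R ≤ M)
    (hMR : M ≤ normalizer (R : Set G)) (hRℓ : IsPGroup ℓ R) : R = ⊥ := by
  by_contra hR1
  haveI : Fact ℓ.Prime := ⟨hℓ.1⟩
  haveI : Group.IsSolvable ↥M := hG.2.2.2 M hM.1
  -- `R ≤ K`
  have hRK : R ≤ K := by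
    obtain ⟨m, hm, hconj⟩ := Cfsg.Agent.Helper1.PiHall.exists_conj_le_of_isPiHallOf hK hRM
      (by
        intro r hr hrR
        obtain ⟨n, hn⟩ := IsPGroup.iff_card.mp hRℓ
        rw [hn] at hrR
        rw [(Nat.prime_dvd_prime_iff_eq hr hℓ.1).mp (hr.dvd_of_dvd_pow hrR)]
        exact hℓ)
    have h1 : R.map (MulAut.conj m).toMonoidHom = R :=
      Subgroup.mem_normalizer_iff_map_conj_eq.mp (hMR hm)
    rwa [h1] at hconj
  -- an element of order `ℓ`
  have hℓR : ℓ ∣ Nat.card R := by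
    rcases hRℓ.card_eq_or_dvd with h | h
    · exact absurd (Subgroup.card_eq_one.mp h) hR1
    · exact h
  obtain ⟨y, hy⟩ := exists_prime_orderOf_dvd_card' (G := ↥R) ℓ hℓR
  have hyo : orderOf (y : G) = ℓ := by rw [Subgroup.orderOf_coe, hy]
  have hyK : (y : G) ∈ K := hRK y.2
  have hX1 : zpowers (y : G) ≠ ⊥ := by
    intro h
    have h1 : (y : G) = 1 := by
      have : (y : G) ∈ zpowers (y : G) := mem_zpowers _
      rw [h, mem_bot] at this; exact this
    rw [h1, orderOf_one] at hyo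
    exact hℓ.1.one_lt.ne hyo
  have hXcard : Nat.card ↥(zpowers (y : G)) = ℓ := by rw [Nat.card_zpowers, hyo]
  have hXK : zpowers (y : G) ≤ K := by rw [zpowers_le]; exact hyK
  -- `M` normalises `X = ⟨y⟩`
  have hMX : M ≤ normalizer ((zpowers (y : G) : Subgroup G) : Set G) := by
    apply Cfsg.Agent.Helper1.le_normalizer_of_forall_conj_mem
    intro g hg x hx
    have hgy : g * (y : G) * g⁻¹ ∈ R := (mem_normalizer_iff.mp (hMR hg) _).mp y.2
    have hgyo : orderOf (g * (y : G) * g⁻¹) = ℓ := by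
      rw [← hyo]
      have := MulEquiv.orderOf_eq (MulAut.conj g) (y : G)
      rwa [MulAut.conj_apply] at this
    haveI := hKc
    have h1 : (⟨g * (y : G) * g⁻¹, hRK hgy⟩ : ↥K) ∈ zpowers (⟨(y : G), hyK⟩ : ↥K) := by
      apply mem_zpowers_of_orderOf_eq_prime hℓ.1
      · rw [← Subgroup.orderOf_coe]; exact hgyo
      · rw [← Subgroup.orderOf_coe]; exact hyo
    obtain ⟨n, hn⟩ := mem_zpowers_iff.mp h1
    have hn' : (y : G) ^ n = g * (y : G) * g⁻¹ := by
      have := congrArg Subtype.val hn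
      simpa using this
    obtain ⟨j, rfl⟩ := mem_zpowers_iff.mp hx
    have e : g * (y : G) ^ j * g⁻¹ = (g * (y : G) * g⁻¹) ^ j := by
      rw [conj_zpow]
    rw [e, ← hn', ← zpow_mul]
    exact zpow_mem (mem_zpowers _) _
  have hXp : IsPGroup ℓ ↥(zpowers (y : G)) := hRℓ.to_le (by rw [zpowers_le]; exact y.2)
  have hnt := Cfsg.Agent.Helper14.BGTrans.normalizer_ne_top_of_isPGroup hG hXp hX1
  have hN : normalizer ((zpowers (y : G) : Subgroup G) : Set G) = M := by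
    rcases hM.le_iff.mp hMX with h | h
    · exact absurd h hnt
    · exact h
  have hXσ := h30c (zpowers (y : G)) hXK (by rw [hXcard]; exact hℓ.1) M hM hN.le
  have hℓσ : ℓ ∈ sigma M := by
    apply hHall.2.1 ℓ hℓ.1
    rw [← hXcard]
    exact Subgroup.card_dvd_of_le hXσ
  exact hℓ.2.2.1 hℓσ

/-- `F(M) ≤ M'` when `κ(M)` is nonempty. -/
theorem fittingOf_le_commutator (hG : IsMinSimpleOddOrder G)
    (h50 : H1350 G) (h51 : H1351 G) (h52 : H1352 G) (h53 : H1353 G) (h04 : H1404 G)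
    (h30 : BG152.H1430 G) (M : Subgroup G) (hM : IsCoatom M) (hκ : (kappa M).Nonempty) :
    fittingOf M ≤ ⁅M, M⁆ := by
  obtain ⟨hHall, -, -⟩ := h50 M hM
  haveI : Group.IsSolvable ↥M := hG.2.2.2 M hM.1
  obtain ⟨⟨K, hK⟩, hcyc⟩ := h51 M hM
  have hKc : IsCyclic K := hcyc K hK
  have hSM : sigmaCore M ≤ M := hHall.1
  have hMS : M ≤ normalizer (sigmaCore M : Set G) :=
    Cfsg.Agent.Helper14.BGTrans.le_normalizer_piCoreOf (sigma M) M
  have hK1 : K ≠ ⊥ := by
    obtain ⟨p, hp⟩ := hκ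
    intro hK0
    have h1 := Cfsg.Agent.Lead.BGThmC2.card_eq_mul_relIndex hK.1
    rw [hK0, Subgroup.card_bot, one_mul] at h1
    apply hK.2.2 p hp.1 hp
    rw [hK0, ← h1]
    exact hp.2.1
  obtain ⟨⟨U, hKU⟩, -⟩ := h52 M hM K hKc hK
  have hder := (theorem_C_derived hG h50 h53 h04 M hM K U hKU hK1).1
  have hUM : U ≤ M := hKU.compl.1
  have hUσ : ∀ p : ℕ, p.Prime → p ∣ Nat.card U → p ∉ sigma M := fun p hp hpU =>
    Cfsg.Agent.Lead.BGThmC.not_mem_sigma_of_dvd_card M K U hKU hHall hp hpU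
  have hUκ : ∀ p : ℕ, p.Prime → p ∣ Nat.card U → p ∉ kappa M := fun p hp hpU =>
    Cfsg.Agent.Lead.BGThmC2.not_mem_kappa_of_dvd_card M K U hKU hp hpU
  -- `|M : M'|` divides `|K|`
  have hcardN : Nat.card ↥(U ⊔ sigmaCore M) ∣ Nat.card U * Nat.card (sigmaCore M) := by
    have := Cfsg.Agent.Helper7.card_sup_dvd_mul_of_le_normalizer (X := sigmaCore M) (Y := U)
      (hUM.trans hMS)
    rwa [sup_comm, mul_comm] at this
  have hrel : (⁅M, M⁆).relIndex M ∣ Nat.card K := by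
    have h1 : Nat.card M = Nat.card ↥⁅M, M⁆ * (⁅M, M⁆).relIndex M :=
      Cfsg.Agent.Lead.BGThmC2.card_eq_mul_relIndex (commutator_le_self M)
    have h2 : Nat.card M = Nat.card U * Nat.card ↥(K ⊔ sigmaCore M) :=
      Cfsg.Agent.Helper7.IsComplIn.card_eq hKU.compl
    have h3 : Nat.card ↥(K ⊔ sigmaCore M) ∣ Nat.card (sigmaCore M) * Nat.card K := by
      have := Cfsg.Agent.Helper7.card_sup_dvd_mul_of_le_normalizer (X := sigmaCore M) (Y := K)
        (hK.1.trans hMS)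
      rwa [sup_comm] at this
    have hcopUS : (Nat.card U).Coprime (Nat.card (sigmaCore M)) := by
      apply Nat.coprime_of_dvd
      intro p hp hpU hpS
      exact hUσ p hp hpU (hHall.2.1 p hp hpS)
    have h4 : Nat.card U * Nat.card (sigmaCore M) ∣ Nat.card ↥⁅M, M⁆ := by
      rw [hder]
      exact Nat.Coprime.mul_dvd_of_dvd_of_dvd hcopUS (Subgroup.card_dvd_of_le le_sup_left)
        (Subgroup.card_dvd_of_le le_sup_right)
    have h5 : (Nat.card U * Nat.card (sigmaCore M)) * (⁅M, M⁆).relIndex M ∣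
        (Nat.card U * Nat.card (sigmaCore M)) * Nat.card K := by
      calc (Nat.card U * Nat.card (sigmaCore M)) * (⁅M, M⁆).relIndex M
          ∣ Nat.card ↥⁅M, M⁆ * (⁅M, M⁆).relIndex M := Nat.mul_dvd_mul_right h4 _
        _ = Nat.card U * Nat.card ↥(K ⊔ sigmaCore M) := by rw [← h1, h2]
        _ ∣ Nat.card U * (Nat.card (sigmaCore M) * Nat.card K) := Nat.mul_dvd_mul_left _ h3
        _ = (Nat.card U * Nat.card (sigmaCore M)) * Nat.card K := by ring
    exact Nat.dvd_of_mul_dvd_mul_left (Nat.mul_pos Nat.card_pos Nat.card_pos) h5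
  have hHallM' : IsPiHallOf {r | r.Prime ∧ r ∉ kappa M} ⁅M, M⁆ M := by
    refine ⟨commutator_le_self M, ?_, ?_⟩
    · intro r hr hrd
      refine ⟨hr, ?_⟩
      rw [hder] at hrd
      rcases (Nat.Prime.dvd_mul hr).mp (hrd.trans hcardN) with h | h
      · exact hUκ r hr h
      · intro hrκ
        exact hrκ.2.2.1 (hHall.2.1 r hr h)
    · rintro r hr ⟨-, hrκ⟩ hd
      exact hrκ (hK.2.1 r hr (hd.trans hrel))
  rw [Cfsg.Agent.Helper8.FitPrime.fittingOf_eq_iSup]
  apply iSup_le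
  intro ℓ
  haveI : Fact (ℓ : ℕ).Prime := ⟨ℓ.2⟩
  have hRM : Cfsg.Agent.Helper8.FitPrime.pCoreOf (ℓ : ℕ) M ≤ M :=
    Cfsg.Agent.Helper8.FitPrime.pCoreOf_le _ M
  have hMR : M ≤ normalizer (Cfsg.Agent.Helper8.FitPrime.pCoreOf (ℓ : ℕ) M : Set G) := by
    haveI := Cfsg.Agent.Helper7.pCore_characteristic (G := ↥M) (ℓ : ℕ)
    exact le_normalizer.trans
      (Cfsg.Agent.Helper1.normalizer_le_normalizer_map_of_characteristic M (Cfsg.pCore (ℓ : ℕ) ↥M))
  have hRℓ : IsPGroup (ℓ : ℕ) ↥(Cfsg.Agent.Helper8.FitPrime.pCoreOf (ℓ : ℕ) M) :=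
    Cfsg.Agent.Helper8.FitPrime.pCoreOf_isPGroup _ M
  by_cases hℓ : (ℓ : ℕ) ∈ kappa M
  · rw [normal_kappa_subgroup_eq_bot hG hM hHall hK hKc
      (fun X hXK hXp Ms hMs hN => ((h30 M hM K hK hK1).2.2 X hXK hXp).2.2 Ms hMs hN)
      hℓ hRM hMR hRℓ]
    exact bot_le
  · apply Cfsg.Agent.Helper1.PiHall.le_of_isPiHallOf_of_le_normalizer hHallM'
      (le_normalizer.trans (Cfsg.Agent.Helper7.normalizer_le_normalizer_commutator M)) hRM
    intro r hr hrR
    obtain ⟨n, hn⟩ := IsPGroup.iff_card.mp hRℓ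
    rw [hn] at hrR
    rw [(Nat.prime_dvd_prime_iff_eq hr ℓ.2).mp (hr.dvd_of_dvd_pow hrR)]
    exact ⟨ℓ.2, hℓ⟩

/-- the frozen statement of S1355 -/
def H1355 (G : Type*) [Group G] : Prop :=
  ∀ (M : Subgroup G), IsCoatom M →
    Cfsg.fittingHallOf M ≠ ⊥ ∧ Cfsg.fittingHallOf M ≤ Cfsg.sigmaCore M ∧ Cfsg.sigmaCore M ≤ ⁅M, M⁆ ∧ ⁅M, M⁆ < M ∧
      Group.IsNilpotent ↥((commutator ↥M).map (QuotientGroup.mk' (Cfsg.fittingHall ↥M)))

/-- the frozen statement of S1420 -/
def H1420 (G : Type*) [Group G] : Prop :=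
  ∀ (M : Subgroup G), IsCoatom M → ∀ (E : Subgroup G), Cfsg.IsComplIn E (Cfsg.sigmaCore M) M →
    (∀ N : Subgroup G, N ≤ M → Group.IsNilpotent N → (∀ p : ℕ, p.Prime → p ∣ Nat.card N → p ∉ Cfsg.sigma M) → IsMulCommutative N) ∧
      IsMulCommutative ↥⁅E, E⁆ ∧
      (∀ (p : ℕ) (P : Subgroup G), p ∈ Cfsg.sigma M → IsPGroup p P → P ≤ M → ¬ IsCyclic P → Subgroup.normalizer (P : Set G) ≤ M) ∧
      ∀ x ∈ M, x ≠ 1 → (∀ p : ℕ, p.Prime → p ∣ orderOf x → p ∈ Cfsg.tau2 M) → x ∈ Cfsg.sigmaHat M →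
        Subgroup.centralizer ({x} : Set G) ≤ M ∧ ∀ L : Subgroup G, IsCoatom L → Subgroup.centralizer ({x} : Set G) ≤ L → L = M

/-- the frozen statement of S1438 -/
def H1438 (G : Type*) [Group G] : Prop :=
  ∀ (M : Subgroup G), IsCoatom M → ∀ (H : Subgroup G), H ≤ Cfsg.sigmaCore M → H ≠ ⊥ →
    (Nat.card H).Coprime (H.relIndex (Cfsg.sigmaCore M)) →
    (∃ X : Subgroup G, IsCyclic X ∧ (∀ p : ℕ, p.Prime → p ∣ Nat.card X → p ∈ Cfsg.tau2 M) ∧
        M ⊓ Subgroup.centralizer (H : Set G) = (Cfsg.sigmaCore M ⊓ Subgroup.centralizer (H : Set G)) ⊔ X) ∧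
      ∀ x ∈ H, ∀ g : G, g * x * g⁻¹ ∈ H → ∃ n ∈ M ⊓ Subgroup.normalizer (H : Set G), n * x * n⁻¹ = g * x * g⁻¹

/-- In the configuration of BG 15.2 for `M`, `Q ≤ M_F`. -/
theorem Q_le_fittingHallOf_of_ctx {M K Q D : Subgroup G} {q : ℕ}
    (c : BG152.Ctx (sigmaCore M) K Q D q) (hHall : IsPiHallOf (sigma M) (sigmaCore M) M)
    (hMQ : M ≤ normalizer (Q : Set G)) : Q ≤ fittingHallOf M := by
  have hSM : sigmaCore M ≤ M := hHall.1
  have hqσ : q ∈ sigma M := hHall.2.1 _ c.hq c.q_dvd_S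
  apply Cfsg.Agent.Helper7.le_fittingHallOf (c.QS.trans hSM) hMQ c.Q_nil
  haveI : Fact q.Prime := ⟨c.hq⟩
  obtain ⟨n, hn⟩ := IsPGroup.iff_card.mp c.hQq
  rw [hn]
  apply Nat.Coprime.pow_left
  rw [Nat.Prime.coprime_iff_not_dvd c.hq]
  rw [← Subgroup.relIndex_mul_relIndex Q (sigmaCore M) M c.QS hSM]
  intro hd
  rcases (Nat.Prime.dvd_mul c.hq).mp hd with h | h
  · exact c.hQi h
  · exact hHall.2.2 _ c.hq hqσ h

/-- **BG Theorem B(b)** (= the statement of S1356). -/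
theorem theorem_B_b (hG : Cfsg.IsMinSimpleOddOrder G)
    (h50 : H1350 G) (h51 : H1351 G) (h52 : H1352 G) (h53 : H1353 G)
    (h54 : H1354 G) (h66 : H1366 G) (h69 : H1369 G) (h04 : H1404 G)
    (h26 : BG152.H1426 G) (h29 : BG152.H1429 G) (h30 : BG152.H1430 G)
    (h55 : H1355 G) (h20 : H1420 G) (h38 : H1438 G)
    (M : Subgroup G) (hM : IsCoatom M) :
    ⁅⁅M, M⁆, ⁅M, M⁆⁆ ≤ Cfsg.fittingOf M ∧
      Cfsg.fittingOf M = (M ⊓ Subgroup.centralizer (Cfsg.fittingHallOf M : Set G)) ⊔ Cfsg.fittingHallOf M ∧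
      ((Cfsg.kappa M).Nonempty → Cfsg.fittingOf M ≤ ⁅M, M⁆) := by
  obtain ⟨hHall, -, -⟩ := h50 M hM
  haveI : Group.IsSolvable ↥M := hG.2.2.2 M hM.1
  have hSM : sigmaCore M ≤ M := hHall.1
  have hMS : M ≤ normalizer (sigmaCore M : Set G) :=
    Cfsg.Agent.Helper14.BGTrans.le_normalizer_piCoreOf (sigma M) M
  obtain ⟨hF1, hFS, hSM', -, hnilq⟩ := h55 M hM
  have h3 := fittingOf_le_commutator hG h50 h51 h52 h53 h04 h30 M hM
  by_cases heq : fittingHallOf M = sigmaCore M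
  · -- `M_σ` nilpotent
    have hSF : sigmaCore M ≤ fittingOf M := by
      rw [← heq]; exact Cfsg.Agent.Lead.BGThmB.fittingHallOf_le_fittingOf M
    obtain ⟨E, hE, -, -, -⟩ := Cfsg.Agent.Helper1.PiHall.exists_isComplIn_ge (X := ⊥) hHall hMS
      bot_le (by
        intro p hp hd
        rw [Subgroup.card_bot] at hd
        exact absurd (Nat.dvd_one.1 hd) hp.one_lt.ne')
    refine ⟨(derived2_le_of_abelian_derived hE hMS (h20 M hM E hE).2.1).trans hSF, ?_, h3⟩
    apply fittingOf_eq_of_isNilpotent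
    rw [heq]
    obtain ⟨⟨X, hXc, -, hX⟩, -⟩ := h38 M hM (sigmaCore M) le_rfl (heq ▸ hF1)
      (by rw [Subgroup.relIndex_self]; exact Nat.coprime_one_right _)
    exact isNilpotent_centralizer_of_cyclic hXc hX
  · -- the configuration of 15.2
    obtain ⟨⟨K, hK⟩, hcyc⟩ := h51 M hM
    obtain ⟨⟨U, hKU⟩, -⟩ := h52 M hM K (hcyc K hK) hK
    obtain ⟨hU, hK1, hder, hcomplK, hq, Q, D, c, hQn⟩ :=
      BG152.exists_ctx_of_ne hG h50 h51 h52 h53 h54 h66 h69 h04 h26 h29 h30 M hM K U hKU heq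
    have hMgen : M ≤ K ⊔ sigmaCore M := by
      intro m hm
      obtain ⟨a, ha, b, hb, rfl⟩ := hcomplK.2.2.2 m hm
      exact mul_mem (mem_sup_left ha) (mem_sup_right hb)
    have hMQ : M ≤ normalizer (Q : Set G) := hMgen.trans (sup_le c.hKQ c.hSQ)
    refine ⟨?_, ?_, h3⟩
    · rw [← hder]
      exact Cfsg.Agent.Helper1.BG152.le_fittingOf ((commutator_le_self _).trans hSM)
        (hMS.trans (Cfsg.Agent.Helper7.normalizer_le_normalizer_commutator _))
        (derived_isNilpotent_of_ctx c)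
    · apply fittingOf_eq_of_isNilpotent
      have hQF := Q_le_fittingHallOf_of_ctx c hHall hMQ
      have hC1 : M ⊓ centralizer (fittingHallOf M : Set G) ≤ M ⊓ centralizer (Q : Set G) :=
        inf_le_inf_left _ (centralizer_le (SetLike.coe_subset_coe.2 hQF))
      have hC2 : M ⊓ centralizer (fittingHallOf M : Set G) ≤ sigmaCore M :=
        hC1.trans (centralizer_le_of_ctx c hcomplK hMS)
      exact isNilpotent_of_le_commutator_of_le_centralizer (hder ▸ hC2) inf_le_right hnilq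

end Cfsg.Agent.Helper19.BG16
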