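import Mathlib
import Cfsg.Prelude.Def_Blocks
import Cfsg.Agent.Lib.Helper24.CharLinear
import Cfsg.Agent.Lib.Helper24.CharInduced
import Cfsg.Agent.Lib.Helper24.CharComplete
import Cfsg.Agent.Lib.Helper24.CharHom
import Cfsg.Agent.Lib.Helper24.CharAlgebra
import Cfsg.Agent.Lib.Helper10.BR996Defs
import Cfsg.Agent.Lib.Helper21.BTDefs
import Cfsg.Agent.Lib.Helper21.BHDefs
import Cfsg.Agent.Lib.Helper12.BRBINNER

/-!
# S4504 (helper21's farm-out), PIECE DEFL (helper19): `ζ ζ̄` and `ζ ζ̄'` as characters of `H = G / Z(G)`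
-/

set_option autoImplicit false
set_option linter.unusedSectionVars false
set_option linter.unusedVariables false
set_option linter.style.haveILetI false

namespace Cfsg.Agent.Helper21.BH

open scoped ComplexConjugate
open Cfsg Cfsg.Agent.Helper24 Cfsg.Agent.Helper10.BR996 Cfsg.Agent.Helper21.BT

universe u

namespace DEFL

/-- deflation along a surjective homomorphism -/
theorem exists_defl_hom {G : Type u} [Group G] [Finite G] {H : Type u} [Group H] (π : G →* H)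
    (hπ : Function.Surjective π) {χ : G → ℂ} (h : IsCharacter G χ)
    (hN : ∀ n ∈ π.ker, χ n = χ 1) :
    ∃ Ξ : H → ℂ, IsCharacter H Ξ ∧ ∀ x : G, Ξ (π x) = χ x := by
  obtain ⟨ψ, hψ, hχ⟩ := exists_deflate_char π.ker h hN
  let e := QuotientGroup.quotientKerEquivOfSurjective π hπ
  refine ⟨ψ ∘ e.symm.toMonoidHom, isCharacter_comp e.symm.toMonoidHom hψ, fun x => ?_⟩
  have h1 : e.symm (π x) = (QuotientGroup.mk x : G ⧸ π.ker) := by
    rw [MulEquiv.symm_apply_eq]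
    rfl
  simp only [Function.comp_apply, MulEquiv.toMonoidHom_eq_coe, MonoidHom.coe_coe]
  rw [h1, hχ]
  rfl

/-- central elements are `p`-regular -/
theorem center_reg {G : Type u} [Group G] [Fintype G] {p : ℕ} [Fact p.Prime]
    (hZ : ¬ p ∣ Nat.card (Subgroup.center G)) {z : G} (hz : z ∈ Subgroup.center G) :
    ¬ p ∣ orderOf z := by
  intro hd
  apply hZ
  have h1 : orderOf (⟨z, hz⟩ : Subgroup.center G) = orderOf z := Subgroup.orderOf_mk z hz
  rw [← h1] at hd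
  exact hd.trans (orderOf_dvd_natCard _)

end DEFL

section GH

variable {G : Type u} [Group G] [Fintype G] [Fintype (IrrCharacter G)]
  [Fintype (Subgroup.center G)]
variable {H : Type u} [Group H] [Fintype H] [Fintype (IrrCharacter H)]
variable {p : ℕ} [Fact p.Prime] {P : Sylow p G} {w : ℕ} {ζ ζ' : IrrCharacter G} {z₁ z₂ : G}
variable (π : G →* H)

theorem exists_defl (hπ : Function.Surjective π) (hker : π.ker = Subgroup.center G)
    (C : Cfg p P w ζ ζ' z₁ z₂) :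
    ∃ Ξ Ξ' : H → ℂ, IsCharacter H Ξ ∧ IsCharacter H Ξ' ∧
      (∀ x : G, Ξ (π x) = (ζ : G → ℂ) x * conj ((ζ : G → ℂ) x)) ∧
      (∀ x : G, Ξ' (π x) = (ζ : G → ℂ) x * conj ((ζ' : G → ℂ) x)) := by
  have hζ : IsCharacter G (ζ : G → ℂ) := isCharacter_of_isIrrCharacter ζ.2
  have hζ' : IsCharacter G (ζ' : G → ℂ) := isCharacter_of_isIrrCharacter ζ'.2
  have h1 : (ζ' : G → ℂ) 1 = (ζ : G → ℂ) 1 := C.hreg 1 (by
    rw [orderOf_one]
    exact (Fact.out : p.Prime).one_lt.ne' ∘ Nat.dvd_one.1)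
  have hc1 : IsCharacter G ((ζ : G → ℂ) * fun g => conj ((ζ : G → ℂ) g)) :=
    isCharacter_mul hζ (isCharacter_conj hζ)
  have hc2 : IsCharacter G ((ζ : G → ℂ) * fun g => conj ((ζ' : G → ℂ) g)) :=
    isCharacter_mul hζ (isCharacter_conj hζ')
  have key : ∀ n ∈ π.ker, ∃ v : ℂ, v * conj v = 1 ∧ (ζ : G → ℂ) n = v * (ζ : G → ℂ) 1 ∧
      (ζ' : G → ℂ) n = v * (ζ' : G → ℂ) 1 := by
    intro n hn
    rw [hker] at hn
    obtain ⟨v, hv, hva⟩ := Cfsg.Agent.Helper14.BRB.INNER_central_mul ζ ζ' n hn h1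
      (C.hreg n (DEFL.center_reg C.hZ hn))
    refine ⟨v, hv, ?_, ?_⟩
    · have := (hva 1).1
      rwa [one_mul] at this
    · have := (hva 1).2
      rwa [one_mul] at this
  obtain ⟨Ξ, hΞ, hΞe⟩ := DEFL.exists_defl_hom π hπ hc1 (by
    intro n hn
    obtain ⟨v, hv, e1, e2⟩ := key n hn
    simp only [Pi.mul_apply]
    rw [e1, map_mul]
    linear_combination ((ζ : G → ℂ) 1 * conj ((ζ : G → ℂ) 1)) * hv)
  obtain ⟨Ξ', hΞ', hΞ'e⟩ := DEFL.exists_defl_hom π hπ hc2 (by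
    intro n hn
    obtain ⟨v, hv, e1, e2⟩ := key n hn
    simp only [Pi.mul_apply]
    rw [e1, e2, map_mul]
    linear_combination ((ζ : G → ℂ) 1 * conj ((ζ' : G → ℂ) 1)) * hv)
  exact ⟨Ξ, Ξ', hΞ, hΞ', fun x => by rw [hΞe]; rfl, fun x => by rw [hΞ'e]; rfl⟩

end GH

end Cfsg.Agent.Helper21.BH

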