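import Mathlib
import Cfsg.Prelude.Def_Blocks
import Cfsg.Agent.Lib.Helper24.CharLinear
import Cfsg.Agent.Lib.Helper24.CharInduced
import Cfsg.Agent.Lib.Helper24.CharComplete
import Cfsg.Agent.Lib.Helper24.CharAlgebra
import Cfsg.Agent.Lib.Helper10.BR996Defs
import Cfsg.Agent.Lib.Helper21.BTDefs
import Cfsg.Agent.Lib.Helper21.BHDefs
import Cfsg.Agent.Lib.Helper12.BTSUPP
import Cfsg.Agent.Lib.Helper12.BTDECOMP
import Cfsg.Agent.Lib.Helper12.BTDELTA

/-!
# S4504 (helper21's farm-out), PIECE GDELTA (helper19): the multiplicities of two characters agreeing on the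
`p`-regular elements (generalizes `Cfsg.Agent.Helper21.BT.delta_mult`)
-/

set_option autoImplicit false
set_option linter.unusedSectionVars false
set_option linter.unusedVariables false
set_option linter.style.haveILetI false

namespace Cfsg.Agent.Helper21.BH

open scoped ComplexConjugate
open Cfsg Cfsg.Agent.Helper24 Cfsg.Agent.Helper10.BR996 Cfsg.Agent.Helper21.BT

universe u

section HSide

variable {H : Type u} [Group H] [Fintype H] [Fintype (IrrCharacter H)]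
variable (p : ℕ) [Fact p.Prime] (Q : Subgroup H)

theorem gdelta (hcard : Nat.card Q = p) (hcent : Subgroup.centralizer (Q : Set H) ≤ Q)
    (w t : ℕ) (hw : Q.relIndex (Subgroup.normalizer (Q : Set H)) = w) (D : BTData p Q w t)
    (Ξ Ξ' : H → ℂ) (hΞ : IsCharacter H Ξ) (hΞ' : IsCharacter H Ξ')
    (hreg : ∀ g : H, ¬ p ∣ orderOf g → Ξ' g = Ξ g)
    (hd : dsum Q Ξ - dsum Q Ξ' = (p : ℂ) * (w : ℂ))
    (a : IrrCharacter H → ℕ) (ha : ∀ χ : IrrCharacter H, Aw Q (χ : H → ℂ) = (a χ : ℂ)) :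
    ∃ m1 m2 : IrrCharacter H → ℕ,
      (∀ χ : IrrCharacter H, classInner Ξ (χ : H → ℂ) = (m1 χ : ℂ)) ∧
      (∀ χ : IrrCharacter H, classInner Ξ' (χ : H → ℂ) = (m2 χ : ℂ)) ∧
      (∀ χ ∈ D.X, (m1 χ : ℤ) - (m2 χ : ℤ) = D.sg χ) ∧
      Ξ 1 = ∑ χ : IrrCharacter H, (m1 χ : ℂ) * (charDegree (χ : H → ℂ) : ℂ) ∧
      Ξ' 1 = ∑ χ : IrrCharacter H, (m2 χ : ℂ) * (charDegree (χ : H → ℂ) : ℂ) ∧
      Aw Q Ξ = ∑ χ : IrrCharacter H, (m1 χ : ℂ) * (a χ : ℂ) ∧
      Aw Q Ξ' = ∑ χ : IrrCharacter H, (m2 χ : ℂ) * (a χ : ℂ) := by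
  have hp : p.Prime := Fact.out
  have hp0 : (p : ℂ) ≠ 0 := by exact_mod_cast hp.ne_zero
  have hw0 : (w : ℂ) ≠ 0 := by
    have : Q.relIndex (Subgroup.normalizer (Q : Set H)) ≠ 0 := Subgroup.index_ne_zero_of_finite
    rw [hw] at this
    exact_mod_cast this
  obtain ⟨m1, hm1, hdeg1, hwt1⟩ := exists_mult Q hΞ
  obtain ⟨m2, hm2, hdeg2, hwt2⟩ := exists_mult Q hΞ'
  refine ⟨m1, m2, hm1, hm2, ?_, hdeg1, hdeg2, ?_, ?_⟩
  · intro χ hχ
    have hcl : IsClassFunction H (fun z => Ξ z - Ξ' z) := by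
      have h1 := isClassFunction_of_isCharacter hΞ
      have h2 := isClassFunction_of_isCharacter hΞ'
      intro g h
      show Ξ (h * g * h⁻¹) - Ξ' (h * g * h⁻¹) = Ξ g - Ξ' g
      rw [h1 g h, h2 g h]
    have hχcl : IsClassFunction H (χ : H → ℂ) := isClassFunction_of_isIrrCharacter χ.2
    have hvan : ∀ g : H, ¬ p ∣ orderOf g → (fun z => Ξ z - Ξ' z) g = 0 := by
      intro g hg
      show Ξ g - Ξ' g = 0
      rw [hreg g hg, sub_self]
    have h1 := classInner_of_support p Q hcard hcent hcl hχcl hvan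
    rw [hw] at h1
    have h2 : dsum Q (fun g => (fun z => Ξ z - Ξ' z) g * conj ((χ : H → ℂ) g)) =
        dsum Q (fun z => (Ξ z - Ξ' z) * (D.sg χ : ℂ)) := by
      apply DELTA.dsum_congr
      intro z hz hz1
      show (Ξ z - Ξ' z) * conj ((χ : H → ℂ) z) = (Ξ z - Ξ' z) * (D.sg χ : ℂ)
      rw [D.valX χ hχ z hz hz1, map_intCast]
    rw [h2, DELTA.dsum_mul_const, DELTA.dsum_sub, hd, DELTA.classInner_sub_left, hm1 χ,
      hm2 χ] at h1
    have h3 : ((m1 χ : ℂ) - (m2 χ : ℂ)) = (D.sg χ : ℂ) := by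
      rw [h1]
      field_simp
    exact_mod_cast h3
  · rw [hwt1]
    exact Finset.sum_congr rfl (fun χ _ => by rw [ha χ])
  · rw [hwt2]
    exact Finset.sum_congr rfl (fun χ _ => by rw [ha χ])

end HSide

end Cfsg.Agent.Helper21.BH

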