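import Mathlib
import Cfsg.Agent.Lib.Helper3.BSWArithDefs

/-!
# S3282 piece BOUND (helper19 for helper3): the lower bound for `g = ∑ deg²` on a `Shape`.
-/

set_option autoImplicit false
set_option linter.unusedSectionVars false
set_option linter.unusedVariables false

namespace Cfsg.Agent.Helper3.BSW

variable {ι J : Type*} [Fintype ι] [Fintype J] [DecidableEq ι] [DecidableEq J]

variable {k g : ℕ} {o : ι} {inv : J → J} {j0 : J} {sgn : J → ℤ} {b : J → ι → ℤ} {deg a1 : ι → ℤ}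

namespace BOUND

theorem inv_ne_self (H : ArithHyp k g o inv j0 sgn b deg a1) {j : J} (hj : j ≠ j0) : inv j ≠ j :=
  fun h => hj ((H.inv_fix j).mp h)

theorem inv_ne_j0 (H : ArithHyp k g o inv j0 sgn b deg a1) {j : J} (hj : j ≠ j0) : inv j ≠ j0 := by
  intro h
  apply hj
  have h0 : inv j0 = j0 := (H.inv_fix j0).mpr rfl
  have := H.inv_inv j
  rw [h, h0] at this
  exact this.symm

/-- the fibres of `S` on `J - {j0}` have two elements -/
theorem card_fibre (H : ArithHyp k g o inv j0 sgn b deg a1) {P : ι} {S : J → ι} {Z1 Z2 : ι} {ε ζ : ℤ}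
    (hS : Shape o inv j0 b deg P S Z1 Z2 ε ζ) {j1 : J} (hj1 : j1 ≠ j0) :
    ((Finset.univ.erase j0).filter (fun j => S j = S j1)).card = 2 := by
  have hset : (Finset.univ.erase j0).filter (fun j => S j = S j1) = {j1, inv j1} := by
    ext j
    simp only [Finset.mem_filter, Finset.mem_erase, Finset.mem_univ, and_true, Finset.mem_insert,
      Finset.mem_singleton]
    constructor
    · rintro ⟨hj, hSj⟩
      exact hS.Sinj j1 j hj1 hj hSj.symm
    · rintro (rfl | rfl)
      · exact ⟨hj1, rfl⟩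
      · exact ⟨inv_ne_j0 H hj1, hS.Sinv j1 hj1⟩
  rw [hset, Finset.card_pair (inv_ne_self H hj1).symm]

end BOUND

/-- PIECE BOUND (A5). `o`, `P`, `Z1`, `Z2` and the `S j` are distinct and `S` is exactly two-to-one on `J - {j0}` (`Sinj`, `Sinv`), `|J - {j0}| = k - 2`;
`∑ deg² = g`. -/
theorem sq_bound (H : ArithHyp k g o inv j0 sgn b deg a1) {P : ι} {S : J → ι} {Z1 Z2 : ι} {ε ζ : ℤ}
    (hS : Shape o inv j0 b deg P S Z1 Z2 ε ζ) :
    2 + 2 * deg P ^ 2 + ((k : ℤ) - 2) * (deg P + ε) ^ 2 + 2 * deg Z1 ^ 2 + 2 * deg Z2 ^ 2 ≤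
      2 * (g : ℤ) := by
  classical
  set J' : Finset J := Finset.univ.erase j0 with hJ'
  set I : Finset ι := J'.image S with hI
  set F : Finset ι := {o, P, Z1, Z2} with hF
  have hdisj : Disjoint F I := by
    rw [Finset.disjoint_left]
    intro i hiF hiI
    rw [hI, Finset.mem_image] at hiI
    obtain ⟨j, hj, rfl⟩ := hiI
    have hj0 : j ≠ j0 := by
      rw [hJ'] at hj; exact (Finset.mem_erase.mp hj).1
    rw [hF] at hiF
    simp only [Finset.mem_insert, Finset.mem_singleton] at hiF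
    rcases hiF with h | h | h | h
    · exact hS.So j hj0 h
    · exact hS.SP j hj0 h
    · exact hS.SZ1 j hj0 h
    · exact hS.SZ2 j hj0 h
  have hsub : ∑ i ∈ F ∪ I, deg i ^ 2 ≤ ∑ i, deg i ^ 2 :=
    Finset.sum_le_univ_sum_of_nonneg (fun i => sq_nonneg _)
  rw [Finset.sum_union hdisj, H.sq_sum] at hsub
  have hFsum : ∑ i ∈ F, deg i ^ 2 = 1 + deg P ^ 2 + deg Z1 ^ 2 + deg Z2 ^ 2 := by
    rw [hF, Finset.sum_insert, Finset.sum_insert, Finset.sum_insert, Finset.sum_singleton, H.deg_o]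
    · ring
    · simp only [Finset.mem_singleton]; exact hS.Z12
    · simp only [Finset.mem_insert, Finset.mem_singleton, not_or]
      exact ⟨hS.Z1P.symm, hS.Z2P.symm⟩
    · simp only [Finset.mem_insert, Finset.mem_singleton, not_or]
      exact ⟨hS.Po.symm, hS.Z1o.symm, hS.Z2o.symm⟩
  have hcardJ' : (J'.card : ℤ) = (k : ℤ) - 2 := by
    have h1 : J'.card = Fintype.card J - 1 := by
      rw [hJ', Finset.card_erase_of_mem (Finset.mem_univ j0), Finset.card_univ]
    have h2 := H.card_J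
    have h3 := H.k_ge
    have : J'.card + 2 = k := by omega
    omega
  have hIsum : 2 * ∑ i ∈ I, deg i ^ 2 = ((k : ℤ) - 2) * (deg P + ε) ^ 2 := by
    have h1 : ∑ j ∈ J', deg (S j) ^ 2 =
        ∑ i ∈ I, (J'.filter (fun j => S j = i)).card • deg i ^ 2 :=
      Finset.sum_comp (fun i => deg i ^ 2) S
    have h2 : ∑ i ∈ I, (J'.filter (fun j => S j = i)).card • deg i ^ 2 = ∑ i ∈ I, 2 * deg i ^ 2 := by
      refine Finset.sum_congr rfl fun i hi => ?_
      rw [hI, Finset.mem_image] at hi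
      obtain ⟨j1, hj1, rfl⟩ := hi
      have hj10 : j1 ≠ j0 := by
        rw [hJ'] at hj1; exact (Finset.mem_erase.mp hj1).1
      rw [hJ', BOUND.card_fibre H hS hj10]
      simp
    have h3 : ∑ j ∈ J', deg (S j) ^ 2 = ∑ j ∈ J', (deg P + ε) ^ 2 := by
      refine Finset.sum_congr rfl fun j hj => ?_
      have hj0 : j ≠ j0 := by
        rw [hJ'] at hj; exact (Finset.mem_erase.mp hj).1
      rw [hS.degS j hj0]
    rw [Finset.mul_sum, ← h2, ← h1, h3, Finset.sum_const, nsmul_eq_mul, hcardJ']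
  linarith

end Cfsg.Agent.Helper3.BSW
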