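import Mathlib
import Cfsg.Agent.Lib.Helper3.BSWDefs
import Cfsg.Agent.Lib.Helper4.BSWHSTRUCT
import Cfsg.Agent.Lib.Helper19.BSWCARDKKCore

/-!
# S3282 piece CARDKK (helper19 for helper3): `2k |KK| = |G| (k-1)`.
-/

set_option autoImplicit false
set_option linter.unusedSectionVars false
set_option linter.unusedVariables false

namespace Cfsg.Agent.Helper3.BSW

universe u

variable {G : Type u} [Group G] [Finite G] {t s : G} {K : Subgroup G}

/-- PIECE CARDKK (G5): `(g, x) ↦ g x g⁻¹` from `G × K#` onto `KK` has all fibres of size `|H| = 2k`. -/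
theorem card_KK (h : Hyp t s K) :
    2 * Nat.card K * Nat.card {y : G // InKK K y} = Nat.card G * (Nat.card K - 1) :=
  CARDKK.card_KK_core h (card_H h)

end Cfsg.Agent.Helper3.BSW
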