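import Mathlib
import Cfsg.Agent.Lib.Helper3.BSWDefs
import Cfsg.Agent.Lib.Helper24.CharComplete

/-!
# S3282 piece CENTR0, core (helper19 for helper3): on `R0` the centralizers have order `2k-1` and there are exactly
two classes `y`, `y⁻¹`.  The inputs from the pieces R0B (`not_real_B`, `cent_R0B`) and VALSB (`card_R0B`) are hypotheses.
-/

set_option autoImplicit false
set_option linter.unusedSectionVars false
set_option linter.unusedVariables false
set_option linter.style.haveILetI false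

namespace Cfsg.Agent.Helper3.BSW

universe u

variable {G : Type u} [Group G] [Fintype G] {t s : G} {K : Subgroup G} {St : G → ℤ}

namespace CENTR0

/-- class equation for one class: `|y^G| |C(y)| = |G|` -/
theorem card_class_mul (y : G) :
    Nat.card {x : G // IsConj y x} * Nat.card (Subgroup.centralizer ({y} : Set G)) = Nat.card G := by
  classical
  let f : G → {x : G // IsConj y x} := fun c => ⟨c * y * c⁻¹, isConj_iff.mpr ⟨c, rfl⟩⟩
  have e := Nat.card_congr (Equiv.sigmaFiberEquiv f)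
  rw [Nat.card_sigma] at e
  have hfib : ∀ x : {x : G // IsConj y x},
      Nat.card {c : G // f c = x} = Nat.card (Subgroup.centralizer ({y} : Set G)) := by
    intro x
    rw [← Cfsg.Agent.Helper24.card_conj_eq_of_isConj x.2]
    apply Nat.card_congr
    exact Equiv.subtypeEquivRight fun c => by
      constructor
      · intro hc; exact congrArg Subtype.val hc
      · intro hc; exact Subtype.ext hc
  simp only [hfib, Finset.sum_const, Finset.card_univ, smul_eq_mul] at e
  rw [← e, Nat.card_eq_fintype_card (α := {x : G // IsConj y x})]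

theorem inR_conj' (K : Subgroup G) (g y : G) (hy : InR K y) : InR K (g * y * g⁻¹) := by
  refine ⟨?_, ?_⟩
  · intro h1
    apply hy.1
    have : y = g⁻¹ * (g * y * g⁻¹) * g := by group
    rw [this, h1]; group
  · intro c hc
    apply hy.2 (c * g)
    have : c * g * y * (c * g)⁻¹ = c * (g * y * g⁻¹) * c⁻¹ := by group
    rw [this]; exact hc

theorem inR_inv (K : Subgroup G) (y : G) (hy : InR K y) : InR K y⁻¹ := by
  refine ⟨inv_ne_one.mpr hy.1, ?_⟩
  intro c hc
  apply hy.2 c
  have : c * y * c⁻¹ = (c * y⁻¹ * c⁻¹)⁻¹ := by group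
  rw [this]; exact K.inv_mem hc

theorem rc_inv (y : G) : rc y⁻¹ = rc y := by
  unfold rc
  apply Nat.card_congr
  exact Equiv.subtypeEquivRight fun u => by
    constructor
    · rintro ⟨h1, h2⟩
      refine ⟨h1, ?_⟩
      have : u * y * u⁻¹ = (u * y⁻¹ * u⁻¹)⁻¹ := by group
      rw [this, h2, inv_inv]
    · rintro ⟨h1, h2⟩
      refine ⟨h1, ?_⟩
      have : u * y⁻¹ * u⁻¹ = (u * y * u⁻¹)⁻¹ := by group
      rw [this, h2]

theorem two_le_card_K (h : Hyp t s K) : 2 ≤ Nat.card K := by
  have hnt : Nontrivial K := by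
    refine ⟨⟨⟨t, h.htK⟩, 1, ?_⟩⟩
    intro h1
    have : t = 1 := congrArg Subtype.val h1
    have h2 := h.ht
    rw [this, orderOf_one] at h2
    omega
  exact Finite.one_lt_card_iff_nontrivial.mpr hnt

theorem St_inv (h : Hyp t s K) (hB : StB K St) {y : G} (hy : InR K y) : St y⁻¹ = St y := by
  have hk := two_le_card_K h
  have h1 := hB.rform y hy
  have h2 := hB.rform y⁻¹ (inR_inv K y hy)
  rw [rc_inv, h1] at h2
  have hne : ((Nat.card K : ℤ) - 1) ≠ 0 := by omega
  exact (mul_left_cancel₀ hne h2).symm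

theorem centralizer_inv (y : G) :
    Subgroup.centralizer ({y⁻¹} : Set G) = Subgroup.centralizer ({y} : Set G) := by
  ext c
  rw [Subgroup.mem_centralizer_singleton_iff, Subgroup.mem_centralizer_singleton_iff]
  constructor
  · intro hc
    have : Commute c y⁻¹ := hc
    have h2 : Commute c y := by simpa using this.inv_right
    exact h2.eq
  · intro hc
    have : Commute c y := hc
    exact this.inv_right.eq

/-- the set `R0` -/
def R0 (K : Subgroup G) (St : G → ℤ) : Set G := {x | InR K x ∧ St x = 0}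

theorem class_subset (hB : StB K St) {y : G} (hy : InR K y) (h0 : St y = 0) :
    {x : G | IsConj y x} ⊆ R0 K St := by
  intro x hx
  obtain ⟨c, hc⟩ := isConj_iff.mp hx
  refine ⟨?_, ?_⟩
  · rw [← hc]; exact inR_conj' K c y hy
  · rw [← hc, hB.conj]; exact h0

/-- numerical core: `c ∣ q = 2k-1`, `n c = 2 k q (k-1)`, `2 n ≤ q² - 1` give `c = q` and `2 n = q² - 1` -/
theorem arith {k c n : ℕ} (hk : 2 ≤ k) (hc : c ∣ 2 * k - 1) (hn : n * c = 2 * k * (2 * k - 1) * (k - 1))
    (hle : 2 * n ≤ (2 * k - 1) ^ 2 - 1) : c = 2 * k - 1 ∧ 2 * n = (2 * k - 1) ^ 2 - 1 := by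
  obtain ⟨m, hm⟩ := hc
  obtain ⟨j, rfl⟩ : ∃ j, k = j + 2 := ⟨k - 2, by omega⟩
  have hq : 2 * (j + 2) - 1 = 2 * j + 3 := by omega
  have hk1 : j + 2 - 1 = j + 1 := by omega
  rw [hq] at hm hn hle ⊢
  rw [hk1] at hn
  have hsq : (2 * j + 3) ^ 2 - 1 = 4 * (j + 2) * (j + 1) := by
    have : (2 * j + 3) ^ 2 = 4 * (j + 2) * (j + 1) + 1 := by ring
    omega
  rw [hsq] at hle ⊢
  have hcpos : 0 < c := by
    rcases Nat.eq_zero_or_pos c with h0 | h0
    · rw [h0, zero_mul] at hm; omega
    · exact h0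
  have hmpos : 0 < m := by
    rcases Nat.eq_zero_or_pos m with h0 | h0
    · rw [h0, mul_zero] at hm; omega
    · exact h0
  -- n c = 2 (j+2) (c m) (j+1)  =>  n = 2 (j+2) (j+1) m
  have hn' : n = 2 * (j + 2) * (j + 1) * m := by
    have : n * c = (2 * (j + 2) * (j + 1) * m) * c := by rw [hn, hm]; ring
    exact Nat.eq_of_mul_eq_mul_right hcpos this
  have hm1 : m = 1 := by
    by_contra hne
    have hm2 : 2 ≤ m := by omega
    have hpos : 0 < (j + 2) * (j + 1) := by positivity
    have : 2 * n = 4 * ((j + 2) * (j + 1)) * m := by rw [hn']; ring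
    have h4 : 4 * ((j + 2) * (j + 1)) * 2 ≤ 4 * ((j + 2) * (j + 1)) * m :=
      Nat.mul_le_mul_left _ hm2
    have h5 : 4 * (j + 2) * (j + 1) = 4 * ((j + 2) * (j + 1)) := by ring
    omega
  subst hm1
  refine ⟨by omega, ?_⟩
  rw [hn']; ring

/-- the full counting statement -/
theorem main (h : Hyp t s K) (hB : StB K St)
    (hnotreal : ∀ {y : G}, InR K y → St y = 0 → ¬ IsConj y y⁻¹)
    (hcentR0 : ∀ {y x : G}, InR K y → St y = 0 → x ∈ Subgroup.centralizer ({y} : Set G) → x ≠ 1 →
      InR K x ∧ St x = 0)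
    (hcardR0 : Nat.card {y : G // InR K y ∧ St y = 0} = (2 * Nat.card K - 1) ^ 2 - 1)
    (hdvd : ∀ M : Subgroup G, (∀ x ∈ M, x ≠ 1 → InR K x ∧ St x = 0) → Nat.card M ∣ 2 * Nat.card K - 1)
    {y : G} (hy : InR K y) (h0 : St y = 0) :
    Nat.card (Subgroup.centralizer ({y} : Set G)) = 2 * Nat.card K - 1 ∧
      {x : G | IsConj y x} ∪ {x : G | IsConj y⁻¹ x} = R0 K St := by
  classical
  have hk := two_le_card_K h
  have hyi := inR_inv K y hy
  have h0i : St y⁻¹ = 0 := by rw [St_inv h hB hy]; exact h0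
  have hc := hdvd _ (fun x hx hx1 => hcentR0 hy h0 hx hx1)
  have hcl1 := card_class_mul y
  have hcl2 := card_class_mul y⁻¹
  rw [centralizer_inv] at hcl2
  -- the two classes are disjoint subsets of R0
  have hsub1 := class_subset hB hy h0
  have hsub2 := class_subset hB hyi h0i
  have hdisj : Disjoint {x : G | IsConj y x} {x : G | IsConj y⁻¹ x} := by
    rw [Set.disjoint_left]
    intro x hx1 hx2
    exact hnotreal hy h0 (hx1.trans hx2.symm)
  have hunion : {x : G | IsConj y x} ∪ {x : G | IsConj y⁻¹ x} ⊆ R0 K St := Set.union_subset hsub1 hsub2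
  have hncard : ({x : G | IsConj y x} ∪ {x : G | IsConj y⁻¹ x}).ncard =
      ({x : G | IsConj y x}).ncard + ({x : G | IsConj y⁻¹ x}).ncard :=
    Set.ncard_union_eq hdisj (Set.toFinite _) (Set.toFinite _)
  have hR0 : (R0 K St).ncard = (2 * Nat.card K - 1) ^ 2 - 1 := by
    rw [← hcardR0]; rfl
  have hn1 : ({x : G | IsConj y x}).ncard = Nat.card {x : G // IsConj y x} := rfl
  have hn2 : ({x : G | IsConj y⁻¹ x}).ncard = Nat.card {x : G // IsConj y⁻¹ x} := rfl
  have hle := Set.ncard_le_ncard hunion (Set.toFinite _)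
  rw [hncard, hR0, hn1, hn2] at hle
  -- both classes have the same size `n`
  set c := Nat.card (Subgroup.centralizer ({y} : Set G)) with hc_def
  have hcpos : 0 < c := Nat.card_pos
  have hsame : Nat.card {x : G // IsConj y⁻¹ x} = Nat.card {x : G // IsConj y x} := by
    have : Nat.card {x : G // IsConj y⁻¹ x} * c = Nat.card {x : G // IsConj y x} * c := by
      rw [hcl1, hcl2]
    exact Nat.eq_of_mul_eq_mul_right hcpos this
  rw [hsame] at hle
  have hG : Nat.card G = 2 * Nat.card K * (2 * Nat.card K - 1) * (Nat.card K - 1) := by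
    have := hB.card
    have h1 : ((2 * Nat.card K - 1 : ℕ) : ℤ) = 2 * (Nat.card K : ℤ) - 1 := by
      have : 1 ≤ 2 * Nat.card K := by omega
      push_cast [Nat.cast_sub this]; ring
    have h2 : ((Nat.card K - 1 : ℕ) : ℤ) = (Nat.card K : ℤ) - 1 := by
      have : 1 ≤ Nat.card K := by omega
      push_cast [Nat.cast_sub this]; ring
    have : (Nat.card G : ℤ) = ((2 * Nat.card K * (2 * Nat.card K - 1) * (Nat.card K - 1) : ℕ) : ℤ) := by
      rw [this]; push_cast [h1, h2]; ring
    exact_mod_cast this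
  rw [hG] at hcl1
  have hle' : 2 * Nat.card {x : G // IsConj y x} ≤ (2 * Nat.card K - 1) ^ 2 - 1 := by omega
  obtain ⟨hceq, hneq⟩ := arith hk hc hcl1 hle'
  refine ⟨hceq, ?_⟩
  apply Set.eq_of_subset_of_ncard_le hunion _ (Set.toFinite _)
  rw [hncard, hR0, hn1, hn2, hsame]
  omega

end CENTR0

end Cfsg.Agent.Helper3.BSW
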