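import Mathlib
import Cfsg.Agent.Lib.Helper3.BSWDefs
import Cfsg.Agent.Lib.Helper19.BSWCENTR0Core
import Cfsg.Agent.Lib.Helper25.BSWVALSB
import Cfsg.Agent.Lib.Helper17.BSWR0B

/-!
# S3282 piece CENTR0 (helper19 for helper3)
-/

set_option autoImplicit false
set_option linter.unusedSectionVars false
set_option linter.unusedVariables false

namespace Cfsg.Agent.Helper3.BSW

universe u

variable {G : Type u} [Group G] [Fintype G] {t s : G} {K : Subgroup G} {St : G → ℤ}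

/-- PIECE CENTR0 (IIB5). -/
theorem card_cent_R0B (h : Hyp t s K) (hB : StB K St)
    (hdvd : ∀ M : Subgroup G, (∀ x ∈ M, x ≠ 1 → InR K x ∧ St x = 0) → Nat.card M ∣ 2 * Nat.card K - 1)
    {y : G} (hy : InR K y) (h0 : St y = 0) :
    Nat.card (Subgroup.centralizer ({y} : Set G)) = 2 * Nat.card K - 1 :=
  (CENTR0.main h hB (fun hy h0 => not_real_B h hB hy h0)
    (fun hy h0 hx hx1 => cent_R0B h hB hy h0 hx hx1) (card_R0B h hB) hdvd hy h0).1

/-- PIECE CENTR0 (IIB5). -/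
theorem classes_R0B (h : Hyp t s K) (hB : StB K St)
    (hdvd : ∀ M : Subgroup G, (∀ x ∈ M, x ≠ 1 → InR K x ∧ St x = 0) → Nat.card M ∣ 2 * Nat.card K - 1)
    {y y' : G} (hy : InR K y) (h0 : St y = 0) (hy' : InR K y') (h0' : St y' = 0) :
    IsConj y y' ∨ IsConj y⁻¹ y' := by
  have hmain := (CENTR0.main h hB (fun hy h0 => not_real_B h hB hy h0)
    (fun hy h0 hx hx1 => cent_R0B h hB hy h0 hx hx1) (card_R0B h hB) hdvd hy h0).2
  have hmem : y' ∈ CENTR0.R0 K St := ⟨hy', h0'⟩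
  rw [← hmain] at hmem
  exact hmem

end Cfsg.Agent.Helper3.BSW
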