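import Mathlib

set_option autoImplicit false
set_option linter.unusedSectionVars false
set_option linter.style.haveILetI false

/-!
# Quaternion Sylow 2-subgroups in solvable groups: a fusion obstruction

Facts on the generalized quaternion groups, and the following obstruction: in a finite solvable
group whose Sylow 2-subgroup `P` is generated by its elements of order 4, not every element of
order 4 of `P` can be conjugate to the square of an element of `P`.
-/

namespace Cfsg.Agent.Helper19.BStarQuat

universe u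

open Subgroup
open scoped commutatorElement

section quat

open QuaternionGroup

variable {n : ℕ}

/-- A subgroup of the quaternion group containing all `xa i` is everything. -/
theorem eq_top_of_xa_mem (K : Subgroup (QuaternionGroup n))
    (h : ∀ i : ZMod (2 * n), xa i ∈ K) : K = ⊤ := by
  rw [eq_top_iff]
  rintro x -
  cases x with
  | a j =>
    have h1 : (xa 0 : QuaternionGroup n) * xa (j - (n : ZMod (2 * n))) = a j := by
      rw [xa_mul_xa]
      congr 1
      ring
    rw [← h1]
    exact K.mul_mem (h 0) (h _)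
  | xa j => exact h j

theorem a_n_ne_one [NeZero n] : (a (n : ZMod (2 * n)) : QuaternionGroup n) ≠ 1 := by
  rw [one_def]
  intro h
  have h1 : ((n : ℕ) : ZMod (2 * n)) = 0 := by
    injection h
  rw [ZMod.natCast_eq_zero_iff] at h1
  have hn : 0 < n := Nat.pos_of_ne_zero (NeZero.ne n)
  have := Nat.le_of_dvd hn h1
  omega

/-- For `4 ∣ n` the quaternion group has an element of order 4 which is a square. -/
theorem exists_sq_orderOf_four [NeZero n] (m : ℕ) (hm : n = 4 * m) :
    ∃ y : QuaternionGroup n, orderOf (y ^ 2) = 4 := by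
  refine ⟨a (m : ZMod (2 * n)), ?_⟩
  have h2 : (a (m : ZMod (2 * n)) : QuaternionGroup n) ^ 2 = a ((2 * m : ℕ) : ZMod (2 * n)) := by
    rw [sq, a_mul_a]
    congr 1
    push_cast
    ring
  rw [h2]
  have h4 : ((a ((2 * m : ℕ) : ZMod (2 * n)) : QuaternionGroup n)) ^ 2 =
      a (n : ZMod (2 * n)) := by
    rw [sq, a_mul_a]
    congr 1
    rw [hm]
    push_cast
    ring
  have h8 : ((a ((2 * m : ℕ) : ZMod (2 * n)) : QuaternionGroup n)) ^ 4 = 1 := by
    have : (4 : ℕ) = 2 * 2 := rfl
    rw [this, pow_mul, h4, sq, a_mul_a, one_def]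
    congr 1
    have : ((n : ℕ) : ZMod (2 * n)) + n = ((2 * n : ℕ) : ZMod (2 * n)) := by
      push_cast; ring
    rw [this, ZMod.natCast_self]
  have := orderOf_eq_prime_pow (p := 2) (n := 1)
    (x := (a ((2 * m : ℕ) : ZMod (2 * n)) : QuaternionGroup n))
    (by rw [pow_one, h4]; exact a_n_ne_one) (by simpa using h8)
  simpa using this

theorem q8_pow_four (x : QuaternionGroup 2) : x ^ 4 = 1 := by
  revert x; decide

theorem q8_sq_eq_one (x : QuaternionGroup 2) (hx : x ^ 2 = 1) :
    x = 1 ∨ x = a (2 : ZMod (2 * 2)) := by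
  revert x; decide

end quat

section transport

variable {G : Type*} [Group G]

/-- A subgroup isomorphic to a quaternion group is generated by its elements of order 4. -/
theorem le_of_orderOf_four_mem {n : ℕ} [NeZero n] (P : Subgroup G)
    (φ : ↥P ≃* QuaternionGroup n) (K : Subgroup G)
    (h : ∀ x ∈ P, orderOf x = 4 → x ∈ K) : P ≤ K := by
  have h1 : (K.subgroupOf P).map φ.toMonoidHom = ⊤ := by
    apply eq_top_of_xa_mem
    intro i
    refine ⟨φ.symm (QuaternionGroup.xa i), ?_, by simp⟩
    rw [SetLike.mem_coe, Subgroup.mem_subgroupOf]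
    apply h _ (φ.symm (QuaternionGroup.xa i)).2
    rw [Subgroup.orderOf_coe, MulEquiv.orderOf_eq, QuaternionGroup.orderOf_xa]
  intro x hx
  have h2 : φ ⟨x, hx⟩ ∈ (K.subgroupOf P).map φ.toMonoidHom := by
    rw [h1]; exact Subgroup.mem_top _
  obtain ⟨y, hy, hyx⟩ := h2
  have h3 : y = ⟨x, hx⟩ := φ.injective hyx
  rw [SetLike.mem_coe, Subgroup.mem_subgroupOf, h3] at hy
  exact hy

end transport

section nofusion

/-- A nontrivial finite solvable group has a normal subgroup of prime index. -/
theorem exists_normal_prime_index (H : Type*) [Group H] [Finite H] [Group.IsSolvable H]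
    [Nontrivial H] : ∃ K : Subgroup H, K.Normal ∧ K.index.Prime := by
  have hlt : commutator H < ⊤ := Group.IsSolvable.commutator_lt_top_of_nontrivial H
  obtain ⟨M, hM, hcM⟩ := (eq_top_or_exists_le_coatom (commutator H)).resolve_left hlt.ne
  have hMn : M.Normal := by
    constructor
    intro m hm g
    have h1 : g * m * g⁻¹ = ⁅g, m⁆ * m := by simp [commutatorElement_def]
    rw [h1]
    refine M.mul_mem (hcM ?_) hm
    rw [_root_.commutator_def]
    exact Subgroup.commutator_mem_commutator (Subgroup.mem_top _) (Subgroup.mem_top _)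
  refine ⟨M, hMn, ?_⟩
  have hne : M.index ≠ 1 := fun h => hM.1 (Subgroup.index_eq_one.mp h)
  obtain ⟨r, hr, hrd⟩ := Nat.exists_prime_and_dvd hne
  haveI : Fact r.Prime := ⟨hr⟩
  rw [Subgroup.index_eq_card] at hrd
  obtain ⟨x, hx⟩ := exists_prime_orderOf_dvd_card' r hrd
  set M' := (Subgroup.zpowers x).comap (QuotientGroup.mk' M) with hM'
  have hMM' : M ≤ M' := by
    intro m hm
    rw [hM', Subgroup.mem_comap]
    have : QuotientGroup.mk' M m = 1 := (QuotientGroup.eq_one_iff m).mpr hm
    rw [this]
    exact Subgroup.one_mem _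
  have hne' : M ≠ M' := by
    obtain ⟨y, rfl⟩ := QuotientGroup.mk_surjective x
    intro h
    have hy : y ∈ M' := by
      rw [hM', Subgroup.mem_comap]
      exact Subgroup.mem_zpowers _
    rw [← h] at hy
    have h1 : (QuotientGroup.mk y : H ⧸ M) = 1 := (QuotientGroup.eq_one_iff y).mpr hy
    rw [h1, orderOf_one] at hx
    exact hr.one_lt.ne hx
  have hM'top : M' = ⊤ := hM.2 M' (lt_of_le_of_ne hMM' hne')
  have hz : Subgroup.zpowers x = ⊤ := by
    rw [eq_top_iff]
    rintro y -
    obtain ⟨z, rfl⟩ := QuotientGroup.mk_surjective y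
    have : z ∈ M' := by rw [hM'top]; exact Subgroup.mem_top _
    exact this
  have hcard : Nat.card (H ⧸ M) = r := by
    rw [← hx, ← Nat.card_zpowers, hz, Subgroup.card_top]
  rw [Subgroup.index_eq_card, hcard]
  exact hr

/-- The fusion obstruction, by induction on the order. -/
theorem no_fusion_aux (n : ℕ) : ∀ (G : Type u) [Group G] [Finite G] [Group.IsSolvable G]
    (P : Sylow 2 G), Nat.card G = n → (P : Subgroup G) ≠ ⊥ →
    (∀ K : Subgroup G, (∀ x ∈ (P : Subgroup G), orderOf x = 4 → x ∈ K) → (P : Subgroup G) ≤ K) →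
    (∀ x ∈ (P : Subgroup G), orderOf x = 4 →
      ∃ g : G, ∃ y ∈ (P : Subgroup G), g * x * g⁻¹ = y ^ 2) → False := by
  induction n using Nat.strong_induction_on with
  | _ n ih =>
    intro G _ _ _ P hn hPne hgen hfus
    haveI : Nontrivial G := by
      by_contra hnt
      rw [not_nontrivial_iff_subsingleton] at hnt
      exact hPne (Subsingleton.elim _ _)
    obtain ⟨K, hKn, hKp⟩ := exists_normal_prime_index G
    by_cases h2 : K.index = 2
    · -- squares lie in `K`, hence so do all elements of order four of `P`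
      have hPK : (P : Subgroup G) ≤ K := by
        apply hgen
        intro x hx hx4
        obtain ⟨g, y, -, hy⟩ := hfus x hx hx4
        have h1 : y ^ 2 ∈ K := by
          rw [sq]; exact Subgroup.mul_self_mem_of_index_two h2 y
        rw [← hy] at h1
        have h3 := hKn.conj_mem _ h1 g⁻¹
        have h4 : g⁻¹ * (g * x * g⁻¹) * g⁻¹⁻¹ = x := by group
        rwa [h4] at h3
      have h3 : K.index ∣ (P : Subgroup G).index := Subgroup.index_dvd_of_le hPK
      rw [h2] at h3
      exact P.not_dvd_index h3
    · -- odd prime index: descend to `K`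
      have hodd : Nat.Coprime 2 K.index :=
        (Nat.coprime_primes Nat.prime_two hKp).mpr (fun h => h2 h.symm)
      have hPK : (P : Subgroup G) ≤ K := by
        intro x hx
        obtain ⟨k, hk⟩ := (P.2 : IsPGroup 2 (P : Subgroup G)) ⟨x, hx⟩
        have hk' : x ^ 2 ^ k = 1 := by
          have := congrArg Subtype.val hk
          simpa using this
        rw [← QuotientGroup.eq_one_iff]
        have h1 : orderOf (QuotientGroup.mk x : G ⧸ K) ∣ 2 ^ k := by
          apply orderOf_dvd_of_pow_eq_one
          rw [← QuotientGroup.mk_pow, hk']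
          rfl
        have h3 : orderOf (QuotientGroup.mk x : G ⧸ K) ∣ K.index := by
          rw [Subgroup.index_eq_card]
          exact orderOf_dvd_natCard _
        have h4 := Nat.dvd_gcd h1 h3
        rw [(Nat.Coprime.pow_left k hodd).gcd_eq_one, Nat.dvd_one, orderOf_eq_one_iff] at h4
        exact h4
      have hlt : Nat.card K < n := by
        rw [← hn, ← Subgroup.card_mul_index K]
        have h1 : 1 < K.index := hKp.one_lt
        have h0 : 0 < Nat.card K := Nat.card_pos
        nlinarith
      let P₁ : Sylow 2 K := P.subtype hPK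
      have hP₁ : ∀ x : K, x ∈ (P₁ : Subgroup K) ↔ (x : G) ∈ (P : Subgroup G) := by
        intro x
        rw [Sylow.coe_subtype, Subgroup.mem_subgroupOf]
      refine ih (Nat.card K) hlt K P₁ rfl ?_ ?_ ?_
      · intro hbot
        apply hPne
        rw [eq_bot_iff]
        intro x hx
        have : (⟨x, hPK hx⟩ : K) ∈ (P₁ : Subgroup K) := (hP₁ _).2 hx
        rw [hbot, Subgroup.mem_bot] at this
        have := congrArg Subtype.val this
        simpa using this
      · intro K' hK' x hx
        have h1 : (P : Subgroup G) ≤ K'.map K.subtype := by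
          apply hgen
          intro y hy hy4
          refine ⟨⟨y, hPK hy⟩, ?_, rfl⟩
          apply hK' _ ((hP₁ _).2 hy)
          rw [← hy4]
          exact Subgroup.orderOf_mk y (hPK hy)
        obtain ⟨z, hz, hzx⟩ := h1 ((hP₁ x).1 hx)
        have : z = x := Subtype.ext hzx
        rw [← this]
        exact hz
      · intro x hx hx4
        have hxP : (x : G) ∈ (P : Subgroup G) := (hP₁ x).1 hx
        have hx4' : orderOf (x : G) = 4 := by
          rw [Subgroup.orderOf_coe]; exact hx4
        obtain ⟨g, y, hy, hgy⟩ := hfus _ hxP hx4'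
        have hfr : normalizer ((P : Subgroup G) : Set G) ⊔ K = ⊤ :=
          Sylow.normalizer_sup_eq_top' P hPK
        have hg : g ∈ normalizer ((P : Subgroup G) : Set G) ⊔ K := by
          rw [hfr]; exact Subgroup.mem_top _
        rw [Subgroup.mem_sup_of_normal_right] at hg
        obtain ⟨h, hh, k, hk, rfl⟩ := hg
        have hyc : h⁻¹ * y * h⁻¹⁻¹ ∈ (P : Subgroup G) :=
          (Subgroup.mem_normalizer_iff.mp (Subgroup.inv_mem _ hh) y).mp hy
        refine ⟨⟨k, hk⟩, ⟨h⁻¹ * y * h⁻¹⁻¹, hPK hyc⟩, (hP₁ _).2 hyc, ?_⟩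
        apply Subtype.ext
        have h5 : k * (x : G) * k⁻¹ = (h⁻¹ * y * h⁻¹⁻¹) ^ 2 := by
          have h6 : k * (x : G) * k⁻¹ = h⁻¹ * (h * k * (x : G) * (h * k)⁻¹) * h := by group
          rw [h6, hgy, sq, sq]
          group
        simpa using h5

theorem no_fusion {G : Type u} [Group G] [Finite G] [Group.IsSolvable G]
    (P : Sylow 2 G) (hP : (P : Subgroup G) ≠ ⊥)
    (hgen : ∀ K : Subgroup G, (∀ x ∈ (P : Subgroup G), orderOf x = 4 → x ∈ K) →
      (P : Subgroup G) ≤ K)
    (hfus : ∀ x ∈ (P : Subgroup G), orderOf x = 4 →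
      ∃ g : G, ∃ y ∈ (P : Subgroup G), g * x * g⁻¹ = y ^ 2) : False :=
  no_fusion_aux (Nat.card G) G P rfl hP hgen hfus

end nofusion

end Cfsg.Agent.Helper19.BStarQuat
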