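import Mathlib

set_option autoImplicit false
set_option linter.unusedSectionVars false
set_option linter.style.haveILetI false

/-!
# Minimal supplements of a normal subgroup with abelian quotient

`MinSupp N` says that the quotient of the ambient group `H` by the normal subgroup `N` is abelian
and that no proper subgroup of `H` supplements `N`.  Then all Sylow subgroups of `H` are normal,
a Sylow subgroup inside `N` is trivial, and `H` is abelian as soon as its Sylow subgroups are.
-/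

namespace Cfsg.Agent.Helper19.MinSupp

open Subgroup

variable {H : Type*} [Group H]

/-- The quotient by `N` is abelian and `N` has no proper supplement. -/
structure IsMinSupp (N : Subgroup H) : Prop where
  comm : ∀ x y : H, x * y * x⁻¹ * y⁻¹ ∈ N
  min : ∀ K : Subgroup H, K ⊔ N = ⊤ → K = ⊤

/-- A subgroup containing all commutators is normal. -/
theorem normal_of_comm_le {N L : Subgroup H} (hc : ∀ x y : H, x * y * x⁻¹ * y⁻¹ ∈ N)
    (hNL : N ≤ L) : L.Normal := by
  refine ⟨fun n hn g => ?_⟩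
  have h1 : g * n * g⁻¹ = (g * n * g⁻¹ * n⁻¹) * n := by group
  rw [h1]
  exact L.mul_mem (hNL (hc g n)) hn

theorem sylow_normal [Finite H] {N : Subgroup H} (hN : IsMinSupp N) {q : ℕ} [Fact q.Prime]
    (Q : Sylow q H) : (Q : Subgroup H).Normal := by
  have hL : ((Q : Subgroup H) ⊔ N).Normal := normal_of_comm_le hN.comm le_sup_right
  have h1 : normalizer ((Q : Subgroup H) : Set H) ⊔ ((Q : Subgroup H) ⊔ N) = ⊤ :=
    Sylow.normalizer_sup_eq_top' Q le_sup_left
  have h2 : normalizer ((Q : Subgroup H) : Set H) ⊔ N = ⊤ := by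
    rw [← h1, ← sup_assoc, sup_eq_left.mpr (le_normalizer : (Q : Subgroup H) ≤ _)]
  have h3 := hN.min _ h2
  exact normalizer_eq_top_iff.mp h3

theorem sylow_eq_bot_of_le [Finite H] {N : Subgroup H} (hN : IsMinSupp N) {q : ℕ}
    [Fact q.Prime] (Q : Sylow q H) (hQ : (Q : Subgroup H) ≤ N) : (Q : Subgroup H) = ⊥ := by
  haveI := sylow_normal hN Q
  obtain ⟨R, hR⟩ := Subgroup.exists_right_complement'_of_coprime (N := (Q : Subgroup H))
    Q.card_coprime_index
  have h1 : (Q : Subgroup H) ⊔ R = ⊤ := hR.sup_eq_top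
  have h2 : R ⊔ N = ⊤ := by
    rw [eq_top_iff, ← h1]
    exact sup_le (hQ.trans le_sup_right) le_sup_left
  have h3 := hN.min R h2
  have h4 := hR.disjoint
  rw [h3] at h4
  exact disjoint_top.mp h4

theorem comm_of_sylow_comm [Finite H]
    (hn : ∀ {q : ℕ} [Fact q.Prime] (Q : Sylow q H), (Q : Subgroup H).Normal)
    (hc : ∀ {q : ℕ} [Fact q.Prime] (Q : Sylow q H), ∀ x ∈ (Q : Subgroup H),
      ∀ y ∈ (Q : Subgroup H), x * y = y * x) :
    ∀ x y : H, x * y = y * x := by
  intro x y
  let e := Sylow.directProductOfNormal (G := H) hn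
  obtain ⟨a, rfl⟩ := e.surjective x
  obtain ⟨b, rfl⟩ := e.surjective y
  rw [← map_mul, ← map_mul]
  congr 1
  funext p P
  haveI : Fact (p : ℕ).Prime := ⟨Nat.prime_of_mem_primeFactors p.2⟩
  apply Subtype.ext
  simp only [Pi.mul_apply]
  exact hc P _ (a p P).2 _ (b p P).2

theorem sylow_comm_of_not_dvd [Finite H] {N : Subgroup H} (hN : IsMinSupp N) {q : ℕ}
    [Fact q.Prime] (hq : ¬ q ∣ Nat.card N) (Q : Sylow q H) :
    ∀ x ∈ (Q : Subgroup H), ∀ y ∈ (Q : Subgroup H), x * y = y * x := by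
  intro x hx y hy
  have hqp : q.Prime := Fact.out
  obtain ⟨n, hn⟩ := (Q.2 : IsPGroup q (Q : Subgroup H)).exists_card_eq
  have hcop : Nat.Coprime (Nat.card (Q : Subgroup H)) (Nat.card N) := by
    rw [hn]
    exact Nat.Coprime.pow_left n ((Nat.Prime.coprime_iff_not_dvd hqp).2 hq)
  have hbot : (Q : Subgroup H) ⊓ N = ⊥ := (Subgroup.disjoint_of_coprime_natCard hcop).eq_bot
  have hmem : x * y * x⁻¹ * y⁻¹ ∈ (Q : Subgroup H) ⊓ N :=
    Subgroup.mem_inf.2 ⟨(Q : Subgroup H).mul_mem ((Q : Subgroup H).mul_mem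
      ((Q : Subgroup H).mul_mem hx hy) ((Q : Subgroup H).inv_mem hx))
      ((Q : Subgroup H).inv_mem hy), hN.comm x y⟩
  rw [hbot, Subgroup.mem_bot] at hmem
  have h1 : x * y = (x * y * x⁻¹ * y⁻¹) * (y * x) := by group
  rw [h1, hmem, one_mul]

end Cfsg.Agent.Helper19.MinSupp
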