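import Mathlib
import Cfsg.Agent.Lib.Helper19.MinSuppA
import Cfsg.Agent.Lib.Helper19.SylowNormal

set_option autoImplicit false
set_option linter.unusedSectionVars false
set_option linter.style.haveILetI false

/-!
# Lifting abelian subgroups of a quotient to abelian subgroups of controlled order

`M` is a normal subgroup of the finite group `G` such that `M` contains every element whose order
occurs in `M`, and such that for every prime `q` dividing `|M|` the Sylow `q`-subgroups of `G`
are cyclic or of exponent `q`.  Every abelian subgroup of `G ⧸ M` is then the image of an abelian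
subgroup of `G` whose order is determined prime by prime by the order of the image.
-/

namespace Cfsg.Agent.Helper19.MinSupp

open Subgroup

section cyclic

variable {α : Type*} [Group α]

theorem mem_zpowers_of_orderOf_dvd_of_isCyclic [Finite α] [IsCyclic α] (x y : α)
    (h : orderOf y ∣ orderOf x) : y ∈ Subgroup.zpowers x := by
  classical
  haveI := Fintype.ofFinite α
  have hn : 0 < orderOf x := orderOf_pos x
  have h1 := IsCyclic.card_pow_eq_one_le (α := α) hn
  have hsub : (Finset.univ.filter (fun a : α => a ∈ Subgroup.zpowers x)) ⊆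
      Finset.univ.filter (fun a : α => a ^ orderOf x = 1) := by
    intro a ha
    simp only [Finset.mem_filter, Finset.mem_univ, true_and] at ha ⊢
    obtain ⟨k, rfl⟩ := Subgroup.mem_zpowers_iff.mp ha
    rw [← zpow_natCast, ← zpow_mul, mul_comm, zpow_mul, zpow_natCast, pow_orderOf_eq_one, one_zpow]
  have hcard : (Finset.univ.filter (fun a : α => a ∈ Subgroup.zpowers x)).card = orderOf x := by
    rw [← Nat.card_zpowers, Nat.card_eq_fintype_card, Fintype.card_subtype]
  have heq := Finset.eq_of_subset_of_card_le hsub (by rw [hcard]; exact h1)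
  have hy : y ∈ Finset.univ.filter (fun a : α => a ^ orderOf x = 1) := by
    simp only [Finset.mem_filter, Finset.mem_univ, true_and]
    exact orderOf_dvd_iff_pow_eq_one.mp h
  rw [← heq] at hy
  simpa using hy

theorem zpowers_comparable [Finite α] [IsCyclic α] {q : ℕ} [Fact q.Prime] (hα : IsPGroup q α)
    (x y : α) : y ∈ Subgroup.zpowers x ∨ x ∈ Subgroup.zpowers y := by
  obtain ⟨a, ha⟩ := (IsPGroup.iff_orderOf.mp hα) x
  obtain ⟨b, hb⟩ := (IsPGroup.iff_orderOf.mp hα) y
  rcases le_total b a with h | h
  · left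
    exact mem_zpowers_of_orderOf_dvd_of_isCyclic x y (by rw [ha, hb]; exact pow_dvd_pow q h)
  · right
    exact mem_zpowers_of_orderOf_dvd_of_isCyclic y x (by rw [ha, hb]; exact pow_dvd_pow q h)

end cyclic

variable {G : Type*} [Group G] [Finite G]

/-- The exponent of `q` in the order of the lift, in terms of the exponent in the image. -/
noncomputable def hfun (M : Subgroup G) (q e : ℕ) : ℕ :=
  if q ∣ Nat.card M then (if e = 0 then 0 else e + (Nat.card M).factorization q) else e

theorem exists_min_lift (M : Subgroup G) [M.Normal] (A : Subgroup (G ⧸ M)) :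
    ∃ H : Subgroup G, H.map (QuotientGroup.mk' M) = A ∧
      ∀ K : Subgroup G, K.map (QuotientGroup.mk' M) = A → Nat.card H ≤ Nat.card K := by
  classical
  have hex : ∃ n, ∃ K : Subgroup G, K.map (QuotientGroup.mk' M) = A ∧ Nat.card K = n :=
    ⟨_, A.comap (QuotientGroup.mk' M),
      Subgroup.map_comap_eq_self_of_surjective (QuotientGroup.mk'_surjective M) A, rfl⟩
  obtain ⟨H, hH, hn⟩ := Nat.find_spec hex
  refine ⟨H, hH, fun K hK => ?_⟩
  rw [hn]
  exact Nat.find_min' hex ⟨K, hK, rfl⟩

theorem card_subgroupOf_dvd (M H : Subgroup G) : Nat.card (M.subgroupOf H) ∣ Nat.card M := by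
  rw [← Subgroup.card_map_of_injective H.subtype_injective (K := M.subgroupOf H),
    Subgroup.subgroupOf_map_subtype]
  exact Subgroup.card_dvd_of_le inf_le_left

theorem card_subgroupOf_eq (M H : Subgroup G) :
    Nat.card (M.subgroupOf H) = Nat.card (M ⊓ H : Subgroup G) := by
  rw [← Subgroup.card_map_of_injective H.subtype_injective (K := M.subgroupOf H),
    Subgroup.subgroupOf_map_subtype]

theorem isMinSupp_of_min_lift (M : Subgroup G) [M.Normal] (A : Subgroup (G ⧸ M))
    (hA : ∀ x ∈ A, ∀ y ∈ A, x * y = y * x) (H : Subgroup G)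
    (hH : H.map (QuotientGroup.mk' M) = A)
    (hmin : ∀ K : Subgroup G, K.map (QuotientGroup.mk' M) = A → Nat.card H ≤ Nat.card K) :
    IsMinSupp (M.subgroupOf H) := by
  constructor
  · intro x y
    rw [Subgroup.mem_subgroupOf]
    have hx : QuotientGroup.mk' M (x : G) ∈ A := hH ▸ Subgroup.mem_map_of_mem _ x.2
    have hy : QuotientGroup.mk' M (y : G) ∈ A := hH ▸ Subgroup.mem_map_of_mem _ y.2
    have h := hA _ hx _ hy
    rw [← QuotientGroup.eq_one_iff]
    simp only [Subgroup.coe_mul, Subgroup.coe_inv, QuotientGroup.mk_mul, QuotientGroup.mk_inv]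
    have h' : (QuotientGroup.mk (x : G) : G ⧸ M) * QuotientGroup.mk (y : G) =
        QuotientGroup.mk (y : G) * QuotientGroup.mk (x : G) := h
    rw [h']
    group
  · intro K hK
    have h1 : H = K.map H.subtype ⊔ (M ⊓ H) := by
      have h2 : (⊤ : Subgroup H).map H.subtype = H := by
        rw [← MonoidHom.range_eq_map, Subgroup.range_subtype]
      rw [← Subgroup.subgroupOf_map_subtype, ← Subgroup.map_sup, hK, h2]
    have h3 : (M ⊓ H).map (QuotientGroup.mk' M) = ⊥ := by
      rw [Subgroup.map_eq_bot_iff, QuotientGroup.ker_mk']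
      exact inf_le_left
    have h4 : (K.map H.subtype).map (QuotientGroup.mk' M) = A := by
      rw [← hH]
      conv_rhs => rw [h1]
      rw [Subgroup.map_sup, h3, sup_bot_eq]
    have h5 := hmin _ h4
    rw [Subgroup.card_map_of_injective H.subtype_injective] at h5
    exact (Subgroup.card_eq_iff_eq_top K).mp (le_antisymm (Subgroup.card_le_card_group K) h5)

section main

variable (M : Subgroup G) [M.Normal]
  (hOrd : ∀ a : G, (∃ m ∈ M, orderOf m = orderOf a) → a ∈ M)
  (hSyl : ∀ (q : ℕ) [Fact q.Prime], q ∣ Nat.card M → ∀ P : Sylow q G,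
    IsCyclic ↥(P : Subgroup G) ∨ ∀ x ∈ (P : Subgroup G), x ^ q = 1)

include hOrd hSyl in
theorem sylow_le_or_cyclic (H : Subgroup G) {q : ℕ} [Fact q.Prime] (hq : q ∣ Nat.card M)
    (Q : Sylow q H) :
    ((Q : Subgroup H) ≤ M.subgroupOf H) ∨
      ∃ P : Sylow q G, IsCyclic ↥(P : Subgroup G) ∧
        (Q : Subgroup H).map H.subtype ≤ (P : Subgroup G) := by
  have hqp : q.Prime := Fact.out
  have hQ0 : IsPGroup q ((Q : Subgroup H).map H.subtype) := Q.2.map H.subtype
  obtain ⟨P, hP⟩ := hQ0.exists_le_sylow
  rcases hSyl q hq P with hc | he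
  · right
    exact ⟨P, hc, hP⟩
  · left
    intro x hx
    rw [Subgroup.mem_subgroupOf]
    have hxP : (x : G) ∈ (P : Subgroup G) := hP (Subgroup.mem_map_of_mem _ hx)
    have h1 : orderOf (x : G) ∣ q := orderOf_dvd_of_pow_eq_one (he _ hxP)
    rcases (Nat.dvd_prime hqp).mp h1 with h | h
    · rw [orderOf_eq_one_iff] at h
      rw [h]
      exact M.one_mem
    · obtain ⟨m, hm⟩ := exists_prime_orderOf_dvd_card' (G := ↥M) q hq
      exact hOrd _ ⟨(m : G), m.2, by rw [Subgroup.orderOf_coe, hm, h]⟩

include hOrd hSyl in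
theorem comm_of_min_lift (A : Subgroup (G ⧸ M))
    (hA : ∀ x ∈ A, ∀ y ∈ A, x * y = y * x) (H : Subgroup G)
    (hH : H.map (QuotientGroup.mk' M) = A)
    (hmin : ∀ K : Subgroup G, K.map (QuotientGroup.mk' M) = A → Nat.card H ≤ Nat.card K) :
    ∀ x ∈ H, ∀ y ∈ H, x * y = y * x := by
  have hMS := isMinSupp_of_min_lift M A hA H hH hmin
  have hcomm : ∀ x y : H, x * y = y * x := by
    apply comm_of_sylow_comm (fun Q => sylow_normal hMS Q)
    intro q _ Q x hx y hy
    by_cases hq : q ∣ Nat.card M
    · rcases sylow_le_or_cyclic M hOrd hSyl H hq Q with h | ⟨P, hPc, hP⟩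
      · have hbot := sylow_eq_bot_of_le hMS Q h
        rw [hbot, Subgroup.mem_bot] at hx hy
        rw [hx, hy]
      · have hxP : (x : G) ∈ (P : Subgroup G) := hP (Subgroup.mem_map_of_mem _ hx)
        have hyP : (y : G) ∈ (P : Subgroup G) := hP (Subgroup.mem_map_of_mem _ hy)
        have h1 : (⟨(x : G), hxP⟩ : (P : Subgroup G)) * ⟨(y : G), hyP⟩ =
            ⟨(y : G), hyP⟩ * ⟨(x : G), hxP⟩ :=
          (IsCyclic.isMulCommutative (α := ↥(P : Subgroup G))).is_comm.comm _ _
        have h2 := congrArg Subtype.val h1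
        apply Subtype.ext
        simpa using h2
    · have hq' : ¬ q ∣ Nat.card (M.subgroupOf H) := fun h =>
        hq (dvd_trans h (card_subgroupOf_dvd M H))
      exact sylow_comm_of_not_dvd hMS hq' Q x hx y hy
  intro x hx y hy
  have := hcomm ⟨x, hx⟩ ⟨y, hy⟩
  exact congrArg Subtype.val this

theorem card_eq_card_map_mul (H : Subgroup G) :
    Nat.card H = Nat.card (H.map (QuotientGroup.mk' M)) * Nat.card (M.subgroupOf H) := by
  set f : H →* G ⧸ M := (QuotientGroup.mk' M).comp H.subtype with hf
  have hker : f.ker = M.subgroupOf H := by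
    rw [hf, ← MonoidHom.comap_ker, QuotientGroup.ker_mk']
    rfl
  have hrange : f.range = H.map (QuotientGroup.mk' M) := by
    rw [hf, MonoidHom.range_comp, Subgroup.range_subtype]
  have h1 := Subgroup.card_mul_index f.ker
  rw [Subgroup.index_ker, hker, hrange] at h1
  rw [← h1, mul_comm]

include hOrd hSyl in
theorem factorization_min_lift (A : Subgroup (G ⧸ M))
    (hA : ∀ x ∈ A, ∀ y ∈ A, x * y = y * x) (H : Subgroup G)
    (hH : H.map (QuotientGroup.mk' M) = A)
    (hmin : ∀ K : Subgroup G, K.map (QuotientGroup.mk' M) = A → Nat.card H ≤ Nat.card K)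
    (q : ℕ) (hq : q.Prime) :
    (Nat.card H).factorization q = hfun M q ((Nat.card A).factorization q) := by
  haveI : Fact q.Prime := ⟨hq⟩
  have hMS := isMinSupp_of_min_lift M A hA H hH hmin
  have hcard := card_eq_card_map_mul M H
  rw [hH] at hcard
  have hA0 : Nat.card A ≠ 0 := Nat.card_pos.ne'
  have hN0 : Nat.card (M.subgroupOf H) ≠ 0 := Nat.card_pos.ne'
  have hM0 : Nat.card M ≠ 0 := Nat.card_pos.ne'
  have hfac : (Nat.card H).factorization q =
      (Nat.card A).factorization q + (Nat.card (M.subgroupOf H)).factorization q := by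
    rw [hcard, Nat.factorization_mul hA0 hN0]
    rfl
  unfold hfun
  by_cases hqM : q ∣ Nat.card M
  · rw [if_pos hqM]
    by_cases he : (Nat.card A).factorization q = 0
    · rw [if_pos he]
      -- `q` does not divide `|A|`, so the Sylow `q`-subgroup of `H` lies in `M`
      have hqA : ¬ q ∣ Nat.card A := by
        intro h
        have := (hq.dvd_iff_one_le_factorization hA0).mp h
        omega
      by_contra hne
      have hqH : q ∣ Nat.card H := Nat.dvd_of_factorization_pos hne
      let Q : Sylow q H := default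
      have hQne : (Q : Subgroup H) ≠ ⊥ := Q.ne_bot_of_dvd_card hqH
      apply hQne
      apply sylow_eq_bot_of_le hMS Q
      intro x hx
      rw [Subgroup.mem_subgroupOf, ← QuotientGroup.eq_one_iff]
      have hxA : (QuotientGroup.mk (x : G) : G ⧸ M) ∈ A :=
        hH ▸ Subgroup.mem_map_of_mem (QuotientGroup.mk' M) x.2
      obtain ⟨k, hk⟩ := (Q.2 : IsPGroup q (Q : Subgroup H)) ⟨x, hx⟩
      have hk' : (x : G) ^ q ^ k = 1 := by
        have := congrArg (fun t : (Q : Subgroup H) => ((t : H) : G)) hk
        simpa using this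
      have h1 : orderOf (QuotientGroup.mk (x : G) : G ⧸ M) ∣ q ^ k := by
        apply orderOf_dvd_of_pow_eq_one
        rw [← QuotientGroup.mk_pow, hk']
        rfl
      have h2 : orderOf (QuotientGroup.mk (x : G) : G ⧸ M) ∣ Nat.card A := by
        have := orderOf_dvd_natCard (⟨_, hxA⟩ : A)
        rwa [Subgroup.orderOf_mk] at this
      have hcop : Nat.Coprime (q ^ k) (Nat.card A) :=
        Nat.Coprime.pow_left k ((Nat.Prime.coprime_iff_not_dvd hq).2 hqA)
      have h3 := Nat.dvd_gcd h1 h2
      rw [hcop.gcd_eq_one, Nat.dvd_one, orderOf_eq_one_iff] at h3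
      exact h3
    · rw [if_neg he, hfac]
      congr 1
      have hqA : q ∣ Nat.card A := Nat.dvd_of_factorization_pos he
      have hqH : q ∣ Nat.card H := by
        rw [hcard]
        exact dvd_mul_of_dvd_left hqA _
      let Q : Sylow q H := default
      have hQne : (Q : Subgroup H) ≠ ⊥ := Q.ne_bot_of_dvd_card hqH
      apply le_antisymm
      · exact (Nat.factorization_le_iff_dvd hN0 hM0).mpr (card_subgroupOf_dvd M H) q
      · rcases sylow_le_or_cyclic M hOrd hSyl H hqM Q with h | ⟨P, hPc, hP⟩
        · exact absurd (sylow_eq_bot_of_le hMS Q h) hQne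
        · -- some element of `Q` is outside `M`
          have hnot : ¬ (Q : Subgroup H) ≤ M.subgroupOf H := fun h =>
            hQne (sylow_eq_bot_of_le hMS Q h)
          obtain ⟨x, hxQ, hxM⟩ := SetLike.not_le_iff_exists.mp hnot
          rw [Subgroup.mem_subgroupOf] at hxM
          have hxP : (x : G) ∈ (P : Subgroup G) := hP (Subgroup.mem_map_of_mem _ hxQ)
          have hPM : (P : Subgroup G) ⊓ M ≤ M ⊓ H := by
            intro y hy
            obtain ⟨hyP, hyM⟩ := Subgroup.mem_inf.mp hy
            refine Subgroup.mem_inf.2 ⟨hyM, ?_⟩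
            have hPp : IsPGroup q ↥(P : Subgroup G) := P.2
            rcases zpowers_comparable hPp (⟨(x : G), hxP⟩ : (P : Subgroup G)) ⟨y, hyP⟩ with
              h | h
            · obtain ⟨k, hk⟩ := Subgroup.mem_zpowers_iff.mp h
              have hk' : (x : G) ^ k = y := by
                have := congrArg Subtype.val hk
                simpa using this
              rw [← hk']
              exact H.zpow_mem x.2 k
            · exfalso
              obtain ⟨k, hk⟩ := Subgroup.mem_zpowers_iff.mp h
              have hk' : y ^ k = (x : G) := by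
                have := congrArg Subtype.val hk
                simpa using this
              exact hxM (hk' ▸ M.zpow_mem hyM k)
          obtain ⟨Q', hQ'⟩ := Cfsg.Agent.Helper19.exists_sylow_inf_normal P M
          have hc1 : Nat.card ((P : Subgroup G) ⊓ M : Subgroup G) =
              q ^ (Nat.card M).factorization q := by
            rw [← hQ', Subgroup.card_map_of_injective M.subtype_injective,
              Sylow.card_eq_multiplicity]
          have hdvd : q ^ (Nat.card M).factorization q ∣ Nat.card (M.subgroupOf H) := by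
            rw [card_subgroupOf_eq, ← hc1]
            exact Subgroup.card_dvd_of_le hPM
          exact (hq.pow_dvd_iff_le_factorization hN0).mp hdvd
  · rw [if_neg hqM, hfac]
    have hq' : ¬ q ∣ Nat.card (M.subgroupOf H) := fun h =>
      hqM (dvd_trans h (card_subgroupOf_dvd M H))
    rw [Nat.factorization_eq_zero_of_not_dvd hq', add_zero]

include hOrd hSyl in
/-- Abelian subgroups of the quotient lift to abelian subgroups whose order depends only on the
order of the image. -/
theorem exists_comm_lift (A : Subgroup (G ⧸ M)) (hA : ∀ x ∈ A, ∀ y ∈ A, x * y = y * x) :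
    ∃ H : Subgroup G, H.map (QuotientGroup.mk' M) = A ∧ (∀ x ∈ H, ∀ y ∈ H, x * y = y * x) ∧
      ∀ q : ℕ, q.Prime →
        (Nat.card H).factorization q = hfun M q ((Nat.card A).factorization q) := by
  obtain ⟨H, hH, hmin⟩ := exists_min_lift M A
  exact ⟨H, hH, comm_of_min_lift M hOrd hSyl A hA H hH hmin,
    factorization_min_lift M hOrd hSyl A hA H hH hmin⟩

include hOrd hSyl in
/-- Abelian subgroups of equal order of the quotient are images of abelian subgroups of equal
order. -/
theorem exists_comm_lifts (A B : Subgroup (G ⧸ M)) (hA : ∀ x ∈ A, ∀ y ∈ A, x * y = y * x)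
    (hB : ∀ x ∈ B, ∀ y ∈ B, x * y = y * x) (hAB : Nat.card A = Nat.card B) :
    ∃ H K : Subgroup G, H.map (QuotientGroup.mk' M) = A ∧ K.map (QuotientGroup.mk' M) = B ∧
      (∀ x ∈ H, ∀ y ∈ H, x * y = y * x) ∧ (∀ x ∈ K, ∀ y ∈ K, x * y = y * x) ∧
      Nat.card H = Nat.card K := by
  obtain ⟨H, hH, hHc, hHf⟩ := exists_comm_lift M hOrd hSyl A hA
  obtain ⟨K, hK, hKc, hKf⟩ := exists_comm_lift M hOrd hSyl B hB
  refine ⟨H, K, hH, hK, hHc, hKc, ?_⟩
  apply Nat.eq_of_factorization_eq Nat.card_pos.ne' Nat.card_pos.ne'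
  intro q
  by_cases hq : q.Prime
  · rw [hHf q hq, hKf q hq, hAB]
  · rw [Nat.factorization_eq_zero_of_not_prime _ hq, Nat.factorization_eq_zero_of_not_prime _ hq]

end main

end Cfsg.Agent.Helper19.MinSupp
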