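import Mathlib
import Cfsg.Agent.Lib.Helper19.MinSuppB

set_option autoImplicit false
set_option linter.unusedSectionVars false
set_option linter.style.haveILetI false

/-!
# Lifting abelian subgroups of a quotient: general criterion

A version of the lifting lemma of `MinSuppB` in which the hypothesis on the Sylow subgroups is
replaced by a condition on the `q`-subgroups `X` of `G` whose image lies in the given abelian
subgroup of the quotient: either `X ≤ M`, or `X` is abelian and contains a Sylow `q`-subgroup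
of `M`.
-/

namespace Cfsg.Agent.Helper19.MinSupp

open Subgroup

variable {G : Type*} [Group G] [Finite G]

/-- The condition on `q`-subgroups used for lifting `A`. -/
def LiftCond (M : Subgroup G) [M.Normal] (A : Subgroup (G ⧸ M)) : Prop :=
  ∀ (q : ℕ) [Fact q.Prime], q ∣ Nat.card M → ∀ X : Subgroup G, IsPGroup q X →
    X.map (QuotientGroup.mk' M) ≤ A →
    X ≤ M ∨ ((∀ x ∈ X, ∀ y ∈ X, x * y = y * x) ∧
      q ^ (Nat.card M).factorization q ∣ Nat.card (X ⊓ M : Subgroup G))

section main

variable (M : Subgroup G) [M.Normal]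

theorem comm_of_min_lift' (A : Subgroup (G ⧸ M)) (hX : LiftCond M A)
    (hA : ∀ x ∈ A, ∀ y ∈ A, x * y = y * x) (H : Subgroup G)
    (hH : H.map (QuotientGroup.mk' M) = A)
    (hmin : ∀ K : Subgroup G, K.map (QuotientGroup.mk' M) = A → Nat.card H ≤ Nat.card K) :
    ∀ x ∈ H, ∀ y ∈ H, x * y = y * x := by
  have hMS := isMinSupp_of_min_lift M A hA H hH hmin
  have hcomm : ∀ x y : H, x * y = y * x := by
    apply comm_of_sylow_comm (fun Q => sylow_normal hMS Q)
    intro q _ Q x hx y hy
    by_cases hq : q ∣ Nat.card M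
    · have hXA : ((Q : Subgroup H).map H.subtype).map (QuotientGroup.mk' M) ≤ A := by
        rw [← hH]
        exact Subgroup.map_mono (Subgroup.map_subtype_le _)
      rcases hX q hq _ (Q.2.map H.subtype) hXA with h | ⟨h, -⟩
      · have hle : (Q : Subgroup H) ≤ M.subgroupOf H := by
          intro t ht
          rw [Subgroup.mem_subgroupOf]
          exact h (Subgroup.mem_map_of_mem _ ht)
        have hbot := sylow_eq_bot_of_le hMS Q hle
        rw [hbot, Subgroup.mem_bot] at hx hy
        rw [hx, hy]
      · have h2 := h _ (Subgroup.mem_map_of_mem H.subtype hx) _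
          (Subgroup.mem_map_of_mem H.subtype hy)
        apply Subtype.ext
        simpa using h2
    · have hq' : ¬ q ∣ Nat.card (M.subgroupOf H) := fun h =>
        hq (dvd_trans h (card_subgroupOf_dvd M H))
      exact sylow_comm_of_not_dvd hMS hq' Q x hx y hy
  intro x hx y hy
  have := hcomm ⟨x, hx⟩ ⟨y, hy⟩
  exact congrArg Subtype.val this

theorem factorization_min_lift' (A : Subgroup (G ⧸ M)) (hX : LiftCond M A)
    (hA : ∀ x ∈ A, ∀ y ∈ A, x * y = y * x) (H : Subgroup G)
    (hH : H.map (QuotientGroup.mk' M) = A)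
    (hmin : ∀ K : Subgroup G, K.map (QuotientGroup.mk' M) = A → Nat.card H ≤ Nat.card K)
    (q : ℕ) (hq : q.Prime) :
    (Nat.card H).factorization q = hfun M q ((Nat.card A).factorization q) := by
  haveI : Fact q.Prime := ⟨hq⟩
  have hMS := isMinSupp_of_min_lift M A hA H hH hmin
  have hcard := card_eq_card_map_mul M H
  rw [hH] at hcard
  have hA0 : Nat.card A ≠ 0 := Nat.card_pos.ne'
  have hN0 : Nat.card (M.subgroupOf H) ≠ 0 := Nat.card_pos.ne'
  have hM0 : Nat.card M ≠ 0 := Nat.card_pos.ne'
  have hfac : (Nat.card H).factorization q =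
      (Nat.card A).factorization q + (Nat.card (M.subgroupOf H)).factorization q := by
    rw [hcard, Nat.factorization_mul hA0 hN0]
    rfl
  unfold hfun
  by_cases hqM : q ∣ Nat.card M
  · rw [if_pos hqM]
    by_cases he : (Nat.card A).factorization q = 0
    · rw [if_pos he]
      have hqA : ¬ q ∣ Nat.card A := by
        intro h
        have := (hq.dvd_iff_one_le_factorization hA0).mp h
        omega
      by_contra hne
      have hqH : q ∣ Nat.card H := Nat.dvd_of_factorization_pos hne
      let Q : Sylow q H := default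
      have hQne : (Q : Subgroup H) ≠ ⊥ := Q.ne_bot_of_dvd_card hqH
      apply hQne
      apply sylow_eq_bot_of_le hMS Q
      intro x hx
      rw [Subgroup.mem_subgroupOf, ← QuotientGroup.eq_one_iff]
      have hxA : (QuotientGroup.mk (x : G) : G ⧸ M) ∈ A :=
        hH ▸ Subgroup.mem_map_of_mem (QuotientGroup.mk' M) x.2
      obtain ⟨k, hk⟩ := (Q.2 : IsPGroup q (Q : Subgroup H)) ⟨x, hx⟩
      have hk' : (x : G) ^ q ^ k = 1 := by
        have := congrArg (fun t : (Q : Subgroup H) => ((t : H) : G)) hk
        simpa using this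
      have h1 : orderOf (QuotientGroup.mk (x : G) : G ⧸ M) ∣ q ^ k := by
        apply orderOf_dvd_of_pow_eq_one
        rw [← QuotientGroup.mk_pow, hk']
        rfl
      have h2 : orderOf (QuotientGroup.mk (x : G) : G ⧸ M) ∣ Nat.card A := by
        have := orderOf_dvd_natCard (⟨_, hxA⟩ : A)
        rwa [Subgroup.orderOf_mk] at this
      have hcop : Nat.Coprime (q ^ k) (Nat.card A) :=
        Nat.Coprime.pow_left k ((Nat.Prime.coprime_iff_not_dvd hq).2 hqA)
      have h3 := Nat.dvd_gcd h1 h2
      rw [hcop.gcd_eq_one, Nat.dvd_one, orderOf_eq_one_iff] at h3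
      exact h3
    · rw [if_neg he, hfac]
      congr 1
      have hqA : q ∣ Nat.card A := Nat.dvd_of_factorization_pos he
      have hqH : q ∣ Nat.card H := by
        rw [hcard]
        exact dvd_mul_of_dvd_left hqA _
      let Q : Sylow q H := default
      have hQne : (Q : Subgroup H) ≠ ⊥ := Q.ne_bot_of_dvd_card hqH
      apply le_antisymm
      · exact (Nat.factorization_le_iff_dvd hN0 hM0).mpr (card_subgroupOf_dvd M H) q
      · have hXA : ((Q : Subgroup H).map H.subtype).map (QuotientGroup.mk' M) ≤ A := by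
          rw [← hH]
          exact Subgroup.map_mono (Subgroup.map_subtype_le _)
        rcases hX q hqM _ (Q.2.map H.subtype) hXA with h | ⟨-, h⟩
        · exfalso
          apply hQne
          apply sylow_eq_bot_of_le hMS Q
          intro t ht
          rw [Subgroup.mem_subgroupOf]
          exact h (Subgroup.mem_map_of_mem _ ht)
        · have hle : ((Q : Subgroup H).map H.subtype ⊓ M : Subgroup G) ≤ M ⊓ H :=
            le_inf inf_le_right (inf_le_left.trans (Subgroup.map_subtype_le _))
          have hdvd : q ^ (Nat.card M).factorization q ∣ Nat.card (M.subgroupOf H) := by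
            rw [card_subgroupOf_eq]
            exact dvd_trans h (Subgroup.card_dvd_of_le hle)
          exact (hq.pow_dvd_iff_le_factorization hN0).mp hdvd
  · rw [if_neg hqM, hfac]
    have hq' : ¬ q ∣ Nat.card (M.subgroupOf H) := fun h =>
      hqM (dvd_trans h (card_subgroupOf_dvd M H))
    rw [Nat.factorization_eq_zero_of_not_dvd hq', add_zero]

theorem exists_comm_lift' (A : Subgroup (G ⧸ M)) (hX : LiftCond M A)
    (hA : ∀ x ∈ A, ∀ y ∈ A, x * y = y * x) :
    ∃ H : Subgroup G, H.map (QuotientGroup.mk' M) = A ∧ (∀ x ∈ H, ∀ y ∈ H, x * y = y * x) ∧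
      ∀ q : ℕ, q.Prime →
        (Nat.card H).factorization q = hfun M q ((Nat.card A).factorization q) := by
  obtain ⟨H, hH, hmin⟩ := exists_min_lift M A
  exact ⟨H, hH, comm_of_min_lift' M A hX hA H hH hmin,
    factorization_min_lift' M A hX hA H hH hmin⟩

theorem exists_comm_lifts' (A B : Subgroup (G ⧸ M)) (hXA : LiftCond M A) (hXB : LiftCond M B)
    (hA : ∀ x ∈ A, ∀ y ∈ A, x * y = y * x)
    (hB : ∀ x ∈ B, ∀ y ∈ B, x * y = y * x) (hAB : Nat.card A = Nat.card B) :
    ∃ H K : Subgroup G, H.map (QuotientGroup.mk' M) = A ∧ K.map (QuotientGroup.mk' M) = B ∧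
      (∀ x ∈ H, ∀ y ∈ H, x * y = y * x) ∧ (∀ x ∈ K, ∀ y ∈ K, x * y = y * x) ∧
      Nat.card H = Nat.card K := by
  obtain ⟨H, hH, hHc, hHf⟩ := exists_comm_lift' M A hXA hA
  obtain ⟨K, hK, hKc, hKf⟩ := exists_comm_lift' M B hXB hB
  refine ⟨H, K, hH, hK, hHc, hKc, ?_⟩
  apply Nat.eq_of_factorization_eq Nat.card_pos.ne' Nat.card_pos.ne'
  intro q
  by_cases hq : q.Prime
  · rw [hHf q hq, hKf q hq, hAB]
  · rw [Nat.factorization_eq_zero_of_not_prime _ hq, Nat.factorization_eq_zero_of_not_prime _ hq]

/-- In a group whose abelian subgroups of equal order are conjugate, abelian subgroups of equal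
order of `G ⧸ M` satisfying the lifting condition are conjugate. -/
theorem conj_of_liftCond
    (hBst : ∀ A B : Subgroup G, IsMulCommutative ↥A → IsMulCommutative ↥B →
      Nat.card ↥A = Nat.card ↥B → ∃ g : G, B = A.map (MulAut.conj g).toMonoidHom)
    (A B : Subgroup (G ⧸ M)) (hXA : LiftCond M A) (hXB : LiftCond M B)
    (hA : ∀ x ∈ A, ∀ y ∈ A, x * y = y * x)
    (hB : ∀ x ∈ B, ∀ y ∈ B, x * y = y * x) (hAB : Nat.card A = Nat.card B) :
    ∃ g : G ⧸ M, B = A.map (MulAut.conj g).toMonoidHom := by
  obtain ⟨H, K, hH, hK, hHc, hKc, hHK⟩ := exists_comm_lifts' M A B hXA hXB hA hB hAB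
  have hHi : IsMulCommutative ↥H := ⟨⟨fun x y => Subtype.ext (hHc _ x.2 _ y.2)⟩⟩
  have hKi : IsMulCommutative ↥K := ⟨⟨fun x y => Subtype.ext (hKc _ x.2 _ y.2)⟩⟩
  obtain ⟨g, hg⟩ := hBst H K hHi hKi hHK
  refine ⟨QuotientGroup.mk g, ?_⟩
  rw [← hK, ← hH, hg, Subgroup.map_map, Subgroup.map_map]
  congr 1

/-- The lifting condition at `q` for `q`-subgroups of a Sylow subgroup that is cyclic or
contained in `M`. -/
theorem liftCond_of_cyclic_or_le {q : ℕ} [Fact q.Prime] (P : Sylow q G)
    (hP : IsCyclic ↥(P : Subgroup G) ∨ (P : Subgroup G) ≤ M) (X : Subgroup G)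
    (hXP : X ≤ (P : Subgroup G)) :
    X ≤ M ∨ ((∀ x ∈ X, ∀ y ∈ X, x * y = y * x) ∧
      q ^ (Nat.card M).factorization q ∣ Nat.card (X ⊓ M : Subgroup G)) := by
  rcases hP with hPc | hPM
  · by_cases hXM : X ≤ M
    · left; exact hXM
    · right
      constructor
      · intro x hx y hy
        have h1 : (⟨x, hXP hx⟩ : (P : Subgroup G)) * ⟨y, hXP hy⟩ =
            ⟨y, hXP hy⟩ * ⟨x, hXP hx⟩ :=
          (IsCyclic.isMulCommutative (α := ↥(P : Subgroup G))).is_comm.comm _ _
        exact congrArg Subtype.val h1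
      · obtain ⟨x, hxX, hxM⟩ := SetLike.not_le_iff_exists.mp hXM
        have hPM : (P : Subgroup G) ⊓ M ≤ X ⊓ M := by
          intro y hy
          obtain ⟨hyP, hyM⟩ := Subgroup.mem_inf.mp hy
          refine Subgroup.mem_inf.2 ⟨?_, hyM⟩
          have hPp : IsPGroup q ↥(P : Subgroup G) := P.2
          rcases zpowers_comparable hPp (⟨x, hXP hxX⟩ : (P : Subgroup G)) ⟨y, hyP⟩ with
            h | h
          · obtain ⟨k, hk⟩ := Subgroup.mem_zpowers_iff.mp h
            have hk' : x ^ k = y := by
              have := congrArg Subtype.val hk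
              simpa using this
            rw [← hk']
            exact X.zpow_mem hxX k
          · exfalso
            obtain ⟨k, hk⟩ := Subgroup.mem_zpowers_iff.mp h
            have hk' : y ^ k = x := by
              have := congrArg Subtype.val hk
              simpa using this
            exact hxM (hk' ▸ M.zpow_mem hyM k)
        obtain ⟨Q', hQ'⟩ := Cfsg.Agent.Helper19.exists_sylow_inf_normal P M
        have hc1 : Nat.card ((P : Subgroup G) ⊓ M : Subgroup G) =
            q ^ (Nat.card M).factorization q := by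
          rw [← hQ', Subgroup.card_map_of_injective M.subtype_injective,
            Sylow.card_eq_multiplicity]
        rw [← hc1]
        exact Subgroup.card_dvd_of_le hPM
  · left
    exact hXP.trans hPM

end main

end Cfsg.Agent.Helper19.MinSupp
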