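import Mathlib

set_option autoImplicit false

namespace Cfsg.Agent.Helper19

variable {G : Type*} [Group G]

/-- Membership in a conjugate subgroup written with `MulAut.conj`. -/
theorem mem_map_conj (K : Subgroup G) (g y : G) :
    y ∈ K.map (MulAut.conj g).toMonoidHom ↔ g⁻¹ * y * g ∈ K := by
  constructor
  · rintro ⟨k, hk, rfl⟩
    simpa [mul_assoc] using hk
  · intro h
    refine ⟨g⁻¹ * y * g, h, ?_⟩
    simp [mul_assoc]

theorem conj_mem_map_conj (K : Subgroup G) (g k : G) (hk : k ∈ K) :
    g * k * g⁻¹ ∈ K.map (MulAut.conj g).toMonoidHom := by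
  rw [mem_map_conj]
  simpa [mul_assoc] using hk

theorem map_conj_mul (K : Subgroup G) (g h : G) :
    K.map (MulAut.conj (g * h)).toMonoidHom =
      (K.map (MulAut.conj h).toMonoidHom).map (MulAut.conj g).toMonoidHom := by
  ext y
  simp only [mem_map_conj]
  have : (g * h)⁻¹ * y * (g * h) = h⁻¹ * (g⁻¹ * y * g) * h := by group
  rw [this]

theorem map_conj_one (K : Subgroup G) :
    K.map (MulAut.conj (1 : G)).toMonoidHom = K := by
  ext y
  simp

theorem map_conj_inv_map_conj (K : Subgroup G) (g : G) :
    (K.map (MulAut.conj g).toMonoidHom).map (MulAut.conj g⁻¹).toMonoidHom = K := by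
  rw [← map_conj_mul, inv_mul_cancel, map_conj_one]

theorem map_conj_map_conj_inv (K : Subgroup G) (g : G) :
    (K.map (MulAut.conj g⁻¹).toMonoidHom).map (MulAut.conj g).toMonoidHom = K := by
  rw [← map_conj_mul, mul_inv_cancel, map_conj_one]

theorem map_conj_eq_self_of_mem (K : Subgroup G) (g : G) (hg : g ∈ K) :
    K.map (MulAut.conj g).toMonoidHom = K := by
  ext y
  rw [mem_map_conj]
  constructor
  · intro h
    have := K.mul_mem (K.mul_mem hg h) (K.inv_mem hg)
    simpa [mul_assoc] using this
  · intro h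
    exact K.mul_mem (K.mul_mem (K.inv_mem hg) h) hg

theorem map_conj_le_of_mem {K J : Subgroup G} (g : G) (hg : g ∈ J) (hK : K ≤ J) :
    K.map (MulAut.conj g).toMonoidHom ≤ J := by
  intro y hy
  rw [mem_map_conj] at hy
  have := J.mul_mem (J.mul_mem hg (hK hy)) (J.inv_mem hg)
  simpa [mul_assoc] using this

theorem map_conj_mono {K J : Subgroup G} (g : G) (h : K ≤ J) :
    K.map (MulAut.conj g).toMonoidHom ≤ J.map (MulAut.conj g).toMonoidHom :=
  Subgroup.map_mono h

theorem mem_normalizer_iff_map_conj (K : Subgroup G) (g : G) :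
    g ∈ Subgroup.normalizer (K : Set G) ↔ K.map (MulAut.conj g).toMonoidHom = K := by
  rw [Subgroup.mem_normalizer_iff'']
  constructor
  · intro h
    ext y
    rw [mem_map_conj]
    exact (h y).symm
  · intro h y
    rw [← mem_map_conj, h]

theorem card_map_conj (K : Subgroup G) (g : G) :
    Nat.card (K.map (MulAut.conj g).toMonoidHom) = Nat.card K := by
  exact Nat.card_congr ((K.equivMapOfInjective _ (MulAut.conj g).injective).symm.toEquiv)

end Cfsg.Agent.Helper19
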