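import Mathlib
import Cfsg.Agent.Lib.Helper19.MinSuppC
import Cfsg.Agent.Lib.Helper19.BStarQuat
import Cfsg.Agent.Lib.Helper19.SylowConj

set_option autoImplicit false
set_option linter.unusedSectionVars false
set_option linter.style.haveILetI false

/-!
# Quotients of solvable groups whose abelian subgroups of equal order are conjugate
-/

namespace Cfsg.Agent.Helper19.BStarQuot

open Subgroup Cfsg.Agent.Helper19.MinSupp Cfsg.Agent.Helper19.BStarQuat

section split

variable {Q : Type*} [Group Q] [Finite Q]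

/-- An abelian subgroup is the join of its Sylow `p`-subgroup and a complement. -/
theorem exists_sylow_complement (p : ℕ) [Fact p.Prime] (A : Subgroup Q)
    (hA : ∀ x ∈ A, ∀ y ∈ A, x * y = y * x) :
    ∃ V O : Subgroup Q, V ≤ A ∧ O ≤ A ∧ V ⊔ O = A ∧
      Nat.card V = p ^ (Nat.card A).factorization p ∧ Nat.card V * Nat.card O = Nat.card A := by
  let V₀ : Sylow p A := default
  haveI hn : (V₀ : Subgroup A).Normal := by
    refine ⟨fun n hn g => ?_⟩
    have h1 : g * n * g⁻¹ = n := by
      have h2 : g * n = n * g := Subtype.ext (hA _ g.2 _ n.2)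
      rw [h2, mul_inv_cancel_right]
    rw [h1]; exact hn
  obtain ⟨R₀, hR₀⟩ := Subgroup.exists_right_complement'_of_coprime (N := (V₀ : Subgroup A))
    V₀.card_coprime_index
  refine ⟨(V₀ : Subgroup A).map A.subtype, R₀.map A.subtype, Subgroup.map_subtype_le _,
    Subgroup.map_subtype_le _, ?_, ?_, ?_⟩
  · rw [← Subgroup.map_sup, hR₀.sup_eq_top, ← MonoidHom.range_eq_map, Subgroup.range_subtype]
  · rw [Subgroup.card_map_of_injective A.subtype_injective, Sylow.card_eq_multiplicity]
  · rw [Subgroup.card_map_of_injective A.subtype_injective,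
      Subgroup.card_map_of_injective A.subtype_injective]
    exact hR₀.card_mul_card

theorem map_conj_eq_of_mem_centralizer (O : Subgroup Q) (c : Q)
    (hc : c ∈ Subgroup.centralizer (O : Set Q)) :
    O.map (MulAut.conj c).toMonoidHom = O := by
  ext x
  constructor
  · rintro ⟨o, ho, rfl⟩
    have h1 : o * c = c * o := Subgroup.mem_centralizer_iff.mp hc o ho
    have h2 : (MulAut.conj c).toMonoidHom o = o := by
      show c * o * c⁻¹ = o
      rw [← h1, mul_inv_cancel_right]
    rw [h2]; exact ho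
  · intro hx
    refine ⟨x, hx, ?_⟩
    have h1 : x * c = c * x := Subgroup.mem_centralizer_iff.mp hc x hx
    show c * x * c⁻¹ = x
    rw [← h1, mul_inv_cancel_right]

/-- If the `p`-parts of two abelian subgroups of equal order are Sylow subgroups of the whole
group, conjugacy reduces to the conjugacy of abelian subgroups of order prime to `p`. -/
theorem conj_of_full_sylow (p : ℕ) [Fact p.Prime] (A B : Subgroup Q)
    (hA : ∀ x ∈ A, ∀ y ∈ A, x * y = y * x) (hB : ∀ x ∈ B, ∀ y ∈ B, x * y = y * x)
    (hAB : Nat.card A = Nat.card B)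
    (hfull : (Nat.card A).factorization p = (Nat.card Q).factorization p)
    (hodd : ∀ A' B' : Subgroup Q, (∀ x ∈ A', ∀ y ∈ A', x * y = y * x) →
      (∀ x ∈ B', ∀ y ∈ B', x * y = y * x) → Nat.card A' = Nat.card B' → ¬ p ∣ Nat.card A' →
      ∃ g : Q, B' = A'.map (MulAut.conj g).toMonoidHom) :
    ∃ g : Q, B = A.map (MulAut.conj g).toMonoidHom := by
  have hp : p.Prime := Fact.out
  obtain ⟨VA, OA, hVA, hOA, hsupA, hcVA, hmulA⟩ := exists_sylow_complement p A hA
  obtain ⟨VB, OB, hVB, hOB, hsupB, hcVB, hmulB⟩ := exists_sylow_complement p B hB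
  have hcV : Nat.card VA = Nat.card VB := by rw [hcVA, hcVB, hAB]
  have hcO : Nat.card OA = Nat.card OB := by
    have h1 : Nat.card VA * Nat.card OA = Nat.card VA * Nat.card OB := by
      rw [hmulA, hcV, hmulB, hAB]
    exact Nat.eq_of_mul_eq_mul_left Nat.card_pos h1
  have hpO : ¬ p ∣ Nat.card OA := by
    intro h
    have h1 : p ^ ((Nat.card A).factorization p + 1) ∣ Nat.card A := by
      have h2 : p ^ ((Nat.card A).factorization p) * p ∣ Nat.card VA * Nat.card OA := by
        rw [hcVA]
        exact Nat.mul_dvd_mul_left _ h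
      rw [hmulA] at h2
      rwa [pow_succ]
    have := (hp.pow_dvd_iff_le_factorization Nat.card_pos.ne').mp h1
    omega
  obtain ⟨g, hg⟩ := hodd OA OB (fun x hx y hy => hA x (hOA hx) y (hOA hy))
    (fun x hx y hy => hB x (hOB hx) y (hOB hy)) hcO hpO
  -- the conjugate of `VA` and `VB` are Sylow subgroups in the centralizer of `OB`
  set V₁ := VA.map (MulAut.conj g).toMonoidHom with hV₁
  have hcV₁ : Nat.card V₁ = p ^ (Nat.card Q).factorization p := by
    rw [hV₁, Subgroup.card_map_of_injective (MulAut.conj g).injective, hcVA, hfull]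
  have hcVB' : Nat.card VB = p ^ (Nat.card Q).factorization p := by
    rw [hcVB, ← hAB, hfull]
  let S₁ : Sylow p Q := Sylow.ofCard V₁ hcV₁
  let S₂ : Sylow p Q := Sylow.ofCard VB hcVB'
  have hS₁ : (S₁ : Subgroup Q) = V₁ := rfl
  have hS₂ : (S₂ : Subgroup Q) = VB := rfl
  have h1 : (S₁ : Subgroup Q) ≤ Subgroup.centralizer (OB : Set Q) := by
    rw [hS₁]
    rintro _ ⟨v, hv, rfl⟩
    rw [Subgroup.mem_centralizer_iff]
    intro o ho
    rw [hg] at ho
    obtain ⟨o', ho', rfl⟩ := ho
    show g * o' * g⁻¹ * (g * v * g⁻¹) = g * v * g⁻¹ * (g * o' * g⁻¹)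
    have h2 : o' * v = v * o' := hA _ (hOA ho') _ (hVA hv)
    calc g * o' * g⁻¹ * (g * v * g⁻¹) = g * (o' * v) * g⁻¹ := by group
      _ = g * (v * o') * g⁻¹ := by rw [h2]
      _ = g * v * g⁻¹ * (g * o' * g⁻¹) := by group
  have h2 : (S₂ : Subgroup Q) ≤ Subgroup.centralizer (OB : Set Q) := by
    rw [hS₂]
    intro v hv
    rw [Subgroup.mem_centralizer_iff]
    intro o ho
    exact hB _ (hOB ho) _ (hVB hv)
  obtain ⟨c, hc, hcc⟩ := Cfsg.Agent.Helper19.exists_mem_conj_eq_of_le S₁ S₂ _ h1 h2
  rw [hS₁, hS₂] at hcc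
  refine ⟨c * g, ?_⟩
  have h3 : OB.map (MulAut.conj c).toMonoidHom = OB := map_conj_eq_of_mem_centralizer OB c hc
  have h4 : (MulAut.conj (c * g)).toMonoidHom =
      (MulAut.conj c).toMonoidHom.comp (MulAut.conj g).toMonoidHom := by
    ext x
    simp [map_mul]
  rw [← hsupB, ← hcc, ← hsupA, h4, ← Subgroup.map_map, Subgroup.map_sup, ← hV₁, ← hg,
    Subgroup.map_sup, h3]

end split

section main

variable {G : Type*} [Group G] [Finite G]

theorem le_of_exponent (M : Subgroup G)
    (hOrd : ∀ a : G, (∃ m ∈ M, orderOf m = orderOf a) → a ∈ M) {q : ℕ} [Fact q.Prime]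
    (hq : q ∣ Nat.card M) (P : Subgroup G) (hP : ∀ x ∈ P, x ^ q = 1) : P ≤ M := by
  have hqp : q.Prime := Fact.out
  intro x hx
  have h1 : orderOf x ∣ q := orderOf_dvd_of_pow_eq_one (hP x hx)
  rcases (Nat.dvd_prime hqp).mp h1 with h | h
  · rw [orderOf_eq_one_iff] at h
    rw [h]
    exact M.one_mem
  · obtain ⟨m, hm⟩ := exists_prime_orderOf_dvd_card' (G := ↥M) q hq
    exact hOrd _ ⟨(m : G), m.2, by rw [Subgroup.orderOf_coe, hm, h]⟩

variable (M : Subgroup G) [M.Normal]
  (hOrd : ∀ a : G, (∃ m ∈ M, orderOf m = orderOf a) → a ∈ M)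
  (hSylOdd : ∀ (q : ℕ) [Fact q.Prime], q ≠ 2 → ∀ P : Sylow q G,
    IsCyclic ↥(P : Subgroup G) ∨ ∀ x ∈ (P : Subgroup G), x ^ q = 1)

include hOrd hSylOdd in
theorem liftCond_odd {q : ℕ} [Fact q.Prime] (hq2 : q ≠ 2) (hq : q ∣ Nat.card M)
    (X : Subgroup G) (hX : IsPGroup q X) :
    X ≤ M ∨ ((∀ x ∈ X, ∀ y ∈ X, x * y = y * x) ∧
      q ^ (Nat.card M).factorization q ∣ Nat.card (X ⊓ M : Subgroup G)) := by
  obtain ⟨P, hP⟩ := hX.exists_le_sylow
  apply liftCond_of_cyclic_or_le M P _ X hP
  rcases hSylOdd q hq2 P with h | h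
  · left; exact h
  · right; exact le_of_exponent M hOrd hq _ h

include hOrd hSylOdd in
/-- The lifting condition when the Sylow 2-subgroups are cyclic or inside `M`. -/
theorem liftCond_good
    (hgood : 2 ∣ Nat.card M → ∀ P : Sylow 2 G,
      IsCyclic ↥(P : Subgroup G) ∨ (P : Subgroup G) ≤ M)
    (A : Subgroup (G ⧸ M)) : LiftCond M A := by
  intro q _ hq X hX _
  by_cases hq2 : q = 2
  · subst hq2
    obtain ⟨P, hP⟩ := hX.exists_le_sylow
    exact liftCond_of_cyclic_or_le M P (hgood hq P) X hP
  · exact liftCond_odd M hOrd hSylOdd hq2 hq X hX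

include hOrd hSylOdd in
/-- The lifting condition for subgroups of the quotient whose 2-part has order at most 2, when
the 2-part of `|M|` is 2. -/
theorem liftCond_small (hM2 : (Nat.card M).factorization 2 = 1)
    (A : Subgroup (G ⧸ M)) (hA2 : (Nat.card A).factorization 2 ≤ 1) : LiftCond M A := by
  intro q _ hq X hX hXA
  by_cases hq2 : q = 2
  · subst hq2
    by_cases hXM : X ≤ M
    · left; exact hXM
    · right
      have hM0 : Nat.card M ≠ 0 := Nat.card_pos.ne'
      have hA0 : Nat.card A ≠ 0 := Nat.card_pos.ne'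
      -- the order of `X` divides 4
      have hc := card_eq_card_map_mul M X
      obtain ⟨i, hi⟩ := (hX.map (QuotientGroup.mk' M)).exists_card_eq
      have hi1 : i ≤ 1 := by
        have h1 : 2 ^ i ∣ Nat.card A := hi ▸ Subgroup.card_dvd_of_le hXA
        have := (Nat.prime_two.pow_dvd_iff_le_factorization hA0).mp h1
        omega
      have hXM2 : IsPGroup 2 (X ⊓ M : Subgroup G) := hX.to_le inf_le_left
      obtain ⟨j, hj⟩ := hXM2.exists_card_eq
      have hj1 : j ≤ 1 := by
        have h1 : 2 ^ j ∣ Nat.card M := hj ▸ Subgroup.card_dvd_of_le inf_le_right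
        have := (Nat.prime_two.pow_dvd_iff_le_factorization hM0).mp h1
        omega
      have hcX : Nat.card X = 2 ^ (i + j) := by
        rw [hc, hi, card_subgroupOf_eq, inf_comm, hj, pow_add]
      -- an involution of `X` lies in `M`
      have hXne : X ≠ ⊥ := by
        rintro rfl
        exact hXM bot_le
      have h2X : 2 ∣ Nat.card X := by
        rw [hcX]
        have : i + j ≠ 0 := by
          intro h0
          rw [h0, pow_zero] at hcX
          exact hXne (Subgroup.card_eq_one.mp hcX)
        exact dvd_pow_self 2 this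
      obtain ⟨t, ht⟩ := exists_prime_orderOf_dvd_card' (G := ↥X) 2 h2X
      have htM : (t : G) ∈ M := by
        obtain ⟨m, hm⟩ := exists_prime_orderOf_dvd_card' (G := ↥M) 2 hq
        exact hOrd _ ⟨(m : G), m.2, by rw [Subgroup.orderOf_coe, hm, Subgroup.orderOf_coe, ht]⟩
      constructor
      · -- groups of order dividing 4 are commutative
        have hij : i + j = 0 ∨ i + j = 1 ∨ i + j = 2 := by omega
        have hcomm : ∀ a b : X, a * b = b * a := by
          rcases hij with h | h | h
          · rw [h, pow_zero] at hcX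
            haveI : Subsingleton X := (Nat.card_eq_one_iff_unique.mp hcX).1
            intro a b
            exact Subsingleton.elim _ _
          · rw [h, pow_one] at hcX
            haveI : IsCyclic X := isCyclic_of_prime_card hcX
            intro a b
            exact (IsCyclic.isMulCommutative (α := ↥X)).is_comm.comm _ _
          · rw [h] at hcX
            intro a b
            exact (IsPGroup.isMulCommutative_of_card_eq_prime_sq (p := 2) hcX).is_comm.comm _ _
        intro x hx y hy
        exact congrArg Subtype.val (hcomm ⟨x, hx⟩ ⟨y, hy⟩)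
      · rw [hM2, pow_one]
        have h1 : orderOf (⟨(t : G), Subgroup.mem_inf.2 ⟨t.2, htM⟩⟩ : (X ⊓ M : Subgroup G)) = 2 := by
          rw [← ht, ← Subgroup.orderOf_coe, ← Subgroup.orderOf_coe t]
        rw [← h1]
        exact orderOf_dvd_natCard _
  · exact liftCond_odd M hOrd hSylOdd hq2 hq X hX

include hOrd hSylOdd in
/-- The lifting condition for subgroups of odd order of the quotient. -/
theorem liftCond_odd_order (A : Subgroup (G ⧸ M)) (hA2 : ¬ 2 ∣ Nat.card A) : LiftCond M A := by
  intro q _ hq X hX hXA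
  by_cases hq2 : q = 2
  · subst hq2
    left
    obtain ⟨i, hi⟩ := (hX.map (QuotientGroup.mk' M)).exists_card_eq
    have h1 : 2 ^ i ∣ Nat.card A := hi ▸ Subgroup.card_dvd_of_le hXA
    have hi0 : i = 0 := by
      by_contra h
      exact hA2 (dvd_trans (dvd_pow_self 2 h) h1)
    rw [hi0, pow_zero] at hi
    have h2 : X.map (QuotientGroup.mk' M) = ⊥ := Subgroup.card_eq_one.mp hi
    rw [Subgroup.map_eq_bot_iff, QuotientGroup.ker_mk'] at h2
    exact h2
  · exact liftCond_odd M hOrd hSylOdd hq2 hq X hX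

end main

end Cfsg.Agent.Helper19.BStarQuot
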