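import Mathlib
import Cfsg.Agent.Lib.Helper19.BStarQuot

set_option autoImplicit false
set_option linter.unusedSectionVars false
set_option linter.style.haveILetI false

/-!
# Quotients of solvable groups whose abelian subgroups of equal order are conjugate: assembly
-/

namespace Cfsg.Agent.Helper19.BStarQuot

open Subgroup Cfsg.Agent.Helper19.MinSupp Cfsg.Agent.Helper19.BStarQuat

variable {G : Type*} [Group G] [Finite G]

section q8

variable (M : Subgroup G) [M.Normal]
  (hOrd : ∀ a : G, (∃ m ∈ M, orderOf m = orderOf a) → a ∈ M)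

include hOrd in
/-- If a quaternion Sylow 2-subgroup of order 8 is not inside `M`, the 2-part of `|M|` is at
most 2. -/
theorem factorization_two_le_one (P : Sylow 2 G) (φ : ↥(P : Subgroup G) ≃* QuaternionGroup 2)
    (hPM : ¬ (P : Subgroup G) ≤ M) : (Nat.card M).factorization 2 ≤ 1 := by
  -- no element of order four in `M`
  have hno4 : ∀ m ∈ M, orderOf m ≠ 4 := by
    intro m hm h4
    apply hPM
    apply le_of_orderOf_four_mem (P : Subgroup G) φ M
    intro x _ hx4
    exact hOrd x ⟨m, hm, by rw [h4, hx4]⟩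
  set z : G := ((φ.symm (QuaternionGroup.a (2 : ZMod (2 * 2))) : (P : Subgroup G)) : G) with hz
  have hsub : (((P : Subgroup G) ⊓ M : Subgroup G) : Set G) ⊆ {1, z} := by
    intro x hx
    obtain ⟨hxP, hxM⟩ := Subgroup.mem_inf.mp hx
    have h4 : (φ ⟨x, hxP⟩) ^ 4 = 1 := q8_pow_four _
    have h4' : x ^ 4 = 1 := by
      rw [← map_pow] at h4
      have h5 : (⟨x, hxP⟩ : (P : Subgroup G)) ^ 4 = 1 := by
        apply φ.injective
        rw [h4, map_one]
      have := congrArg Subtype.val h5
      simpa using this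
    have hd : orderOf x ∣ 4 := orderOf_dvd_of_pow_eq_one h4'
    have hne : orderOf x ≠ 4 := hno4 x hxM
    have h2 : x ^ 2 = 1 := by
      have h22 : (4 : ℕ) = 2 ^ 2 := by norm_num
      rw [h22, Nat.dvd_prime_pow Nat.prime_two] at hd
      obtain ⟨k, hk, hk'⟩ := hd
      have : k ≤ 1 := by
        rcases Nat.lt_or_ge k 2 with h | h
        · omega
        · exfalso
          have : k = 2 := le_antisymm hk h
          rw [this] at hk'
          exact hne (by rw [hk']; norm_num)
      apply orderOf_dvd_iff_pow_eq_one.mp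
      rw [hk']
      exact pow_dvd_pow 2 this |>.trans (by norm_num)
    have h2' : (φ ⟨x, hxP⟩) ^ 2 = 1 := by
      rw [← map_pow]
      have : (⟨x, hxP⟩ : (P : Subgroup G)) ^ 2 = 1 := by
        apply Subtype.ext
        simpa using h2
      rw [this, map_one]
    rcases q8_sq_eq_one _ h2' with h | h
    · left
      have : (⟨x, hxP⟩ : (P : Subgroup G)) = 1 := by
        apply φ.injective
        rw [h, map_one]
      have := congrArg Subtype.val this
      simpa using this
    · right
      rw [Set.mem_singleton_iff, hz, ← h]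
      simp
  have hcard : Nat.card ((P : Subgroup G) ⊓ M : Subgroup G) ≤ 2 := by
    have h1 : Nat.card ((P : Subgroup G) ⊓ M : Subgroup G) =
        Set.ncard (((P : Subgroup G) ⊓ M : Subgroup G) : Set G) := rfl
    rw [h1]
    calc Set.ncard (((P : Subgroup G) ⊓ M : Subgroup G) : Set G)
        ≤ Set.ncard ({1, z} : Set G) := Set.ncard_le_ncard hsub (Set.toFinite _)
      _ ≤ 2 := by
          have := Set.ncard_insert_le (1 : G) ({z} : Set G)
          rw [Set.ncard_singleton] at this
          exact this
  obtain ⟨Q', hQ'⟩ := Cfsg.Agent.Helper19.exists_sylow_inf_normal P M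
  have hc1 : Nat.card ((P : Subgroup G) ⊓ M : Subgroup G) =
      2 ^ (Nat.card M).factorization 2 := by
    rw [← hQ', Subgroup.card_map_of_injective M.subtype_injective,
      Sylow.card_eq_multiplicity]
  rw [hc1] at hcard
  by_contra hgt
  push Not at hgt
  have : 2 ^ 2 ≤ 2 ^ (Nat.card M).factorization 2 := Nat.pow_le_pow_right (by norm_num) hgt
  omega

end q8

section main

variable
  (hBst : ∀ A B : Subgroup G, IsMulCommutative ↥A → IsMulCommutative ↥B →
    Nat.card ↥A = Nat.card ↥B → ∃ g : G, B = A.map (MulAut.conj g).toMonoidHom)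
  [hsol : Group.IsSolvable G]
  (M : Subgroup G) [M.Normal]
  (hOrd : ∀ a : G, (∃ m ∈ M, orderOf m = orderOf a) → a ∈ M)
  (hSylOdd : ∀ (q : ℕ) [Fact q.Prime], q ≠ 2 → ∀ P : Sylow q G,
    IsCyclic ↥(P : Subgroup G) ∨ ∀ x ∈ (P : Subgroup G), x ^ q = 1)
  (hSyl2 : ∀ P : Sylow 2 G, IsCyclic ↥(P : Subgroup G) ∨ (∀ x ∈ (P : Subgroup G), x ^ 2 = 1) ∨
    ∃ k : ℕ, Nonempty (↥(P : Subgroup G) ≃* QuaternionGroup (2 ^ k)))

include hBst hsol in
/-- A generalized quaternion Sylow 2-subgroup of order at least 16 is impossible. -/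
theorem quat_large_false (P : Sylow 2 G) (k : ℕ)
    (φ : ↥(P : Subgroup G) ≃* QuaternionGroup (2 ^ (k + 2))) : False := by
  haveI : NeZero (2 ^ (k + 2)) := ⟨pow_ne_zero _ two_ne_zero⟩
  have hm : 2 ^ (k + 2) = 4 * 2 ^ k := by ring
  obtain ⟨y₀, hy₀⟩ := exists_sq_orderOf_four (n := 2 ^ (k + 2)) (2 ^ k) hm
  set y' : (P : Subgroup G) := φ.symm y₀ with hy'
  set u : G := (y' : G) ^ 2 with hu
  have hu4 : orderOf u = 4 := by
    have h1 : u = ((y' ^ 2 : (P : Subgroup G)) : G) := by simp [hu]
    rw [h1, Subgroup.orderOf_coe, ← MulEquiv.orderOf_eq φ, map_pow, hy', MulEquiv.apply_symm_apply]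
    exact hy₀
  have hPne : (P : Subgroup G) ≠ ⊥ := by
    intro h
    have h1 : u ∈ (P : Subgroup G) := by
      rw [hu]; exact Subgroup.pow_mem _ y'.2 2
    rw [h, Subgroup.mem_bot] at h1
    rw [h1, orderOf_one] at hu4
    omega
  apply no_fusion P hPne
  · intro K hK
    exact le_of_orderOf_four_mem (P : Subgroup G) φ K hK
  · intro x hx hx4
    obtain ⟨g, hg⟩ := hBst (zpowers x) (zpowers u) inferInstance inferInstance
      (by rw [Nat.card_zpowers, Nat.card_zpowers, hx4, hu4])
    have h1 : g * x * g⁻¹ ∈ zpowers u := by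
      rw [hg]
      exact ⟨x, mem_zpowers x, rfl⟩
    obtain ⟨j, hj⟩ := mem_zpowers_iff.mp h1
    refine ⟨g, (y' : G) ^ j, Subgroup.zpow_mem _ y'.2 j, ?_⟩
    rw [← hj, hu, ← zpow_natCast, ← zpow_natCast, ← zpow_mul, ← zpow_mul, mul_comm]

include hBst hsol hOrd hSylOdd hSyl2 in
theorem quotient_bstar (A B : Subgroup (G ⧸ M))
    (hA : ∀ x ∈ A, ∀ y ∈ A, x * y = y * x) (hB : ∀ x ∈ B, ∀ y ∈ B, x * y = y * x)
    (hAB : Nat.card A = Nat.card B) :
    ∃ g : G ⧸ M, B = A.map (MulAut.conj g).toMonoidHom := by
  by_cases hgood : 2 ∣ Nat.card M → ∀ P : Sylow 2 G,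
      IsCyclic ↥(P : Subgroup G) ∨ (P : Subgroup G) ≤ M
  · exact conj_of_liftCond M hBst A B (liftCond_good M hOrd hSylOdd hgood A)
      (liftCond_good M hOrd hSylOdd hgood B) hA hB hAB
  · push Not at hgood
    obtain ⟨h2M, P, hPc, hPM⟩ := hgood
    rcases hSyl2 P with h | h | ⟨k, ⟨φ⟩⟩
    · exact absurd h hPc
    · exact absurd (le_of_exponent M hOrd h2M _ h) hPM
    · rcases k with _ | _ | k
      · exfalso
        apply hPc
        haveI : IsCyclic (QuaternionGroup (2 ^ 0)) :=
          QuaternionGroup.quaternionGroup_one_isCyclic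
        exact isCyclic_of_surjective φ.symm φ.symm.surjective
      · -- the quaternion group of order 8
        have φ' : ↥(P : Subgroup G) ≃* QuaternionGroup 2 := φ
        have hM0 : Nat.card M ≠ 0 := Nat.card_pos.ne'
        have hM2 : (Nat.card M).factorization 2 = 1 := by
          have h1 := factorization_two_le_one M hOrd P φ' hPM
          have h2 := (Nat.prime_two.dvd_iff_one_le_factorization hM0).mp h2M
          omega
        have hcP : Nat.card (P : Subgroup G) = 2 ^ 3 := by
          rw [Nat.card_congr φ'.toEquiv, Nat.card_eq_fintype_card, QuaternionGroup.card]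
          norm_num
        have hG2 : (Nat.card G).factorization 2 = 3 := by
          have h1 := Sylow.card_eq_multiplicity P
          rw [hcP] at h1
          exact (Nat.pow_right_injective (le_refl 2) h1).symm
        have hQ2 : (Nat.card (G ⧸ M)).factorization 2 = 2 := by
          have h1 := Subgroup.card_eq_card_quotient_mul_card_subgroup M
          have h2 : (Nat.card G).factorization 2 =
              (Nat.card (G ⧸ M)).factorization 2 + (Nat.card M).factorization 2 := by
            rw [h1, Nat.factorization_mul Nat.card_pos.ne' hM0]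
            rfl
          omega
        have hA2 : (Nat.card A).factorization 2 ≤ 2 := by
          have h1 := (Nat.factorization_le_iff_dvd Nat.card_pos.ne' Nat.card_pos.ne').mpr
            (Subgroup.card_subgroup_dvd_card A) 2
          rwa [hQ2] at h1
        by_cases he : (Nat.card A).factorization 2 ≤ 1
        · exact conj_of_liftCond M hBst A B (liftCond_small M hOrd hSylOdd hM2 A he)
            (liftCond_small M hOrd hSylOdd hM2 B (hAB ▸ he)) hA hB hAB
        · have hfull : (Nat.card A).factorization 2 = (Nat.card (G ⧸ M)).factorization 2 := by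
            omega
          apply conj_of_full_sylow 2 A B hA hB hAB hfull
          intro A' B' hA' hB' hAB' h2A'
          exact conj_of_liftCond M hBst A' B' (liftCond_odd_order M hOrd hSylOdd A' h2A')
            (liftCond_odd_order M hOrd hSylOdd B' (hAB' ▸ h2A')) hA' hB' hAB'
      · exact (quat_large_false hBst P k φ).elim

end main

end Cfsg.Agent.Helper19.BStarQuot
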