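import Mathlib
import Cfsg.Agent.Lib.Helper26.CG3Defs
import Cfsg.Agent.Lib.Helper28.L33_D4

/-!
# S3412 piece X2 (helper19), core: the coding `H ≃ Code` from the commuting-graph bijection.
The statements of X1 (`exists_ext`) and E5 (`exists_codeSL`) enter as hypotheses.
-/

set_option autoImplicit false
set_option linter.unusedSectionVars false
set_option linter.unusedVariables false
set_option linter.style.haveILetI false

namespace Cfsg.Agent.Helper26.CG3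

universe u

/-- X2 with the conclusion of X1 and the statement of E5 as hypotheses. -/
theorem x2_core {H : Type*} [Group H]
    (hX1 : ∃ F : H ≃ Matrix.ProjectiveSpecialLinearGroup (Fin 3) (ZMod 3),
      F 1 = 1 ∧ ∀ x y : H, x * y = y * x ↔ F x * F y = F y * F x)
    (hE5 : ∃ Φ : Matrix.SpecialLinearGroup (Fin 3) (ZMod 3) ≃ Code,
      Φ 1 = e0 ∧ ∀ A B : Matrix.SpecialLinearGroup (Fin 3) (ZMod 3), A * B = B * A ↔ Rc (Φ A) (Φ B)) :
    ∃ Φ : H ≃ Code, Φ 1 = e0 ∧ ∀ x y : H, x * y = y * x ↔ Rc (Φ x) (Φ y) := by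
  obtain ⟨F, hF1, hF⟩ := hX1
  obtain ⟨Φ₀, hΦ1, hΦ⟩ := hE5
  obtain ⟨ψ⟩ := Cfsg.Agent.Helper26.L33.psl3_equiv
  refine ⟨F.trans (ψ.toEquiv.trans Φ₀), ?_, ?_⟩
  · change Φ₀ (ψ (F 1)) = e0
    rw [hF1, map_one, hΦ1]
  · intro x y
    change x * y = y * x ↔ Rc (Φ₀ (ψ (F x))) (Φ₀ (ψ (F y)))
    rw [hF x y, ← hΦ, ← map_mul ψ, ← map_mul ψ]
    exact ψ.injective.eq_iff.symm

end Cfsg.Agent.Helper26.CG3
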