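import Mathlib
import Cfsg.Agent.Lib.Helper26.CG3Defs
import Cfsg.Agent.Lib.Helper19.CG3X2Core
import Cfsg.Agent.Lib.Helper18.CG3E1
import Cfsg.Agent.Lib.Helper25.CG3E2
import Cfsg.Agent.Lib.Helper15.CG3E3

/-!
# S3412 piece X2 (helper19): the coding `H ≃ Code` from the commuting-graph bijection.
Self-contained: own copies (prefixed `x2_`) of the statements of X1 (`x2_ext`), E4 (`x2_decM_I0`) and
E5 (`x2_codeSL`), on top of the landed E1, E2, E3.
-/

set_option autoImplicit false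
set_option linter.unusedSectionVars false
set_option linter.unusedVariables false
set_option linter.style.haveILetI false

namespace Cfsg.Agent.Helper26.CG3

universe u

/-- the statement of X1 -/
theorem x2_ext {H M : Type*} [Group H] [Group M]
    (f : {h : H // h ≠ 1} ≃ {g : M // g ≠ 1})
    (hf : ∀ x y : {h : H // h ≠ 1}, (x : H) * y = y * x ↔ ((f x) : M) * (f y) = (f y) * (f x)) :
    ∃ F : H ≃ M, F 1 = 1 ∧ ∀ x y : H, x * y = y * x ↔ F x * F y = F y * F x := by
  classical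
  let F : H ≃ M :=
    { toFun := fun h => if hh : h = 1 then 1 else (f ⟨h, hh⟩ : M)
      invFun := fun m => if hm : m = 1 then 1 else (f.symm ⟨m, hm⟩ : H)
      left_inv := by
        intro h
        by_cases hh : h = 1
        · simp [hh]
        · have h1 : ((f ⟨h, hh⟩ : {g : M // g ≠ 1}) : M) ≠ 1 := (f ⟨h, hh⟩).2
          simp only [dif_neg hh, dif_neg h1, Subtype.coe_eta, Equiv.symm_apply_apply]
      right_inv := by
        intro m
        by_cases hm : m = 1
        · simp [hm]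
        · have h1 : ((f.symm ⟨m, hm⟩ : {h : H // h ≠ 1}) : H) ≠ 1 := (f.symm ⟨m, hm⟩).2
          simp only [dif_neg hm, dif_neg h1, Subtype.coe_eta, Equiv.apply_symm_apply] }
  have hF1 : F 1 = 1 := by
    show (if hh : (1 : H) = 1 then (1 : M) else (f ⟨1, hh⟩ : M)) = 1
    rw [dif_pos rfl]
  have hFne : ∀ (h : H) (hh : h ≠ 1), F h = (f ⟨h, hh⟩ : M) := by
    intro h hh
    show (if hh : h = 1 then (1 : M) else (f ⟨h, hh⟩ : M)) = _
    rw [dif_neg hh]
  refine ⟨F, hF1, ?_⟩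
  intro x y
  by_cases hx : x = 1
  · rw [hx, hF1]; simp
  · by_cases hy : y = 1
    · rw [hy, hF1]; simp
    · rw [hFne x hx, hFne y hy]
      exact hf ⟨x, hx⟩ ⟨y, hy⟩

/-- the statement of E4 -/
theorem x2_decM_I0 : decM I0 = 1 := by
  decide

/-- the statement of E5 -/
theorem x2_codeSL : ∃ Φ : Matrix.SpecialLinearGroup (Fin 3) (ZMod 3) ≃ Code,
    Φ 1 = e0 ∧ ∀ A B : Matrix.SpecialLinearGroup (Fin 3) (ZMod 3), A * B = B * A ↔ Rc (Φ A) (Φ B) := by
  let ψ : Code → Matrix.SpecialLinearGroup (Fin 3) (ZMod 3) :=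
    fun c => ⟨decM c.1, (cdet_iff c.1).1 c.2.2⟩
  have hinj : Function.Injective ψ := by
    intro a b hab
    have h1 : decM a.1 = decM b.1 := congrArg Subtype.val hab
    exact Subtype.ext (decM_injOn a.1 b.1 a.2.1 b.2.1 h1)
  have hsurj : Function.Surjective ψ := by
    intro A
    obtain ⟨n, hn, hnA⟩ := decM_surj A.1
    have hdet : cdet n = 1 := by
      rw [cdet_iff, hnA]
      exact A.2
    exact ⟨⟨n, hn, hdet⟩, Subtype.ext hnA⟩
  let Ψ : Code ≃ Matrix.SpecialLinearGroup (Fin 3) (ZMod 3) := Equiv.ofBijective ψ ⟨hinj, hsurj⟩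
  have hΨ : ∀ c : Code, ((Ψ c : Matrix.SpecialLinearGroup (Fin 3) (ZMod 3)) :
      Matrix (Fin 3) (Fin 3) (ZMod 3)) = decM c.1 := fun c => rfl
  refine ⟨Ψ.symm, ?_, ?_⟩
  · rw [Equiv.symm_apply_eq]
    apply Subtype.ext
    rw [hΨ]
    show (1 : Matrix (Fin 3) (Fin 3) (ZMod 3)) = decM I0
    exact x2_decM_I0.symm
  · intro A B
    obtain ⟨a, rfl⟩ := Ψ.surjective A
    obtain ⟨b, rfl⟩ := Ψ.surjective B
    rw [Equiv.symm_apply_apply, Equiv.symm_apply_apply]
    show Ψ a * Ψ b = Ψ b * Ψ a ↔ cb a.1 b.1 = true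
    rw [cb_iff, ← hΨ a, ← hΨ b]
    constructor
    · intro h
      have := congrArg Subtype.val h
      simpa using this
    · intro h
      apply Subtype.ext
      simpa using h

/-- X2 -/
theorem exists_coding {H : Type*} [Group H]
    (f : {h : H // h ≠ 1} ≃ {g : Matrix.ProjectiveSpecialLinearGroup (Fin 3) (ZMod 3) // g ≠ 1})
    (hf : ∀ x y : {h : H // h ≠ 1}, (x : H) * y = y * x ↔
      ((f x) : Matrix.ProjectiveSpecialLinearGroup (Fin 3) (ZMod 3)) * (f y) = (f y) * (f x)) :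
    ∃ Φ : H ≃ Code, Φ 1 = e0 ∧ ∀ x y : H, x * y = y * x ↔ Rc (Φ x) (Φ y) :=
  x2_core (x2_ext f hf) x2_codeSL

end Cfsg.Agent.Helper26.CG3
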