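import Mathlib
import Cfsg.Agent.Lib.Helper26.CG3Defs

/-!
# S3412 piece X3 (helper19): the relational local data `LD` transfers along a bijection preserving the relation.
-/

set_option autoImplicit false
set_option linter.unusedSectionVars false
set_option linter.unusedVariables false
set_option linter.style.haveILetI false

namespace Cfsg.Agent.Helper26.CG3

universe u

theorem x3_cR {α β : Type*} (R : α → α → Prop) (R' : β → β → Prop) (Φ : α ≃ β)
    (hΦ : ∀ x y : α, R x y ↔ R' (Φ x) (Φ y)) (g : α) : cR R g = cR R' (Φ g) := by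
  unfold cR
  exact Nat.card_congr (Φ.subtypeEquiv (fun a => hΦ g a))

theorem x3_forall {α β : Type*} (R : α → α → Prop) (R' : β → β → Prop) (Φ : α ≃ β)
    (hΦ : ∀ x y : α, R x y ↔ R' (Φ x) (Φ y)) (g y : α) :
    (∀ h : α, R g h → R y h) ↔ (∀ h' : β, R' (Φ g) h' → R' (Φ y) h') := by
  constructor
  · intro H h' hh'
    have e : Φ (Φ.symm h') = h' := Φ.apply_symm_apply h'
    rw [← e] at hh' ⊢
    exact (hΦ _ _).1 (H _ ((hΦ _ _).2 hh'))
  · intro H h hh
    exact (hΦ _ _).2 (H _ ((hΦ _ _).1 hh))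

/-- X3 (generic) -/
theorem LD.of_equiv {α β : Type*} (R : α → α → Prop) (R' : β → β → Prop) (Φ : α ≃ β)
    (hΦ : ∀ x y : α, R x y ↔ R' (Φ x) (Φ y)) (e t : α) (h : LD R' (Φ e) (Φ t)) : LD R e t := by
  have hc : ∀ g : α, cR R g = cR R' (Φ g) := x3_cR R R' Φ hΦ
  have hne : ∀ {a b : α}, a ≠ b → Φ a ≠ Φ b := fun hab h' => hab (Φ.injective h')
  refine ⟨?_, ?_, ?_, ?_, ?_, ?_, ?_, ?_, ?_, ?_, ?_, ?_, ?_, ?_⟩
  · exact fun h' => h.t_ne (congrArg Φ h')
  · rw [hc]; exact h.cct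
  · intro g hg hge hgt
    rw [hc]
    exact h.vals (Φ g) ((hΦ t g).1 hg) (hne hge) (hne hgt)
  · intro g hg hgt hcg
    rw [hc] at hcg
    rw [← h.s4 (Φ g) ((hΦ t g).1 hg) (hne hgt) hcg]
    exact Nat.card_congr (Φ.subtypeEquiv (fun a => and_congr (hΦ t a) (hΦ g a)))
  · intro g hg hcg y hgy hy
    rw [hc] at hcg
    rcases h.scen (Φ g) ((hΦ t g).1 hg) hcg (Φ y) ((hΦ g y).1 hgy)
        ((x3_forall R R' Φ hΦ g y).1 hy) with h' | h'
    · left; exact Φ.injective h'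
    · right; exact Φ.injective h'
  · intro g hg hcg
    rw [hc] at hcg
    rw [← h.u6 (Φ g) ((hΦ t g).1 hg) hcg]
    exact Nat.card_congr (Φ.subtypeEquiv (fun a => and_congr (hΦ t a) (hΦ g a)))
  · intro g hg hcg
    rw [hc] at hcg
    rw [← h.ucen (Φ g) ((hΦ t g).1 hg) hcg]
    exact Nat.card_congr (Φ.subtypeEquiv (fun a => and_congr (hΦ g a) (x3_forall R R' Φ hΦ g a)))
  · rw [← h.nU]
    exact Nat.card_congr (Φ.subtypeEquiv (fun a => and_congr (hΦ t a) (by rw [hc])))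
  · rw [← h.nS]
    exact Nat.card_congr (Φ.subtypeEquiv (fun a => and_congr (hΦ t a) (by rw [hc])))
  · rw [← h.nY]
    exact Nat.card_congr (Φ.subtypeEquiv (fun a => and_congr (hΦ t a) (by rw [hc])))
  · intro g hg hcg
    rw [hc] at hcg
    rw [← h.w2 (Φ g) ((hΦ t g).1 hg) hcg]
    exact Nat.card_congr (Φ.subtypeEquiv (fun a => and_congr (hΦ g a) (by rw [hc])))
  · intro g hg hcg a b hga hgb
    rw [hc] at hcg
    exact (hΦ a b).2 (h.yab (Φ g) ((hΦ t g).1 hg) hcg (Φ a) (Φ b) ((hΦ g a).1 hga) ((hΦ g b).1 hgb))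
  · intro g hg hcg a hga hae hat
    rw [hc] at hcg
    rw [hc]
    exact h.yval (Φ g) ((hΦ t g).1 hg) hcg (Φ a) ((hΦ g a).1 hga) (hne hae) (hne hat)
  · obtain ⟨x', hx'⟩ := h.x13
    refine ⟨Φ.symm x', ?_⟩
    rw [hc, Φ.apply_symm_apply]
    exact hx'

end Cfsg.Agent.Helper26.CG3
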