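import Mathlib
import Cfsg.Agent.Lib.Helper20.CSDefs
import Cfsg.Agent.Lib.Helper20.CSFACTS1
import Cfsg.Agent.Lib.Helper20.CSFACTS2
import Cfsg.Agent.Lib.Helper1.CSLOC
import Cfsg.Agent.Lib.Helper18.CSBCENT
import Cfsg.Agent.Lib.Helper18.CSBHOM
import Cfsg.Agent.Lib.Helper18.CSBSYL
import Cfsg.Agent.Lib.Helper22.Burnside
import Cfsg.Agent.Lib.Helper20.PrimaryParts
import Cfsg.Agent.Lib.Helper22.QAutCARDSUP

set_option autoImplicit false
set_option linter.unusedSectionVars false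
set_option linter.unusedVariables false
set_option linter.style.haveILetI false
set_option linter.unusedSimpArgs false

/-!
# S4016, piece BQ: a `p`-element `w ∈ N(R)` with `⟨w⟩ ∩ M = 1`
-/

universe u

namespace Cfsg.Agent.Helper20.CS

open Subgroup

variable {p : ℕ} [Fact p.Prime] {G : Type u} [Group G] [Finite G]

namespace Cfg

variable (c : Cfg p G)

theorem bq_L0_le_L : c.L0 ≤ c.L := by
  unfold Cfg.L0
  exact inf_le_left

/-- a prime divisor of `|L0|` is different from `p` -/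
theorem bq_r_ne_p {r : ℕ} (hr : r ∣ Nat.card ↥c.L0) : r ≠ p := by
  rintro rfl
  apply c.L_card
  exact hr.trans (Subgroup.card_dvd_of_le c.bq_L0_le_L)

/-- `p` does not divide the order of a Sylow `r`-subgroup, `r ≠ p` -/
theorem bq_not_dvd_card_sylow {r : ℕ} [Fact r.Prime] (hrp : r ≠ p) (R : Sylow r G) :
    ¬ p ∣ Nat.card ↥(R : Subgroup G) := by
  intro hdvd
  obtain ⟨n, hn⟩ := IsPGroup.iff_card.mp R.isPGroup'
  rw [hn] at hdvd
  have hp : p.Prime := Fact.out
  have hr : r.Prime := Fact.out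
  have h1 := hp.dvd_of_dvd_pow hdvd
  exact hrp ((Nat.prime_dvd_prime_iff_eq hp hr).mp h1).symm

include c in
/-- a Sylow `r`-subgroup (`r ≠ p`) is abelian -/
theorem bq_R_comm {r : ℕ} [Fact r.Prime] (hrp : r ≠ p) (R : Sylow r G) :
    ∀ a ∈ (R : Subgroup G), ∀ b ∈ (R : Subgroup G), a * b = b * a :=
  c.hyp.2 _ (Cfg.bq_not_dvd_card_sylow hrp R)

theorem bq_p_dvd_card_P : p ∣ Nat.card ↥(c.P : Subgroup G) := by
  obtain ⟨n, hn⟩ := IsPGroup.iff_card.mp c.P.isPGroup'
  rw [hn]
  have hn0 : n ≠ 0 := by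
    rintro rfl
    rw [pow_zero] at hn
    exact c.P_ne (Subgroup.card_eq_one.mp hn)
  exact dvd_pow_self p hn0

/-- `G` has no normal `r`-complement -/
theorem bq_no_compl {r : ℕ} [Fact r.Prime] (hr : r ∣ Nat.card ↥c.L0) :
    ¬ Cfsg.HasNormalPComplement r G := by
  have hrp : r ≠ p := c.bq_r_ne_p hr
  rintro ⟨R', K, hK, hcompl⟩
  have hs := c.simple
  have hcard : Nat.card ↥K * Nat.card ↥(R' : Subgroup G) = Nat.card G := hcompl.card_mul_card
  have hrG : r ∣ Nat.card G :=
    hr.trans (Subgroup.card_subgroup_dvd_card c.L0)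
  rcases hs.eq_bot_or_eq_top_of_normal K hK with h | h
  · rw [h, Subgroup.card_bot, one_mul] at hcard
    have h1 : p ∣ Nat.card ↥(R' : Subgroup G) := by
      rw [hcard]
      exact c.bq_p_dvd_card_P.trans (Subgroup.card_subgroup_dvd_card _)
    exact Cfg.bq_not_dvd_card_sylow hrp R' h1
  · rw [h, Subgroup.card_top] at hcard
    have hpos : 0 < Nat.card G := Nat.card_pos
    have h1 : Nat.card ↥(R' : Subgroup G) = 1 := by
      have h2 : Nat.card G * Nat.card ↥(R' : Subgroup G) = Nat.card G * 1 := by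
        rw [hcard, mul_one]
      exact Nat.eq_of_mul_eq_mul_left hpos h2
    have h3 := R'.dvd_card_of_dvd_card hrG
    rw [h1] at h3
    have hr' : r.Prime := Fact.out
    exact hr'.one_lt.ne' (Nat.dvd_one.mp h3)

/-- PIECE BQ. -/
theorem exists_Q {r : ℕ} [Fact r.Prime] (hr : r ∣ Nat.card ↥c.L0) (R : Sylow r G)
    (hRL : (R : Subgroup G) ≤ c.L) :
    ∃ w : G, w ∈ normalizer ((R : Subgroup G) : Set G) ∧ w ≠ 1 ∧ (∃ k : ℕ, orderOf w = p ^ k) ∧
      zpowers w ⊓ c.M = ⊥ := by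
  have hp : p.Prime := Fact.out
  have hrp : r ≠ p := c.bq_r_ne_p hr
  have hnot : ¬ normalizer ((R : Subgroup G) : Set G) ≤ centralizer ((R : Subgroup G) : Set G) :=
    fun hle => c.bq_no_compl hr
      (Cfsg.Agent.Helper22.hasNormalPComplement_of_normalizer_le_centralizer R hle)
  obtain ⟨g, hgN, hgC⟩ := SetLike.not_le_iff_exists.mp hnot
  obtain ⟨u, v, hguv, huv, hu, hv, huz, hvz⟩ :=
    Cfsg.Agent.Helper20.exists_pPart_decomp p g (orderOf_pos g)
  have hzN : zpowers g ≤ normalizer ((R : Subgroup G) : Set G) := zpowers_le.mpr hgN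
  have huN : u ∈ normalizer ((R : Subgroup G) : Set G) := hzN huz
  have hvN : v ∈ normalizer ((R : Subgroup G) : Set G) := hzN hvz
  have hvC : v ∈ centralizer ((R : Subgroup G) : Set G) := by
    have hH : ¬ p ∣ Nat.card ↥(zpowers v ⊔ (R : Subgroup G)) := by
      intro hd
      have h1 := Cfsg.Agent.Helper22.QAut.card_sup_dvd_of_le_normalizer (zpowers v)
        (R : Subgroup G) (zpowers_le.mpr hvN)
      have h2 := hd.trans h1
      rcases (Nat.Prime.dvd_mul hp).mp h2 with h3 | h3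
      · rw [Nat.card_zpowers] at h3
        exact (Nat.Prime.coprime_iff_not_dvd hp).mp hv.symm h3
      · exact Cfg.bq_not_dvd_card_sylow hrp R h3
    rw [mem_centralizer_iff]
    intro x hx
    exact c.hyp.2 _ hH x (mem_sup_right hx) v (mem_sup_left (mem_zpowers v))
  have huC : u ∉ centralizer ((R : Subgroup G) : Set G) := by
    intro huC
    apply hgC
    rw [hguv]
    exact mul_mem huC hvC
  have huM : u ∉ c.M := by
    intro huM
    exact huC (c.normalizer_inf_M_le R hRL ⟨huN, huM⟩)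
  -- some element of `R` does not centralize `P`
  have hex : ∃ y ∈ (R : Subgroup G), y ∉ c.L0 := by
    by_contra hno
    push Not at hno
    have hRbot : ∀ y ∈ (R : Subgroup G), y = 1 := by
      intro y hy
      have h1 : u * y * u⁻¹ ∈ (R : Subgroup G) :=
        (Subgroup.mem_set_normalizer_iff.mp huN y).mp hy
      exact c.L0_ti huM (hno y hy) (hno _ h1)
    have h2 := c.dvd_card_inf hr R hRL
    have h3 : (R : Subgroup G) ⊓ c.L0 = ⊥ := by
      rw [eq_bot_iff]
      intro y hy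
      rw [Subgroup.mem_bot]
      exact hRbot y (Subgroup.mem_inf.mp hy).1
    rw [h3, Subgroup.card_bot] at h2
    have hr' : r.Prime := Fact.out
    exact hr'.one_lt.ne' (Nat.dvd_one.mp h2)
  obtain ⟨y, hyR, hyL0⟩ := hex
  have hyL : y ∈ c.L := hRL hyR
  have hyM : y ∈ c.M := c.L_le_M hyL
  refine ⟨u, huN, ?_, hu, ?_⟩
  · rintro rfl
    exact huC (one_mem _)
  · rw [eq_bot_iff]
    intro x hx
    obtain ⟨hxu, hxM⟩ := Subgroup.mem_inf.mp hx
    rw [Subgroup.mem_bot]
    by_contra hx1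
    obtain ⟨k, hk⟩ := hu
    have hxord : ∃ j : ℕ, orderOf x = p ^ j := by
      obtain ⟨i, hi⟩ := Subgroup.mem_zpowers_iff.mp hxu
      have h1 : x ^ (p ^ k) = 1 := by
        rw [← hi, ← zpow_natCast, ← zpow_mul, mul_comm, zpow_mul, zpow_natCast, ← hk,
          pow_orderOf_eq_one, one_zpow]
      obtain ⟨j, -, hj⟩ := (Nat.dvd_prime_pow hp).mp (orderOf_dvd_of_pow_eq_one h1)
      exact ⟨j, hj⟩
    have hxP : x ∈ (c.P : Subgroup G) := c.mem_P_of_mem_M hxM hxord
    have hxN : x ∈ normalizer ((R : Subgroup G) : Set G) :=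
      (zpowers_le.mpr huN) hxu
    have hxC : x ∈ centralizer ((R : Subgroup G) : Set G) :=
      c.normalizer_inf_M_le R hRL ⟨hxN, hxM⟩
    have hyx : y * x = x * y := (mem_centralizer_iff.mp hxC) y hyR
    have hall := c.fpf hyM hxP hx1 hyx
    exact hyL0 ((c.mem_L0_iff y).mpr ⟨hyL, hall⟩)

end Cfg

end Cfsg.Agent.Helper20.CS
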