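import Mathlib
import Cfsg.Agent.Lib.Helper20.CSDefs
import Cfsg.Agent.Lib.Helper20.CSFACTS1
import Cfsg.Agent.Lib.Helper20.CSFACTS2
import Cfsg.Agent.Lib.Helper1.CSLOC
import Cfsg.Agent.Lib.Helper18.CSBCENT
import Cfsg.Agent.Lib.Helper18.CSBHOM
import Cfsg.Agent.Lib.Helper18.CSBSYL
import Cfsg.Agent.Lib.Helper19.CSBQ

set_option autoImplicit false
set_option linter.unusedSectionVars false
set_option linter.unusedVariables false
set_option linter.style.haveILetI false
set_option linter.unusedSimpArgs false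

/-!
# S4016, piece BSQ: `|R ∩ L0|² ≤ |R|`, `|R|` divides `|R ∩ L0| (p - 1)`, `R ∩ L0` cyclic
-/

universe u

namespace Cfsg.Agent.Helper20.CS

open Subgroup

variable {p : ℕ} [Fact p.Prime] {G : Type u} [Group G] [Finite G]

namespace Cfg

variable (c : Cfg p G)

/-- PIECE BSQ. -/
theorem card_sq_le {r : ℕ} [Fact r.Prime] (hr : r ∣ Nat.card ↥c.L0) (R : Sylow r G)
    (hRL : (R : Subgroup G) ≤ c.L) :
    Nat.card ↥((R : Subgroup G) ⊓ c.L0) * Nat.card ↥((R : Subgroup G) ⊓ c.L0) ≤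
      Nat.card ↥(R : Subgroup G) ∧
    Nat.card ↥(R : Subgroup G) ∣ Nat.card ↥((R : Subgroup G) ⊓ c.L0) * (p - 1) ∧
    IsCyclic ↥((R : Subgroup G) ⊓ c.L0) := by
  have hp : p.Prime := Fact.out
  obtain ⟨w, hwN, hw1, -, hwM⟩ := c.exists_Q hr R hRL
  have hwM' : w ∉ c.M := by
    intro h
    have h1 : w ∈ zpowers w ⊓ c.M := Subgroup.mem_inf.mpr ⟨mem_zpowers w, h⟩
    rw [hwM, Subgroup.mem_bot] at h1
    exact hw1 h1
  have hconj : ∀ y ∈ (R : Subgroup G), w * y * w⁻¹ ∈ (R : Subgroup G) := fun y hy =>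
    (Subgroup.mem_set_normalizer_iff.mp hwN y).mp hy
  obtain ⟨φ, hφ⟩ := c.exists_hom_units
  refine ⟨?_, ?_, ?_⟩
  · -- injection R₀ × R₀ → R
    let f : ↥((R : Subgroup G) ⊓ c.L0) × ↥((R : Subgroup G) ⊓ c.L0) → ↥(R : Subgroup G) :=
      fun ab => ⟨(ab.1 : G) * (w * (ab.2 : G) * w⁻¹),
        mul_mem (Subgroup.mem_inf.mp ab.1.2).1 (hconj _ (Subgroup.mem_inf.mp ab.2.2).1)⟩
    have hf : Function.Injective f := by
      rintro ⟨a, b⟩ ⟨a', b'⟩ hab
      have h0 : (a : G) * (w * (b : G) * w⁻¹) = (a' : G) * (w * (b' : G) * w⁻¹) :=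
        congrArg Subtype.val hab
      have h1 : w * ((b' : G) * (b : G)⁻¹) * w⁻¹ = (a' : G)⁻¹ * (a : G) := by
        have h2 : (a' : G)⁻¹ * (a : G) = (w * (b' : G) * w⁻¹) * (w * (b : G) * w⁻¹)⁻¹ := by
          rw [eq_mul_inv_iff_mul_eq, mul_assoc, h0, ← mul_assoc, inv_mul_cancel, one_mul]
        rw [h2]
        group
      have hy : (b' : G) * (b : G)⁻¹ ∈ c.L0 :=
        mul_mem (Subgroup.mem_inf.mp b'.2).2 (inv_mem (Subgroup.mem_inf.mp b.2).2)
      have hy' : w * ((b' : G) * (b : G)⁻¹) * w⁻¹ ∈ c.L0 := by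
        rw [h1]
        exact mul_mem (inv_mem (Subgroup.mem_inf.mp a'.2).2) (Subgroup.mem_inf.mp a.2).2
      have h3 := c.L0_ti hwM' hy hy'
      have hb : (b' : G) = (b : G) := by
        rw [mul_inv_eq_one] at h3
        exact h3
      have ha : (a : G) = (a' : G) := by
        rw [hb] at h0
        exact mul_right_cancel h0
      exact Prod.ext (Subtype.ext ha) (Subtype.ext hb.symm)
    have h4 := Nat.card_le_card_of_injective f hf
    rw [Nat.card_prod] at h4
    exact h4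
  · -- restriction of φ to R
    let ψ : ↥(R : Subgroup G) →* (ZMod p)ˣ := φ.comp (Subgroup.inclusion hRL)
    have hker : ψ.ker = ((R : Subgroup G) ⊓ c.L0).subgroupOf (R : Subgroup G) := by
      ext x
      rw [MonoidHom.mem_ker, Subgroup.mem_subgroupOf, Subgroup.mem_inf]
      have h1 : ψ x = φ (Subgroup.inclusion hRL x) := rfl
      rw [h1, hφ]
      constructor
      · intro h
        exact ⟨x.2, h⟩
      · intro h
        exact h.2
    have h1 : Nat.card ↥ψ.ker * Nat.card ↥ψ.range = Nat.card ↥(R : Subgroup G) := by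
      rw [← Subgroup.index_ker]
      exact Subgroup.card_mul_index ψ.ker
    have h2 : Nat.card ↥ψ.ker = Nat.card ↥((R : Subgroup G) ⊓ c.L0) := by
      rw [hker]
      exact Nat.card_congr (Subgroup.subgroupOfEquivOfLe inf_le_left).toEquiv
    have h3 : Nat.card ↥ψ.range ∣ p - 1 := by
      have h4 := Subgroup.card_subgroup_dvd_card ψ.range
      have h5 : Nat.card (ZMod p)ˣ = p - 1 := by
        rw [Nat.card_eq_fintype_card, ZMod.card_units]
      rw [h5] at h4
      exact h4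
    rw [← h1, h2]
    exact Nat.mul_dvd_mul_left _ h3
  · -- R₀ embeds in (ZMod p)ˣ through conjugation by w
    have hmem : ∀ y : ↥((R : Subgroup G) ⊓ c.L0), w * (y : G) * w⁻¹ ∈ c.L := fun y =>
      hRL (hconj _ (Subgroup.mem_inf.mp y.2).1)
    let χ : ↥((R : Subgroup G) ⊓ c.L0) →* (ZMod p)ˣ :=
      { toFun := fun y => φ ⟨w * (y : G) * w⁻¹, hmem y⟩
        map_one' := by
          have : (⟨w * ((1 : ↥((R : Subgroup G) ⊓ c.L0)) : G) * w⁻¹, hmem 1⟩ : ↥c.L) = 1 := by
            apply Subtype.ext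
            simp
          rw [this, map_one]
        map_mul' := by
          intro a b
          have : (⟨w * ((a * b : ↥((R : Subgroup G) ⊓ c.L0)) : G) * w⁻¹, hmem (a * b)⟩ : ↥c.L) =
              ⟨w * (a : G) * w⁻¹, hmem a⟩ * ⟨w * (b : G) * w⁻¹, hmem b⟩ := by
            apply Subtype.ext
            simp only [Subgroup.coe_mul, MulMemClass.mk_mul_mk]
            group
          rw [this, map_mul] }
    have hχ : Function.Injective χ := by
      rw [injective_iff_map_eq_one]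
      intro y hy
      have h1 : φ ⟨w * (y : G) * w⁻¹, hmem y⟩ = 1 := hy
      rw [hφ] at h1
      have h2 := c.L0_ti hwM' (Subgroup.mem_inf.mp y.2).2 h1
      exact Subtype.ext h2
    exact isCyclic_of_injective χ hχ

end Cfg

end Cfsg.Agent.Helper20.CS
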