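import Mathlib
import Cfsg.Agent.Lib.Helper20.CSDefs
import Cfsg.Agent.Lib.Helper20.CSFACTS1
import Cfsg.Agent.Lib.Helper20.CSFACTS2
import Cfsg.Agent.Lib.Helper1.CSLOC
import Cfsg.Agent.Lib.Helper18.CSBCENT
import Cfsg.Agent.Lib.Helper18.CSBHOM
import Cfsg.Agent.Lib.Helper18.CSBSYL
import Cfsg.Agent.Lib.Helper19.CSBQ
import Cfsg.Agent.Lib.Helper19.CSBSQ

set_option autoImplicit false
set_option linter.unusedSectionVars false
set_option linter.unusedVariables false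
set_option linter.style.haveILetI false
set_option linter.unusedSimpArgs false

/-!
# S4016, piece BOMEGA: `#{x ∈ R | x ^ r = 1} ≤ r²`
-/

universe u

namespace Cfsg.Agent.Helper20.CS

open Subgroup

variable {p : ℕ} [Fact p.Prime] {G : Type u} [Group G] [Finite G]

/-- a finite cyclic group of exponent dividing `r` has at most `r` elements -/
theorem bomega_card_le_of_cyclic {K : Type*} [Group K] [Finite K] [IsCyclic K] {r : ℕ}
    (hr : 0 < r) (h : ∀ k : K, k ^ r = 1) : Nat.card K ≤ r := by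
  obtain ⟨g, hg⟩ := IsCyclic.exists_generator (α := K)
  have h1 : orderOf g = Nat.card K := orderOf_eq_card_of_forall_mem_zpowers hg
  rw [← h1]
  exact Nat.le_of_dvd hr (orderOf_dvd_of_pow_eq_one (h g))

/-- the subgroup `Ω = {x ∈ R | x ^ r = 1}` of an abelian subgroup `R` -/
def bomegaSub (R : Subgroup G) (hcomm : ∀ a ∈ R, ∀ b ∈ R, a * b = b * a) (r : ℕ) : Subgroup G where
  carrier := {x | x ∈ R ∧ x ^ r = 1}
  mul_mem' := by
    rintro a b ⟨ha, ha'⟩ ⟨hb, hb'⟩
    refine ⟨mul_mem ha hb, ?_⟩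
    have hc : Commute a b := hcomm a ha b hb
    rw [hc.mul_pow, ha', hb', one_mul]
  one_mem' := ⟨one_mem _, one_pow _⟩
  inv_mem' := by
    rintro a ⟨ha, ha'⟩
    exact ⟨inv_mem ha, by rw [inv_pow, ha', inv_one]⟩

theorem mem_bomegaSub {R : Subgroup G} {hcomm : ∀ a ∈ R, ∀ b ∈ R, a * b = b * a} {r : ℕ} {x : G} :
    x ∈ bomegaSub R hcomm r ↔ x ∈ R ∧ x ^ r = 1 := Iff.rfl

namespace Cfg

variable (c : Cfg p G)

/-- PIECE BOMEGA. -/
theorem card_omega_le {r : ℕ} [Fact r.Prime] (hr : r ∣ Nat.card ↥c.L0) (R : Sylow r G)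
    (hRL : (R : Subgroup G) ≤ c.L) :
    Nat.card {x : G // x ∈ (R : Subgroup G) ∧ x ^ r = 1} ≤ r * r := by
  have hr' : r.Prime := Fact.out
  have hrp : r ≠ p := c.bq_r_ne_p hr
  have hcomm := c.bq_R_comm hrp R
  obtain ⟨-, -, hcyc⟩ := c.card_sq_le hr R hRL
  obtain ⟨φ, hφ⟩ := c.exists_hom_units
  set E : Subgroup G := bomegaSub (R : Subgroup G) hcomm r with hE
  have hER : E ≤ (R : Subgroup G) := fun x hx => (mem_bomegaSub.mp hx).1
  have hEL : E ≤ c.L := hER.trans hRL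
  have hcard : Nat.card {x : G // x ∈ (R : Subgroup G) ∧ x ^ r = 1} = Nat.card ↥E :=
    Nat.card_congr (Equiv.subtypeEquivRight (fun x => Iff.rfl))
  rw [hcard]
  let ψ : ↥E →* (ZMod p)ˣ := φ.comp (Subgroup.inclusion hEL)
  have h1 : Nat.card ↥ψ.ker * Nat.card ↥ψ.range = Nat.card ↥E := by
    rw [← Subgroup.index_ker]
    exact Subgroup.card_mul_index ψ.ker
  have hpowE : ∀ x : ↥E, x ^ r = 1 := fun x => Subtype.ext (mem_bomegaSub.mp x.2).2
  -- the range
  have h2 : Nat.card ↥ψ.range ≤ r := by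
    apply bomega_card_le_of_cyclic hr'.pos
    intro k
    obtain ⟨x, hx⟩ := k.2
    apply Subtype.ext
    rw [Subgroup.coe_pow, ← hx, ← map_pow, hpowE x, map_one, Subgroup.coe_one]
  -- the kernel
  have h3 : Nat.card ↥ψ.ker ≤ r := by
    have hmem : ∀ k : ↥ψ.ker, ((k : ↥E) : G) ∈ (R : Subgroup G) ⊓ c.L0 := by
      intro k
      have hk : ψ (k : ↥E) = 1 := MonoidHom.mem_ker.mp k.2
      have hk' : φ (Subgroup.inclusion hEL (k : ↥E)) = 1 := hk
      rw [hφ] at hk'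
      exact Subgroup.mem_inf.mpr ⟨hER (k : ↥E).2, hk'⟩
    let ι : ↥ψ.ker →* ↥((R : Subgroup G) ⊓ c.L0) :=
      { toFun := fun k => ⟨((k : ↥E) : G), hmem k⟩
        map_one' := rfl
        map_mul' := fun a b => rfl }
    have hι : Function.Injective ι := by
      intro a b hab
      have h4 : ((a : ↥E) : G) = ((b : ↥E) : G) :=
        congrArg (fun z : ↥((R : Subgroup G) ⊓ c.L0) => (z : G)) hab
      exact Subtype.ext (Subtype.ext h4)
    haveI : IsCyclic ↥((R : Subgroup G) ⊓ c.L0) := hcyc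
    haveI : IsCyclic ↥ψ.ker := isCyclic_of_injective ι hι
    apply bomega_card_le_of_cyclic hr'.pos
    intro k
    apply Subtype.ext
    rw [Subgroup.coe_pow, hpowE (k : ↥E), Subgroup.coe_one]
  rw [← h1]
  exact Nat.mul_le_mul h3 h2

end Cfg

end Cfsg.Agent.Helper20.CS
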