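import Mathlib
import Cfsg.Agent.Lib.Helper20.CSDefs
import Cfsg.Agent.Lib.Helper20.CSFACTS1
import Cfsg.Agent.Lib.Helper20.CSFACTS2
import Cfsg.Agent.Lib.Helper1.CSLOC
import Cfsg.Agent.Lib.Helper18.CSBCENT
import Cfsg.Agent.Lib.Helper18.CSBHOM
import Cfsg.Agent.Lib.Helper18.CSBSYL
import Cfsg.Agent.Lib.Helper19.CSBQ
import Cfsg.Agent.Lib.Helper19.CSBSQ
import Cfsg.Agent.Lib.Helper19.CSBOMEGA

set_option autoImplicit false
set_option linter.unusedSectionVars false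
set_option linter.unusedVariables false
set_option linter.style.haveILetI false
set_option linter.unusedSimpArgs false

/-!
# S4016, piece BCOUNT: `|Q| ≤ r + 1` for `Q ≤ N(R)` with `Q ∩ M = 1`
-/

universe u

namespace Cfsg.Agent.Helper20.CS

open Subgroup

variable {p : ℕ} [Fact p.Prime] {G : Type u} [Group G] [Finite G]

namespace Cfg

variable (c : Cfg p G)

/-- PIECE BCOUNT. -/
theorem card_Q_le {r : ℕ} [Fact r.Prime] (hr : r ∣ Nat.card ↥c.L0) (R : Sylow r G)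
    (hRL : (R : Subgroup G) ≤ c.L) (Q : Subgroup G)
    (hQR : Q ≤ normalizer ((R : Subgroup G) : Set G)) (hQM : Q ⊓ c.M = ⊥) :
    Nat.card ↥Q ≤ r + 1 := by
  have hr' : r.Prime := Fact.out
  -- an element of order r in R ⊓ L0
  obtain ⟨z₀', hz₀'⟩ := exists_prime_orderOf_dvd_card' (G := ↥((R : Subgroup G) ⊓ c.L0)) r
    (c.dvd_card_inf hr R hRL)
  set z₀ : G := (z₀' : G) with hz₀def
  have hz₀ : orderOf z₀ = r := by
    rw [hz₀def, Subgroup.orderOf_coe]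
    exact hz₀'
  have hz₀mem : z₀ ∈ (R : Subgroup G) ⊓ c.L0 := z₀'.2
  have hzle : zpowers z₀ ≤ (R : Subgroup G) ⊓ c.L0 := zpowers_le.mpr hz₀mem
  have hzpow : ∀ z ∈ zpowers z₀, z ^ r = 1 := by
    intro z hz
    obtain ⟨i, rfl⟩ := Subgroup.mem_zpowers_iff.mp hz
    rw [← zpow_natCast, ← zpow_mul, mul_comm, zpow_mul, zpow_natCast, ← hz₀,
      pow_orderOf_eq_one, one_zpow]
  -- the sets
  set A : Set G := (zpowers z₀ : Set G) \ {1} with hA
  set E : Set G := {x | x ∈ (R : Subgroup G) ∧ x ^ r = 1} with hE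
  set B : Set G := E \ {1} with hB
  have hEfin : E.Finite := Set.toFinite E
  have hAcard : A.ncard + 1 = r := by
    rw [hA, Set.ncard_sdiff_singleton_add_one (one_mem (zpowers z₀)) (Set.toFinite _)]
    have h1 : ((zpowers z₀ : Subgroup G) : Set G).ncard = Nat.card ↥(zpowers z₀) := rfl
    rw [h1, Nat.card_zpowers, hz₀]
  have hE1 : (1 : G) ∈ E := ⟨one_mem _, one_pow _⟩
  have hBcard : B.ncard + 1 = E.ncard := by
    rw [hB, Set.ncard_sdiff_singleton_add_one hE1 hEfin]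
  have hEcard : E.ncard ≤ r * r := by
    have h1 := c.card_omega_le hr R hRL
    have h2 : Nat.card {x : G // x ∈ (R : Subgroup G) ∧ x ^ r = 1} = E.ncard := rfl
    rw [h2] at h1
    exact h1
  -- the injection
  let f : G × G → G := fun wz => wz.1 * wz.2 * wz.1⁻¹
  have hmaps : ∀ a ∈ ((Q : Set G) ×ˢ A), f a ∈ B := by
    rintro ⟨w, z⟩ ⟨hw, hz⟩
    have hw' : w ∈ Q := hw
    obtain ⟨hz1, hz2⟩ := hz
    have hzz : z ∈ zpowers z₀ := hz1
    have hzne : z ≠ 1 := fun h => hz2 (by rw [h]; exact Set.mem_singleton _)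
    have hzR : z ∈ (R : Subgroup G) := (Subgroup.mem_inf.mp (hzle hzz)).1
    refine ⟨⟨?_, ?_⟩, ?_⟩
    · exact (Subgroup.mem_set_normalizer_iff.mp (hQR hw') z).mp hzR
    · show (w * z * w⁻¹) ^ r = 1
      rw [conj_pow, hzpow z hzz, mul_one, mul_inv_cancel]
    · intro h
      have h1 : w * z * w⁻¹ = 1 := h
      apply hzne
      have h2 : z = w⁻¹ * (w * z * w⁻¹) * w := by group
      rw [h2, h1, mul_one, inv_mul_cancel]
  have hinj : Set.InjOn f ((Q : Set G) ×ˢ A) := by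
    rintro ⟨w, z⟩ ⟨hw, hz⟩ ⟨w', z'⟩ ⟨hw', hz'⟩ hff
    have hwQ : w ∈ Q := hw
    have hwQ' : w' ∈ Q := hw'
    have hzz : z ∈ zpowers z₀ := hz.1
    have hzz' : z' ∈ zpowers z₀ := hz'.1
    have hzne : z ≠ 1 := fun h => hz.2 (by rw [h]; exact Set.mem_singleton _)
    have hzL0 : z ∈ c.L0 := (Subgroup.mem_inf.mp (hzle hzz)).2
    have hzL0' : z' ∈ c.L0 := (Subgroup.mem_inf.mp (hzle hzz')).2
    have hff' : w * z * w⁻¹ = w' * z' * w'⁻¹ := hff
    have hg : (w'⁻¹ * w) * z * (w'⁻¹ * w)⁻¹ = z' := by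
      have h1 : (w'⁻¹ * w) * z * (w'⁻¹ * w)⁻¹ = w'⁻¹ * (w * z * w⁻¹) * w' := by group
      rw [h1, hff']
      group
    have hgQ : w'⁻¹ * w ∈ Q := mul_mem (inv_mem hwQ') hwQ
    have hgM : w'⁻¹ * w ∈ c.M := by
      by_contra hgM
      have h2 : (w'⁻¹ * w) * z * (w'⁻¹ * w)⁻¹ ∈ c.L0 := by
        rw [hg]
        exact hzL0'
      exact hzne (c.L0_ti hgM hzL0 h2)
    have hg1 : w'⁻¹ * w = 1 := by
      have h3 : w'⁻¹ * w ∈ Q ⊓ c.M := Subgroup.mem_inf.mpr ⟨hgQ, hgM⟩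
      rw [hQM, Subgroup.mem_bot] at h3
      exact h3
    have hww : w = w' := by
      rw [inv_mul_eq_one] at hg1
      exact hg1.symm
    have hzz2 : z = z' := by
      rw [hg1] at hg
      simpa using hg
    rw [hww, hzz2]
  have hle := Set.ncard_le_ncard_of_injOn f hmaps hinj (Set.toFinite B)
  rw [Set.ncard_prod] at hle
  have hQcard : ((Q : Subgroup G) : Set G).ncard = Nat.card ↥Q := rfl
  rw [hQcard] at hle
  -- arithmetic
  have hr2 : 2 ≤ r := hr'.two_le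
  obtain ⟨m, hm⟩ : ∃ m, r = m + 1 := ⟨r - 1, by omega⟩
  have hAm : A.ncard = m := by omega
  rw [hAm] at hle
  have hBle : B.ncard + 1 ≤ (m + 1) * (m + 1) := by
    rw [hBcard, ← hm]
    exact hEcard
  have hm1 : 1 ≤ m := by omega
  by_contra hcon
  push Not at hcon
  have h5 : m + 3 ≤ Nat.card ↥Q := by omega
  have h6 : (m + 3) * m ≤ Nat.card ↥Q * m := Nat.mul_le_mul_right m h5
  nlinarith

end Cfg

end Cfsg.Agent.Helper20.CS
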