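import Mathlib

set_option autoImplicit false

namespace Cfsg.Agent.Helper19

variable {G : Type*} [Group G] [Finite G]

omit [Finite G] in
theorem card_inf_mul_relIndex (A B : Subgroup G) :
    Nat.card ↥(A ⊓ B) * B.relIndex A = Nat.card A := by
  have := Subgroup.relIndex_mul_relIndex (⊥ : Subgroup G) (A ⊓ B) A bot_le inf_le_left
  rwa [Subgroup.relIndex_bot_left, Subgroup.relIndex_bot_left, Subgroup.inf_relIndex_left] at this

omit [Finite G] in
theorem card_mul_relIndex_sup (A B : Subgroup G) :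
    Nat.card B * B.relIndex (A ⊔ B) = Nat.card ↥(A ⊔ B) := by
  have := Subgroup.relIndex_mul_relIndex (⊥ : Subgroup G) B (A ⊔ B) bot_le le_sup_right
  rwa [Subgroup.relIndex_bot_left, Subgroup.relIndex_bot_left] at this

theorem relIndex_le_relIndex_sup (A B : Subgroup G) : B.relIndex A ≤ B.relIndex (A ⊔ B) := by
  apply Subgroup.relIndex_le_of_le_right le_sup_left
  intro h
  have h2 := card_mul_relIndex_sup A B
  rw [h, mul_zero] at h2
  exact (Nat.card_pos (α := ↥(A ⊔ B))).ne h2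

/-- The product formula as an inequality: `|A| |B| ≤ |A ∩ B| |⟨A, B⟩|`. -/
theorem card_mul_card_le (A B : Subgroup G) :
    Nat.card A * Nat.card B ≤ Nat.card ↥(A ⊓ B) * Nat.card ↥(A ⊔ B) := by
  rw [← card_inf_mul_relIndex A B, ← card_mul_relIndex_sup A B]
  have := relIndex_le_relIndex_sup A B
  calc Nat.card ↥(A ⊓ B) * B.relIndex A * Nat.card B
      ≤ Nat.card ↥(A ⊓ B) * B.relIndex (A ⊔ B) * Nat.card B :=
        Nat.mul_le_mul_right _ (Nat.mul_le_mul_left _ this)
    _ = Nat.card ↥(A ⊓ B) * (Nat.card B * B.relIndex (A ⊔ B)) := by ring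

/-- In the case of equality in the product formula, every element of `⟨A, B⟩` is a product. -/
theorem exists_mul_of_card_mul_card_eq (A B : Subgroup G)
    (h : Nat.card A * Nat.card B = Nat.card ↥(A ⊓ B) * Nat.card ↥(A ⊔ B)) :
    ∀ g ∈ A ⊔ B, ∃ a ∈ A, ∃ b ∈ B, g = a * b := by
  have hrel : B.relIndex A = B.relIndex (A ⊔ B) := by
    rw [← card_inf_mul_relIndex A B, ← card_mul_relIndex_sup A B] at h
    have h1 : 0 < Nat.card ↥(A ⊓ B) := Nat.card_pos
    have h2 : 0 < Nat.card B := Nat.card_pos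
    have h3 : (Nat.card ↥(A ⊓ B) * Nat.card B) * B.relIndex A =
        (Nat.card ↥(A ⊓ B) * Nat.card B) * B.relIndex (A ⊔ B) := by
      calc (Nat.card ↥(A ⊓ B) * Nat.card B) * B.relIndex A
          = Nat.card ↥(A ⊓ B) * B.relIndex A * Nat.card B := by ring
        _ = Nat.card ↥(A ⊓ B) * (Nat.card B * B.relIndex (A ⊔ B)) := h
        _ = (Nat.card ↥(A ⊓ B) * Nat.card B) * B.relIndex (A ⊔ B) := by ring
    exact Nat.eq_of_mul_eq_mul_left (Nat.mul_pos h1 h2) h3
  have hbij : Function.Bijective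
      (Subgroup.quotientSubgroupOfEmbeddingOfLE B (le_sup_left : A ≤ A ⊔ B)) := by
    rw [Nat.bijective_iff_injective_and_card]
    refine ⟨(Subgroup.quotientSubgroupOfEmbeddingOfLE B (le_sup_left : A ≤ A ⊔ B)).injective, ?_⟩
    rw [← Subgroup.index_eq_card, ← Subgroup.index_eq_card]
    exact hrel
  intro g hg
  obtain ⟨q, hq⟩ := hbij.2 (QuotientGroup.mk (⟨g, hg⟩ : ↥(A ⊔ B)))
  obtain ⟨a, rfl⟩ := QuotientGroup.mk_surjective q
  rw [Subgroup.quotientSubgroupOfEmbeddingOfLE_apply_mk, QuotientGroup.eq,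
    Subgroup.mem_subgroupOf] at hq
  refine ⟨a, a.2, _, hq, ?_⟩
  simp

end Cfsg.Agent.Helper19
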