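import Mathlib
import Cfsg.Prelude.Def_Local
import Cfsg.Agent.Lib.Helper7.Quasisimple
import Cfsg.Agent.Lib.Helper7.Quasisimple2
import Cfsg.Agent.Lib.Helper19.PGroupBasic

set_option autoImplicit false

namespace Cfsg.Agent.Helper19

variable {X Y : Type*} [Group X] [Group Y]

/-- For a central extension `ρ : X → Y` of a perfect group, `X = X' ker ρ`. -/
theorem commutator_sup_ker_eq_top (ρ : X →* Y) (hρ : Function.Surjective ρ)
    (hY : commutator Y = ⊤) : commutator X ⊔ ρ.ker = ⊤ := by
  have h1 : (commutator X).map ρ = ⊤ := by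
    rw [map_commutator_eq, MonoidHom.range_eq_top.mpr hρ, ← commutator_def, hY]
  have h2 := congrArg (Subgroup.comap ρ) h1
  rwa [Subgroup.comap_map_eq, Subgroup.comap_top] at h2

/-- For a central extension `ρ : X → Y` of a perfect group, the preimage of the centre of `Y` is
the centre of `X`. -/
theorem comap_center_eq_center (ρ : X →* Y) (hρ : Function.Surjective ρ)
    (hker : ρ.ker ≤ Subgroup.center X) (hY : commutator Y = ⊤) :
    (Subgroup.center Y).comap ρ = Subgroup.center X := by
  apply le_antisymm
  · intro y hy
    rw [Subgroup.mem_comap] at hy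
    have hall : ∀ g : X, g * y * g⁻¹ * y⁻¹ ∈ Subgroup.center X := by
      intro g
      apply hker
      rw [MonoidHom.mem_ker]
      simp only [map_mul, map_inv]
      have := Subgroup.mem_center_iff.mp hy (ρ g)
      rw [this, mul_inv_cancel_right, mul_inv_cancel]
    have hle : commutator X ≤ (commHom y (Subgroup.center X) le_rfl hall).ker := by
      rw [commutator_def, Subgroup.commutator_le]
      intro a _ b _
      rw [MonoidHom.mem_ker, map_commutatorElement, commutatorElement_eq_one_iff_mul_comm]
      apply Subtype.ext
      exact Subgroup.mem_center_iff.mp (commHom y (Subgroup.center X) le_rfl hall b).2 _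
    have hcent : commutator X ⊔ ρ.ker ≤ Subgroup.centralizer ({y} : Set X) := by
      apply sup_le
      · intro c hc
        have := (mem_commHom_ker y _ le_rfl hall c).mp (hle hc)
        rw [Subgroup.mem_centralizer_iff]
        intro d hd
        rw [Set.mem_singleton_iff] at hd
        rw [hd]
        exact this.symm
      · exact le_trans hker (Subgroup.center_le_centralizer _)
    rw [commutator_sup_ker_eq_top ρ hρ hY] at hcent
    rw [Subgroup.mem_center_iff]
    intro g
    have hg := hcent (Subgroup.mem_top g)
    rw [Subgroup.mem_centralizer_iff] at hg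
    exact (hg y rfl).symm
  · intro z hz
    rw [Subgroup.mem_comap, Subgroup.mem_center_iff]
    intro t
    obtain ⟨g, rfl⟩ := hρ t
    rw [← map_mul, ← map_mul, Subgroup.mem_center_iff.mp hz g]

/-- A central extension of a quasisimple group has simple non-abelian central quotient. -/
theorem simple_quotient_center_of_central_ext (ρ : X →* Y) (hρ : Function.Surjective ρ)
    (hker : ρ.ker ≤ Subgroup.center X) (hY : Cfsg.IsQuasisimple Y) :
    IsSimpleGroup (X ⧸ Subgroup.center X) ∧ ¬ IsMulCommutative (X ⧸ Subgroup.center X) := by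
  have hperf : commutator Y = ⊤ := Cfsg.Agent.Helper7.quasisimple_commutator_eq_top hY
  have hsimp : IsSimpleGroup (Y ⧸ Subgroup.center Y) := hY.2
  let ψ : X →* Y ⧸ Subgroup.center Y := (QuotientGroup.mk' (Subgroup.center Y)).comp ρ
  have hψ : Function.Surjective ψ := (QuotientGroup.mk'_surjective _).comp hρ
  have hψker : ψ.ker = Subgroup.center X := by
    rw [← comap_center_eq_center ρ hρ hker hperf]
    ext x
    rw [MonoidHom.mem_ker, Subgroup.mem_comap]
    show (QuotientGroup.mk' (Subgroup.center Y)) (ρ x) = 1 ↔ _
    rw [QuotientGroup.mk'_apply, QuotientGroup.eq_one_iff]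
  let e : X ⧸ Subgroup.center X ≃* Y ⧸ Subgroup.center Y :=
    (QuotientGroup.quotientMulEquivOfEq hψker.symm).trans
      (QuotientGroup.quotientKerEquivOfSurjective ψ hψ)
  refine ⟨e.isSimpleGroup, ?_⟩
  intro hc
  -- then Y / Z(Y) is commutative, so Y' ≤ Z(Y), so Z(Y) = ⊤
  have hc' : IsMulCommutative (Y ⧸ Subgroup.center Y) := by
    rw [isMulCommutative_iff] at hc ⊢
    intro a b
    have := hc (e.symm a) (e.symm b)
    rw [← map_mul, ← map_mul] at this
    exact e.symm.injective this
  have hle : commutator Y ≤ Subgroup.center Y :=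
    Subgroup.Normal.quotient_commutative_iff_commutator_le.mp hc'
  rw [hperf, top_le_iff] at hle
  exact Cfsg.Agent.Helper7.quasisimple_center_ne_top hY hle

end Cfsg.Agent.Helper19
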