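import Mathlib
import Cfsg.Agent.Lib.Helper5.RelMGroup
import Cfsg.Agent.Lib.Helper19.PGroupBasic

/-!
# Chief factors above a normal subgroup with `p`-power quotient have order `p`

Farm-out piece CHIEF of S4460 (helper24): if every element of `G` has a `p`-power in `N`, then
`ChiefNonsquare G N` holds.
-/

set_option autoImplicit false
set_option linter.unusedSectionVars false
set_option linter.unusedVariables false
set_option linter.style.haveILetI false

universe u

namespace Cfsg.Agent.Helper19.ChiefP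

theorem relIndex_ker_comap {A B : Type*} [Group A] [Group B] (f : A →* B)
    (hf : Function.Surjective f) (Z : Subgroup B) :
    f.ker.relIndex (Z.comap f) = Nat.card Z := by
  have h : f.ker = (⊥ : Subgroup B).comap f := rfl
  rw [h, Subgroup.relIndex_comap, Subgroup.map_comap_eq_self_of_surjective hf,
    Subgroup.relIndex_bot_left]

theorem chiefNonsquare_of_pquot {G : Type u} [Group G] [Finite G] (N : Subgroup G) [N.Normal]
    {p : ℕ} (hp : p.Prime) (hN : ∀ g : G, ∃ k : ℕ, g ^ p ^ k ∈ N) :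
    Cfsg.Agent.Helper5.ChiefNonsquare G N := by
  classical
  haveI : Fact p.Prime := ⟨hp⟩
  intro H K L hNL hLK hKH hKn hLn hmin
  have hLH : L ≤ H := hLK.le.trans hKH
  -- `L' = L.subgroupOf H` is normal in `H`
  haveI hL'n : (L.subgroupOf H).Normal := by
    constructor
    intro n hn g
    rw [Subgroup.mem_subgroupOf] at hn ⊢
    simpa using hLn g.1 g.2 n.1 hn
  haveI hK'n : (K.subgroupOf H).Normal := by
    constructor
    intro n hn g
    rw [Subgroup.mem_subgroupOf] at hn ⊢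
    simpa using hKn g.1 g.2 n.1 hn
  set π := QuotientGroup.mk' (L.subgroupOf H) with hπ
  have hπs : Function.Surjective π := QuotientGroup.mk'_surjective _
  have hπone : ∀ x : H, π x = 1 ↔ (x : G) ∈ L := by
    intro x
    rw [hπ, QuotientGroup.mk'_apply, QuotientGroup.eq_one_iff, Subgroup.mem_subgroupOf]
  -- the quotient is a `p`-group
  have hP : IsPGroup p (H ⧸ L.subgroupOf H) := by
    intro x
    obtain ⟨h, rfl⟩ := hπs x
    obtain ⟨k, hk⟩ := hN (h : G)
    refine ⟨k, ?_⟩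
    rw [← map_pow, hπone]
    simpa using hNL hk
  -- the image of `K`
  set Kb : Subgroup (H ⧸ L.subgroupOf H) := (K.subgroupOf H).map π with hKb
  haveI hKbn : Kb.Normal := Subgroup.Normal.map hK'n π hπs
  have hKbne : Kb ≠ ⊥ := by
    intro hbot
    obtain ⟨k, hkK, hkL⟩ := SetLike.exists_of_lt hLK
    have h1 : π ⟨k, hKH hkK⟩ ∈ Kb := by
      rw [hKb]
      exact Subgroup.mem_map_of_mem π (by rw [Subgroup.mem_subgroupOf]; exact hkK)
    rw [hbot, Subgroup.mem_bot, hπone] at h1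
    exact hkL h1
  have hZ0 := Cfsg.Agent.Helper19.normal_inf_center_ne_bot hP Kb hKbne
  -- an element of order `p` in `Kb ⊓ center`
  have hZ0p : IsPGroup p ↥(Kb ⊓ Subgroup.center (H ⧸ L.subgroupOf H)) := hP.to_subgroup _
  have hdvd : p ∣ Nat.card ↥(Kb ⊓ Subgroup.center (H ⧸ L.subgroupOf H)) := by
    rcases hZ0p.card_eq_or_dvd with h | h
    · exact absurd (Subgroup.card_eq_one.mp h) hZ0
    · exact h
  obtain ⟨z', hz'⟩ := exists_prime_orderOf_dvd_card' p hdvd
  have hz'o : orderOf (z' : H ⧸ L.subgroupOf H) = p := by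
    rw [Subgroup.orderOf_coe]; exact hz'
  have hz'K : (z' : H ⧸ L.subgroupOf H) ∈ Kb := (Subgroup.mem_inf.mp z'.2).1
  have hz'C : (z' : H ⧸ L.subgroupOf H) ∈ Subgroup.center (H ⧸ L.subgroupOf H) :=
    (Subgroup.mem_inf.mp z'.2).2
  set Z : Subgroup (H ⧸ L.subgroupOf H) := Subgroup.zpowers (z' : H ⧸ L.subgroupOf H) with hZ
  have hZK : Z ≤ Kb := by
    rw [hZ, Subgroup.zpowers_le]; exact hz'K
  have hZC : Z ≤ Subgroup.center (H ⧸ L.subgroupOf H) := by
    rw [hZ, Subgroup.zpowers_le]; exact hz'C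
  have hZcard : Nat.card Z = p := by
    rw [hZ, Nat.card_zpowers, hz'o]
  have hZconj : ∀ (g x : H ⧸ L.subgroupOf H), x ∈ Z → g * x * g⁻¹ ∈ Z := by
    intro g x hx
    have hc := Subgroup.mem_center_iff.mp (hZC hx) g
    have : g * x * g⁻¹ = x := by
      rw [hc, mul_assoc, mul_inv_cancel, mul_one]
    rw [this]; exact hx
  -- the subgroup `M`
  set M : Subgroup G := (Z.comap π).map H.subtype with hM
  have hMH : M ≤ H := by
    rw [hM]
    intro m hm
    obtain ⟨x, _, rfl⟩ := Subgroup.mem_map.mp hm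
    exact x.2
  have hmemM : ∀ m : G, m ∈ M ↔ ∃ hm : m ∈ H, π ⟨m, hm⟩ ∈ Z := by
    intro m
    constructor
    · intro hm
      obtain ⟨x, hx, rfl⟩ := Subgroup.mem_map.mp hm
      exact ⟨x.2, by simpa using hx⟩
    · rintro ⟨hmH, hmZ⟩
      exact Subgroup.mem_map.mpr ⟨⟨m, hmH⟩, by simpa using hmZ, rfl⟩
  have hLM : L ≤ M := by
    intro l hl
    rw [hmemM]
    refine ⟨hLH hl, ?_⟩
    have : π ⟨l, hLH hl⟩ = 1 := (hπone _).mpr hl
    rw [this]; exact Z.one_mem
  have hMK : M ≤ K := by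
    intro m hm
    obtain ⟨hmH, hmZ⟩ := (hmemM m).mp hm
    have h1 : π ⟨m, hmH⟩ ∈ Kb := hZK hmZ
    rw [hKb] at h1
    obtain ⟨k', hk'K, hk'e⟩ := Subgroup.mem_map.mp h1
    rw [Subgroup.mem_subgroupOf] at hk'K
    have h2 : π (k'⁻¹ * ⟨m, hmH⟩) = 1 := by
      rw [map_mul, map_inv, hk'e, inv_mul_cancel]
    rw [hπone] at h2
    have h3 : ((k'⁻¹ * ⟨m, hmH⟩ : H) : G) ∈ K := hLK.le h2
    have h4 : m = (k' : G) * ((k'⁻¹ * ⟨m, hmH⟩ : H) : G) := by
      simp
    rw [h4]
    exact K.mul_mem hk'K h3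
  have hMinv : ∀ h ∈ H, ∀ m ∈ M, h * m * h⁻¹ ∈ M := by
    intro h hh m hm
    obtain ⟨hmH, hmZ⟩ := (hmemM m).mp hm
    rw [hmemM]
    refine ⟨H.mul_mem (H.mul_mem hh hmH) (H.inv_mem hh), ?_⟩
    have : (⟨h * m * h⁻¹, H.mul_mem (H.mul_mem hh hmH) (H.inv_mem hh)⟩ : H)
        = ⟨h, hh⟩ * ⟨m, hmH⟩ * (⟨h, hh⟩ : H)⁻¹ := by
      apply Subtype.ext; simp
    rw [this, map_mul, map_mul, map_inv]
    exact hZconj _ _ hmZ
  have hML : M ≠ L := by
    intro hML
    obtain ⟨w, hw⟩ := hπs (z' : H ⧸ L.subgroupOf H)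
    have hwM : (w : G) ∈ M := by
      rw [hmemM]
      refine ⟨w.2, ?_⟩
      have : (⟨(w : G), w.2⟩ : H) = w := Subtype.ext rfl
      rw [this, hw, hZ]
      exact Subgroup.mem_zpowers _
    rw [hML] at hwM
    have h1 : π w = 1 := (hπone w).mpr hwM
    rw [hw] at h1
    rw [h1, orderOf_one] at hz'o
    exact hp.one_lt.ne hz'o
  have hMeqK : M = K := by
    rcases hmin M hLM hMK hMinv with h | h
    · exact absurd h hML
    · exact h
  -- index computation
  have hidx : L.relIndex K = p := by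
    rw [← hMeqK]
    have h1 : (L.subgroupOf H).relIndex (M.subgroupOf H) = L.relIndex M :=
      Subgroup.relIndex_subgroupOf hMH
    have h2 : M.subgroupOf H = Z.comap π := by
      rw [hM]
      exact Subgroup.comap_map_eq_self_of_injective H.subtype_injective _
    have hker : π.ker = L.subgroupOf H := QuotientGroup.ker_mk' _
    have h4 := relIndex_ker_comap π hπs Z
    rw [hker] at h4
    rw [← h1, h2]
    exact h4.trans hZcard
  rw [hidx]
  exact Irreducible.not_isSquare hp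

end Cfsg.Agent.Helper19.ChiefP
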