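import Mathlib
import Cfsg.Prelude.Def_Characters
import Cfsg.Prelude.Def_Blocks

/-!
# S0679 (helper27's farm-out), PIECE C25 (helper19)

A permutation group of degree 11 whose order is divisible by 25 contains a 5-cycle
(Burnside's orbit-counting lemma on a subgroup of order 25).
-/

set_option autoImplicit false
set_option linter.unusedSectionVars false
set_option linter.unusedVariables false
set_option linter.style.haveILetI false

namespace Cfsg.Agent.Helper27.D11

open Cfsg Equiv MulAction

universe u

variable {α : Type u} [Fintype α] [DecidableEq α]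

namespace C25

/-- the cycle type of an element of `5`-power order at most 25 on 11 points -/
theorem cycleType_cases (hα : Fintype.card α = 11) (g : Perm α) (hg : g ^ 25 = 1) :
    g.cycleType = 0 ∨ g.cycleType = {5} ∨ g.cycleType = {5, 5} := by
  have hsum : g.cycleType.sum ≤ 11 := by
    have := Perm.sum_cycleType_le g
    rw [hα] at this
    exact this
  have hparts : ∀ n ∈ g.cycleType, n = 5 := by
    intro n hn
    have h1 := Perm.dvd_of_mem_cycleType hn
    have h2 : orderOf g ∣ 25 := orderOf_dvd_of_pow_eq_one hg
    have h3 := Perm.two_le_of_mem_cycleType hn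
    have h4 : n ≤ 11 := le_trans (Multiset.single_le_sum (fun _ _ => Nat.zero_le _) _ hn) hsum
    have h5 : n ∣ 25 := h1.trans h2
    interval_cases n <;> revert h5 <;> decide
  have hrep : g.cycleType = Multiset.replicate (Multiset.card g.cycleType) 5 :=
    Multiset.eq_replicate.2 ⟨rfl, hparts⟩
  have hc : Multiset.card g.cycleType ≤ 2 := by
    rw [hrep, Multiset.sum_replicate, smul_eq_mul] at hsum
    omega
  rw [hrep]
  generalize Multiset.card g.cycleType = k at hc
  interval_cases k
  · left; rfl
  · right; left; rfl
  · right; right; rfl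

/-- the number of fixed points -/
theorem card_fixedBy (g : Perm α) :
    Nat.card (fixedBy α g) = Fintype.card α - g.support.card := by
  classical
  rw [← Finset.card_compl, Nat.card_eq_fintype_card, Fintype.card_subtype]
  congr 1
  ext x
  simp [MulAction.mem_fixedBy, Perm.mem_support]

/-- a subgroup of order 25 of `Perm α`, `|α| = 11`, contains a 5-cycle -/
theorem exists_of_card (hα : Fintype.card α = 11) (Q : Subgroup (Perm α))
    (hQ : Nat.card Q = 25) : ∃ g ∈ Q, (g : Perm α).cycleType = {5} := by
  classical
  by_contra hcon
  push Not at hcon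
  haveI : Fintype Q := Fintype.ofFinite Q
  have hpow : ∀ q : Q, (q : Perm α) ^ 25 = 1 := by
    intro q
    have h := pow_card_eq_one' (G := Q) (x := q)
    rw [hQ] at h
    have := congrArg (Subtype.val : Q → Perm α) h
    simpa using this
  -- the number of fixed points of each element
  have hfix : ∀ q : Q, Nat.card (fixedBy α q) = 1 + (if q = 1 then 10 else 0) := by
    intro q
    have hset : fixedBy α q = fixedBy α (q : Perm α) := rfl
    rw [hset, card_fixedBy, hα]
    rcases cycleType_cases hα (q : Perm α) (hpow q) with h | h | h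
    · have h1 : (q : Perm α) = 1 := Perm.cycleType_eq_zero.1 h
      have hq1 : q = 1 := Subtype.ext h1
      rw [if_pos hq1, h1, Perm.support_one, Finset.card_empty]
    · exact absurd h (hcon _ q.2)
    · have hs := Perm.sum_cycleType (q : Perm α)
      rw [h] at hs
      have hs10 : (q : Perm α).support.card = 10 := by
        rw [← hs]; rfl
      have hq1 : q ≠ 1 := by
        intro hq
        rw [hq] at hs10
        simp at hs10
      rw [if_neg hq1, hs10]
  -- Burnside
  haveI : ∀ q : Q, Fintype (fixedBy α q) := fun q => Fintype.ofFinite _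
  haveI : Fintype (Quotient (orbitRel Q α)) := Fintype.ofFinite _
  have hB := MulAction.sum_card_fixedBy_eq_card_orbits_mul_card_group Q α
  have h1 : ∑ q : Q, Fintype.card (fixedBy α q) = 35 := by
    have : ∀ q : Q, Fintype.card (fixedBy α q) = 1 + (if q = 1 then 10 else 0) := by
      intro q
      rw [← Nat.card_eq_fintype_card]
      exact hfix q
    rw [Finset.sum_congr rfl (fun q _ => this q), Finset.sum_add_distrib, Finset.sum_const,
      Finset.card_univ, Finset.sum_ite_eq' Finset.univ (1 : Q) (fun _ => 10),
      if_pos (Finset.mem_univ _), ← Nat.card_eq_fintype_card, hQ]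
    norm_num
  rw [h1, ← Nat.card_eq_fintype_card (α := Q), hQ] at hB
  omega

end C25

/-- PIECE C25. -/
theorem exists_five_cycle (hα : Fintype.card α = 11) (G : Subgroup (Perm α))
    (h25 : 25 ∣ Nat.card G) : ∃ g ∈ G, (g : Perm α).cycleType = {5} := by
  haveI : Fact (Nat.Prime 5) := ⟨by norm_num⟩
  obtain ⟨Q, hQ⟩ := Sylow.exists_subgroup_card_pow_prime (G := G) 5 (n := 2) (by norm_num; exact h25)
  have hQ' : Nat.card (Q.map G.subtype) = 25 := by
    rw [Subgroup.card_map_of_injective (Subgroup.subtype_injective G), hQ]
    norm_num
  obtain ⟨g, hg, hc⟩ := C25.exists_of_card hα (Q.map G.subtype) hQ'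
  refine ⟨g, ?_, hc⟩
  obtain ⟨x, _, rfl⟩ := Subgroup.mem_map.1 hg
  exact x.2

end Cfsg.Agent.Helper27.D11
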