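import Mathlib
import Cfsg.Agent.Lib.Helper3.DPDefs
import Cfsg.Agent.Lib.Helper3.DPBasA
import Cfsg.Agent.Lib.Helper3.DPBasB

set_option autoImplicit false
set_option linter.unusedSectionVars false
set_option linter.unusedVariables false
set_option linter.style.haveILetI false
set_option linter.unusedSimpArgs false

open scoped Pointwise
open MulAction

/-!
# S2205 piece KER: the basic facts about the kernel of a block system (helper19)
-/

namespace Cfsg.Agent.Helper3.DP

variable {G Ω : Type*} [Group G] [Finite G] [Fintype Ω] [MulAction G Ω] [FaithfulSMul G Ω] {p : ℕ}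

/-- an element of `P` stabilizing `B` lies in the kernel -/
theorem ker_mem_kern_of_smul_eq (S : Setup G Ω p) {B : Set Ω} (hB : IsBlk G p S.a B) {v : G}
    (hv : v ∈ S.P) (hvB : v • B = B) : v ∈ kern G S.a B := by
  refine ⟨S.P_le hv, ?_⟩
  intro h hh
  obtain ⟨w, hw, hwB⟩ := S.blk_exists_P hB hh
  rw [hwB, smul_smul, S.P_comm v hv w hw, ← smul_smul, hvB]

/-- an element of `P` stabilizing a translate of `B` lies in the kernel -/
theorem ker_mem_kern_of_smul_translate (S : Setup G Ω p) {B : Set Ω} (hB : IsBlk G p S.a B)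
    {v h : G} (hv : v ∈ S.P) (hh : h ∈ stabilizer G S.a) (hvB : v • (h • B) = h • B) :
    v ∈ kern G S.a B := by
  apply ker_mem_kern_of_smul_eq S hB hv
  obtain ⟨w, hw, hwB⟩ := S.blk_exists_P hB hh
  rw [hwB, smul_smul, S.P_comm v hv w hw, ← smul_smul] at hvB
  exact smul_left_cancel w hvB

/-- `P ⊓ K` is transitive on every translate -/
theorem ker_trans (S : Setup G Ω p) {B : Set Ω} (hB : IsBlk G p S.a B) {h : G}
    (hh : h ∈ stabilizer G S.a) {y y' : Ω} (hy : y ∈ h • B) (hy' : y' ∈ h • B) :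
    ∃ k ∈ S.P ⊓ kern G S.a B, k • y = y' := by
  have hBh := S.blk_smul hB hh
  obtain ⟨v, hv, hvy⟩ := S.exists_P_smul (S.blk_ne hBh hy) (S.blk_ne hBh hy')
  refine ⟨v, ⟨hv, ?_⟩, hvy⟩
  apply ker_mem_kern_of_smul_translate S hB hv hh
  have hvh : v * h ∈ stabilizer G S.a := (stabilizer G S.a).mul_mem (S.P_le hv) hh
  have h1 : y' ∈ (v * h) • B := by
    rw [← smul_smul]
    exact ⟨y, hy, hvy⟩
  rw [smul_smul]
  exact S.blk_eq_of_mem hB hvh hh h1 hy'

/-- `P ⊓ K` has order `p` -/
theorem ker_card_P0 (S : Setup G Ω p) {B : Set Ω} (hB : IsBlk G p S.a B) :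
    Nat.card ↥(S.P ⊓ kern G S.a B) = p := by
  obtain ⟨x, hx⟩ := S.blk_nonempty hB
  have hxa := S.blk_ne hB hx
  have h1B : (1 : G) • B = B := one_smul G B
  have hx1 : x ∈ (1 : G) • B := by rw [h1B]; exact hx
  have hmemB : ∀ v : ↥(S.P ⊓ kern G S.a B), (v : G) • x ∈ B := by
    intro v
    have h2 := v.2.2.2 1 (stabilizer G S.a).one_mem
    rw [h1B] at h2
    have h3 : (v : G) • x ∈ (v : G) • B := ⟨x, hx, rfl⟩
    rwa [h2] at h3
  let f : ↥(S.P ⊓ kern G S.a B) → ↥B := fun v => ⟨(v : G) • x, hmemB v⟩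
  have hbij : Function.Bijective f := by
    constructor
    · intro v w hvw
      have h' : (v : G) • x = (w : G) • x := congrArg Subtype.val hvw
      exact Subtype.ext (S.P_smul_inj hxa v.2.1 w.2.1 h')
    · rintro ⟨y, hy⟩
      have hy1 : y ∈ (1 : G) • B := by rw [h1B]; exact hy
      obtain ⟨k, hk, hky⟩ := ker_trans S hB (stabilizer G S.a).one_mem hx1 hy1
      exact ⟨⟨k, hk⟩, Subtype.ext hky⟩
  rw [Nat.card_eq_of_bijective f hbij, Nat.card_coe_set_eq, hB.2.1]

/-- the kernel is normalized by the point stabilizer -/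
theorem ker_normal (S : Setup G Ω p) (B : Set Ω) {h k : G} (hh : h ∈ stabilizer G S.a)
    (hk : k ∈ kern G S.a B) : h * k * h⁻¹ ∈ kern G S.a B := by
  have hha : h • S.a = S.a := hh
  have hhia : h⁻¹ • S.a = S.a := (stabilizer G S.a).inv_mem hh
  refine ⟨?_, ?_⟩
  · rw [mul_smul, mul_smul, hhia, hk.1, hha]
  · intro h' hh'
    have hm : h⁻¹ * h' ∈ stabilizer G S.a :=
      (stabilizer G S.a).mul_mem ((stabilizer G S.a).inv_mem hh) hh'
    have h1 := hk.2 _ hm
    calc (h * k * h⁻¹) • h' • B = h • (k • ((h⁻¹ * h') • B)) := by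
          simp only [smul_smul]; congr 1; group
      _ = h • ((h⁻¹ * h') • B) := by rw [h1]
      _ = h' • B := by rw [smul_smul, mul_inv_cancel_left]

/-- a subgroup of prime order is generated by any of its nontrivial elements -/
theorem ker_zpowers_eq {H : Subgroup G} (hp : p.Prime) (hH : Nat.card H = p) {v : G} (hv : v ∈ H)
    (hv1 : v ≠ 1) : Subgroup.zpowers v = H := by
  have hle : Subgroup.zpowers v ≤ H := by
    rw [Subgroup.zpowers_le]
    exact hv
  apply Subgroup.eq_of_le_of_card_ge hle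
  have hdvd : Nat.card (Subgroup.zpowers v) ∣ p := by
    rw [← hH]
    exact Subgroup.card_dvd_of_le hle
  rcases (Nat.dvd_prime hp).mp hdvd with h1 | h1
  · exfalso
    apply hv1
    have := Subgroup.card_eq_one.mp h1
    rw [Subgroup.zpowers_eq_bot] at this
    exact this
  · rw [hH, h1]

/-- the kernel acts faithfully on every translate -/
theorem ker_faithful (S : Setup G Ω p) {B : Set Ω} (hB : IsBlk G p S.a B) {k h : G}
    (hk : k ∈ kern G S.a B) (hh : h ∈ stabilizer G S.a) (hfix : ∀ y ∈ h • B, k • y = y) :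
    k = 1 := by
  classical
  have hp := S.prime
  -- the pointwise stabilizer of the translate in the kernel
  let Q : Subgroup G :=
    { carrier := {q | q ∈ kern G S.a B ∧ ∀ y ∈ h • B, q • y = y}
      mul_mem' := by
        rintro q q' ⟨hq, hqf⟩ ⟨hq', hqf'⟩
        refine ⟨(kern G S.a B).mul_mem hq hq', ?_⟩
        intro y hy
        rw [mul_smul, hqf' y hy, hqf y hy]
      one_mem' := ⟨(kern G S.a B).one_mem, fun y _ => one_smul G y⟩
      inv_mem' := by
        rintro q ⟨hq, hqf⟩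
        refine ⟨(kern G S.a B).inv_mem hq, ?_⟩
        intro y hy
        rw [inv_smul_eq_iff, hqf y hy] }
  have hQK : ∀ q ∈ Q, q ∈ kern G S.a B := fun q hq => hq.1
  have hQfix : ∀ q ∈ Q, ∀ y ∈ h • B, q • y = y := fun q hq => hq.2
  have hkQ : k ∈ Q := ⟨hk, hfix⟩
  -- `p` does not divide the order of `Q`
  obtain ⟨x0, hx0⟩ := S.blk_nonempty (S.blk_smul hB hh)
  have hx0a : x0 ≠ S.a := S.blk_ne (S.blk_smul hB hh) hx0
  have hQle : Q ≤ stabilizer G S.a ⊓ stabilizer G x0 := by
    intro q hq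
    exact ⟨(hQK q hq).1, hQfix q hq x0 hx0⟩
  have hpQ : ¬ p ∣ Nat.card Q := by
    intro hdvd
    exact S.not_dvd x0 hx0a (hdvd.trans (Subgroup.card_dvd_of_le hQle))
  -- `P ⊓ K` normalizes `Q`
  have hnorm : ∀ v ∈ S.P ⊓ kern G S.a B, ∀ q ∈ Q, v * q * v⁻¹ ∈ Q := by
    intro v hv q hq
    refine ⟨(kern G S.a B).mul_mem ((kern G S.a B).mul_mem hv.2 (hQK q hq))
      ((kern G S.a B).inv_mem hv.2), ?_⟩
    intro y hy
    have h1 : v⁻¹ • y ∈ h • B := by
      have := ((kern G S.a B).inv_mem hv.2).2 h hh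
      rw [← this]
      exact ⟨y, hy, rfl⟩
    rw [mul_smul, mul_smul, hQfix q hq _ h1, smul_inv_smul]
  -- `Q` fixes every translate pointwise
  have hall : ∀ q ∈ Q, ∀ h'' ∈ stabilizer G S.a, ∀ y ∈ h'' • B, q • y = y := by
    intro q hq h'' hh'' y hy
    by_contra hne
    have hB'' := S.blk_smul hB hh''
    have hy1 : q • y ∈ h'' • B := by
      have := (hQK q hq).2 h'' hh''
      rw [← this]
      exact ⟨y, hy, rfl⟩
    obtain ⟨v, hv, hvy⟩ := ker_trans S hB hh'' hy hy1
    have hv1 : v ≠ 1 := by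
      intro h1
      rw [h1, one_smul] at hvy
      exact hne hvy.symm
    -- the orbit of `y` under `Q`
    have horb : ∀ w ∈ Subgroup.zpowers v, w • (orbit Q y) = orbit Q y := by
      have hle : Subgroup.zpowers v ≤ stabilizer G (orbit Q y : Set Ω) := by
        rw [Subgroup.zpowers_le, mem_stabilizer_iff]
        have hsub : ∀ u ∈ S.P ⊓ kern G S.a B, ∀ y2 : Ω, u • y = y2 → y2 ∈ orbit Q y →
            u • (orbit Q y) ⊆ orbit Q y := by
          intro u hu y2 huy hy2
          rintro _ ⟨o, ⟨q', rfl⟩, rfl⟩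
          have h2 : u • (q' • y) = (⟨u * (q' : G) * u⁻¹, hnorm u hu q' q'.2⟩ : Q) • y2 := by
            rw [← huy]
            show u • ((q' : G) • y) = (u * (q' : G) * u⁻¹) • (u • y)
            rw [mul_smul, mul_smul, inv_smul_smul]
          show u • (q' • y) ∈ orbit Q y
          rw [h2]
          obtain ⟨q2, hq2⟩ := hy2
          rw [← hq2, smul_smul]
          exact ⟨_, rfl⟩
        apply Set.Subset.antisymm
        · exact hsub v hv (q • y) hvy ⟨⟨q, hq⟩, rfl⟩
        · -- use the inverse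
          have hvi : v⁻¹ ∈ S.P ⊓ kern G S.a B := (S.P ⊓ kern G S.a B).inv_mem hv
          have hviy : v⁻¹ • y ∈ orbit Q y := by
            -- `v⁻¹ y = v⁻¹ q⁻¹ v y = (v⁻¹ q⁻¹ v) y`
            have h3 : v⁻¹ • y = (⟨v⁻¹ * (q⁻¹ : G) * v⁻¹⁻¹,
                hnorm v⁻¹ hvi q⁻¹ (Q.inv_mem hq)⟩ : Q) • y := by
              show v⁻¹ • y = (v⁻¹ * q⁻¹ * v⁻¹⁻¹) • y
              rw [inv_inv, mul_smul, mul_smul, hvy, inv_smul_smul]
            rw [h3]
            exact ⟨_, rfl⟩
          have h4 := hsub v⁻¹ hvi (v⁻¹ • y) rfl hviy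
          intro o ho
          have h5 : v⁻¹ • o ∈ orbit Q y := h4 ⟨o, ho, rfl⟩
          exact ⟨v⁻¹ • o, h5, smul_inv_smul v o⟩
      intro w hw
      exact mem_stabilizer_iff.mp (hle hw)
    have hzp : Subgroup.zpowers v = S.P ⊓ kern G S.a B :=
      ker_zpowers_eq hp (ker_card_P0 S hB) hv hv1
    -- the orbit is the whole translate
    have horbeq : (orbit Q y : Set Ω) = h'' • B := by
      apply Set.Subset.antisymm
      · rintro _ ⟨q', rfl⟩
        have := (hQK q' q'.2).2 h'' hh''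
        show (q' : G) • y ∈ h'' • B
        rw [← this]
        exact ⟨y, hy, rfl⟩
      · intro y' hy'
        obtain ⟨w, hw, hwy⟩ := ker_trans S hB hh'' hy hy'
        have h6 := horb w (by rw [hzp]; exact hw)
        rw [← h6, ← hwy]
        exact ⟨y, mem_orbit_self y, rfl⟩
    -- hence `p` divides the order of `Q`
    apply hpQ
    have h7 : (orbit Q y).ncard = p := by rw [horbeq]; exact hB''.2.1
    rw [← h7, ← MulAction.index_stabilizer]
    exact Subgroup.index_dvd_card _
  -- so `k` acts trivially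
  apply FaithfulSMul.eq_of_smul_eq_smul (α := Ω)
  intro y
  rw [one_smul]
  by_cases hya : y = S.a
  · rw [hya]; exact hk.1
  · obtain ⟨h'', hh'', hy⟩ := S.blk_cover hB hya
    exact hall k hkQ h'' hh'' y hy

/-! ## PIECE KER -/

theorem kdata (S : Setup G Ω p) {B : Set Ω} (hB : IsBlk G p S.a B) : KData S B where
  blk := hB
  normal := fun h hh k hk => ker_normal S B hh hk
  faithful := fun k hk h hh hfix => ker_faithful S hB hk hh hfix
  trans := fun h hh y hy y' hy' => ker_trans S hB hh hy hy'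
  card_P0 := ker_card_P0 S hB

end Cfsg.Agent.Helper3.DP
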