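import Mathlib
import Cfsg.Agent.Lib.Helper20.E8TLat
import Cfsg.Agent.Lib.Helper4.E8TARITHA

/-!
# S2375 (helper20's farm-out), PIECE ARITHB (helper19)

A prime divisor `r` of `Φ₃₀(q)` divides `|E₈(q)|`, and the `r`-part of `|E₈(q³⁰)|` is that of `(q³⁰ - 1)⁸`.
-/

set_option autoImplicit false
set_option linter.unusedSectionVars false
set_option linter.unusedVariables false

namespace Cfsg.Agent.Helper20.E8T

theorem arith30_dvd (q r : ℕ) (hq : 2 ≤ q) (h : GoodPrime30 q r) : r ∣ ordE8 q := by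
  unfold ordE8
  apply Dvd.dvd.mul_left
  exact h.dvd.trans (mq_dvd q hq)

/-- `(P+1)ⁿ - 1 = P (1 + (P+1) + … + (P+1)ⁿ⁻¹)` -/
theorem e8tarithb_geom (P n : ℕ) :
    (P + 1) ^ n - 1 = P * ∑ i ∈ Finset.range n, (P + 1) ^ i := by
  have h := geom_sum_mul_add P n
  rw [← h, Nat.add_sub_cancel, mul_comm]

/-- if `r ∣ P` and `r ∤ n` then `r` does not divide `1 + (P+1) + … + (P+1)ⁿ⁻¹` -/
theorem e8tarithb_not_dvd_geom (r P n : ℕ) (hP : r ∣ P) (hn : ¬ r ∣ n) :
    ¬ r ∣ ∑ i ∈ Finset.range n, (P + 1) ^ i := by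
  intro hd
  apply hn
  rw [← ZMod.natCast_eq_zero_iff] at hd hP ⊢
  push_cast at hd
  rw [hP] at hd
  simpa using hd

/-- a prime `r ≥ 31` does not divide `n` for `0 < n < 31` -/
theorem e8tarithb_not_dvd_small (r n : ℕ) (hr : 31 ≤ r) (h0 : 0 < n) (hn : n < 31) : ¬ r ∣ n := by
  intro hd
  have := Nat.le_of_dvd h0 hd
  omega

theorem arith30_fact (q r : ℕ) (hq : 2 ≤ q) (h : GoodPrime30 q r) :
    (ordE8 (q ^ 30)).factorization r = ((q ^ 30 - 1) ^ 8).factorization r := by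
  have hrP : r ∣ q ^ 30 - 1 := h.dvd.trans (mq_dvd q hq)
  have hge := arith30_ge q r hq h
  have hQ1 : 1 ≤ q ^ 30 := Nat.one_le_pow _ _ (by omega)
  obtain ⟨P, hP⟩ : ∃ P, q ^ 30 = P + 1 := ⟨q ^ 30 - 1, by omega⟩
  have hP0 : P ≠ 0 := by
    rintro rfl
    have : 2 ^ 30 ≤ q ^ 30 := Nat.pow_le_pow_left hq 30
    omega
  unfold ordE8
  rw [hP] at hrP ⊢
  rw [Nat.add_sub_cancel] at hrP ⊢
  have hr := h.prime
  have h1 : ¬ r ∣ 1 := fun hd => hr.one_lt.ne' (Nat.dvd_one.1 hd)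
  have hn1 : ¬ r ∣ P + 1 := fun hd => h1 ((Nat.dvd_add_right hrP).1 hd)
  have hS2 := e8tarithb_not_dvd_geom r P 2 hrP (e8tarithb_not_dvd_small r 2 hge (by norm_num) (by norm_num))
  have hS8 := e8tarithb_not_dvd_geom r P 8 hrP (e8tarithb_not_dvd_small r 8 hge (by norm_num) (by norm_num))
  have hS12 := e8tarithb_not_dvd_geom r P 12 hrP (e8tarithb_not_dvd_small r 12 hge (by norm_num) (by norm_num))
  have hS14 := e8tarithb_not_dvd_geom r P 14 hrP (e8tarithb_not_dvd_small r 14 hge (by norm_num) (by norm_num))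
  have hS18 := e8tarithb_not_dvd_geom r P 18 hrP (e8tarithb_not_dvd_small r 18 hge (by norm_num) (by norm_num))
  have hS20 := e8tarithb_not_dvd_geom r P 20 hrP (e8tarithb_not_dvd_small r 20 hge (by norm_num) (by norm_num))
  have hS24 := e8tarithb_not_dvd_geom r P 24 hrP (e8tarithb_not_dvd_small r 24 hge (by norm_num) (by norm_num))
  have hS30 := e8tarithb_not_dvd_geom r P 30 hrP (e8tarithb_not_dvd_small r 30 hge (by norm_num) (by norm_num))
  rw [e8tarithb_geom P 2, e8tarithb_geom P 8, e8tarithb_geom P 12, e8tarithb_geom P 14,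
    e8tarithb_geom P 18, e8tarithb_geom P 20, e8tarithb_geom P 24, e8tarithb_geom P 30]
  generalize (∑ i ∈ Finset.range 2, (P + 1) ^ i) = S2 at hS2 ⊢
  generalize (∑ i ∈ Finset.range 8, (P + 1) ^ i) = S8 at hS8 ⊢
  generalize (∑ i ∈ Finset.range 12, (P + 1) ^ i) = S12 at hS12 ⊢
  generalize (∑ i ∈ Finset.range 14, (P + 1) ^ i) = S14 at hS14 ⊢
  generalize (∑ i ∈ Finset.range 18, (P + 1) ^ i) = S18 at hS18 ⊢
  generalize (∑ i ∈ Finset.range 20, (P + 1) ^ i) = S20 at hS20 ⊢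
  generalize (∑ i ∈ Finset.range 24, (P + 1) ^ i) = S24 at hS24 ⊢
  generalize (∑ i ∈ Finset.range 30, (P + 1) ^ i) = S30 at hS30 ⊢
  generalize hA : (P + 1) ^ 120 = A
  have hnA : ¬ r ∣ A := by
    rw [← hA]
    exact fun hd => hn1 (hr.dvd_of_dvd_pow hd)
  have e3 : A * (P * S2) * (P * S8) * (P * S12) * (P * S14) * (P * S18) * (P * S20) * (P * S24) * (P * S30) =
      P ^ 8 * (A * S2 * S8 * S12 * S14 * S18 * S20 * S24 * S30) := by ring
  rw [e3]
  have hnB : ¬ r ∣ A * S2 * S8 * S12 * S14 * S18 * S20 * S24 * S30 := by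
    intro hd
    rcases (Nat.Prime.dvd_mul hr).1 hd with hd | hd
    · rcases (Nat.Prime.dvd_mul hr).1 hd with hd | hd
      · rcases (Nat.Prime.dvd_mul hr).1 hd with hd | hd
        · rcases (Nat.Prime.dvd_mul hr).1 hd with hd | hd
          · rcases (Nat.Prime.dvd_mul hr).1 hd with hd | hd
            · rcases (Nat.Prime.dvd_mul hr).1 hd with hd | hd
              · rcases (Nat.Prime.dvd_mul hr).1 hd with hd | hd
                · rcases (Nat.Prime.dvd_mul hr).1 hd with hd | hd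
                  · exact hnA hd
                  · exact hS2 hd
                · exact hS8 hd
              · exact hS12 hd
            · exact hS14 hd
          · exact hS18 hd
        · exact hS20 hd
      · exact hS24 hd
    · exact hS30 hd
  have hB0 : A * S2 * S8 * S12 * S14 * S18 * S20 * S24 * S30 ≠ 0 := fun h0 => hnB (h0 ▸ dvd_zero r)
  rw [Nat.factorization_mul (pow_ne_zero 8 hP0) hB0, Finsupp.add_apply,
    Nat.factorization_eq_zero_of_not_dvd hnB, add_zero]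

end Cfsg.Agent.Helper20.E8T

namespace Cfsg.Agent.Helper19.E8TARITHBChk
open Cfsg.Agent.Helper20.E8T

theorem arith30_dvd (q r : ℕ) (hq : 2 ≤ q) (h : GoodPrime30 q r) : r ∣ ordE8 q :=
  Cfsg.Agent.Helper20.E8T.arith30_dvd q r hq h

theorem arith30_fact (q r : ℕ) (hq : 2 ≤ q) (h : GoodPrime30 q r) :
    (ordE8 (q ^ 30)).factorization r = ((q ^ 30 - 1) ^ 8).factorization r :=
  Cfsg.Agent.Helper20.E8T.arith30_fact q r hq h

end Cfsg.Agent.Helper19.E8TARITHBChk

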