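import Mathlib

/-!
# Abstract data of an extension of `2^{1+2n}` by `K` (helper19)

`ExtData ρ β R` packages a surjection `proj : R →* K`, a central involution `zz` and a lift
`lift : U → R` of the module `U` with cocycle `β`, such that `ker proj = {lift u, zz * lift u}`.
-/

set_option autoImplicit false
set_option linter.unusedSectionVars false
set_option linter.style.haveILetI false

namespace Cfsg.Agent.Helper19.ExtClif

/-- abstract data of an extension of an extraspecial-type group by `K` -/
structure ExtData {K U : Type*} [Group K] [AddCommGroup U] [Module (ZMod 2) U]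
    (ρ : Representation (ZMod 2) K U) (β : LinearMap.BilinForm (ZMod 2) U)
    (R : Type*) [Group R] where
  /-- the projection -/
  proj : R →* K
  /-- the central involution -/
  zz : R
  /-- the lift of the module -/
  lift : U → R
  surj : Function.Surjective proj
  zz_ne : zz ≠ 1
  zz_sq : zz * zz = 1
  zz_central : ∀ r, r * zz = zz * r
  lift_mul : ∀ u v, lift u * lift v = (if β u v = 0 then 1 else zz) * lift (u + v)
  proj_lift : ∀ u, proj (lift u) = 1
  proj_zz : proj zz = 1
  ker : ∀ r, proj r = 1 → ∃ u, r = lift u ∨ r = zz * lift u
  lift_inj : ∀ u, (lift u = 1 ∨ lift u = zz) → u = 0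
  conj : ∀ r u, r * lift u * r⁻¹ = lift (ρ (proj r) u) ∨
    r * lift u * r⁻¹ = zz * lift (ρ (proj r) u)

/-- transport of the data along an isomorphism -/
def ExtData.transport {K U : Type*} [Group K] [AddCommGroup U] [Module (ZMod 2) U]
    {ρ : Representation (ZMod 2) K U} {β : LinearMap.BilinForm (ZMod 2) U}
    {R R' : Type*} [Group R] [Group R'] (D : ExtData ρ β R) (f : R' ≃* R) : ExtData ρ β R' where
  proj := D.proj.comp f.toMonoidHom
  zz := f.symm D.zz
  lift := fun u => f.symm (D.lift u)
  surj := by
    intro k
    obtain ⟨r, hr⟩ := D.surj k
    exact ⟨f.symm r, by simp [hr]⟩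
  zz_ne := by
    intro h
    apply D.zz_ne
    have := congrArg f h
    simpa using this
  zz_sq := by
    rw [← map_mul, D.zz_sq, map_one]
  zz_central := by
    intro r
    apply f.injective
    rw [map_mul, map_mul, f.apply_symm_apply]
    exact D.zz_central (f r)
  lift_mul := by
    intro u v
    apply f.injective
    rw [map_mul, map_mul, f.apply_symm_apply, f.apply_symm_apply, f.apply_symm_apply, D.lift_mul]
    split_ifs
    · rw [map_one]
    · rw [f.apply_symm_apply]
  proj_lift := by
    intro u
    simp [D.proj_lift]
  proj_zz := by
    simp [D.proj_zz]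
  ker := by
    intro r hr
    have hr' : D.proj (f r) = 1 := hr
    obtain ⟨u, hu | hu⟩ := D.ker (f r) hr'
    · exact ⟨u, Or.inl (by rw [← hu, f.symm_apply_apply])⟩
    · refine ⟨u, Or.inr ?_⟩
      apply f.injective
      rw [map_mul, f.apply_symm_apply, f.apply_symm_apply, hu]
  lift_inj := by
    intro u hu
    apply D.lift_inj u
    rcases hu with hu | hu
    · left
      have := congrArg f hu
      simpa using this
    · right
      have := congrArg f hu
      simpa using this
  conj := by
    intro r u
    have hpr : (D.proj.comp f.toMonoidHom) r = D.proj (f r) := rfl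
    rw [hpr]
    rcases D.conj (f r) u with h | h
    · left
      apply f.injective
      rw [map_mul, map_mul, map_inv, f.apply_symm_apply, f.apply_symm_apply, h]
    · right
      apply f.injective
      rw [map_mul, map_mul, map_mul, map_inv, f.apply_symm_apply, f.apply_symm_apply,
        f.apply_symm_apply, h]

end Cfsg.Agent.Helper19.ExtClif
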