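import Mathlib

/-!
# Twisted regular representation of an elementary abelian 2-group (helper19)

For a bilinear form `β` on a finite `ZMod 2`-module `U` we define real matrices `L u`
(left twisted translations) and `Rm u` (right twisted translations), the algebra
`Acl β` (the commutant of all `Rm u`, which is spanned by the `L u`), and prove the basic
identities.  Used for S3084.
-/

set_option autoImplicit false
set_option linter.unusedSectionVars false
set_option linter.style.haveILetI false

namespace Cfsg.Agent.Helper19.ExtClif

noncomputable section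

open scoped Matrix

/-- sign of an element of `ZMod 2` -/
def sg (a : ZMod 2) : ℝ := if a = 0 then 1 else -1

theorem zmod2_cases (a : ZMod 2) : a = 0 ∨ a = 1 := by
  revert a; decide

theorem sg_zero : sg 0 = 1 := by simp [sg]

theorem sg_one : sg 1 = -1 := by simp [sg]

theorem sg_add (a b : ZMod 2) : sg (a + b) = sg a * sg b := by
  rcases zmod2_cases a with rfl | rfl <;> rcases zmod2_cases b with rfl | rfl
  · simp [sg_zero]
  · simp [sg_zero, sg_one]
  · simp [sg_zero, sg_one]
  · have : (1 + 1 : ZMod 2) = 0 := by decide
    rw [this]; simp [sg_zero, sg_one]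

theorem sg_mul_self (a : ZMod 2) : sg a * sg a = 1 := by
  rcases zmod2_cases a with rfl | rfl <;> simp [sg_zero, sg_one]

theorem sg_cases (a : ZMod 2) : sg a = 1 ∨ sg a = -1 := by
  rcases zmod2_cases a with rfl | rfl
  · left; exact sg_zero
  · right; exact sg_one

theorem sg_eq_one_iff (a : ZMod 2) : sg a = 1 ↔ a = 0 := by
  rcases zmod2_cases a with rfl | rfl
  · simp [sg_zero]
  · rw [sg_one]
    constructor
    · intro h; norm_num at h
    · intro h; exact absurd h (by decide)

theorem sg_ne_zero (a : ZMod 2) : sg a ≠ 0 := by
  rcases sg_cases a with h | h <;> rw [h] <;> norm_num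

theorem sg_neg (a : ZMod 2) : sg (-a) = sg a := by
  rcases zmod2_cases a with rfl | rfl
  · simp
  · have : (-1 : ZMod 2) = 1 := by decide
    rw [this]

variable {U : Type*} [AddCommGroup U] [Module (ZMod 2) U]

theorem add_self' (u : U) : u + u = 0 := by
  have h : (1 + 1 : ZMod 2) = 0 := by decide
  calc u + u = (1 + 1 : ZMod 2) • u := by rw [add_smul, one_smul]
    _ = 0 := by rw [h, zero_smul]

theorem add_add_cancel' (u v : U) : u + (u + v) = v := by
  rw [← add_assoc, add_self', zero_add]

theorem eq_add_iff' (v u w : U) : v = u + w ↔ v + w = u := by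
  constructor
  · rintro rfl; rw [add_assoc, add_self', add_zero]
  · intro h; rw [← h, add_comm (v + w), ← add_assoc, add_comm w v, add_assoc, add_self', add_zero]

variable [Fintype U] [DecidableEq U]
variable (β : LinearMap.BilinForm (ZMod 2) U)

/-- left twisted translation -/
def L (u : U) : Matrix U U ℝ := fun v w => if v = u + w then sg (β u w) else 0

/-- right twisted translation -/
def Rm (u : U) : Matrix U U ℝ := fun v w => if v = w + u then sg (β w u) else 0

theorem L_apply (u v w : U) : L β u v w = if v = u + w then sg (β u w) else 0 := rfl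

theorem Rm_apply (u v w : U) : Rm β u v w = if v = w + u then sg (β w u) else 0 := rfl

theorem L_mul_apply (u : U) (x : Matrix U U ℝ) (v w : U) :
    (L β u * x) v w = sg (β u (u + v)) * x (u + v) w := by
  rw [Matrix.mul_apply, Finset.sum_eq_single (u + v)]
  · rw [L_apply, if_pos (add_add_cancel' u v).symm]
  · intro y _ hy
    rw [L_apply, if_neg, zero_mul]
    intro h
    apply hy
    rw [h, add_add_cancel']
  · intro h; exact absurd (Finset.mem_univ _) h

theorem mul_L_apply (u : U) (x : Matrix U U ℝ) (v w : U) :
    (x * L β u) v w = x v (u + w) * sg (β u w) := by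
  rw [Matrix.mul_apply, Finset.sum_eq_single (u + w)]
  · rw [L_apply, if_pos rfl]
  · intro y _ hy
    rw [L_apply, if_neg hy, mul_zero]
  · intro h; exact absurd (Finset.mem_univ _) h

theorem Rm_mul_apply (u : U) (x : Matrix U U ℝ) (v w : U) :
    (Rm β u * x) v w = sg (β (v + u) u) * x (v + u) w := by
  rw [Matrix.mul_apply, Finset.sum_eq_single (v + u)]
  · rw [Rm_apply, if_pos]
    rw [add_assoc, add_self', add_zero]
  · intro y _ hy
    rw [Rm_apply, if_neg, zero_mul]
    intro h
    apply hy
    rw [h, add_assoc, add_self', add_zero]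
  · intro h; exact absurd (Finset.mem_univ _) h

theorem mul_Rm_apply (u : U) (x : Matrix U U ℝ) (v w : U) :
    (x * Rm β u) v w = x v (w + u) * sg (β w u) := by
  rw [Matrix.mul_apply, Finset.sum_eq_single (w + u)]
  · rw [Rm_apply, if_pos rfl]
  · intro y _ hy
    rw [Rm_apply, if_neg hy, mul_zero]
  · intro h; exact absurd (Finset.mem_univ _) h

theorem L_mul (u v : U) : L β u * L β v = sg (β u v) • L β (u + v) := by
  ext x z
  rw [mul_L_apply, Matrix.smul_apply, L_apply, L_apply, smul_eq_mul]
  by_cases h : x = u + (v + z)
  · rw [if_pos h, if_pos (by rw [h, add_assoc]), map_add, map_add, LinearMap.add_apply, sg_add,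
      sg_add]
    ring
  · rw [if_neg h, if_neg (by rw [add_assoc]; exact h)]
    ring

theorem L_zero : L β 0 = 1 := by
  ext v w
  rw [L_apply, Matrix.one_apply, zero_add, map_zero, LinearMap.zero_apply, sg_zero]

theorem L_transpose (u : U) : (L β u)ᵀ = sg (β u u) • L β u := by
  ext v w
  rw [Matrix.transpose_apply, Matrix.smul_apply, L_apply, L_apply, smul_eq_mul]
  by_cases h : w = u + v
  · have h' : v = u + w := by rw [h, add_add_cancel']
    rw [if_pos h, if_pos h', h, map_add, sg_add]
    have := sg_mul_self (β u u)
    linear_combination (-(sg (β u v))) * this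
  · have h' : ¬ v = u + w := by
      intro h'; apply h; rw [h', add_add_cancel']
    rw [if_neg h, if_neg h', mul_zero]

theorem L_mul_self (u : U) : L β u * L β u = sg (β u u) • 1 := by
  rw [L_mul, add_self', L_zero]

theorem L_mul_transpose (u : U) : L β u * (L β u)ᵀ = 1 := by
  rw [L_transpose, Matrix.mul_smul, L_mul_self, smul_smul, sg_mul_self, one_smul]

theorem L_transpose_mul (u : U) : (L β u)ᵀ * L β u = 1 := by
  rw [L_transpose, Matrix.smul_mul, L_mul_self, smul_smul, sg_mul_self, one_smul]

theorem L_comm (u v : U) : L β u * L β v = sg (β u v + β v u) • (L β v * L β u) := by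
  rw [L_mul, L_mul, smul_smul, add_comm v u, sg_add, mul_assoc, sg_mul_self, mul_one]

theorem L_apply_zero (u v : U) : L β u v 0 = if v = u then 1 else 0 := by
  rw [L_apply, add_zero, map_zero, sg_zero]

theorem Rm_transpose (u : U) : (Rm β u)ᵀ = sg (β u u) • Rm β u := by
  ext v w
  rw [Matrix.transpose_apply, Matrix.smul_apply, Rm_apply, Rm_apply, smul_eq_mul]
  by_cases h : w = v + u
  · have h' : v = w + u := by rw [h, add_assoc, add_self', add_zero]
    rw [if_pos h, if_pos h', h, map_add, LinearMap.add_apply, sg_add]
    have := sg_mul_self (β u u)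
    linear_combination (-(sg (β v u))) * this
  · have h' : ¬ v = w + u := by
      intro h'; apply h; rw [h', add_assoc, add_self', add_zero]
    rw [if_neg h, if_neg h', mul_zero]

theorem L_mul_Rm (u v : U) : L β u * Rm β v = Rm β v * L β u := by
  ext x z
  rw [L_mul_apply, Rm_mul_apply, Rm_apply, L_apply]
  by_cases h : x = u + z + v
  · have h1 : u + x = z + v := by rw [h, add_assoc, add_add_cancel']
    have h2 : x + v = u + z := by rw [h, add_assoc, add_self', add_zero]
    rw [if_pos h1, if_pos h2, h1, h2, map_add, map_add, LinearMap.add_apply, sg_add, sg_add]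
    ring
  · have h1 : ¬ u + x = z + v := by
      intro h1; apply h
      rw [add_assoc, ← h1, add_add_cancel']
    have h2 : ¬ x + v = u + z := by
      intro h2; apply h
      rw [← h2, add_assoc, add_self', add_zero]
    rw [if_neg h1, if_neg h2, mul_zero, mul_zero]

end

end Cfsg.Agent.Helper19.ExtClif
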