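import Mathlib
import Cfsg.Agent.Lib.Helper19.ExtClif1

/-!
# The algebra spanned by the twisted translations; intertwiners (helper19)
-/

set_option autoImplicit false
set_option linter.unusedSectionVars false
set_option linter.style.haveILetI false

namespace Cfsg.Agent.Helper19.ExtClif

noncomputable section

open scoped Matrix

variable {U : Type*} [AddCommGroup U] [Module (ZMod 2) U] [Fintype U] [DecidableEq U]
variable (β : LinearMap.BilinForm (ZMod 2) U)

/-- the commutant of the right twisted translations -/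
def Acl : Subalgebra ℝ (Matrix U U ℝ) := Subalgebra.centralizer ℝ (Set.range (Rm β))

theorem mem_Acl_iff (x : Matrix U U ℝ) : x ∈ Acl β ↔ ∀ v, Rm β v * x = x * Rm β v := by
  unfold Acl
  rw [Subalgebra.mem_centralizer_iff]
  constructor
  · intro h v; exact h _ ⟨v, rfl⟩
  · rintro h _ ⟨v, rfl⟩; exact h v

theorem L_mem (u : U) : L β u ∈ Acl β :=
  (mem_Acl_iff β _).2 fun v => (L_mul_Rm β u v).symm

theorem transpose_mem {x : Matrix U U ℝ} (hx : x ∈ Acl β) : xᵀ ∈ Acl β := by
  rw [mem_Acl_iff] at *
  intro v
  have h1 : Rm β v * xᵀ = sg (β v v) • (x * Rm β v)ᵀ := by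
    rw [Matrix.transpose_mul, Rm_transpose, Matrix.smul_mul, smul_smul, sg_mul_self, one_smul]
  have h2 : xᵀ * Rm β v = sg (β v v) • (Rm β v * x)ᵀ := by
    rw [Matrix.transpose_mul, Rm_transpose, Matrix.mul_smul, smul_smul, sg_mul_self, one_smul]
  rw [h1, h2, hx v]

theorem entry {x : Matrix U U ℝ} (hx : x ∈ Acl β) (v w : U) :
    x v w = sg (β (v + w) w) * x (v + w) 0 := by
  have h := congrFun (congrFun ((mem_Acl_iff β x).1 hx w) v) 0
  rw [Rm_mul_apply, mul_Rm_apply, zero_add, map_zero, LinearMap.zero_apply, sg_zero, mul_one] at h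
  exact h.symm

theorem ext_col {x y : Matrix U U ℝ} (hx : x ∈ Acl β) (hy : y ∈ Acl β)
    (h : ∀ u, x u 0 = y u 0) : x = y := by
  ext v w
  rw [entry β hx, entry β hy, h]

theorem coef_rel {x : Matrix U U ℝ} (hx : x ∈ Acl β) {ε : ℝ} {w w' : U}
    (h : x * L β w = ε • (L β w' * x)) (u : U) :
    sg (β u w) * x u 0 = ε * (sg (β w' (w' + (u + w))) * x (w' + (u + w)) 0) := by
  have h1 := congrFun (congrFun h (u + w)) 0
  rw [mul_L_apply, Matrix.smul_apply, L_mul_apply, add_zero, map_zero, sg_zero, mul_one,
    smul_eq_mul, entry β hx] at h1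
  have h2 : u + w + w = u := by rw [add_assoc, add_self', add_zero]
  rw [h2] at h1
  exact h1

variable (hnd : ∀ u : U, (∀ w, β u w + β w u = 0) → u = 0)

include hnd in
/-- the centre of the algebra consists of scalars -/
theorem central_eq_smul {x : Matrix U U ℝ} (hx : x ∈ Acl β)
    (hc : ∀ w, x * L β w = L β w * x) : x = x 0 0 • (1 : Matrix U U ℝ) := by
  have hz : ∀ u, u ≠ 0 → x u 0 = 0 := by
    intro u hu
    by_contra hne
    apply hu
    apply hnd
    intro w
    have h1 := coef_rel β hx (ε := 1) (w := w) (w' := w) (by rw [one_smul]; exact hc w) u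
    have h2 : w + (u + w) = u := by rw [add_comm u w, add_add_cancel']
    rw [h2, one_mul] at h1
    have h3 : sg (β u w) = sg (β w u) := mul_right_cancel₀ hne h1
    rw [← sg_eq_one_iff, sg_add, h3, sg_mul_self]
  apply ext_col β hx (Subalgebra.smul_mem _ (Subalgebra.one_mem _) _)
  intro u
  rw [Matrix.smul_apply, Matrix.one_apply, smul_eq_mul]
  by_cases hu : u = 0
  · rw [hu, if_pos rfl, mul_one]
  · rw [if_neg hu, mul_zero, hz u hu]

include hnd in
/-- an element of the algebra normalizing every `L w` up to sign is a multiple of some `L v` -/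
theorem eq_smul_L_of_sign {x : Matrix U U ℝ} (hx : x ∈ Acl β)
    (hc : ∀ w, ∃ e : ZMod 2, x * L β w = sg e • (L β w * x)) :
    ∃ v, x = x v 0 • L β v := by
  by_cases h0 : ∀ u, x u 0 = 0
  · refine ⟨0, ?_⟩
    apply ext_col β hx (Subalgebra.smul_mem _ (L_mem β 0) _)
    intro u
    rw [Matrix.smul_apply, h0 u, h0 0, smul_eq_mul, zero_mul]
  · push Not at h0
    obtain ⟨v, hv⟩ := h0
    refine ⟨v, ?_⟩
    have hz : ∀ u, u ≠ v → x u 0 = 0 := by
      intro u hu
      by_contra hne
      apply hu
      have : u + v = 0 := by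
        apply hnd
        intro w
        obtain ⟨e, he⟩ := hc w
        have h2 : ∀ t : U, w + (t + w) = t := fun t => by rw [add_comm t w, add_add_cancel']
        have h1 := coef_rel β hx he u
        have h1' := coef_rel β hx he v
        rw [h2] at h1 h1'
        have h3 : sg (β u w) = sg e * sg (β w u) := by
          apply mul_right_cancel₀ hne
          rw [h1]; ring
        have h3' : sg (β v w) = sg e * sg (β w v) := by
          apply mul_right_cancel₀ hv
          rw [h1']; ring
        rw [← sg_eq_one_iff, map_add, map_add, LinearMap.add_apply, sg_add, sg_add, sg_add, h3, h3']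
        have e1 := sg_mul_self e
        have e2 := sg_mul_self (β w u)
        have e3 := sg_mul_self (β w v)
        calc sg e * sg (β w u) * (sg e * sg (β w v)) * (sg (β w u) * sg (β w v))
            = (sg e * sg e) * (sg (β w u) * sg (β w u)) * (sg (β w v) * sg (β w v)) := by ring
          _ = 1 := by rw [e1, e2, e3]; ring
      calc u = u + (v + v) := by rw [add_self', add_zero]
        _ = (u + v) + v := by rw [add_assoc]
        _ = v := by rw [this, zero_add]
    apply ext_col β hx (Subalgebra.smul_mem _ (L_mem β v) _)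
    intro u
    rw [Matrix.smul_apply, L_apply_zero, smul_eq_mul]
    by_cases hu : u = v
    · rw [hu, if_pos rfl, mul_one]
    · rw [if_neg hu, mul_zero, hz u hu]

end

end Cfsg.Agent.Helper19.ExtClif
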