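import Mathlib
import Cfsg.Agent.Lib.Helper19.ExtClif2

/-!
# Intertwiners by averaging (helper19)
-/

set_option autoImplicit false
set_option linter.unusedSectionVars false
set_option linter.style.haveILetI false

namespace Cfsg.Agent.Helper19.ExtClif

noncomputable section

open scoped Matrix

variable {U : Type*} [AddCommGroup U] [Module (ZMod 2) U] [Fintype U] [DecidableEq U]
variable (β : LinearMap.BilinForm (ZMod 2) U)
variable (κ : U →ₗ[ZMod 2] U) (c : U → ZMod 2)

/-- the twisted images -/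
def Ph (u : U) : Matrix U U ℝ := sg (c u) • L β (κ u)

variable (hc : ∀ u v, c (u + v) = c u + c v + β (κ u) (κ v) + β u v)

include hc in
theorem c_zero : c 0 = 0 := by
  have h := hc 0 0
  simp only [add_zero, map_zero] at h
  have h2 : c 0 + c 0 = 0 := by
    rcases zmod2_cases (c 0) with h0 | h0 <;> rw [h0] <;> decide
  rw [h2] at h
  exact h

include hc in
theorem Ph_mul (w u : U) : Ph β κ c w * Ph β κ c u = sg (β w u) • Ph β κ c (w + u) := by
  unfold Ph
  rw [Matrix.smul_mul, Matrix.mul_smul, L_mul, smul_smul, smul_smul, smul_smul, hc w u, map_add]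
  congr 1
  rw [sg_add, sg_add, sg_add]
  have := sg_mul_self (β w u)
  linear_combination (-(sg (c w) * sg (c u) * sg (β (κ w) (κ u)))) * this

theorem Ph_transpose_mul (w : U) : (Ph β κ c w)ᵀ * Ph β κ c w = 1 := by
  unfold Ph
  rw [Matrix.transpose_smul, Matrix.smul_mul, Matrix.mul_smul, smul_smul, sg_mul_self, one_smul,
    L_transpose_mul]

theorem Ph_mem (w : U) : Ph β κ c w ∈ Acl β :=
  Subalgebra.smul_mem _ (L_mem β _) _

/-- averaging operator -/
def avg (X : Matrix U U ℝ) : Matrix U U ℝ := ∑ u, Ph β κ c u * X * (L β u)ᵀ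

theorem avg_mem {X : Matrix U U ℝ} (hX : X ∈ Acl β) : avg β κ c X ∈ Acl β := by
  unfold avg
  apply Subalgebra.sum_mem
  intro u _
  exact Subalgebra.mul_mem _ (Subalgebra.mul_mem _ (Ph_mem β κ c u) hX) (transpose_mem β (L_mem β u))

include hc in
theorem avg_conj (X : Matrix U U ℝ) (w : U) :
    Ph β κ c w * avg β κ c X * (L β w)ᵀ = avg β κ c X := by
  unfold avg
  rw [Finset.mul_sum, Finset.sum_mul]
  rw [← Equiv.sum_comp (Equiv.addLeft w) (fun u => Ph β κ c u * X * (L β u)ᵀ)]
  apply Finset.sum_congr rfl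
  intro u _
  have h1 : Ph β κ c w * (Ph β κ c u * X * (L β u)ᵀ) * (L β w)ᵀ
      = (Ph β κ c w * Ph β κ c u) * X * ((L β u)ᵀ * (L β w)ᵀ) := by
    simp only [Matrix.mul_assoc]
  rw [h1, Ph_mul β κ c hc, ← Matrix.transpose_mul, L_mul, Matrix.transpose_smul, Matrix.smul_mul,
    Matrix.smul_mul, Matrix.mul_smul, smul_smul, sg_mul_self, one_smul]
  rfl

include hc in
theorem avg_intertwine (X : Matrix U U ℝ) (w : U) :
    Ph β κ c w * avg β κ c X = avg β κ c X * L β w := by
  have h := avg_conj β κ c hc X w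
  calc Ph β κ c w * avg β κ c X = Ph β κ c w * avg β κ c X * ((L β w)ᵀ * L β w) := by
        rw [L_transpose_mul, Matrix.mul_one]
    _ = (Ph β κ c w * avg β κ c X * (L β w)ᵀ) * L β w := by simp only [Matrix.mul_assoc]
    _ = avg β κ c X * L β w := by rw [h]

variable (hnd : ∀ u : U, (∀ w, β u w + β w u = 0) → u = 0)

include hnd in
theorem charsum (u : U) (hu : u ≠ 0) : ∑ v : U, sg (β v u + β u v) = 0 := by
  have : ¬ ∀ w, β u w + β w u = 0 := fun h => hu (hnd u h)
  push Not at this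
  obtain ⟨w, hw⟩ := this
  have hw1 : β u w + β w u = 1 := by
    rcases zmod2_cases (β u w + β w u) with h | h
    · exact absurd h hw
    · exact h
  have h1 : ∑ v : U, sg (β v u + β u v) = ∑ v : U, sg (β (w + v) u + β u (w + v)) :=
    (Equiv.sum_comp (Equiv.addLeft w) (fun v => sg (β v u + β u v))).symm
  have h2 : ∑ v : U, sg (β (w + v) u + β u (w + v)) = - ∑ v : U, sg (β v u + β u v) := by
    rw [← Finset.sum_neg_distrib]
    apply Finset.sum_congr rfl
    intro v _
    have e : β (w + v) u + β u (w + v) = (β u w + β w u) + (β v u + β u v) := by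
      rw [map_add, map_add, LinearMap.add_apply]; ring
    rw [e, hw1, sg_add, sg_one]; ring
  linarith

theorem conj_L_transpose (u v : U) :
    L β v * (L β u)ᵀ * (L β v)ᵀ = sg (β v u + β u v) • (L β u)ᵀ := by
  rw [L_transpose β u, Matrix.mul_smul, Matrix.smul_mul, L_comm β v u, Matrix.smul_mul,
    Matrix.mul_assoc, L_mul_transpose, Matrix.mul_one, smul_smul, smul_smul]
  congr 1
  ring

include hc hnd in
theorem avg_total :
    ∑ v : U, avg β κ c (L β v) * (L β v)ᵀ = (Fintype.card U : ℝ) • (1 : Matrix U U ℝ) := by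
  have h1 : ∀ v : U, avg β κ c (L β v) * (L β v)ᵀ
      = ∑ u : U, sg (β v u + β u v) • (Ph β κ c u * (L β u)ᵀ) := by
    intro v
    unfold avg
    rw [Finset.sum_mul]
    apply Finset.sum_congr rfl
    intro u _
    rw [Matrix.mul_assoc, Matrix.mul_assoc, ← Matrix.mul_assoc (L β v), conj_L_transpose,
      Matrix.mul_smul]
  rw [Finset.sum_congr rfl (fun v _ => h1 v), Finset.sum_comm]
  have h2 : ∀ u : U, ∑ v : U, sg (β v u + β u v) • (Ph β κ c u * (L β u)ᵀ)
      = if u = 0 then (Fintype.card U : ℝ) • (1 : Matrix U U ℝ) else 0 := by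
    intro u
    rw [← Finset.sum_smul]
    by_cases hu : u = 0
    · rw [if_pos hu, hu]
      have e1 : Ph β κ c 0 * (L β 0)ᵀ = 1 := by
        unfold Ph
        rw [c_zero β κ c hc, sg_zero, one_smul, map_zero, L_zero, Matrix.transpose_one,
          Matrix.mul_one]
      rw [e1]
      congr 1
      simp [sg_zero]
    · rw [if_neg hu, charsum β hnd u hu, zero_smul]
  rw [Finset.sum_congr rfl (fun u _ => h2 u), Finset.sum_ite_eq' Finset.univ (0 : U)]
  simp

include hc hnd in
theorem exists_avg_ne_zero : ∃ v : U, avg β κ c (L β v) ≠ 0 := by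
  by_contra h
  push Not at h
  have h1 := avg_total β κ c hc hnd
  rw [Finset.sum_congr rfl (fun v _ => by rw [h v, Matrix.zero_mul])] at h1
  rw [Finset.sum_const_zero] at h1
  have h2 := congrFun (congrFun h1 0) 0
  rw [Matrix.zero_apply, Matrix.smul_apply, Matrix.one_apply_eq, smul_eq_mul, mul_one] at h2
  have h3 : (0 : ℝ) < Fintype.card U := by
    have : 0 < Fintype.card U := Fintype.card_pos_iff.mpr ⟨0⟩
    exact_mod_cast this
  linarith

include hc hnd in
/-- existence of an orthogonal intertwiner in the algebra -/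
theorem exists_orth_intertwiner :
    ∃ h : Matrix U U ℝ, h ∈ Acl β ∧ hᵀ * h = 1 ∧ ∀ w, h * L β w = Ph β κ c w * h := by
  obtain ⟨v, hv⟩ := exists_avg_ne_zero β κ c hc hnd
  set g := avg β κ c (L β v) with hg
  have hgA : g ∈ Acl β := avg_mem β κ c (L_mem β v)
  have hint : ∀ w, Ph β κ c w * g = g * L β w := fun w => avg_intertwine β κ c hc _ w
  -- gᵀ g is central
  have hcen : ∀ w, (gᵀ * g) * L β w = L β w * (gᵀ * g) := by
    intro w
    have h1 : gᵀ * (Ph β κ c w)ᵀ = (L β w)ᵀ * gᵀ := by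
      rw [← Matrix.transpose_mul, ← Matrix.transpose_mul, hint w]
    have h2 : (L β w)ᵀ * (gᵀ * g) * L β w = gᵀ * g := by
      calc (L β w)ᵀ * (gᵀ * g) * L β w = ((L β w)ᵀ * gᵀ) * (g * L β w) := by
            simp only [Matrix.mul_assoc]
        _ = (gᵀ * (Ph β κ c w)ᵀ) * (Ph β κ c w * g) := by rw [h1, hint w]
        _ = gᵀ * ((Ph β κ c w)ᵀ * Ph β κ c w) * g := by simp only [Matrix.mul_assoc]
        _ = gᵀ * g := by rw [Ph_transpose_mul, Matrix.mul_one]
    calc (gᵀ * g) * L β w = (L β w * (L β w)ᵀ) * ((gᵀ * g) * L β w) := by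
          rw [L_mul_transpose, Matrix.one_mul]
      _ = L β w * ((L β w)ᵀ * (gᵀ * g) * L β w) := by simp only [Matrix.mul_assoc]
      _ = L β w * (gᵀ * g) := by rw [h2]
  have hgg : gᵀ * g ∈ Acl β := Subalgebra.mul_mem _ (transpose_mem β hgA) hgA
  have hsc := central_eq_smul β hnd hgg hcen
  set lam : ℝ := (gᵀ * g) 0 0 with hlam
  have hlam_eq : lam = ∑ x : U, g x 0 * g x 0 := by
    rw [hlam, Matrix.mul_apply]
    rfl
  have hpos : 0 < lam := by
    rw [hlam_eq]
    have hne : ∃ u, g u 0 ≠ 0 := by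
      by_contra hall
      push Not at hall
      apply hv
      apply ext_col β hgA (Subalgebra.zero_mem _)
      intro u
      rw [hall u, Matrix.zero_apply]
    obtain ⟨u, hu⟩ := hne
    have h1 : g u 0 * g u 0 ≤ ∑ x : U, g x 0 * g x 0 :=
      Finset.single_le_sum (f := fun x => g x 0 * g x 0) (fun x _ => mul_self_nonneg _)
        (Finset.mem_univ u)
    have h2 : 0 < g u 0 * g u 0 := mul_self_pos.mpr hu
    linarith
  have hsq : Real.sqrt lam * Real.sqrt lam = lam := Real.mul_self_sqrt hpos.le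
  have hsqpos : 0 < Real.sqrt lam := Real.sqrt_pos.mpr hpos
  refine ⟨(Real.sqrt lam)⁻¹ • g, Subalgebra.smul_mem _ hgA _, ?_, ?_⟩
  · rw [Matrix.transpose_smul, Matrix.smul_mul, Matrix.mul_smul, smul_smul, hsc, smul_smul]
    have key : ∀ s : ℝ, s ≠ 0 → s⁻¹ * s⁻¹ * (s * s) = 1 := by
      intro s hs; field_simp
    have : (Real.sqrt lam)⁻¹ * (Real.sqrt lam)⁻¹ * lam = 1 := by
      calc (Real.sqrt lam)⁻¹ * (Real.sqrt lam)⁻¹ * lam
          = (Real.sqrt lam)⁻¹ * (Real.sqrt lam)⁻¹ * (Real.sqrt lam * Real.sqrt lam) := by rw [hsq]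
        _ = 1 := key _ hsqpos.ne'
    rw [this, one_smul]
  · intro w
    rw [Matrix.smul_mul, Matrix.mul_smul, hint w]

end

end Cfsg.Agent.Helper19.ExtClif
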