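import Mathlib
import Cfsg.Agent.Lib.Helper19.ExtClif3
import Cfsg.Agent.Lib.Helper19.ExtClif0

/-!
# The group `R₀` inside the real matrices and its extension data (helper19)
-/

set_option autoImplicit false
set_option linter.unusedSectionVars false
set_option linter.style.haveILetI false

namespace Cfsg.Agent.Helper19.ExtClif

noncomputable section

open scoped Matrix

/-- an alternating symmetric bilinear form over `ZMod 2` is the polar form of a function -/
theorem exists_c_of_alt {U : Type*} [AddCommGroup U] [Module (ZMod 2) U]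
    [Module.Finite (ZMod 2) U] (γ : LinearMap.BilinForm (ZMod 2) U)
    (hdiag : ∀ u, γ u u = 0) (hsymm : ∀ u v, γ u v = γ v u) :
    ∃ c : U → ZMod 2, ∀ u v, c (u + v) = c u + c v + γ u v := by
  classical
  set b := Module.finBasis (ZMod 2) U with hb
  set M : Matrix (Fin (Module.finrank (ZMod 2) U)) (Fin (Module.finrank (ZMod 2) U)) (ZMod 2) :=
    fun i j => if i < j then γ (b i) (b j) else 0 with hM
  set γ' : LinearMap.BilinForm (ZMod 2) U := Matrix.toBilin b M with hγ'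
  have hent : ∀ i j, γ' (b i) (b j) = M i j := by
    intro i j
    rw [hγ', ← LinearMap.BilinForm.toMatrix_apply b, LinearMap.BilinForm.toMatrix_toBilin]
  have hsum : γ' + LinearMap.flip γ' = γ := by
    apply LinearMap.ext_basis b b
    intro i j
    rw [LinearMap.add_apply, LinearMap.add_apply, LinearMap.flip_apply, hent, hent, hM]
    simp only
    rcases lt_trichotomy i j with h | h | h
    · rw [if_pos h, if_neg (not_lt.mpr h.le), add_zero]
    · rw [h, if_neg (lt_irrefl j), add_zero, hdiag]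
    · rw [if_neg (not_lt.mpr h.le), if_pos h, zero_add, hsymm]
  refine ⟨fun u => γ' u u, fun u v => ?_⟩
  have h1 : γ u v = γ' u v + γ' v u := by
    rw [← hsum, LinearMap.add_apply, LinearMap.add_apply, LinearMap.flip_apply]
  simp only [map_add, LinearMap.add_apply]
  rw [h1]
  ring

variable {U : Type*} [AddCommGroup U] [Module (ZMod 2) U] [Fintype U] [DecidableEq U]
variable (β : LinearMap.BilinForm (ZMod 2) U)

/-- `L u` as a unit -/
def Lu (u : U) : (Matrix U U ℝ)ˣ := ⟨L β u, (L β u)ᵀ, L_mul_transpose β u, L_transpose_mul β u⟩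

/-- the central signs as units -/
def zp (e : ZMod 2) : (Matrix U U ℝ)ˣ := if e = 0 then 1 else -1

theorem Lu_val (u : U) : ((Lu β u : (Matrix U U ℝ)ˣ) : Matrix U U ℝ) = L β u := rfl

theorem zp_val (e : ZMod 2) : ((zp e : (Matrix U U ℝ)ˣ) : Matrix U U ℝ) = sg e • 1 := by
  rcases zmod2_cases e with rfl | rfl
  · simp [zp, sg_zero]
  · have : (1 : ZMod 2) ≠ 0 := by decide
    simp [zp, sg_one, this]

theorem zp_zero : (zp 0 : (Matrix U U ℝ)ˣ) = 1 := by simp [zp]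

theorem zp_add (a b : ZMod 2) : (zp (a + b) : (Matrix U U ℝ)ˣ) = zp a * zp b := by
  apply Units.ext
  rw [Units.val_mul, zp_val, zp_val, zp_val, sg_add, Matrix.smul_mul, Matrix.one_mul, smul_smul]

theorem zp_central (e : ZMod 2) (g : (Matrix U U ℝ)ˣ) : zp e * g = g * zp e := by
  apply Units.ext
  rw [Units.val_mul, Units.val_mul, zp_val, Matrix.smul_mul, Matrix.mul_smul, Matrix.one_mul,
    Matrix.mul_one]

theorem zp_mul_self (e : ZMod 2) : (zp e : (Matrix U U ℝ)ˣ) * zp e = 1 := by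
  apply Units.ext
  rw [Units.val_mul, zp_val, Matrix.smul_mul, Matrix.one_mul, smul_smul, sg_mul_self, one_smul,
    Units.val_one]

theorem zp_inv (e : ZMod 2) : (zp e : (Matrix U U ℝ)ˣ)⁻¹ = zp e :=
  inv_eq_of_mul_eq_one_right (zp_mul_self e)

theorem Lu_mul (u v : U) : Lu β u * Lu β v = zp (β u v) * Lu β (u + v) := by
  apply Units.ext
  rw [Units.val_mul, Units.val_mul, zp_val, Lu_val, Lu_val, Lu_val, L_mul, Matrix.smul_mul,
    Matrix.one_mul]

theorem Lu_zero : Lu β 0 = 1 := by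
  apply Units.ext
  rw [Lu_val, L_zero, Units.val_one]

theorem Lu_conj (u w : U) : Lu β u * Lu β w * (Lu β u)⁻¹ = zp (β u w + β w u) * Lu β w := by
  rw [mul_inv_eq_iff_eq_mul]
  apply Units.ext
  rw [Units.val_mul, Units.val_mul, Units.val_mul, zp_val, Lu_val, Lu_val, L_comm, Matrix.smul_mul,
    Matrix.smul_mul, Matrix.one_mul]

theorem zpLu_eq {e e' : ZMod 2} {a b : U} (h : zp e * Lu β a = zp e' * Lu β b) : a = b := by
  have h1 := congrArg (fun g : (Matrix U U ℝ)ˣ => (g : Matrix U U ℝ) a 0) h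
  simp only [Units.val_mul, zp_val, Lu_val, Matrix.smul_mul, Matrix.one_mul, Matrix.smul_apply,
    L_apply_zero, if_true, smul_eq_mul, mul_one] at h1
  by_contra hab
  rw [if_neg hab, mul_zero] at h1
  exact sg_ne_zero e h1

/-- orthogonal units lying in the algebra -/
def OA : Subgroup (Matrix U U ℝ)ˣ where
  carrier := {g | (g : Matrix U U ℝ) ∈ Acl β ∧ (g : Matrix U U ℝ)ᵀ * (g : Matrix U U ℝ) = 1}
  one_mem' := ⟨Subalgebra.one_mem _, by simp⟩
  mul_mem' := by
    rintro g h ⟨hg1, hg2⟩ ⟨hh1, hh2⟩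
    refine ⟨?_, ?_⟩
    · rw [Units.val_mul]; exact Subalgebra.mul_mem _ hg1 hh1
    · rw [Units.val_mul, Matrix.transpose_mul]
      calc (h : Matrix U U ℝ)ᵀ * (g : Matrix U U ℝ)ᵀ * ((g : Matrix U U ℝ) * (h : Matrix U U ℝ))
          = (h : Matrix U U ℝ)ᵀ * ((g : Matrix U U ℝ)ᵀ * (g : Matrix U U ℝ)) * (h : Matrix U U ℝ) := by
            simp only [Matrix.mul_assoc]
        _ = 1 := by rw [hg2, Matrix.mul_one, hh2]
  inv_mem' := by
    rintro g ⟨hg1, hg2⟩
    have hinv : ((g⁻¹ : (Matrix U U ℝ)ˣ) : Matrix U U ℝ) = (g : Matrix U U ℝ)ᵀ :=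
      Units.inv_eq_of_mul_eq_one_left hg2
    refine ⟨?_, ?_⟩
    · rw [hinv]; exact transpose_mem β hg1
    · rw [hinv, Matrix.transpose_transpose]
      exact mul_eq_one_comm.mp hg2

theorem OA_inv_val {g : (Matrix U U ℝ)ˣ} (hg : g ∈ OA β) :
    ((g⁻¹ : (Matrix U U ℝ)ˣ) : Matrix U U ℝ) = (g : Matrix U U ℝ)ᵀ :=
  Units.inv_eq_of_mul_eq_one_left hg.2

theorem zp_conj (e : ZMod 2) (g X : (Matrix U U ℝ)ˣ) :
    g * (zp e * X) * g⁻¹ = zp e * (g * X * g⁻¹) := by
  rw [← mul_assoc g, ← zp_central e g]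
  simp only [mul_assoc]

variable {K : Type*} [Group K] (ρ : Representation (ZMod 2) K U)

/-- units permuting the `±L u` according to some `k : K` -/
def NK : Subgroup (Matrix U U ℝ)ˣ where
  carrier := {g | ∃ k : K, ∀ w, ∃ e : ZMod 2, g * Lu β w * g⁻¹ = zp e * Lu β (ρ k w)}
  one_mem' := ⟨1, fun w => ⟨0, by simp [zp_zero]⟩⟩
  mul_mem' := by
    rintro g h ⟨k1, h1⟩ ⟨k2, h2⟩
    refine ⟨k1 * k2, fun w => ?_⟩
    obtain ⟨e2, he2⟩ := h2 w
    obtain ⟨e1, he1⟩ := h1 (ρ k2 w)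
    refine ⟨e2 + e1, ?_⟩
    have : g * h * Lu β w * (g * h)⁻¹ = g * (h * Lu β w * h⁻¹) * g⁻¹ := by group
    rw [this, he2, zp_conj, he1, zp_add, map_mul, Module.End.mul_apply, mul_assoc]
  inv_mem' := by
    rintro g ⟨k, hk⟩
    refine ⟨k⁻¹, fun w => ?_⟩
    obtain ⟨e, he⟩ := hk (ρ k⁻¹ w)
    have h1 : ρ k (ρ k⁻¹ w) = w := by
      rw [← Module.End.mul_apply, ← map_mul, mul_inv_cancel, map_one, Module.End.one_apply]
    rw [h1] at he
    refine ⟨e, ?_⟩
    rw [inv_inv]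
    have h2 : Lu β w = zp e * (g * Lu β (ρ k⁻¹ w) * g⁻¹) := by
      rw [he, ← mul_assoc, zp_mul_self, one_mul]
    rw [h2]
    have h3 := zp_conj e g⁻¹ (g * Lu β (ρ k⁻¹ w) * g⁻¹)
    rw [inv_inv] at h3
    rw [h3]
    congr 1
    group

/-- the group `R₀` -/
def R0 : Subgroup (Matrix U U ℝ)ˣ := OA β ⊓ NK β ρ

variable (hρ : Function.Injective ρ)

include hρ in
theorem k_unique {g : (Matrix U U ℝ)ˣ} {k k' : K}
    (h : ∀ w, ∃ e : ZMod 2, g * Lu β w * g⁻¹ = zp e * Lu β (ρ k w))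
    (h' : ∀ w, ∃ e : ZMod 2, g * Lu β w * g⁻¹ = zp e * Lu β (ρ k' w)) : k = k' := by
  apply hρ
  apply LinearMap.ext
  intro w
  obtain ⟨e, he⟩ := h w
  obtain ⟨e', he'⟩ := h' w
  exact zpLu_eq β (he.symm.trans he')

/-- the element of `K` attached to a member of `R₀` -/
def kOf (g : ↥(R0 β ρ)) : K := Classical.choose g.2.2

theorem kOf_spec (g : ↥(R0 β ρ)) :
    ∀ w, ∃ e : ZMod 2, (g : (Matrix U U ℝ)ˣ) * Lu β w * (g : (Matrix U U ℝ)ˣ)⁻¹
      = zp e * Lu β (ρ (kOf β ρ g) w) :=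
  Classical.choose_spec g.2.2

include hρ in
theorem kOf_eq (g : ↥(R0 β ρ)) {k : K}
    (h : ∀ w, ∃ e : ZMod 2, (g : (Matrix U U ℝ)ˣ) * Lu β w * (g : (Matrix U U ℝ)ˣ)⁻¹
      = zp e * Lu β (ρ k w)) : kOf β ρ g = k :=
  k_unique β ρ hρ (kOf_spec β ρ g) h

end

end Cfsg.Agent.Helper19.ExtClif
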