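import Mathlib
import Cfsg.Agent.Lib.Helper19.ExtClif4

/-!
# Extension data on the group `R₀` (helper19)
-/

set_option autoImplicit false
set_option linter.unusedSectionVars false
set_option linter.style.haveILetI false

namespace Cfsg.Agent.Helper19.ExtClif

noncomputable section

open scoped Matrix

variable {U : Type*} [AddCommGroup U] [Module (ZMod 2) U] [Fintype U] [DecidableEq U]
variable (β : LinearMap.BilinForm (ZMod 2) U)
variable {K : Type*} [Group K] (ρ : Representation (ZMod 2) K U)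

theorem zp_mem (e : ZMod 2) : (zp e : (Matrix U U ℝ)ˣ) ∈ R0 β ρ := by
  refine ⟨⟨?_, ?_⟩, ⟨1, fun w => ⟨0, ?_⟩⟩⟩
  · rw [zp_val]; exact Subalgebra.smul_mem _ (Subalgebra.one_mem _) _
  · rw [zp_val, Matrix.transpose_smul, Matrix.transpose_one, Matrix.smul_mul, Matrix.one_mul,
      smul_smul, sg_mul_self, one_smul]
  · rw [zp_central, mul_inv_cancel_right, zp_zero, one_mul, map_one, Module.End.one_apply]

theorem Lu_mem (u : U) : Lu β u ∈ R0 β ρ := by
  refine ⟨⟨L_mem β u, L_transpose_mul β u⟩, ⟨1, fun w => ⟨β u w + β w u, ?_⟩⟩⟩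
  rw [Lu_conj, map_one, Module.End.one_apply]

variable (hρ : Function.Injective ρ)

/-- the projection onto `K` -/
def projHom : ↥(R0 β ρ) →* K where
  toFun := kOf β ρ
  map_one' := by
    apply kOf_eq β ρ hρ
    intro w
    exact ⟨0, by simp [zp_zero]⟩
  map_mul' := fun g h => by
    apply kOf_eq β ρ hρ
    intro w
    obtain ⟨e2, he2⟩ := kOf_spec β ρ h w
    obtain ⟨e1, he1⟩ := kOf_spec β ρ g (ρ (kOf β ρ h) w)
    refine ⟨e2 + e1, ?_⟩
    have : ((g * h : ↥(R0 β ρ)) : (Matrix U U ℝ)ˣ) * Lu β w * ((g * h : ↥(R0 β ρ)) : (Matrix U U ℝ)ˣ)⁻¹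
        = (g : (Matrix U U ℝ)ˣ) * ((h : (Matrix U U ℝ)ˣ) * Lu β w * (h : (Matrix U U ℝ)ˣ)⁻¹)
          * (g : (Matrix U U ℝ)ˣ)⁻¹ := by
      rw [Subgroup.coe_mul]; group
    rw [this, he2, zp_conj, he1, zp_add, map_mul, Module.End.mul_apply, mul_assoc]

theorem projHom_apply (g : ↥(R0 β ρ)) : projHom β ρ hρ g = kOf β ρ g := rfl

/-- the lift of `U` -/
def liftU (u : U) : ↥(R0 β ρ) := ⟨Lu β u, Lu_mem β ρ u⟩

/-- the central involution -/
def zz0 : ↥(R0 β ρ) := ⟨zp 1, zp_mem β ρ 1⟩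

theorem proj_liftU (u : U) : projHom β ρ hρ (liftU β ρ u) = 1 := by
  apply kOf_eq β ρ hρ
  intro w
  refine ⟨β u w + β w u, ?_⟩
  show Lu β u * Lu β w * (Lu β u)⁻¹ = _
  rw [Lu_conj, map_one, Module.End.one_apply]

theorem proj_zz0 : projHom β ρ hρ (zz0 β ρ) = 1 := by
  apply kOf_eq β ρ hρ
  intro w
  refine ⟨0, ?_⟩
  show zp 1 * Lu β w * (zp 1)⁻¹ = _
  rw [zp_central, mul_inv_cancel_right, zp_zero, one_mul, map_one, Module.End.one_apply]

theorem ite_zz0_val (e : ZMod 2) :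
    (((if e = 0 then (1 : ↥(R0 β ρ)) else zz0 β ρ) : ↥(R0 β ρ)) : (Matrix U U ℝ)ˣ) = zp e := by
  rcases zmod2_cases e with rfl | rfl
  · rw [if_pos rfl, zp_zero]; rfl
  · rw [if_neg (by decide)]; rfl

variable (hnd : ∀ u : U, (∀ w, β u w + β w u = 0) → u = 0)

include hnd in
theorem ker_projHom (r : ↥(R0 β ρ)) (hr : projHom β ρ hρ r = 1) :
    ∃ u, r = liftU β ρ u ∨ r = zz0 β ρ * liftU β ρ u := by
  have hspec := kOf_spec β ρ r
  rw [projHom_apply] at hr
  rw [hr] at hspec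
  set x : Matrix U U ℝ := ((r : (Matrix U U ℝ)ˣ) : Matrix U U ℝ) with hx
  have hxA : x ∈ Acl β := r.2.1.1
  have hxo : xᵀ * x = 1 := r.2.1.2
  have hsign : ∀ w, ∃ e : ZMod 2, x * L β w = sg e • (L β w * x) := by
    intro w
    obtain ⟨e, he⟩ := hspec w
    refine ⟨e, ?_⟩
    rw [map_one, Module.End.one_apply, mul_inv_eq_iff_eq_mul] at he
    have := congrArg (fun g : (Matrix U U ℝ)ˣ => (g : Matrix U U ℝ)) he
    simp only [Units.val_mul, zp_val, Lu_val, Matrix.smul_mul, Matrix.one_mul] at this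
    exact this
  obtain ⟨v, hv⟩ := eq_smul_L_of_sign β hnd hxA hsign
  set a : ℝ := x v 0 with ha
  have ha2 : a * a = 1 := by
    have h1 : xᵀ * x = (a * a) • (1 : Matrix U U ℝ) := by
      rw [hv, Matrix.transpose_smul, Matrix.smul_mul, Matrix.mul_smul, smul_smul, L_transpose_mul]
    rw [hxo] at h1
    have h2 := congrFun (congrFun h1 0) 0
    rw [Matrix.smul_apply, Matrix.one_apply_eq, smul_eq_mul, mul_one] at h2
    exact h2.symm
  have ha' : a = 1 ∨ a = -1 := by
    have : (a - 1) * (a + 1) = 0 := by ring_nf; rw [sq, ha2]; ring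
    rcases mul_eq_zero.mp this with h | h
    · left; linarith
    · right; linarith
  refine ⟨v, ?_⟩
  rcases ha' with h1 | h1
  · left
    apply Subtype.ext
    apply Units.ext
    show x = L β v
    rw [hv, h1, one_smul]
  · right
    apply Subtype.ext
    apply Units.ext
    show x = ((zp 1 * Lu β v : (Matrix U U ℝ)ˣ) : Matrix U U ℝ)
    rw [Units.val_mul, zp_val, Lu_val, sg_one, Matrix.smul_mul, Matrix.one_mul, hv, h1]

variable (hinv1 : ∀ (k : K) (u : U), β (ρ k u) (ρ k u) = β u u)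
variable (hinv2 : ∀ (k : K) (u v : U), β (ρ k u) (ρ k v) + β (ρ k v) (ρ k u) = β u v + β v u)

include hnd hinv1 hinv2 in
theorem projHom_surjective : Function.Surjective (projHom β ρ hρ) := by
  intro k
  set κ : U →ₗ[ZMod 2] U := ρ k with hκ
  have hchar : ∀ a : ZMod 2, a + a = 0 := by decide
  obtain ⟨c, hc⟩ := exists_c_of_alt (β.compl₁₂ κ κ + β)
    (by
      intro u
      rw [LinearMap.add_apply, LinearMap.add_apply, LinearMap.compl₁₂_apply, hκ, hinv1, hchar])
    (by
      intro u v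
      rw [LinearMap.add_apply, LinearMap.add_apply, LinearMap.compl₁₂_apply,
        LinearMap.add_apply, LinearMap.add_apply, LinearMap.compl₁₂_apply, hκ]
      have h := hinv2 k u v
      have e1 : β (ρ k u) (ρ k v) = β (ρ k v) (ρ k u) + (β u v + β v u) := by
        rw [← h, add_comm (β (ρ k u) (ρ k v)), ← add_assoc, hchar, zero_add]
      rw [e1, add_assoc, add_assoc, add_comm (β v u) (β u v), ← add_assoc (β u v), hchar, zero_add])
  have hc' : ∀ u v, c (u + v) = c u + c v + β (κ u) (κ v) + β u v := by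
    intro u v
    rw [hc u v, LinearMap.add_apply, LinearMap.add_apply, LinearMap.compl₁₂_apply]
    ring
  obtain ⟨h, hA, ho, hint⟩ := exists_orth_intertwiner β κ c hc' hnd
  have ho' : h * hᵀ = 1 := mul_eq_one_comm.mp ho
  set g : (Matrix U U ℝ)ˣ := ⟨h, hᵀ, ho', ho⟩ with hg
  have hrel : ∀ w, g * Lu β w * g⁻¹ = zp (c w) * Lu β (ρ k w) := by
    intro w
    rw [mul_inv_eq_iff_eq_mul]
    apply Units.ext
    rw [Units.val_mul, Units.val_mul, Units.val_mul, zp_val, Lu_val, Lu_val, Matrix.smul_mul,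
      Matrix.one_mul]
    show h * L β w = sg (c w) • L β (ρ k w) * h
    rw [hint w]
    rfl
  have hmem : g ∈ R0 β ρ := ⟨⟨hA, ho⟩, ⟨k, fun w => ⟨c w, hrel w⟩⟩⟩
  refine ⟨⟨g, hmem⟩, ?_⟩
  apply kOf_eq β ρ hρ
  intro w
  exact ⟨c w, hrel w⟩

include hρ hnd hinv1 hinv2 in
/-- the extension data on `R₀` -/
theorem extData_R0 : Nonempty (ExtData ρ β ↥(R0 β ρ)) := by
  refine ⟨{
    proj := projHom β ρ hρ
    zz := zz0 β ρ
    lift := liftU β ρ
    surj := projHom_surjective β ρ hρ hnd hinv1 hinv2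
    zz_ne := ?_
    zz_sq := ?_
    zz_central := ?_
    lift_mul := ?_
    proj_lift := proj_liftU β ρ hρ
    proj_zz := proj_zz0 β ρ hρ
    ker := ker_projHom β ρ hρ hnd
    lift_inj := ?_
    conj := ?_ }⟩
  · intro h
    have h1 := congrArg (fun r : ↥(R0 β ρ) => ((r : (Matrix U U ℝ)ˣ) : Matrix U U ℝ) 0 0) h
    simp only [zz0, zp_val, sg_one, Matrix.smul_apply, Matrix.one_apply_eq, OneMemClass.coe_one,
      Units.val_one, smul_eq_mul, mul_one] at h1
    norm_num at h1
  · apply Subtype.ext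
    exact zp_mul_self 1
  · intro r
    apply Subtype.ext
    exact (zp_central 1 (r : (Matrix U U ℝ)ˣ)).symm
  · intro u v
    apply Subtype.ext
    rw [Subgroup.coe_mul, Subgroup.coe_mul, ite_zz0_val]
    exact Lu_mul β u v
  · intro u hu
    rcases hu with hu | hu
    · have h1 : (zp 0 : (Matrix U U ℝ)ˣ) * Lu β u = zp 0 * Lu β 0 := by
        rw [zp_zero, one_mul, one_mul, Lu_zero]
        exact congrArg Subtype.val hu
      exact zpLu_eq β h1
    · have h1 : (zp 0 : (Matrix U U ℝ)ˣ) * Lu β u = zp 1 * Lu β 0 := by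
        rw [zp_zero, one_mul, Lu_zero, mul_one]
        exact congrArg Subtype.val hu
      exact zpLu_eq β h1
  · intro r u
    obtain ⟨e, he⟩ := kOf_spec β ρ r u
    rcases zmod2_cases e with rfl | rfl
    · left
      apply Subtype.ext
      rw [zp_zero, one_mul] at he
      exact he
    · right
      apply Subtype.ext
      exact he

end

end Cfsg.Agent.Helper19.ExtClif
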