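import Mathlib
import Cfsg.Prelude.Def_Transfer
import Cfsg.Agent.Lib.Helper19.ExtClif0
import Cfsg.Agent.Lib.Helper23.PGroup
import Cfsg.Agent.Lib.Helper9.FrattiniElem

/-!
# From extension data to the extraspecial normal subgroup (helper19)
-/

set_option autoImplicit false
set_option linter.unusedSectionVars false
set_option linter.style.haveILetI false

namespace Cfsg.Agent.Helper19.ExtClif

noncomputable section

namespace ExtData

open scoped commutatorElement

variable {K U : Type*} [Group K] [AddCommGroup U] [Module (ZMod 2) U]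
variable {ρ : Representation (ZMod 2) K U} {β : LinearMap.BilinForm (ZMod 2) U}
variable {R : Type*} [Group R] (D : ExtData ρ β R)

theorem zmod2_cases' (a : ZMod 2) : a = 0 ∨ a = 1 := by
  revert a; decide

theorem hchar (a : ZMod 2) : a + a = 0 := by
  revert a; decide

/-- powers of the central involution indexed by `ZMod 2` -/
def zpw (e : ZMod 2) : R := if e = 0 then 1 else D.zz

theorem zpw_zero : D.zpw 0 = 1 := by simp [zpw]

theorem zpw_one : D.zpw 1 = D.zz := by
  have : (1 : ZMod 2) ≠ 0 := by decide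
  simp [zpw, this]

theorem zpw_add (a b : ZMod 2) : D.zpw (a + b) = D.zpw a * D.zpw b := by
  rcases zmod2_cases' a with rfl | rfl <;> rcases zmod2_cases' b with rfl | rfl
  · simp [zpw_zero]
  · simp [zpw_zero]
  · simp [zpw_zero]
  · rw [hchar, zpw_zero, zpw_one, D.zz_sq]

theorem zpw_central (e : ZMod 2) (r : R) : D.zpw e * r = r * D.zpw e := by
  rcases zmod2_cases' e with rfl | rfl
  · simp [zpw_zero]
  · rw [zpw_one]; exact (D.zz_central r).symm

theorem zpw_mul_self (e : ZMod 2) : D.zpw e * D.zpw e = 1 := by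
  rw [← zpw_add, hchar, zpw_zero]

theorem zpw_eq_one_iff (e : ZMod 2) : D.zpw e = 1 ↔ e = 0 := by
  rcases zmod2_cases' e with rfl | rfl
  · simp [zpw_zero]
  · rw [zpw_one]
    constructor
    · intro h; exact absurd h D.zz_ne
    · intro h; exact absurd h (by decide)

theorem zpw_inj {e e' : ZMod 2} (h : D.zpw e = D.zpw e') : e = e' := by
  have h1 : D.zpw (e + e') = 1 := by rw [zpw_add, h, zpw_mul_self]
  have h2 := (D.zpw_eq_one_iff _).1 h1
  calc e = e + (e' + e') := by rw [hchar, add_zero]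
    _ = (e + e') + e' := by rw [add_assoc]
    _ = e' := by rw [h2, zero_add]

theorem proj_zpw (e : ZMod 2) : D.proj (D.zpw e) = 1 := by
  rcases zmod2_cases' e with rfl | rfl
  · rw [zpw_zero, map_one]
  · rw [zpw_one, D.proj_zz]

theorem lift_mul' (u v : U) : D.lift u * D.lift v = D.zpw (β u v) * D.lift (u + v) :=
  D.lift_mul u v

theorem lift_zero : D.lift 0 = 1 := by
  have h := D.lift_mul' 0 0
  simp only [map_zero, zpw_zero, one_mul, add_zero] at h
  exact mul_left_cancel (a := D.lift 0) (by rw [h, mul_one])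

theorem add_self'' (u : U) : u + u = 0 := by
  have h : (1 + 1 : ZMod 2) = 0 := by decide
  calc u + u = (1 + 1 : ZMod 2) • u := by rw [add_smul, one_smul]
    _ = 0 := by rw [h, zero_smul]

theorem lift_sq (u : U) : D.lift u * D.lift u = D.zpw (β u u) := by
  rw [lift_mul', add_self'', lift_zero, mul_one]

theorem lift_eq_zpw {u : U} {e : ZMod 2} (h : D.lift u = D.zpw e) : u = 0 := by
  apply D.lift_inj
  rcases zmod2_cases' e with rfl | rfl
  · left; rw [h, zpw_zero]
  · right; rw [h, zpw_one]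

/-- general product formula -/
theorem zl_mul (e e' : ZMod 2) (u u' : U) :
    (D.zpw e * D.lift u) * (D.zpw e' * D.lift u') = D.zpw (e + e' + β u u') * D.lift (u + u') := by
  rw [zpw_add, zpw_add]
  calc D.zpw e * D.lift u * (D.zpw e' * D.lift u')
      = D.zpw e * (D.lift u * D.zpw e') * D.lift u' := by simp only [mul_assoc]
    _ = D.zpw e * (D.zpw e' * D.lift u) * D.lift u' := by rw [← D.zpw_central e' (D.lift u)]
    _ = D.zpw e * D.zpw e' * (D.lift u * D.lift u') := by simp only [mul_assoc]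
    _ = D.zpw e * D.zpw e' * D.zpw (β u u') * D.lift (u + u') := by
        rw [lift_mul']; simp only [mul_assoc]

theorem zl_unique {e e' : ZMod 2} {u u' : U}
    (h : D.zpw e * D.lift u = D.zpw e' * D.lift u') : u = u' ∧ e = e' := by
  have h1 : (D.zpw e * D.lift u) * (D.zpw 0 * D.lift u') = (D.zpw e' * D.lift u') * (D.zpw 0 * D.lift u') := by
    rw [h]
  rw [zl_mul, zl_mul, add_self'', lift_zero, mul_one] at h1
  have h2 : D.lift (u + u') = D.zpw (e + 0 + β u u' + (e' + 0 + β u' u')) := by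
    rw [zpw_add, ← h1, ← mul_assoc, zpw_mul_self, one_mul]
  have h3 : u + u' = 0 := D.lift_eq_zpw h2
  have h4 : u = u' := by
    calc u = u + (u' + u') := by rw [add_self'', add_zero]
      _ = (u + u') + u' := by rw [add_assoc]
      _ = u' := by rw [h3, zero_add]
  refine ⟨h4, ?_⟩
  rw [h4] at h
  exact D.zpw_inj (mul_right_cancel h)

theorem ker' (r : R) (hr : D.proj r = 1) : ∃ (e : ZMod 2) (u : U), r = D.zpw e * D.lift u := by
  obtain ⟨u, h | h⟩ := D.ker r hr
  · exact ⟨0, u, by rw [zpw_zero, one_mul, h]⟩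
  · exact ⟨1, u, by rw [zpw_one, h]⟩

theorem proj_zl (e : ZMod 2) (u : U) : D.proj (D.zpw e * D.lift u) = 1 := by
  rw [map_mul, proj_zpw, D.proj_lift, one_mul]

open Classical in
/-- the underlying function of `χ` -/
def chiFun (r : R) : U :=
  if h : ∃ (e : ZMod 2) (u : U), r = D.zpw e * D.lift u then Classical.choose (Classical.choose_spec h)
  else 0

theorem chiFun_zl (e : ZMod 2) (u : U) : D.chiFun (D.zpw e * D.lift u) = u := by
  have h : ∃ (e' : ZMod 2) (u' : U), D.zpw e * D.lift u = D.zpw e' * D.lift u' := ⟨e, u, rfl⟩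
  unfold chiFun
  rw [dif_pos h]
  exact ((D.zl_unique (Classical.choose_spec (Classical.choose_spec h))).1).symm

/-- the homomorphism `χ` -/
def chi : ↥D.proj.ker →* Multiplicative U where
  toFun a := Multiplicative.ofAdd (D.chiFun (a : R))
  map_one' := by
    have : ((1 : ↥D.proj.ker) : R) = D.zpw 0 * D.lift 0 := by
      rw [zpw_zero, lift_zero, one_mul]; rfl
    rw [this, chiFun_zl]; rfl
  map_mul' := by
    intro a b
    obtain ⟨e, u, hu⟩ := D.ker' a a.2
    obtain ⟨e', u', hu'⟩ := D.ker' b b.2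
    rw [Subgroup.coe_mul, hu, hu', zl_mul, chiFun_zl, chiFun_zl, chiFun_zl]
    rfl

theorem chi_apply (a : ↥D.proj.ker) : D.chi a = Multiplicative.ofAdd (D.chiFun (a : R)) := rfl

/-- elements of the kernel -/
def zlQ (e : ZMod 2) (u : U) : ↥D.proj.ker := ⟨D.zpw e * D.lift u, D.proj_zl e u⟩

theorem exists_zlQ (a : ↥D.proj.ker) : ∃ (e : ZMod 2) (u : U), a = D.zlQ e u := by
  obtain ⟨e, u, h⟩ := D.ker' a a.2
  exact ⟨e, u, Subtype.ext h⟩

theorem chi_zlQ (e : ZMod 2) (u : U) : D.chi (D.zlQ e u) = Multiplicative.ofAdd u := by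
  rw [chi_apply]; exact congrArg _ (D.chiFun_zl e u)

theorem chi_surjective : Function.Surjective D.chi := by
  intro u
  exact ⟨D.zlQ 0 (Multiplicative.toAdd u), by rw [chi_zlQ]; rfl⟩

theorem zlQ_mul (e e' : ZMod 2) (u u' : U) :
    D.zlQ e u * D.zlQ e' u' = D.zlQ (e + e' + β u u') (u + u') :=
  Subtype.ext (D.zl_mul e e' u u')

theorem zlQ_bijective : Function.Bijective (fun p : ZMod 2 × U => D.zlQ p.1 p.2) := by
  constructor
  · rintro ⟨e, u⟩ ⟨e', u'⟩ h
    have := D.zl_unique (congrArg Subtype.val h)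
    exact Prod.ext this.2 this.1
  · intro a
    obtain ⟨e, u, h⟩ := D.exists_zlQ a
    exact ⟨(e, u), h.symm⟩

theorem card_ker : Nat.card ↥D.proj.ker = 2 * Nat.card U := by
  rw [← Nat.card_congr (Equiv.ofBijective _ D.zlQ_bijective), Nat.card_prod, Nat.card_zmod]

variable (hnd : ∀ u : U, (∀ w, β u w + β w u = 0) → u = 0)

include hnd in
theorem mem_center_iff (a : ↥D.proj.ker) :
    a ∈ Subgroup.center ↥D.proj.ker ↔ ∃ e, a = D.zlQ e 0 := by
  constructor
  · intro ha
    obtain ⟨e, u, rfl⟩ := D.exists_zlQ a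
    refine ⟨e, ?_⟩
    have hu : u = 0 := by
      apply hnd
      intro w
      have h1 := Subgroup.mem_center_iff.mp ha (D.zlQ 0 w)
      rw [zlQ_mul, zlQ_mul] at h1
      have h2 := D.zl_unique (congrArg Subtype.val h1)
      have h3 := h2.2
      have : β u w = β w u := by
        have e1 : (0 : ZMod 2) + e + β w u = e + β w u := by rw [zero_add]
        have e2 : e + 0 + β u w = e + β u w := by rw [add_zero]
        rw [e1, e2] at h3
        exact (add_left_cancel h3).symm
      rw [this, hchar]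
    rw [hu]
  · rintro ⟨e, rfl⟩
    rw [Subgroup.mem_center_iff]
    intro b
    obtain ⟨e', u', rfl⟩ := D.exists_zlQ b
    rw [zlQ_mul, zlQ_mul]
    simp only [map_zero, LinearMap.zero_apply, add_zero, zero_add]
    rw [add_comm e' e]

include hnd in
theorem ker_chi_eq_center : D.chi.ker = Subgroup.center ↥D.proj.ker := by
  ext a
  rw [D.mem_center_iff hnd, MonoidHom.mem_ker]
  obtain ⟨e, u, rfl⟩ := D.exists_zlQ a
  rw [chi_zlQ]
  constructor
  · intro h
    have : u = 0 := h
    exact ⟨e, by rw [this]⟩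
  · rintro ⟨e', h⟩
    have := (D.zl_unique (congrArg Subtype.val h)).1
    rw [this]; rfl

theorem zlQ_sq (e : ZMod 2) (u : U) : D.zlQ e u * D.zlQ e u = D.zlQ (β u u) 0 := by
  rw [zlQ_mul, hchar, zero_add, add_self'']

theorem zlQ_eq_one_iff (e : ZMod 2) : D.zlQ e 0 = 1 ↔ e = 0 := by
  rw [← D.zpw_eq_one_iff]
  constructor
  · intro h
    have := congrArg Subtype.val h
    simpa [zlQ, lift_zero] using this
  · intro h
    apply Subtype.ext
    simp [zlQ, lift_zero, h]

theorem sq_eq_one_iff (a : ↥D.proj.ker) :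
    a * a = 1 ↔ β (Multiplicative.toAdd (D.chi a)) (Multiplicative.toAdd (D.chi a)) = 0 := by
  obtain ⟨e, u, rfl⟩ := D.exists_zlQ a
  rw [zlQ_sq, chi_zlQ, zlQ_eq_one_iff]
  rfl

theorem chi_conj (r : R) (a : ↥D.proj.ker) (h : r * (a : R) * r⁻¹ ∈ D.proj.ker) :
    D.chi ⟨r * (a : R) * r⁻¹, h⟩
      = Multiplicative.ofAdd (ρ (D.proj r) (Multiplicative.toAdd (D.chi a))) := by
  obtain ⟨e, u, rfl⟩ := D.exists_zlQ a
  rw [chi_zlQ, chi_apply]
  apply congrArg
  show D.chiFun (r * (D.zpw e * D.lift u) * r⁻¹) = _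
  have h1 : r * (D.zpw e * D.lift u) * r⁻¹ = D.zpw e * (r * D.lift u * r⁻¹) := by
    rw [← mul_assoc r, ← zpw_central]
    simp only [mul_assoc]
  rw [h1]
  rcases D.conj r u with h2 | h2
  · rw [h2, chiFun_zl]; rfl
  · rw [h2, ← zpw_one, ← mul_assoc, ← zpw_add, chiFun_zl]; rfl

include hnd in
theorem card_center : Nat.card ↥(Subgroup.center ↥D.proj.ker) = 2 := by
  have hbij : Function.Bijective (fun e : ZMod 2 =>
      (⟨D.zlQ e 0, (D.mem_center_iff hnd _).2 ⟨e, rfl⟩⟩ : ↥(Subgroup.center ↥D.proj.ker))) := by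
    constructor
    · intro e e' h
      have h1 : D.zlQ e 0 = D.zlQ e' 0 := congrArg Subtype.val h
      exact (D.zl_unique (congrArg Subtype.val h1)).2
    · rintro ⟨a, ha⟩
      obtain ⟨e, he⟩ := (D.mem_center_iff hnd a).1 ha
      exact ⟨e, Subtype.ext he.symm⟩
  rw [← Nat.card_congr (Equiv.ofBijective _ hbij), Nat.card_zmod]

include hnd in
theorem center_le_commutator (hU : ∃ u : U, u ≠ 0) :
    Subgroup.center ↥D.proj.ker ≤ commutator ↥D.proj.ker := by
  obtain ⟨u, hu⟩ := hU
  have h1 : ¬ ∀ w, β u w + β w u = 0 := fun h => hu (hnd u h)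
  push Not at h1
  obtain ⟨w, hw⟩ := h1
  have hw1 : β u w + β w u = 1 := by
    rcases zmod2_cases' (β u w + β w u) with h | h
    · exact absurd h hw
    · exact h
  intro a ha
  obtain ⟨e, rfl⟩ := (D.mem_center_iff hnd a).1 ha
  rcases zmod2_cases' e with rfl | rfl
  · rw [(D.zlQ_eq_one_iff 0).2 rfl]
    exact Subgroup.one_mem _
  · have hxy : D.zlQ 0 u * D.zlQ 0 w = D.zlQ 1 0 * (D.zlQ 0 w * D.zlQ 0 u) := by
      rw [zlQ_mul, zlQ_mul, zlQ_mul]
      simp only [map_zero, LinearMap.zero_apply, add_zero, zero_add]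
      have e1 : (1 : ZMod 2) + β w u = β u w := by
        rw [← hw1, add_assoc, hchar, add_zero]
      rw [e1, add_comm w u]
    have hcomm : ⁅D.zlQ 0 u, D.zlQ 0 w⁆ = D.zlQ 1 0 := by
      rw [commutatorElement_def, hxy]
      group
    rw [← hcomm, commutator_def]
    exact Subgroup.commutator_mem_commutator (Subgroup.mem_top _) (Subgroup.mem_top _)

include D hnd in
theorem conclusion [Finite K] (n : ℕ) (hn1 : 1 ≤ n) (hcard : Nat.card U = 2 ^ (2 * n)) :
    ∃ (_ : Finite R) (Q : Subgroup R) (hN : Q.Normal) (e : R ⧸ Q ≃* K)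
      (χ : ↥Q →* Multiplicative U),
      Cfsg.IsExtraspecial 2 ↥Q ∧ Nat.card ↥Q = 2 ^ (2 * n + 1) ∧ Function.Surjective χ ∧
      χ.ker = Subgroup.center ↥Q ∧
      (∀ (r : R) (a : ↥Q), χ ⟨r * a * r⁻¹, hN.conj_mem (a : R) a.2 r⟩ =
        Multiplicative.ofAdd (ρ (e (r : R ⧸ Q)) (Multiplicative.toAdd (χ a)))) ∧
      ∀ a : ↥Q, a * a = 1 ↔
        β (Multiplicative.toAdd (χ a)) (Multiplicative.toAdd (χ a)) = 0 := by
  have hUpos : Nat.card U ≠ 0 := by rw [hcard]; positivity
  have hUfin : Finite U := Nat.finite_of_card_ne_zero hUpos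
  have hcardQ : Nat.card ↥D.proj.ker = 2 ^ (2 * n + 1) := by
    rw [D.card_ker, hcard, pow_succ]; ring
  have hQfin : Finite ↥D.proj.ker :=
    Nat.finite_of_card_ne_zero (by rw [hcardQ]; positivity)
  have hRfin : Finite R := (D.proj.finite_iff_finite_ker_range).2 ⟨hQfin, inferInstance⟩
  have hUne : ∃ u : U, u ≠ 0 := by
    by_contra h
    push Not at h
    have : Subsingleton U := ⟨fun a b => by rw [h a, h b]⟩
    have h1 : Nat.card U = 1 := Nat.card_unique
    rw [hcard] at h1
    have h2 : 2 ^ 1 ≤ 2 ^ (2 * n) := Nat.pow_le_pow_right (by norm_num) (by omega)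
    omega
  have hp : IsPGroup 2 ↥D.proj.ker := IsPGroup.of_card hcardQ
  have h1 : frattini ↥D.proj.ker ≤ D.chi.ker :=
    Cfsg.Agent.Helper9.frattini_le_ker_of_elementary (p := 2) D.chi (fun a b => mul_comm a b)
      (by
        intro a
        rw [sq]
        show Multiplicative.ofAdd (Multiplicative.toAdd a + Multiplicative.toAdd a)
          = Multiplicative.ofAdd 0
        rw [add_self''])
  rw [D.ker_chi_eq_center hnd] at h1
  have h2 : commutator ↥D.proj.ker ≤ frattini ↥D.proj.ker :=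
    Cfsg.Agent.Helper23.commutator_le_frattini_pgroup 2 hp
  have h3 := D.center_le_commutator hnd hUne
  refine ⟨hRfin, D.proj.ker, inferInstance,
    QuotientGroup.quotientKerEquivOfSurjective D.proj D.surj, D.chi, ?_, hcardQ, D.chi_surjective,
    D.ker_chi_eq_center hnd, ?_, D.sq_eq_one_iff⟩
  · refine ⟨⟨hp, ?_, ?_⟩, D.card_center hnd⟩
    · exact le_antisymm h1 (h3.trans h2)
    · exact le_antisymm (h2.trans h1) h3
  · intro r a
    exact D.chi_conj r a _

end ExtData

end

end Cfsg.Agent.Helper19.ExtClif
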