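import Mathlib
import Cfsg.Agent.Lib.Helper19.F4INCONJCore
import Cfsg.Agent.Lib.Helper12.F4ISURJ

/-!
# `²F₄(q)`: the central involution `U4 0 c` is not conjugate to `U1 t`  (piece NCONJ of S2184)
-/

set_option autoImplicit false
set_option linter.unusedSectionVars false
set_option linter.unusedSimpArgs false
set_option linter.unusedVariables false

namespace Cfsg.Agent.Helper11.F4I

open Cfsg Cfsg.Lie Cfsg.Agent.Lead.Chev Cfsg.Agent.Lead.Tw

variable {K : Type*} [Field K] [Fintype K] [CharP K 2] {m : ℕ} (hK : Fintype.card K = 2 ^ (2 * m + 1))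
  (hperf : ∀ x : K, ∃ y : K, y ^ 2 = x) (f : K ≃+* K) (hf : ∀ t, f t = t ^ (2 ^ m))
include hK hperf hf

/-- PIECE NCONJ -/
theorem not_conj (c t : K) (hc : c ≠ 0) (ht : t ≠ 0) : ¬ CJ (2 ^ m) (U4 f 0 c) (U1 f t) :=
  not_conj_core hK hperf f hf (exists_NF hK hperf f hf) c t hc ht

end Cfsg.Agent.Helper11.F4I
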