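import Mathlib
import Cfsg.Agent.Lib.Helper19.FC5Defs

/-!
# S4291: uniqueness of the normal subgroup (helper19)

`unique_core` proves the uniqueness part of S4291 from five facts supplied as hypotheses:
the triviality of normal subgroups with cyclic Sylow `2`-subgroups in `A₄, S₄, A₅, S₅`, and the
bound `4` for the index of a normal subgroup with quotient of exponent `2`.
-/

set_option autoImplicit false
set_option linter.unusedSectionVars false
set_option linter.unusedVariables false
set_option linter.style.haveILetI false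
set_option linter.unusedSimpArgs false

namespace Cfsg.Agent.Helper19.FC5

theorem cycSyl_of_surjective {A B : Type*} [Group A] [Group B] [Finite A] (f : A →* B)
    (hf : Function.Surjective f) (hA : CycSyl A) : CycSyl B := by
  intro p _ Q
  haveI : Finite B := Finite.of_surjective f hf
  let P : Sylow p A := default
  have hP : IsCyclic (P.mapSurjective hf) := by
    haveI := hA p P
    have hs : Function.Surjective (f.subgroupMap (P : Subgroup A)) :=
      f.subgroupMap_surjective (P : Subgroup A)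
    have h1 : IsCyclic ((P : Subgroup A).map f) := isCyclic_of_surjective _ hs
    have h2 : ((P.mapSurjective hf : Sylow p B) : Subgroup B) = (P : Subgroup A).map f :=
      Sylow.coe_mapSurjective hf P
    exact h2 ▸ h1
  obtain ⟨g, hg⟩ := MulAction.exists_smul_eq B (P.mapSurjective hf) Q
  haveI := hP
  have e := Sylow.equivSMul (P.mapSurjective hf) g
  rw [hg] at e
  exact isCyclic_of_surjective e.toMonoidHom e.surjective

theorem not_cycSyl_dihedral_two : ¬ CycSyl (DihedralGroup 2) := by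
  intro h
  haveI : Fact (Nat.Prime 2) := ⟨Nat.prime_two⟩
  have h2 : IsPGroup 2 (DihedralGroup 2) := by
    apply IsPGroup.of_card (n := 2)
    rw [DihedralGroup.nat_card]; norm_num
  let P : Sylow 2 (DihedralGroup 2) := default
  have hP : (P : Subgroup (DihedralGroup 2)) = ⊤ :=
    (P.is_maximal' (Q := ⊤) (h2.to_subgroup ⊤) le_top).symm
  haveI := h 2 P
  have hc : IsCyclic (DihedralGroup 2) := by
    have e : (P : Subgroup (DihedralGroup 2)) ≃* DihedralGroup 2 := by
      rw [hP]; exact Subgroup.topEquiv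
    exact isCyclic_of_surjective e.toMonoidHom e.surjective
  exact IsKleinFour.not_isCyclic hc

/-- the image of a normal subgroup with cyclic Sylow subgroups -/
theorem map_facts {G Y : Type*} [Group G] [Finite G] [Group Y] (f : G →* Y)
    (hf : Function.Surjective f) (N : Subgroup G) (hn : N.Normal) (h : CycSyl N) :
    (N.map f).Normal ∧ ∀ P : Sylow 2 (N.map f), IsCyclic P := by
  haveI : Fact (Nat.Prime 2) := ⟨Nat.prime_two⟩
  refine ⟨hn.map f hf, fun P => ?_⟩
  exact cycSyl_of_surjective (f.subgroupMap N) (f.subgroupMap_surjective N) h 2 P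

/-- "big" subgroups: they contain every normal subgroup with cyclic Sylow subgroups and have index
more than four -/
def Big {G : Type*} [Group G] (N : Subgroup G) : Prop :=
  (∀ N' : Subgroup G, N'.Normal → CycSyl N' → N' ≤ N) ∧ 4 < N.index

theorem big_of_hom {G Y : Type*} [Group G] [Finite G] [Group Y] (f : G →* Y)
    (hf : Function.Surjective f) (hcard : 4 < Nat.card Y)
    (hY : ∀ (M : Subgroup Y) [M.Normal], (∀ P : Sylow 2 M, IsCyclic P) → M = ⊥) :
    Big f.ker := by
  constructor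
  · intro N' hn' h'
    obtain ⟨h1, h2⟩ := map_facts f hf N' hn' h'
    haveI := h1
    have h3 := hY (N'.map f) h2
    exact (Subgroup.map_eq_bot_iff N').mp h3
  · rw [Subgroup.index_ker, MonoidHom.range_eq_top.mpr hf]
    have : Nat.card (⊤ : Subgroup Y) = Nat.card Y := Nat.card_congr Subgroup.topEquiv.toEquiv
    rw [this]; exact hcard

theorem card_a4 : Nat.card (alternatingGroup (Fin 4)) = 12 := by
  have h := two_mul_nat_card_alternatingGroup (α := Fin 4)
  rw [Nat.card_eq_fintype_card (α := Equiv.Perm (Fin 4)), Fintype.card_perm, Fintype.card_fin] at h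
  have : Nat.factorial 4 = 24 := by decide
  omega

theorem card_a5 : Nat.card (alternatingGroup (Fin 5)) = 60 := by
  have h := two_mul_nat_card_alternatingGroup (α := Fin 5)
  rw [Nat.card_eq_fintype_card (α := Equiv.Perm (Fin 5)), Fintype.card_perm, Fintype.card_fin] at h
  have : Nat.factorial 5 = 120 := by decide
  omega

theorem card_s4 : Nat.card (Equiv.Perm (Fin 4)) = 24 := by
  rw [Nat.card_eq_fintype_card, Fintype.card_perm, Fintype.card_fin]; decide

theorem card_s5 : Nat.card (Equiv.Perm (Fin 5)) = 120 := by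
  rw [Nat.card_eq_fintype_card, Fintype.card_perm, Fintype.card_fin]; decide

section Core

variable {G : Type*} [Group G] [Finite G]
  (hU1a4 : ∀ (M : Subgroup (alternatingGroup (Fin 4))) [M.Normal],
    (∀ P : Sylow 2 M, IsCyclic P) → M = ⊥)
  (hU1s4 : ∀ (M : Subgroup (Equiv.Perm (Fin 4))) [M.Normal],
    (∀ P : Sylow 2 M, IsCyclic P) → M = ⊥)
  (hU1a5 : ∀ (M : Subgroup (alternatingGroup (Fin 5))) [M.Normal],
    (∀ P : Sylow 2 M, IsCyclic P) → M = ⊥)
  (hU1s5 : ∀ (M : Subgroup (Equiv.Perm (Fin 5))) [M.Normal],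
    (∀ P : Sylow 2 M, IsCyclic P) → M = ⊥)
  (hU2 : ∀ (M : Subgroup G) [M.Normal], (∀ g : G, g * g ∈ M) → M.index ≤ 4)

include hU1a4 hU1s4 hU1a5 hU1s5 in
theorem kind_of {N : Subgroup G} (q : QuotAlt N) :
    N = ⊤ ∨ (∃ f : G →* DihedralGroup 2, Function.Surjective f ∧ f.ker = N) ∨ Big N := by
  rcases q with h | h | ⟨f, hf, hk⟩ | ⟨f, hf, hk⟩ | ⟨f, hf, hk⟩ | ⟨f, hf, hk⟩
  · exact Or.inl h
  · exact Or.inr (Or.inl h)
  · right; right; rw [← hk]
    exact big_of_hom f hf (by rw [card_a4]; norm_num) hU1a4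
  · right; right; rw [← hk]
    exact big_of_hom f hf (by rw [card_s4]; norm_num) hU1s4
  · right; right; rw [← hk]
    exact big_of_hom f hf (by rw [card_a5]; norm_num) hU1a5
  · right; right; rw [← hk]
    exact big_of_hom f hf (by rw [card_s5]; norm_num) hU1s5

theorem index_of_dihedral {N : Subgroup G} (f : G →* DihedralGroup 2)
    (hf : Function.Surjective f) (hk : f.ker = N) : N.index = 4 := by
  rw [← hk, Subgroup.index_ker, MonoidHom.range_eq_top.mpr hf]
  have : Nat.card (⊤ : Subgroup (DihedralGroup 2)) = Nat.card (DihedralGroup 2) :=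
    Nat.card_congr Subgroup.topEquiv.toEquiv
  rw [this, DihedralGroup.nat_card]

theorem sq_mem_of_dihedral {N : Subgroup G} (f : G →* DihedralGroup 2) (hk : f.ker = N) (g : G) :
    g * g ∈ N := by
  rw [← hk, MonoidHom.mem_ker, map_mul]
  have h : ∀ y : DihedralGroup 2, y * y = 1 := by decide
  exact h _

include hU1a4 hU1s4 hU1a5 hU1s5 hU2 in
theorem le_of_quotAlt {N₁ N₂ : Subgroup G} (hn₁ : N₁.Normal) (hn₂ : N₂.Normal)
    (h₁ : CycSyl N₁) (h₂ : CycSyl N₂) (q₁ : QuotAlt N₁) (q₂ : QuotAlt N₂) : N₂ ≤ N₁ := by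
  rcases kind_of hU1a4 hU1s4 hU1a5 hU1s5 q₁ with k₁ | ⟨f₁, hf₁, hk₁⟩ | k₁
  · rw [k₁]; exact le_top
  · rcases kind_of hU1a4 hU1s4 hU1a5 hU1s5 q₂ with k₂ | ⟨f₂, hf₂, hk₂⟩ | k₂
    · exfalso
      rw [k₂] at h₂
      have hG : CycSyl G :=
        cycSyl_of_surjective (Subgroup.topEquiv : (⊤ : Subgroup G) ≃* G).toMonoidHom
          (Subgroup.topEquiv : (⊤ : Subgroup G) ≃* G).surjective h₂
      exact not_cycSyl_dihedral_two (cycSyl_of_surjective f₁ hf₁ hG)
    · haveI := hn₁
      haveI := hn₂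
      have hM : (N₁ ⊓ N₂).index ≤ 4 := by
        apply hU2
        intro g
        exact ⟨sq_mem_of_dihedral f₁ hk₁ g, sq_mem_of_dihedral f₂ hk₂ g⟩
      have h4 : N₂.index = 4 := index_of_dihedral f₂ hf₂ hk₂
      have hrel := Subgroup.relIndex_mul_index (inf_le_right : N₁ ⊓ N₂ ≤ N₂)
      rw [h4] at hrel
      have hpos : 0 < (N₁ ⊓ N₂).relIndex N₂ := by
        rcases Nat.eq_zero_or_pos ((N₁ ⊓ N₂).relIndex N₂) with h0 | h0
        · rw [h0, zero_mul] at hrel
          have : (N₁ ⊓ N₂).index ≠ 0 := Subgroup.index_ne_zero_of_finite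
          exact absurd hrel.symm this
        · exact h0
      have hone : (N₁ ⊓ N₂).relIndex N₂ = 1 := by nlinarith
      have := (Subgroup.relIndex_eq_one).mp hone
      exact le_trans this inf_le_left
    · exfalso
      have hle : N₁ ≤ N₂ := k₂.1 N₁ hn₁ h₁
      have h4 : N₁.index = 4 := index_of_dihedral f₁ hf₁ hk₁
      have hdvd := Subgroup.index_dvd_of_le hle
      rw [h4] at hdvd
      have h0 : N₂.index ≠ 0 := Subgroup.index_ne_zero_of_finite
      have := Nat.le_of_dvd (by norm_num) hdvd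
      have := k₂.2
      omega
  · exact k₁.1 N₂ hn₂ h₂

include hU1a4 hU1s4 hU1a5 hU1s5 hU2 in
theorem unique_core {N₁ N₂ : Subgroup G} (hn₁ : N₁.Normal) (hn₂ : N₂.Normal)
    (h₁ : CycSyl N₁) (h₂ : CycSyl N₂) (q₁ : QuotAlt N₁) (q₂ : QuotAlt N₂) : N₁ = N₂ :=
  le_antisymm (le_of_quotAlt hU1a4 hU1s4 hU1a5 hU1s5 hU2 hn₂ hn₁ h₂ h₁ q₂ q₁)
    (le_of_quotAlt hU1a4 hU1s4 hU1a5 hU1s5 hU2 hn₁ hn₂ h₁ h₂ q₁ q₂)

end Core

end Cfsg.Agent.Helper19.FC5
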