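import Mathlib
import Cfsg.Agent.Lib.Helper19.FC5Defs
import Cfsg.Agent.Lib.Helper19.FC5Uniq
import Cfsg.Agent.Lib.Helper5.FCQuot

/-!
# S4291 piece X: the `2`-structure of `G / O(G)` (helper19)

Adapted from helper5's `exists_hom_two_structure`.
-/

set_option autoImplicit false
set_option linter.unusedSectionVars false
set_option linter.unusedVariables false
set_option linter.style.haveILetI false
set_option linter.unusedSimpArgs false

namespace Cfsg.Agent.Helper19.FC5

open Cfsg Cfsg.Agent.Helper5 Cfsg.Agent.Helper16

theorem two_structure_core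
    (hQD : ∀ n : ℕ, 1 ≤ n → ∃ q : QuaternionGroup (2 ^ n) →* DihedralGroup 2,
      Function.Surjective q ∧ IsCyclic q.ker)
    {X : Type*} [Group X] [Finite X]
    (hC : Subgroup.centralizer (pCore 2 X : Set X) ≤ pCore 2 X)
    (S' : Sylow 2 X) (hU : UniqueOrderP 2 S') (hnc : ¬ IsCyclic S') :
    ∃ N' : Subgroup X, N'.Normal ∧ IsCyclic N' ∧ IsPGroup 2 N' ∧
      ((∃ f : X →* DihedralGroup 2, Function.Surjective f ∧ f.ker = N') ∨
       (∃ f : X →* alternatingGroup (Fin 4), Function.Surjective f ∧ f.ker = N') ∨
       (∃ f : X →* Equiv.Perm (Fin 4), Function.Surjective f ∧ f.ker = N')) := by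
  haveI hF : Fact (Nat.Prime 2) := ⟨Nat.prime_two⟩
  have hTS : pCore 2 X ≤ S' := Cfsg.Agent.Helper14.pCore_le_sylow S'
  have hT2 : IsPGroup 2 (pCore 2 X) := Cfsg.Agent.Helper14.pCore_isPGroup 2 X
  have hUT : UniqueOrderP 2 (pCore 2 X) :=
    uniqueOrderP_of_injective (Subgroup.inclusion hTS) (Subgroup.inclusion_injective hTS) hU
  -- the case where `X` is a `2`-group
  have h2case : IsPGroup 2 X →
      ∃ N' : Subgroup X, N'.Normal ∧ IsCyclic N' ∧ IsPGroup 2 N' ∧
      ((∃ f : X →* DihedralGroup 2, Function.Surjective f ∧ f.ker = N') ∨
       (∃ f : X →* alternatingGroup (Fin 4), Function.Surjective f ∧ f.ker = N') ∨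
       (∃ f : X →* Equiv.Perm (Fin 4), Function.Surjective f ∧ f.ker = N')) := by
    intro h2
    have hS'top : (S' : Subgroup X) = ⊤ :=
      (S'.is_maximal' (Q := ⊤) (h2.to_subgroup ⊤) le_top).symm
    let e0 : X ≃* (S' : Subgroup X) :=
      (Subgroup.topEquiv.symm).trans (MulEquiv.subgroupCongr hS'top.symm)
    rcases cyclic_or_quaternion_of_uniqueOrderP_two S'.2 hU with hc | ⟨n, ⟨e⟩⟩
    · exact absurd hc hnc
    · have hn : 1 ≤ n := by
        by_contra h0
        have hn0 : n = 0 := by omega
        subst hn0
        apply hnc
        haveI := QuaternionGroup.quaternionGroup_one_isCyclic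
        rw [pow_zero] at e
        exact isCyclic_of_surjective e.symm.toMonoidHom e.symm.surjective
      obtain ⟨q, hq, hqc⟩ := hQD n hn
      let g : X →* QuaternionGroup (2 ^ n) := e.toMonoidHom.comp e0.toMonoidHom
      have hginj : Function.Injective g := e.injective.comp e0.injective
      have hgsurj : Function.Surjective g := e.surjective.comp e0.surjective
      let f : X →* DihedralGroup 2 := q.comp g
      refine ⟨f.ker, MonoidHom.normal_ker f, ?_, h2.to_subgroup _,
        Or.inl ⟨f, hq.comp hgsurj, rfl⟩⟩
      let ψ : f.ker →* q.ker := MonoidHom.codRestrict (g.comp f.ker.subtype) q.ker (fun u => by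
        rw [MonoidHom.mem_ker]
        exact MonoidHom.mem_ker.mp u.2)
      have hψ : Function.Injective ψ := by
        intro a b hab
        have h1 := congrArg Subtype.val hab
        exact Subtype.ext (hginj h1)
      haveI := hqc
      exact isCyclic_of_injective ψ hψ
  rcases cyclic_or_quaternion_of_uniqueOrderP_two hT2 hUT with hcyc | ⟨k, ⟨e⟩⟩
  · apply h2case
    exact isPGroup_of_aut_isPGroup (pCore 2 X) hT2 hC (mulAut_isPGroup_of_isCyclic' hT2 hcyc)
  · rcases Nat.lt_or_ge k 1 with hk0 | hk1
    · -- `k = 0`: cyclic of order four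
      have hk : k = 0 := by omega
      subst hk
      have hcyc' : IsCyclic (QuaternionGroup (2 ^ 0)) := by
        rw [pow_zero]; exact QuaternionGroup.quaternionGroup_one_isCyclic
      have hcyc : IsCyclic (pCore 2 X) :=
        isCyclic_of_surjective e.symm.toMonoidHom e.symm.surjective
      apply h2case
      exact isPGroup_of_aut_isPGroup (pCore 2 X) hT2 hC (mulAut_isPGroup_of_isCyclic' hT2 hcyc)
    · rcases Nat.lt_or_ge k 2 with hk1' | hk2
      · -- `k = 1`: the quaternion group of order eight
        have hk : k = 1 := by omega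
        subst hk
        rw [pow_one] at e
        by_cases h2 : IsPGroup 2 X
        · exact h2case h2
        obtain ⟨iso⟩ := Cfsg.Agent.S3742.result
        obtain ⟨θ, hθ⟩ : ∃ θ : X →* Equiv.Perm (Fin 4),
            θ = iso.toMonoidHom.comp (Cfsg.Agent.Helper4.BinOct.kap (pCore 2 X) e) := ⟨_, rfl⟩
        have hker : θ.ker = (Cfsg.Agent.Helper4.BinOct.kap (pCore 2 X) e).ker := by
          rw [hθ, ← MonoidHom.comap_ker, (MonoidHom.ker_eq_bot_iff _).mpr iso.injective,
            MonoidHom.comap_bot]
        have hcard : Nat.card θ.ker = 2 := by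
          rw [hker]; exact Cfsg.Agent.Helper4.BinOct.card_ker_kap (pCore 2 X) e hC
        have hcycK : IsCyclic θ.ker := isCyclic_of_prime_card (p := 2) hcard
        have hpK : IsPGroup 2 θ.ker := IsPGroup.of_card (n := 1) (by rw [hcard, pow_one])
        -- orders
        have hX : Nat.card X = 2 * Nat.card θ.range := by
          rw [← Subgroup.card_mul_index θ.ker, Subgroup.index_ker, hcard]
        have hdvd24 : Nat.card θ.range ∣ 24 := by
          have h := Subgroup.card_subgroup_dvd_card θ.range
          rwa [card_s4] at h
        have h8 : 8 ∣ Nat.card X := by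
          have h1 : Nat.card (pCore 2 X) = 8 := by
            rw [Nat.card_congr e.toEquiv, Nat.card_eq_fintype_card, QuaternionGroup.card]
          rw [← h1]
          exact Subgroup.card_subgroup_dvd_card _
        obtain ⟨m, hm⟩ : ∃ m, m = Nat.card θ.range := ⟨_, rfl⟩
        rw [← hm] at hX hdvd24
        have h4 : 4 ∣ m := by
          rw [hX] at h8
          omega
        have hmle : m ≤ 24 := Nat.le_of_dvd (by norm_num) hdvd24
        have hcases : m = 4 ∨ m = 8 ∨ m = 12 ∨ m = 24 := by
          obtain ⟨c, hc⟩ := h4
          have hc6 : c ≤ 6 := by omega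
          interval_cases c
          · simp at hc; subst hc; simp at hdvd24
          · left; omega
          · right; left; omega
          · right; right; left; omega
          · exfalso; subst hc; norm_num at hdvd24
          · exfalso; subst hc; norm_num at hdvd24
          · right; right; right; omega
        rcases hcases with h | h | h | h
        · exfalso
          apply h2
          apply IsPGroup.of_card (n := 3)
          rw [hX, h]; norm_num
        · exfalso
          apply h2
          apply IsPGroup.of_card (n := 4)
          rw [hX, h]; norm_num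
        · -- the alternating group
          have hidx : θ.range.index = 2 := by
            have h1 := Subgroup.card_mul_index θ.range
            rw [card_s4, ← hm, h] at h1
            omega
          have hrange : θ.range = alternatingGroup (Fin 4) :=
            Equiv.Perm.eq_alternatingGroup_of_index_eq_two hidx
          let f : X →* alternatingGroup (Fin 4) :=
            θ.codRestrict (alternatingGroup (Fin 4)) (fun x => by
              rw [← hrange]; exact ⟨x, rfl⟩)
          have hfs : Function.Surjective f := by
            intro y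
            have hy : (y : Equiv.Perm (Fin 4)) ∈ θ.range := by rw [hrange]; exact y.2
            obtain ⟨x, hx⟩ := hy
            exact ⟨x, Subtype.ext hx⟩
          have hfk : f.ker = θ.ker := MonoidHom.ker_codRestrict _ _ _
          exact ⟨θ.ker, MonoidHom.normal_ker θ, hcycK, hpK, Or.inr (Or.inl ⟨f, hfs, hfk⟩)⟩
        · -- the symmetric group
          have htop : θ.range = ⊤ := by
            apply Subgroup.eq_top_of_card_eq
            rw [card_s4, ← hm, h]
          exact ⟨θ.ker, MonoidHom.normal_ker θ, hcycK, hpK,
            Or.inr (Or.inr ⟨θ, MonoidHom.range_eq_top.mp htop, rfl⟩)⟩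
      · -- `k ≥ 2`: the automorphism group is a `2`-group
        obtain ⟨a, hao, hidx, hout4, -⟩ := quaternionLike_of_mulEquiv k e
        have hcardT : Nat.card (pCore 2 X) = 2 ^ (k + 1 + 1) := by
          have h1 := Subgroup.card_mul_index (Subgroup.zpowers a)
          rw [hidx, Nat.card_zpowers, hao] at h1
          rw [← h1]
          exact (pow_succ 2 (k + 1)).symm
        have hA : IsPGroup 2 (MulAut (pCore 2 X)) := by
          apply aut_isPGroup_of_cyclic_index_two (k + 1) (by omega) hcardT a hao
          intro g hg
          rw [hout4 g hg]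
          have h3 : 2 ^ 3 ≤ 2 ^ (k + 1) := Nat.pow_le_pow_right (by norm_num) (by omega)
          omega
        apply h2case
        exact isPGroup_of_aut_isPGroup (pCore 2 X) hT2 hC hA

end Cfsg.Agent.Helper19.FC5
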