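import Mathlib
import Cfsg.Agent.Lib.Helper1.RelSubnormal
import Cfsg.Agent.Lib.Helper3.Subnormal2

/-!
# Flavell's generalization of Wielandt's zipper lemma: basic tools (helper19)

`CN A H` : `A` is contranormal in `H` (the normal closure of `A` in `H` is `H`), stated inside `G`.
`hset A` : the proper subgroups `H ≥ A` with `A` contranormal in `H`.
-/

set_option autoImplicit false
set_option linter.unusedSectionVars false

namespace Cfsg.Agent.Helper19.FZ

open Subgroup
open scoped Pointwise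
open Cfsg.Agent.Helper1 Cfsg.Agent.Helper3

variable {G : Type*} [Group G]

/-- `A` is contranormal in `H` (stated inside `G`). -/
def CN (A H : Subgroup G) : Prop :=
  ∀ L : Subgroup G, A ≤ L → L ≤ H → H ≤ normalizer (L : Set G) → H ≤ L

theorem cn_iff {A H : Subgroup G} (hAH : A ≤ H) :
    Subgroup.normalClosure ((A.subgroupOf H : Subgroup H) : Set H) = ⊤ ↔ CN A H := by
  constructor
  · intro h L hAL hLH hHL
    have hn : (L.subgroupOf H).Normal :=
      (Subgroup.normal_subgroupOf_iff_le_normalizer hLH).mpr hHL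
    have hsub : ((A.subgroupOf H : Subgroup H) : Set H) ⊆ (L.subgroupOf H : Subgroup H) := by
      intro x hx
      exact mem_subgroupOf.mpr (hAL (mem_subgroupOf.mp hx))
    have h1 := Subgroup.normalClosure_le_normal hsub
    rw [h, top_le_iff, Subgroup.subgroupOf_eq_top] at h1
    exact h1
  · intro h
    set N' : Subgroup H := Subgroup.normalClosure ((A.subgroupOf H : Subgroup H) : Set H) with hN'
    have hN'n : N'.Normal := Subgroup.normalClosure_normal
    have hL : H ≤ N'.map H.subtype := by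
      apply h (N'.map H.subtype) ?_ (Subgroup.map_subtype_le _) ?_
      · intro a ha
        exact ⟨⟨a, hAH ha⟩, Subgroup.subset_normalClosure (mem_subgroupOf.mpr ha), rfl⟩
      · apply le_normalizer_iff.mpr
        rintro y hy _ ⟨l, hl, rfl⟩
        refine ⟨⟨y, hy⟩ * l * ⟨y, hy⟩⁻¹, hN'n.conj_mem l hl ⟨y, hy⟩, ?_⟩
        simp
    rw [eq_top_iff]
    intro x _
    obtain ⟨y, hy, hyx⟩ := hL x.2
    have : y = x := Subtype.ext hyx
    rwa [← this]

/-- the proper subgroups in which `A` is contranormal -/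
def hset (A : Subgroup G) : Set (Subgroup G) := {H | A ≤ H ∧ H ≠ ⊤ ∧ CN A H}

theorem hset_eq (A : Subgroup G) :
    {H : Subgroup G | A ≤ H ∧ H ≠ ⊤ ∧
      Subgroup.normalClosure ((A.subgroupOf H : Subgroup ↥H) : Set ↥H) = ⊤} = hset A := by
  ext H
  constructor
  · rintro ⟨h1, h2, h3⟩
    exact ⟨h1, h2, (cn_iff h1).mp h3⟩
  · rintro ⟨h1, h2, h3⟩
    exact ⟨h1, h2, (cn_iff h1).mpr h3⟩

theorem cn_self (A : Subgroup G) : CN A A := fun _ hAL _ _ => hAL

theorem self_mem_hset {A : Subgroup G} (hA : A ≠ ⊤) : A ∈ hset A := ⟨le_rfl, hA, cn_self A⟩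

theorem cn_top_of_normalClosure {A : Subgroup G}
    (hA : Subgroup.normalClosure (A : Set G) = ⊤) : CN A ⊤ := by
  intro L hAL _ hL
  have hn : L.Normal := Subgroup.normalizer_eq_top_iff.mp (top_le_iff.mp hL)
  have := Subgroup.normalClosure_le_normal (N := L) (s := (A : Set G)) hAL
  rwa [hA] at this

theorem normalClosure_mono_top {A T : Subgroup G} (hAT : A ≤ T)
    (hA : Subgroup.normalClosure (A : Set G) = ⊤) : Subgroup.normalClosure (T : Set G) = ⊤ := by
  rw [eq_top_iff, ← hA]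
  exact Subgroup.normalClosure_mono hAT

theorem cn_trans {A T H : Subgroup G} (hAT : A ≤ T) (h1 : CN A T) (hTH : T ≤ H) (h2 : CN T H) :
    CN A H := by
  intro L hAL hLH hHL
  have hT : T ≤ L ⊓ T := by
    apply h1 (L ⊓ T) (le_inf hAL hAT) inf_le_right
    intro t ht
    have h3 : t ∈ normalizer (L : Set G) := hHL (hTH ht)
    have h4 : t ∈ normalizer (T : Set G) := le_normalizer ht
    apply mem_normalizer_of_conj_smul_eq
    rw [Subgroup.smul_inf, conj_smul_eq_of_mem_normalizer h3, conj_smul_eq_of_mem_normalizer h4]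
  exact h2 L (hT.trans inf_le_left) hLH hHL

section Finite

variable [Finite G]

/-- subnormal and contranormal implies equal -/
theorem eq_of_sn_of_cn {A H : Subgroup G} (hAH : A ≤ H) (hsn : (A.subgroupOf H).IsSubnormal)
    (hcn : CN A H) : A = H := by
  by_contra hne
  obtain ⟨L, hAL, hLH, hHL⟩ := sn_lt_normal (lt_of_le_of_ne hAH hne) hsn
  exact absurd (hcn L hAL hLH.le hHL) (not_le_of_gt hLH)

theorem sn_self (L : Subgroup G) : (L.subgroupOf L).IsSubnormal :=
  sn_of_le_normalizer le_rfl le_normalizer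

/-- the subnormal closure of `A` in `L` -/
theorem exists_sn_closure {A L : Subgroup G} (hAL : A ≤ L) :
    ∃ T : Subgroup G, A ≤ T ∧ T ≤ L ∧ (T.subgroupOf L).IsSubnormal ∧ CN A T := by
  obtain ⟨T, -, hT⟩ := Finite.exists_le_minimal
    (p := fun T : Subgroup G => A ≤ T ∧ T ≤ L ∧ (T.subgroupOf L).IsSubnormal)
    (a := L) ⟨hAL, le_rfl, sn_self L⟩
  obtain ⟨hAT, hTL, hsn⟩ := hT.prop
  refine ⟨T, hAT, hTL, hsn, ?_⟩
  intro L' hAL' hL'T hTL'
  have h1 : (L'.subgroupOf L).IsSubnormal :=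
    sn_trans hL'T hTL (sn_of_le_normalizer hL'T hTL') hsn
  exact hT.le_of_le ⟨hAL', hL'T.trans hTL, h1⟩ hL'T

theorem le_sSup_hset {A : Subgroup G} (hA : A ≠ ⊤) : A ≤ sSup (hset A) :=
  le_sSup (self_mem_hset hA)

theorem cn_sSup_hset (A : Subgroup G) : CN A (sSup (hset A)) := by
  intro L hAL hLY hYL
  apply sSup_le
  intro H hH
  have hHY : H ≤ sSup (hset A) := le_sSup hH
  obtain ⟨hAH, -, hcn⟩ := hH
  have h1 : H ≤ L ⊓ H := by
    apply hcn (L ⊓ H) (le_inf hAL hAH) inf_le_right
    intro t ht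
    have h3 : t ∈ normalizer (L : Set G) := hYL (hHY ht)
    have h4 : t ∈ normalizer (H : Set G) := le_normalizer ht
    apply mem_normalizer_of_conj_smul_eq
    rw [Subgroup.smul_inf, conj_smul_eq_of_mem_normalizer h3, conj_smul_eq_of_mem_normalizer h4]
  exact h1.trans inf_le_left

theorem sSup_hset_mem {A : Subgroup G} (hA : A ≠ ⊤) (hY : sSup (hset A) ≠ ⊤) :
    sSup (hset A) ∈ hset A := ⟨le_sSup_hset hA, hY, cn_sSup_hset A⟩

theorem hset_subset {A T : Subgroup G} (hAT : A ≤ T) (hcn : CN A T) : hset T ⊆ hset A := by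
  rintro H ⟨hTH, hH, hcnH⟩
  exact ⟨hAT.trans hTH, hH, cn_trans hAT hcn hTH hcnH⟩

theorem exists_coatom_ge {X : Subgroup G} (hX : X ≠ ⊤) : ∃ M : Subgroup G, IsCoatom M ∧ X ≤ M := by
  rcases eq_top_or_exists_le_coatom X with h | ⟨M, hM, hXM⟩
  · exact absurd h hX
  · exact ⟨M, hM, hXM⟩

theorem coatom_eq_of_le {M X : Subgroup G} (hM : IsCoatom M) (hX : X ≠ ⊤) (h : M ≤ X) : M = X := by
  rcases eq_or_lt_of_le h with h1 | h1
  · exact h1
  · exact absurd (hM.2 X h1) hX

theorem isMaxIn_top_iff {M : Subgroup G} : IsMaxIn M ⊤ ↔ IsCoatom M := by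
  constructor
  · rintro ⟨h1, h2⟩
    exact ⟨h1.ne, fun b hb => h2 b hb le_top⟩
  · rintro ⟨h1, h2⟩
    exact ⟨lt_top_iff_ne_top.mpr h1, fun L hL _ => h2 L hL⟩

theorem conj_smul_top (g : G) : MulAut.conj g • (⊤ : Subgroup G) = ⊤ := by
  rw [eq_top_iff]
  intro x _
  rw [Cfsg.Agent.Helper3.mem_conj_smul_iff]
  exact Subgroup.mem_top _

theorem conj_inv_smul_top (g : G) : (MulAut.conj g)⁻¹ • (⊤ : Subgroup G) = ⊤ := by
  rw [← map_inv]
  exact conj_smul_top g⁻¹

theorem coatom_conj {M : Subgroup G} (hM : IsCoatom M) (g : G) :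
    IsCoatom (MulAut.conj g • M) := by
  constructor
  · intro h
    apply hM.1
    have h1 : (MulAut.conj g)⁻¹ • (MulAut.conj g • M) = (MulAut.conj g)⁻¹ • (⊤ : Subgroup G) := by
      rw [h]
    rw [inv_smul_smul] at h1
    rw [h1]
    exact conj_inv_smul_top g
  · intro b hb
    have h1 : M < (MulAut.conj g)⁻¹ • b := by
      constructor
      · rw [← Subgroup.pointwise_smul_le_pointwise_smul_iff (a := MulAut.conj g), smul_inv_smul]
        exact hb.le
      · intro h
        apply hb.not_ge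
        rw [← Subgroup.pointwise_smul_le_pointwise_smul_iff (a := (MulAut.conj g)⁻¹),
          inv_smul_smul]
        exact h
    have h2 := hM.2 _ h1
    have h3 : MulAut.conj g • ((MulAut.conj g)⁻¹ • b) = MulAut.conj g • (⊤ : Subgroup G) := by
      rw [h2]
    rw [smul_inv_smul] at h3
    rw [h3]
    exact conj_smul_top g

theorem normalClosure_conj {D : Subgroup G} (hD : Subgroup.normalClosure (D : Set G) = ⊤) (g : G) :
    Subgroup.normalClosure ((MulAut.conj g • D : Subgroup G) : Set G) = ⊤ := by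
  rw [eq_top_iff, ← hD]
  apply Subgroup.normalClosure_le_normal
  intro d hd
  have h1 : g * d * g⁻¹ ∈ MulAut.conj g • D := conj_mem_conj_smul hd
  have h2 : g * d * g⁻¹ ∈ Subgroup.normalClosure ((MulAut.conj g • D : Subgroup G) : Set G) :=
    Subgroup.subset_normalClosure h1
  have h3 := (Subgroup.normalClosure_normal
    (s := ((MulAut.conj g • D : Subgroup G) : Set G))).conj_mem _ h2 g⁻¹
  have e : g⁻¹ * (g * d * g⁻¹) * g⁻¹⁻¹ = d := by group
  rwa [e] at h3

theorem normalizer_conj_le {D M : Subgroup G} (h : normalizer (D : Set G) ≤ M) (g : G) :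
    normalizer ((MulAut.conj g • D : Subgroup G) : Set G) ≤ MulAut.conj g • M := by
  intro x hx
  rw [Cfsg.Agent.Helper3.mem_conj_smul_iff]
  apply h
  apply mem_normalizer_of_conj_smul_eq
  have h1 := conj_smul_eq_of_mem_normalizer hx
  rw [smul_smul, ← map_mul] at h1
  have h2 : (MulAut.conj g)⁻¹ • (MulAut.conj (x * g) • D) = (MulAut.conj g)⁻¹ • (MulAut.conj g • D) := by
    rw [h1]
  rw [inv_smul_smul, ← map_inv, smul_smul, ← map_mul] at h2
  have e : g⁻¹ * (x * g) = g⁻¹ * x * g := by group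
  rwa [e] at h2

/-- a non-normal coatom is self-normalizing -/
theorem coatom_normalizer {M : Subgroup G} (hM : IsCoatom M) (hn : ¬ M.Normal) :
    normalizer (M : Set G) = M := by
  symm
  apply coatom_eq_of_le hM _ le_normalizer
  intro h
  exact hn (Subgroup.normalizer_eq_top_iff.mp h)

theorem coatom_not_normal {A M : Subgroup G} (hA : Subgroup.normalClosure (A : Set G) = ⊤)
    (hM : IsCoatom M) (hAM : A ≤ M) : ¬ M.Normal := by
  intro hn
  have := Subgroup.normalClosure_le_normal (N := M) (s := (A : Set G)) hAM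
  rw [hA, top_le_iff] at this
  exact hM.1 this

theorem conj_smul_le_of_mem {D V : Subgroup G} {x : G} (hx : x ∈ V) (hDV : D ≤ V) :
    MulAut.conj x • D ≤ V := by
  have h1 : MulAut.conj x • D ≤ MulAut.conj x • V :=
    Subgroup.pointwise_smul_le_pointwise_smul_iff.mpr hDV
  rwa [Subgroup.conj_smul_eq_self_of_mem hx] at h1

theorem lt_sup_of_ne {D D' : Subgroup G} (hcard : Nat.card D' = Nat.card D) (hne : D ≠ D') :
    D < D ⊔ D' := by
  refine lt_of_le_of_ne le_sup_left ?_
  intro h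
  apply hne
  have h1 : D' ≤ D := by
    conv_rhs => rw [h]
    exact le_sup_right
  exact (Subgroup.eq_of_le_of_card_ge h1 (by rw [hcard])).symm

/-- The induction hypothesis, packaged: subgroups of order `> m` satisfy the theorem. -/
def IHyp (G : Type*) [Group G] (m : ℕ) : Prop :=
  ∀ T : Subgroup G, m < Nat.card T → T ≠ ⊤ → Subgroup.normalClosure (T : Set G) = ⊤ →
    sSup (hset T) ≠ ⊤ → ∀ K L : Subgroup G, IsCoatom K → IsCoatom L → T ≤ K → T ≤ L → K = L

/-- General principle: a subgroup bigger than `D` with at most one "bad" coatom lies in a unique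
coatom. -/
theorem gp {m : ℕ} (IH : IHyp G m) {D T L₀ : Subgroup G}
    (hD : Subgroup.normalClosure (D : Set G) = ⊤) (hcard : Nat.card D = m) (hDT : D < T)
    (hL₀ : IsCoatom L₀) (hTL₀ : T ≤ L₀)
    (hgood : ∀ L : Subgroup G, IsCoatom L → T ≤ L → L ≠ L₀ → (T.subgroupOf L).IsSubnormal) :
    ∀ K : Subgroup G, IsCoatom K → T ≤ K → K = L₀ := by
  intro K hK hTK
  have hTtop : T ≠ ⊤ := by
    intro h
    apply hL₀.1
    rw [eq_top_iff, ← h]
    exact hTL₀
  have hY : sSup (hset T) ≤ L₀ := by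
    apply sSup_le
    rintro H ⟨hTH, hH, hcn⟩
    obtain ⟨L, hL, hHL⟩ := exists_coatom_ge hH
    by_cases hLL : L = L₀
    · rw [← hLL]; exact hHL
    · have h1 : (T.subgroupOf H).IsSubnormal := sn_mono hHL (hgood L hL (hTH.trans hHL) hLL)
      have h2 : T = H := eq_of_sn_of_cn hTH h1 hcn
      rw [← h2]; exact hTL₀
  have hY' : sSup (hset T) ≠ ⊤ := by
    intro h
    apply hL₀.1
    rw [eq_top_iff, ← h]
    exact hY
  exact IH T (by rw [← hcard]; exact card_lt_of_lt hDT) hTtop (normalClosure_mono_top hDT.le hD)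
    hY' K L₀ hK hL₀ hTK hTL₀

end Finite

end Cfsg.Agent.Helper19.FZ
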