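import Mathlib
import Cfsg.Agent.Lib.Helper19.FZBasic

/-!
# Flavell's generalization of Wielandt's zipper lemma: the clique argument (helper19)
-/

set_option autoImplicit false
set_option linter.unusedSectionVars false

namespace Cfsg.Agent.Helper19.FZ

open Subgroup
open scoped Pointwise
open Cfsg.Agent.Helper1 Cfsg.Agent.Helper3

variable {G : Type*} [Group G] [Finite G]

/-- `D` has (at most) the single "bad" coatom `V`. -/
structure Bd (m : ℕ) (D V : Subgroup G) : Prop where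
  ncl : Subgroup.normalClosure (D : Set G) = ⊤
  card : Nat.card D = m
  coatom : IsCoatom V
  le : D ≤ V
  good : ∀ L : Subgroup G, IsCoatom L → D ≤ L → L ≠ V → (D.subgroupOf L).IsSubnormal
  norm : normalizer (D : Set G) ≤ V

theorem Bd.conj {m : ℕ} {D V : Subgroup G} (h : Bd m D V) (g : G) :
    Bd m (MulAut.conj g • D) (MulAut.conj g • V) where
  ncl := normalClosure_conj h.ncl g
  card := by rw [card_conj_smul, h.card]
  coatom := coatom_conj h.coatom g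
  le := Subgroup.pointwise_smul_le_pointwise_smul_iff.mpr h.le
  good := by
    intro L hL hDL hne
    have h1 : D ≤ (MulAut.conj g)⁻¹ • L := by
      rw [← Subgroup.pointwise_smul_le_pointwise_smul_iff (a := MulAut.conj g), smul_inv_smul]
      exact hDL
    have h2 : IsCoatom ((MulAut.conj g)⁻¹ • L) := by
      rw [← map_inv]; exact coatom_conj hL g⁻¹
    have h3 : (MulAut.conj g)⁻¹ • L ≠ V := by
      intro h4
      apply hne
      rw [← h4, smul_inv_smul]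
    have h5 := sn_conj g (h.good _ h2 h1 h3)
    rwa [smul_inv_smul] at h5
  norm := normalizer_conj_le h.norm g

/-- (F2) a proper overgroup of `D` not inside `V` meets `V` in the normalizer of `D`. -/
theorem inf_le_normalizer {m : ℕ} (IH : IHyp G m) {D V X : Subgroup G} (h : Bd m D V)
    (hX : X ≠ ⊤) (hDX : D ≤ X) (hXV : ¬ X ≤ V) : X ⊓ V ≤ normalizer (D : Set G) := by
  by_contra hnot
  obtain ⟨L, hL, hXL⟩ := exists_coatom_ge hX
  have hLV : L ≠ V := fun e => hXV (e ▸ hXL)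
  have hDQ : D ≤ X ⊓ V := le_inf hDX h.le
  have hsn : (D.subgroupOf (X ⊓ V)).IsSubnormal :=
    sn_mono (inf_le_left.trans hXL) (h.good L hL (hDX.trans hXL) hLV)
  obtain ⟨x, hxQ, hne, hle⟩ := exists_conj_le_normalizer _ D (X ⊓ V) rfl hDQ hsn hnot
  have hxV : x ∈ V := (inf_le_right : X ⊓ V ≤ V) hxQ
  have hbd' : Bd m (MulAut.conj x • D) V := by
    have := h.conj x
    rwa [Subgroup.conj_smul_eq_self_of_mem hxV] at this
  have hxDQ : MulAut.conj x • D ≤ X ⊓ V := conj_smul_le_of_mem hxQ hDQ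
  have hTQ : D ⊔ MulAut.conj x • D ≤ X ⊓ V := sup_le hDQ hxDQ
  have hDT : D < D ⊔ MulAut.conj x • D := lt_sup_of_ne (by rw [card_conj_smul]) (Ne.symm hne)
  have hgood : ∀ L' : Subgroup G, IsCoatom L' → D ⊔ MulAut.conj x • D ≤ L' → L' ≠ V →
      ((D ⊔ MulAut.conj x • D).subgroupOf L').IsSubnormal := by
    intro L' hL' hTL' hne'
    exact sn_sup (le_sup_left.trans hTL') (le_sup_right.trans hTL')
      (h.good L' hL' (le_sup_left.trans hTL') hne')
      (hbd'.good L' hL' (le_sup_right.trans hTL') hne')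
  have := gp IH h.ncl h.card hDT h.coatom (hTQ.trans inf_le_right) hgood L hL
    (hTQ.trans (inf_le_left.trans hXL))
  exact hLV this

theorem partners_aux {m : ℕ} (IH : IHyp G m) {D V D' V' W₁ W₂ : Subgroup G}
    (h : Bd m D V) (h' : Bd m D' V') (hne : D ≠ D')
    (hW₁ : IsCoatom W₁) (hW₂ : IsCoatom W₂) (hW : W₁ ≠ W₂)
    (h11 : D ≤ W₁) (h12 : D' ≤ W₁) (h21 : D ≤ W₂) (h22 : D' ≤ W₂) : D' ≤ V := by
  by_contra hnot
  have hDT : D < D ⊔ D' := lt_sup_of_ne (by rw [h'.card, h.card]) hne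
  have hT1 : D ⊔ D' ≤ W₁ := sup_le h11 h12
  have hT2 : D ⊔ D' ≤ W₂ := sup_le h21 h22
  have hneV : ∀ L : Subgroup G, D ⊔ D' ≤ L → L ≠ V :=
    fun L hTL e => hnot (e ▸ (le_sup_right.trans hTL))
  by_cases hTV' : D ⊔ D' ≤ V'
  · have hgood : ∀ L : Subgroup G, IsCoatom L → D ⊔ D' ≤ L → L ≠ V' →
        ((D ⊔ D').subgroupOf L).IsSubnormal := by
      intro L hL hTL hne'
      exact sn_sup (le_sup_left.trans hTL) (le_sup_right.trans hTL)
        (h.good L hL (le_sup_left.trans hTL) (hneV L hTL))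
        (h'.good L hL (le_sup_right.trans hTL) hne')
    have e1 := gp IH h.ncl h.card hDT h'.coatom hTV' hgood W₁ hW₁ hT1
    have e2 := gp IH h.ncl h.card hDT h'.coatom hTV' hgood W₂ hW₂ hT2
    exact hW (e1.trans e2.symm)
  · have hgood : ∀ L : Subgroup G, IsCoatom L → D ⊔ D' ≤ L → L ≠ W₁ →
        ((D ⊔ D').subgroupOf L).IsSubnormal := by
      intro L hL hTL _
      have hLV' : L ≠ V' := fun e => hTV' (e ▸ hTL)
      exact sn_sup (le_sup_left.trans hTL) (le_sup_right.trans hTL)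
        (h.good L hL (le_sup_left.trans hTL) (hneV L hTL))
        (h'.good L hL (le_sup_right.trans hTL) hLV')
    have e2 := gp IH h.ncl h.card hDT hW₁ hT1 hgood W₂ hW₂ hT2
    exact hW e2.symm

/-- (F6) two distinct members generating a subgroup inside two coatoms are "partners". -/
theorem partners {m : ℕ} (IH : IHyp G m) {D V D' V' W₁ W₂ : Subgroup G}
    (h : Bd m D V) (h' : Bd m D' V') (hne : D ≠ D')
    (hW₁ : IsCoatom W₁) (hW₂ : IsCoatom W₂) (hW : W₁ ≠ W₂)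
    (h11 : D ≤ W₁) (h12 : D' ≤ W₁) (h21 : D ≤ W₂) (h22 : D' ≤ W₂) :
    V ≠ V' ∧ D' ≤ V ∧ D ≤ V' ∧ D' ≤ normalizer (D : Set G) ∧ D ≤ normalizer (D' : Set G) := by
  have hD'V : D' ≤ V := partners_aux IH h h' hne hW₁ hW₂ hW h11 h12 h21 h22
  have hDV' : D ≤ V' := partners_aux IH h' h hne.symm hW₁ hW₂ hW h12 h11 h22 h21
  have hVV' : V ≠ V' := by
    intro e
    have hDT : D < D ⊔ D' := lt_sup_of_ne (by rw [h'.card, h.card]) hne
    have hTV : D ⊔ D' ≤ V := sup_le h.le hD'V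
    have hgood : ∀ L : Subgroup G, IsCoatom L → D ⊔ D' ≤ L → L ≠ V →
        ((D ⊔ D').subgroupOf L).IsSubnormal := by
      intro L hL hTL hne'
      exact sn_sup (le_sup_left.trans hTL) (le_sup_right.trans hTL)
        (h.good L hL (le_sup_left.trans hTL) hne')
        (h'.good L hL (le_sup_right.trans hTL) (e ▸ hne'))
    have e1 := gp IH h.ncl h.card hDT h.coatom hTV hgood W₁ hW₁ (sup_le h11 h12)
    have e2 := gp IH h.ncl h.card hDT h.coatom hTV hgood W₂ hW₂ (sup_le h21 h22)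
    exact hW (e1.trans e2.symm)
  refine ⟨hVV', hD'V, hDV', ?_, ?_⟩
  · have hV'V : ¬ V' ≤ V := fun hle => hVV' (coatom_eq_of_le h'.coatom h.coatom.1 hle).symm
    exact (le_inf h'.le hD'V).trans (inf_le_normalizer IH h h'.coatom.1 hDV' hV'V)
  · have hVV'' : ¬ V ≤ V' := fun hle => hVV' (coatom_eq_of_le h.coatom h'.coatom.1 hle)
    exact (le_inf h.le hDV').trans (inf_le_normalizer IH h' h.coatom.1 hD'V hVV'')

/-- `D` is a conjugate of `A` and `V` the corresponding conjugate of `M`. -/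
def Pr (A M D V : Subgroup G) : Prop :=
  ∃ g : G, D = MulAut.conj g • A ∧ V = MulAut.conj g • M

theorem pr_self (A M : Subgroup G) : Pr A M A M := ⟨1, by simp, by simp⟩

theorem Pr.conj {A M D V : Subgroup G} (h : Pr A M D V) (x : G) :
    Pr A M (MulAut.conj x • D) (MulAut.conj x • V) := by
  obtain ⟨g, rfl, rfl⟩ := h
  exact ⟨x * g, by rw [map_mul, mul_smul], by rw [map_mul, mul_smul]⟩

theorem Pr.bd {m : ℕ} {A M D V : Subgroup G} (h : Pr A M D V) (hbd : Bd m A M) : Bd m D V := by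
  obtain ⟨g, rfl, rfl⟩ := h
  exact hbd.conj g

theorem Pr.unique {A M D V V' : Subgroup G} (hN : normalizer (A : Set G) ≤ M)
    (h : Pr A M D V) (h' : Pr A M D V') : V = V' := by
  obtain ⟨g, hD, rfl⟩ := h
  obtain ⟨k, hD', rfl⟩ := h'
  have h1 : MulAut.conj g • A = MulAut.conj k • A := hD.symm.trans hD'
  have h2 : MulAut.conj (k⁻¹ * g) • A = A := by
    rw [map_mul, mul_smul, h1, ← mul_smul, ← map_mul, inv_mul_cancel, map_one, one_smul]
  have h3 : k⁻¹ * g ∈ M := hN (mem_normalizer_of_conj_smul_eq h2)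
  have h4 : MulAut.conj (k⁻¹ * g) • M = M := Subgroup.conj_smul_eq_self_of_mem h3
  calc MulAut.conj g • M = MulAut.conj k • (MulAut.conj (k⁻¹ * g) • M) := by
        rw [← mul_smul, ← map_mul, mul_inv_cancel_left]
    _ = MulAut.conj k • M := by rw [h4]

/-- the conjugates of `A` inside `V₁ ⊓ V₂` -/
def Sg (A M V₁ V₂ : Subgroup G) : Set (Subgroup G) :=
  {D | (∃ V, Pr A M D V) ∧ D ≤ V₁ ∧ D ≤ V₂}

theorem sg_comm (A M V₁ V₂ : Subgroup G) : Sg A M V₁ V₂ = Sg A M V₂ V₁ := by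
  ext D
  constructor
  · rintro ⟨h1, h2, h3⟩; exact ⟨h1, h3, h2⟩
  · rintro ⟨h1, h2, h3⟩; exact ⟨h1, h3, h2⟩

theorem sg_partners {m : ℕ} (IH : IHyp G m) {A M : Subgroup G} (hbd : Bd m A M)
    {V₁ V₂ : Subgroup G} (h1 : IsCoatom V₁) (h2 : IsCoatom V₂) (hne : V₁ ≠ V₂)
    {F VF F' VF' : Subgroup G} (hF : Pr A M F VF) (hF' : Pr A M F' VF')
    (hFS : F ∈ Sg A M V₁ V₂) (hF'S : F' ∈ Sg A M V₁ V₂) (hFF' : F ≠ F') :
    VF ≠ VF' ∧ F' ≤ VF ∧ F ≤ VF' ∧ F' ≤ normalizer (F : Set G) ∧ F ≤ normalizer (F' : Set G) :=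
  partners IH (hF.bd hbd) (hF'.bd hbd) hFF' h1 h2 hne hFS.2.1 hF'S.2.1 hFS.2.2 hF'S.2.2

theorem unif_step {m : ℕ} (IH : IHyp G m) {A M : Subgroup G} (hbd : Bd m A M)
    {P VP Q VQ R VR : Subgroup G} (hP : Pr A M P VP) (hQ : Pr A M Q VQ) (hR : Pr A M R VR)
    (hVPQ : VP ≠ VQ) (hPVQ : P ≤ VQ) (hQVP : Q ≤ VP) (hRP : R ≠ P) (hRVP : R ≤ VP)
    (hRVQ : R ≤ VQ) : VP ≠ VR ∧ Sg A M VP VR = Sg A M VP VQ := by
  have cP := (hP.bd hbd).coatom
  have cQ := (hQ.bd hbd).coatom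
  have cR := (hR.bd hbd).coatom
  have hPS : P ∈ Sg A M VP VQ := ⟨⟨VP, hP⟩, (hP.bd hbd).le, hPVQ⟩
  have hQS : Q ∈ Sg A M VP VQ := ⟨⟨VQ, hQ⟩, hQVP, (hQ.bd hbd).le⟩
  have hRS : R ∈ Sg A M VP VQ := ⟨⟨VR, hR⟩, hRVP, hRVQ⟩
  obtain ⟨hVPR, -, hPVR, -, -⟩ := sg_partners IH hbd cP cQ hVPQ hP hR hPS hRS hRP.symm
  have hQVR : Q ≤ VR := by
    by_cases hQR : Q = R
    · rw [hQR]; exact (hR.bd hbd).le
    · exact (sg_partners IH hbd cP cQ hVPQ hQ hR hQS hRS hQR).2.2.1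
  have hQS' : Q ∈ Sg A M VP VR := ⟨⟨VQ, hQ⟩, hQVP, hQVR⟩
  refine ⟨hVPR, ?_⟩
  ext F
  constructor
  · rintro ⟨⟨VF, hF⟩, hFVP, hFVR⟩
    refine ⟨⟨VF, hF⟩, hFVP, ?_⟩
    by_cases hFQ : F = Q
    · rw [hFQ]; exact (hQ.bd hbd).le
    · exact (sg_partners IH hbd cP cR hVPR hF hQ ⟨⟨VF, hF⟩, hFVP, hFVR⟩ hQS' hFQ).2.2.1
  · rintro ⟨⟨VF, hF⟩, hFVP, hFVQ⟩
    refine ⟨⟨VF, hF⟩, hFVP, ?_⟩
    by_cases hFR : F = R
    · rw [hFR]; exact (hR.bd hbd).le
    · exact (sg_partners IH hbd cP cQ hVPQ hF hR ⟨⟨VF, hF⟩, hFVP, hFVQ⟩ hRS hFR).2.2.1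

/-- the context of the clique argument: `A` and `C` are partners. -/
structure Ctx (m : ℕ) (A M C VC : Subgroup G) : Prop where
  IH : IHyp G m
  bd : Bd m A M
  prC : Pr A M C VC
  hMC : M ≠ VC
  hAVC : A ≤ VC
  hCM : C ≤ M
  hAC : A ≠ C

namespace Ctx

variable {m : ℕ} {A M C VC : Subgroup G}

theorem memA (cx : Ctx m A M C VC) : A ∈ Sg A M M VC := ⟨⟨M, pr_self A M⟩, cx.bd.le, cx.hAVC⟩

theorem memC (cx : Ctx m A M C VC) : C ∈ Sg A M M VC :=
  ⟨⟨VC, cx.prC⟩, cx.hCM, (cx.prC.bd cx.bd).le⟩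

theorem unif (cx : Ctx m A M C VC) {E VE E' VE' : Subgroup G} (hE : Pr A M E VE)
    (hE' : Pr A M E' VE') (hES : E ∈ Sg A M M VC) (hE'S : E' ∈ Sg A M M VC) (hne : E ≠ E') :
    VE ≠ VE' ∧ Sg A M VE VE' = Sg A M M VC := by
  by_cases hEA : E = A
  · have hVE : VE = M := Pr.unique cx.bd.norm (hEA ▸ hE) (pr_self A M)
    rw [hVE]
    exact unif_step cx.IH cx.bd (pr_self A M) cx.prC hE' cx.hMC cx.hAVC cx.hCM
      (fun e => hne (hEA.trans e.symm)) hE'S.2.1 hE'S.2.2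
  · obtain ⟨h1, h2⟩ := unif_step cx.IH cx.bd (pr_self A M) cx.prC hE cx.hMC cx.hAVC cx.hCM
      hEA hES.2.1 hES.2.2
    have hA' : A ∈ Sg A M M VE := h2 ▸ cx.memA
    have hE'' : E' ∈ Sg A M M VE := h2 ▸ hE'S
    obtain ⟨h3, h4⟩ := unif_step cx.IH cx.bd hE (pr_self A M) hE' h1.symm hES.2.1 hA'.2.2
      hne.symm hE''.2.2 hE'S.2.1
    refine ⟨h3, ?_⟩
    rw [h4, sg_comm, h2]

theorem only_coatom (cx : Ctx m A M C VC) {D VD : Subgroup G} (hD : Pr A M D VD)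
    (hDS : D ∈ Sg A M M VC) {X : Subgroup G} (hX : IsCoatom X)
    (hNX : normalizer ((sSup (Sg A M M VC \ {D}) : Subgroup G) : Set G) ≤ X) : X = VD := by
  have cD := (hD.bd cx.bd).coatom
  set S₀ : Set (Subgroup G) := Sg A M M VC \ {D} with hS₀
  set S : Set (Subgroup G) := {B | (∃ VB, Pr A M B VB ∧ VB ≠ VD) ∧ B ≤ VD} with hSdef
  have hmem : ∀ F ∈ S₀, ∀ VF, Pr A M F VF → VD ≠ VF ∧ F ≤ VD ∧ F ≤ VF := by
    intro F hF VF hFpr
    obtain ⟨h1, h2⟩ := cx.unif hD hFpr hDS hF.1 (fun e => hF.2 (by rw [← e]; rfl))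
    have h3 : F ∈ Sg A M VD VF := h2 ▸ hF.1
    exact ⟨h1, h3.2.1, h3.2.2⟩
  have hS₀S : S₀ ⊆ S := by
    intro F hF
    obtain ⟨VF, hFpr⟩ := hF.1.1
    obtain ⟨h1, h2, -⟩ := hmem F hF VF hFpr
    exact ⟨⟨VF, hFpr, h1.symm⟩, h2⟩
  have hS : ∀ U ∈ S, U ≤ VD ∧ (U.subgroupOf VD).IsSubnormal := by
    rintro U ⟨⟨VU, hU, hVU⟩, hUVD⟩
    exact ⟨hUVD, (hU.bd cx.bd).good VD cD hUVD hVU.symm⟩
  have hconj : ∀ U ∈ S, ∀ x ∈ VD, MulAut.conj x • U ∈ S := by
    rintro U ⟨⟨VU, hU, hVU⟩, hUVD⟩ x hx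
    refine ⟨⟨MulAut.conj x • VU, hU.conj x, ?_⟩, conj_smul_le_of_mem hx hUVD⟩
    intro e
    apply hVU
    have h1 : MulAut.conj x • VU = MulAut.conj x • VD := by
      rw [e, Subgroup.conj_smul_eq_self_of_mem hx]
    have h2 : (MulAut.conj x)⁻¹ • (MulAut.conj x • VU) = (MulAut.conj x)⁻¹ • (MulAut.conj x • VD) := by
      rw [h1]
    rwa [inv_smul_smul, inv_smul_smul] at h2
  have hne₀ : ∃ F, F ∈ S₀ := by
    by_cases hDA : D = A
    · exact ⟨C, cx.memC, fun e => cx.hAC (hDA ▸ (Set.mem_singleton_iff.mp e).symm)⟩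
    · exact ⟨A, cx.memA, fun e => hDA (Set.mem_singleton_iff.mp e).symm⟩
  by_cases hsub : S ⊆ S₀
  · have hVDN : VD ≤ normalizer ((sSup S₀ : Subgroup G) : Set G) := by
      apply le_normalizer_of_forall_conj_smul_le
      intro v hv
      have h1 : sSup S₀ ≤ MulAut.conj v⁻¹ • sSup S₀ := by
        apply sSup_le
        intro U hU
        have h2 : MulAut.conj v • U ≤ sSup S₀ := le_sSup (hsub (hconj U (hS₀S hU) v hv))
        rw [← Subgroup.pointwise_smul_le_pointwise_smul_iff (a := MulAut.conj v), smul_smul,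
          ← map_mul, mul_inv_cancel, map_one, one_smul]
        exact h2
      have h2 := Subgroup.pointwise_smul_le_pointwise_smul_iff (a := MulAut.conj v).mpr h1
      rwa [smul_smul, ← map_mul, mul_inv_cancel, map_one, one_smul] at h2
    exact (coatom_eq_of_le cD hX.1 (hVDN.trans hNX)).symm
  · have h₀ : S₀ ⊂ S := ⟨hS₀S, hsub⟩
    obtain ⟨B, hBS, hBS₀, hBN⟩ := exists_normalizing_of_ssubset VD S S₀ hS hconj h₀
    by_contra hXVD
    obtain ⟨⟨VB, hB, hVB⟩, hBVD⟩ := hBS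
    obtain ⟨F, hF⟩ := hne₀
    obtain ⟨VF, hFpr⟩ := hF.1.1
    obtain ⟨h1, h2, h3⟩ := hmem F hF VF hFpr
    have hFX : F ≤ X := ((le_sSup hF).trans le_normalizer).trans hNX
    have hBX : B ≤ X := hBN.trans hNX
    have hBF : B ≠ F := fun e => hBS₀ (e ▸ hF)
    obtain ⟨-, -, hBVF, -, -⟩ := partners cx.IH (hB.bd cx.bd) (hFpr.bd cx.bd) hBF hX cD hXVD
      hBX hFX hBVD h2
    have hBSg : B ∈ Sg A M VD VF := ⟨⟨VB, hB⟩, hBVD, hBVF⟩
    rw [(cx.unif hD hFpr hDS hF.1 (fun e => hF.2 (by rw [← e]; rfl))).2] at hBSg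
    apply hBS₀
    refine ⟨hBSg, ?_⟩
    intro e
    have e' : B = D := Set.mem_singleton_iff.mp e
    exact hVB (Pr.unique cx.bd.norm (e' ▸ hB) hD)

theorem sSup_le_of (cx : Ctx m A M C VC) {D VD : Subgroup G} (hD : Pr A M D VD)
    (hDS : D ∈ Sg A M M VC) : sSup (Sg A M M VC \ {D}) ≤ VD := by
  apply sSup_le
  intro F hF
  obtain ⟨VF, hFpr⟩ := hF.1.1
  obtain ⟨-, h2⟩ := cx.unif hD hFpr hDS hF.1 (fun e => hF.2 (by rw [← e]; rfl))
  have h3 : F ∈ Sg A M VD VF := h2 ▸ hF.1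
  exact h3.2.1

theorem exists_mem_diff (cx : Ctx m A M C VC) (D : Subgroup G) :
    ∃ F, F ∈ Sg A M M VC \ {D} := by
  by_cases hDA : D = A
  · exact ⟨C, cx.memC, fun e => cx.hAC (hDA ▸ (Set.mem_singleton_iff.mp e).symm)⟩
  · exact ⟨A, cx.memA, fun e => hDA (Set.mem_singleton_iff.mp e).symm⟩

theorem normalizer_ne_top (cx : Ctx m A M C VC) {T F VF V : Subgroup G} (hF : Pr A M F VF)
    (hFT : F ≤ T) (hV : IsCoatom V) (hTV : T ≤ V) : normalizer (T : Set G) ≠ ⊤ := by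
  intro h
  have hn : T.Normal := Subgroup.normalizer_eq_top_iff.mp h
  have h1 := Subgroup.normalClosure_le_normal (N := T) (s := (F : Set G)) hFT
  rw [(hF.bd cx.bd).ncl, top_le_iff] at h1
  apply hV.1
  rw [eq_top_iff, ← h1]
  exact hTV

theorem normalizer_le (cx : Ctx m A M C VC) {D VD : Subgroup G} (hD : Pr A M D VD)
    (hDS : D ∈ Sg A M M VC) :
    normalizer ((sSup (Sg A M M VC \ {D}) : Subgroup G) : Set G) ≤
      normalizer ((sSup (Sg A M M VC) : Subgroup G) : Set G) := by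
  have cD := (hD.bd cx.bd).coatom
  obtain ⟨F, hF⟩ := cx.exists_mem_diff D
  obtain ⟨VF, hFpr⟩ := hF.1.1
  have hT'VD := cx.sSup_le_of hD hDS
  have hNtop := cx.normalizer_ne_top hFpr (le_sSup hF) cD hT'VD
  obtain ⟨X, hX, hNX⟩ := exists_coatom_ge hNtop
  have hXVD : X = VD := cx.only_coatom hD hDS hX hNX
  obtain ⟨hVDF, hSg1⟩ := cx.unif hD hFpr hDS hF.1 (fun e => hF.2 (by rw [← e]; rfl))
  intro b hb
  have hbVD : b ∈ VD := hXVD ▸ hNX hb
  -- T' ≤ VD ⊓ VF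
  have hT'VF : sSup (Sg A M M VC \ {D}) ≤ VF := by
    apply sSup_le
    intro E hE
    have h3 : E ∈ Sg A M VD VF := hSg1 ▸ hE.1
    exact h3.2.2
  have hbF : MulAut.conj b • F ≤ sSup (Sg A M M VC \ {D}) := by
    have h1 : MulAut.conj b • F ≤ MulAut.conj b • sSup (Sg A M M VC \ {D}) :=
      Subgroup.pointwise_smul_le_pointwise_smul_iff.mpr (le_sSup hF)
    rwa [conj_smul_eq_of_mem_normalizer hb] at h1
  have hbFSg : MulAut.conj b • F ∈ Sg A M M VC := by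
    rw [← hSg1]
    exact ⟨⟨_, hFpr.conj b⟩, hbF.trans hT'VD, hbF.trans hT'VF⟩
  have hbVD' : MulAut.conj b • VD = VD := Subgroup.conj_smul_eq_self_of_mem hbVD
  have hbFD : D ≠ MulAut.conj b • F := by
    intro e
    have h1 : VD = MulAut.conj b • VF := Pr.unique cx.bd.norm hD (e ▸ hFpr.conj b)
    apply hVDF
    have h2 : MulAut.conj b • VD = MulAut.conj b • VF := by rw [hbVD']; exact h1
    have h3 : (MulAut.conj b)⁻¹ • (MulAut.conj b • VD) = (MulAut.conj b)⁻¹ • (MulAut.conj b • VF) := by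
      rw [h2]
    rwa [inv_smul_smul, inv_smul_smul] at h3
  obtain ⟨-, hSg2⟩ := cx.unif hD (hFpr.conj b) hDS hbFSg hbFD
  have hall : ∀ E ∈ Sg A M M VC, MulAut.conj b • E ∈ Sg A M M VC := by
    intro E hE
    obtain ⟨VE, hEpr⟩ := hE.1
    have h3 : E ∈ Sg A M VD VF := hSg1 ▸ hE
    rw [← hSg2]
    refine ⟨⟨_, hEpr.conj b⟩, ?_, ?_⟩
    · rw [← hbVD']
      exact Subgroup.pointwise_smul_le_pointwise_smul_iff.mpr h3.2.1
    · exact Subgroup.pointwise_smul_le_pointwise_smul_iff.mpr h3.2.2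
  apply mem_normalizer_of_le_conj_smul
  -- T ≤ conj b • T  ⟸  conj b⁻¹ • T ≤ T
  have h1 : ∀ (c : G), (∀ E ∈ Sg A M M VC, MulAut.conj c • E ∈ Sg A M M VC) →
      sSup (Sg A M M VC) ≤ MulAut.conj c⁻¹ • sSup (Sg A M M VC) := by
    intro c hc
    apply sSup_le
    intro U hU
    have h2 : MulAut.conj c • U ≤ sSup (Sg A M M VC) := le_sSup (hc U hU)
    rw [← Subgroup.pointwise_smul_le_pointwise_smul_iff (a := MulAut.conj c), smul_smul,
      ← map_mul, mul_inv_cancel, map_one, one_smul]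
    exact h2
  have h2 := h1 b hall
  have h3 : Nat.card (sSup (Sg A M M VC) : Subgroup G) ≤ Nat.card (sSup (Sg A M M VC) : Subgroup G) :=
    le_rfl
  have h4 : sSup (Sg A M M VC) = MulAut.conj b⁻¹ • sSup (Sg A M M VC) :=
    Subgroup.eq_of_le_of_card_ge h2 (by rw [card_conj_smul])
  have h5 : MulAut.conj b • sSup (Sg A M M VC) = MulAut.conj b • (MulAut.conj b⁻¹ • sSup (Sg A M M VC)) := by
    rw [← h4]
  rw [smul_smul, ← map_mul, mul_inv_cancel, map_one, one_smul] at h5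
  rw [h5]

theorem false_of (cx : Ctx m A M C VC) : False := by
  have hTM : sSup (Sg A M M VC) ≤ M := by
    apply sSup_le
    intro E hE
    exact hE.2.1
  have hNtop := cx.normalizer_ne_top (pr_self A M) (le_sSup cx.memA) cx.bd.coatom hTM
  obtain ⟨X, hX, hNX⟩ := exists_coatom_ge hNtop
  have h1 : X = M := cx.only_coatom (pr_self A M) cx.memA hX
    ((cx.normalizer_le (pr_self A M) cx.memA).trans hNX)
  have h2 : X = VC := cx.only_coatom cx.prC cx.memC hX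
    ((cx.normalizer_le cx.prC cx.memC).trans hNX)
  exact cx.hMC (h1.symm.trans h2)

end Ctx

/-- The core: with the induction hypothesis, a subgroup `A` with single bad coatom `M` lies in no
other coatom. -/
theorem core {m : ℕ} (IH : IHyp G m) {A M : Subgroup G} (hbd : Bd m A M) {K : Subgroup G}
    (hK : IsCoatom K) (hAK : A ≤ K) : K = M := by
  by_contra hKM
  have hsn : (A.subgroupOf K).IsSubnormal := hbd.good K hK hAK hKM
  have hnot : ¬ K ≤ normalizer (A : Set G) := by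
    intro h
    exact hKM (coatom_eq_of_le hK hbd.coatom.1 (h.trans hbd.norm))
  obtain ⟨x, hxK, hne, hle⟩ := exists_conj_le_normalizer _ A K rfl hAK hsn hnot
  have hC : Pr A M (MulAut.conj x • A) (MulAut.conj x • M) := (pr_self A M).conj x
  have hCK : MulAut.conj x • A ≤ K := conj_smul_le_of_mem hxK hAK
  have hCM : MulAut.conj x • A ≤ M := hle.trans hbd.norm
  obtain ⟨h1, -, h3, -, -⟩ := partners IH hbd (hC.bd hbd) (Ne.symm hne) hK hbd.coatom hKM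
    hAK hCK hbd.le hCM
  exact Ctx.false_of (m := m) (A := A) (M := M) (C := MulAut.conj x • A) (VC := MulAut.conj x • M)
    ⟨IH, hbd, hC, h1, h3, hCM, Ne.symm hne⟩

end Cfsg.Agent.Helper19.FZ
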