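import Mathlib
import Cfsg.Agent.S3947

/-!
# Iterated conjugation sets generate (Flavell), on top of S3947 (helper19)

`Kset a 0` is the set of conjugates of `a`; `Kset a (j+1) = {y a y⁻¹ | y ∈ Kset a j}`.
If the normal closure of `a` is the whole finite group, every `Kset a j` generates it.
-/

set_option autoImplicit false
set_option linter.unusedSectionVars false

namespace Cfsg.Agent.Helper19.FZ

open Subgroup
open scoped Pointwise
open Cfsg.Agent.Helper1 Cfsg.Agent.Helper3

/-- iterated conjugation sets -/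
def Kset {Γ : Type*} [Group Γ] (a : Γ) : ℕ → Set Γ
  | 0 => {y | ∃ h : Γ, y = h * a * h⁻¹}
  | (j + 1) => {y | ∃ z ∈ Kset a j, y = z * a * z⁻¹}

theorem self_mem_Kset {Γ : Type*} [Group Γ] (a : Γ) : ∀ j : ℕ, a ∈ Kset a j
  | 0 => ⟨1, by simp⟩
  | (j + 1) => ⟨a, self_mem_Kset a j, by simp⟩

theorem Kset_map {Γ₁ Γ₂ : Type*} [Group Γ₁] [Group Γ₂] (f : Γ₁ →* Γ₂) (a : Γ₁) :
    ∀ j : ℕ, f '' Kset a j ⊆ Kset (f a) j
  | 0 => by
    rintro _ ⟨y, ⟨h, rfl⟩, rfl⟩
    exact ⟨f h, by simp⟩
  | (j + 1) => by
    rintro _ ⟨y, ⟨z, hz, rfl⟩, rfl⟩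
    exact ⟨f z, Kset_map f a j ⟨z, hz, rfl⟩, by simp⟩

theorem closure_Kset_zero {Γ : Type*} [Group Γ] (a : Γ)
    (ha : Subgroup.normalClosure ((Subgroup.zpowers a : Subgroup Γ) : Set Γ) = ⊤) :
    Subgroup.closure (Kset a 0) = ⊤ := by
  have hn : (Subgroup.closure (Kset a 0)).Normal := by
    have h1 : ∀ g : Γ, MulAut.conj g • Subgroup.closure (Kset a 0) ≤ Subgroup.closure (Kset a 0) := by
      intro g
      rw [Subgroup.smul_closure]
      apply Subgroup.closure_mono
      rintro _ ⟨y, ⟨h, rfl⟩, rfl⟩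
      refine ⟨g * h, ?_⟩
      simp [MulAut.smul_def, MulAut.conj_apply, mul_assoc]
    constructor
    intro n hn g
    have h2 := h1 g (conj_mem_conj_smul (g := g) hn)
    exact h2
  rw [eq_top_iff, ← ha]
  apply Subgroup.normalClosure_le_normal
  intro x hx
  have h3 : Subgroup.zpowers a ≤ Subgroup.closure (Kset a 0) := by
    rw [Subgroup.zpowers_le]
    exact Subgroup.subset_closure (self_mem_Kset a 0)
  exact h3 hx

universe u

/-- **Flavell**: if the normal closure of `a` is everything, all iterated conjugation sets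
generate. -/
theorem closure_Kset_aux : ∀ (n : ℕ) (Γ : Type u) [Group Γ] [Finite Γ], Nat.card Γ = n →
    ∀ a : Γ, Subgroup.normalClosure ((Subgroup.zpowers a : Subgroup Γ) : Set Γ) = ⊤ →
    ∀ j : ℕ, Subgroup.closure (Kset a j) = ⊤ := by
  intro n
  induction n using Nat.strong_induction_on with
  | _ n ih =>
    intro Γ _ _ hn a ha j
    by_cases hAtop : Subgroup.zpowers a = ⊤
    · rw [eq_top_iff, ← hAtop, Subgroup.zpowers_le]
      exact Subgroup.subset_closure (self_mem_Kset a j)
    -- every member of `hset (zpowers a)` lies in each closure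
    have hH : ∀ H ∈ hset (Subgroup.zpowers a), ∀ i : ℕ, H ≤ Subgroup.closure (Kset a i) := by
      rintro H ⟨hAH, hHtop, hcn⟩ i
      have haH : a ∈ H := hAH (Subgroup.mem_zpowers a)
      have hcard : Nat.card H < n := by
        rw [← hn, ← Nat.card_congr (Subgroup.topEquiv (G := Γ)).toEquiv]
        exact card_lt_of_lt (lt_top_iff_ne_top.mpr hHtop)
      have hz : (Subgroup.zpowers a).subgroupOf H = Subgroup.zpowers (⟨a, haH⟩ : H) := by
        ext x
        rw [Subgroup.mem_subgroupOf, Subgroup.mem_zpowers_iff, Subgroup.mem_zpowers_iff]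
        constructor
        · rintro ⟨k, hk⟩
          exact ⟨k, Subtype.ext (by simpa using hk)⟩
        · rintro ⟨k, hk⟩
          refine ⟨k, ?_⟩
          have := congrArg (Subtype.val) hk
          simpa using this
      have hncl : Subgroup.normalClosure ((Subgroup.zpowers (⟨a, haH⟩ : H) : Subgroup H) : Set H) = ⊤ := by
        rw [← hz]
        exact (cn_iff hAH).mpr hcn
      have h1 := ih (Nat.card H) hcard H rfl ⟨a, haH⟩ hncl i
      have h2 : H = (⊤ : Subgroup H).map H.subtype := by
        rw [← MonoidHom.range_eq_map, Subgroup.range_subtype]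
      rw [h2, ← h1, MonoidHom.map_closure]
      apply Subgroup.closure_mono
      exact Kset_map H.subtype ⟨a, haH⟩ i
    induction j with
    | zero => exact closure_Kset_zero a ha
    | succ j ihj =>
      rcases Cfsg.Agent.S3947.result (Subgroup.zpowers a) ha hAtop with hY | ⟨M, ⟨hM, hAM⟩, huniq⟩
      · rw [hset_eq] at hY
        rw [eq_top_iff, ← hY]
        apply sSup_le
        intro H hH'
        exact hH H hH' (j + 1)
      · by_contra hE
        obtain ⟨M', hM', hEM'⟩ := exists_coatom_ge hE
        have haE : a ∈ Subgroup.closure (Kset a (j + 1)) :=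
          Subgroup.subset_closure (self_mem_Kset a (j + 1))
        have hAE : Subgroup.zpowers a ≤ Subgroup.closure (Kset a (j + 1)) :=
          Subgroup.zpowers_le.mpr haE
        have hMM' : M' = M := huniq M' ⟨hM', hAE.trans hEM'⟩
        have hMn : normalizer (M : Set Γ) = M :=
          coatom_normalizer hM (coatom_not_normal ha hM hAM)
        have hK : Kset a j ⊆ (M : Set Γ) := by
          intro y hy
          have h1 : y * a * y⁻¹ ∈ M := by
            rw [← hMM']
            exact hEM' (Subgroup.subset_closure ⟨y, hy, rfl⟩)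
          -- a ∈ conj y⁻¹ • M
          have h2 : Subgroup.zpowers a ≤ MulAut.conj y⁻¹ • M := by
            rw [Subgroup.zpowers_le, Cfsg.Agent.Helper3.mem_conj_smul_iff, inv_inv]
            exact h1
          have h3 : MulAut.conj y⁻¹ • M = M := huniq _ ⟨coatom_conj hM y⁻¹, h2⟩
          have h4 : y⁻¹ ∈ normalizer (M : Set Γ) := mem_normalizer_of_conj_smul_eq h3
          rw [hMn] at h4
          have := M.inv_mem h4
          rwa [inv_inv] at this
        have h5 : Subgroup.closure (Kset a j) ≤ M := (Subgroup.closure_le M).mpr hK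
        rw [ihj, top_le_iff] at h5
        exact hM.1 h5

theorem closure_Kset {Γ : Type u} [Group Γ] [Finite Γ] (a : Γ)
    (ha : Subgroup.normalClosure ((Subgroup.zpowers a : Subgroup Γ) : Set Γ) = ⊤) (j : ℕ) :
    Subgroup.closure (Kset a j) = ⊤ :=
  closure_Kset_aux _ Γ rfl a ha j

end Cfsg.Agent.Helper19.FZ
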