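import Mathlib
import Cfsg.Prelude.Def_Solvable
import Cfsg.Agent.Lib.Helper21.GAG39Defs

/-!
# S4839 farm-out, piece G39-CAM (helper21's skeleton): Camina, conjugacy form.  Typed by helper19.
-/

set_option autoImplicit false
set_option linter.unusedSectionVars false
set_option linter.unusedVariables false

namespace Cfsg.Agent.Helper21.GAG39

open Cfsg
open scoped Pointwise

/-- the conjugation stabilizer of `x` has as many elements as its centralizer. -/
theorem cam_card_stab {H : Type*} [Group H] (x : H) :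
    Nat.card (MulAction.stabilizer (ConjAct H) x) =
      Nat.card (Subgroup.centralizer ({x} : Set H)) := by
  refine Nat.card_congr ⟨fun g => ⟨ConjAct.ofConjAct g.1, ?_⟩,
    fun g => ⟨ConjAct.toConjAct g.1, ?_⟩, ?_, ?_⟩
  · have hg := g.2
    rw [MulAction.mem_stabilizer_iff, ConjAct.smul_def] at hg
    rw [Subgroup.mem_centralizer_iff]
    intro h hh
    rw [Set.mem_singleton_iff] at hh
    subst hh
    have : ConjAct.ofConjAct g.1 * h * (ConjAct.ofConjAct g.1)⁻¹ * ConjAct.ofConjAct g.1
        = h * ConjAct.ofConjAct g.1 := by rw [hg]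
    rw [← this]; group
  · have hg := g.2
    rw [Subgroup.mem_centralizer_iff] at hg
    have h1 := hg x rfl
    rw [MulAction.mem_stabilizer_iff, ConjAct.smul_def, ConjAct.ofConjAct_toConjAct, ← h1]
    group
  · intro g; ext; simp
  · intro g; ext; simp

/-- orbit-stabilizer for conjugation, `Nat.card` form with the centralizer. -/
theorem cam_orbit_card {H : Type*} [Group H] (x : H) :
    Nat.card (MulAction.orbit (ConjAct H) x) * Nat.card (Subgroup.centralizer ({x} : Set H)) =
      Nat.card H := by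
  rw [← cam_card_stab, ← Nat.card_prod]
  exact (Nat.card_congr (MulAction.orbitProdStabilizerEquivGroup (ConjAct H) x)).trans
    (Nat.card_congr ConjAct.ofConjAct.toEquiv)

variable {G : Type*} [Group G] [Finite G] {p : ℕ} [Fact p.Prime] (N : Subgroup G) [N.Normal]

/-- PIECE G39-CAM [L0]. Camina, conjugacy form: `x ∉ N` is conjugate to every element of `xN`. -/
theorem conj_of_coset
    (hcam : ∀ x : G, x ∉ N → Nat.card (Subgroup.centralizer ({x} : Set G)) =
      Nat.card (Subgroup.centralizer ({(x : G ⧸ N)} : Set (G ⧸ N))))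
    (x y : G) (hx : x ∉ N) (hxy : (y : G ⧸ N) = (x : G ⧸ N)) : ∃ g : G, g * x * g⁻¹ = y := by
  classical
  have h1 := cam_orbit_card x
  have h2 := cam_orbit_card (x : G ⧸ N)
  have h3 : Nat.card ((QuotientGroup.mk : G → G ⧸ N) ⁻¹'
      (MulAction.orbit (ConjAct (G ⧸ N)) (x : G ⧸ N)) : Set G) =
      Nat.card N * Nat.card (MulAction.orbit (ConjAct (G ⧸ N)) (x : G ⧸ N)) := by
    rw [← Nat.card_prod]
    exact Nat.card_congr (QuotientGroup.preimageMkEquivSubgroupProdSet N _)
  have h4 : Nat.card G = Nat.card (G ⧸ N) * Nat.card N :=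
    Subgroup.card_eq_card_quotient_mul_card_subgroup N
  have hsub : MulAction.orbit (ConjAct G) x ⊆ (QuotientGroup.mk : G → G ⧸ N) ⁻¹'
      (MulAction.orbit (ConjAct (G ⧸ N)) (x : G ⧸ N)) := by
    rintro _ ⟨g, rfl⟩
    refine ⟨ConjAct.toConjAct ((ConjAct.ofConjAct g : G) : G ⧸ N), ?_⟩
    simp [ConjAct.smul_def]
  have hcard : Nat.card ((QuotientGroup.mk : G → G ⧸ N) ⁻¹'
      (MulAction.orbit (ConjAct (G ⧸ N)) (x : G ⧸ N)) : Set G) =
      Nat.card (MulAction.orbit (ConjAct G) x) := by
    have hc := hcam x hx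
    have hpos : 0 < Nat.card (Subgroup.centralizer ({x} : Set G)) := Nat.card_pos
    apply Nat.eq_of_mul_eq_mul_right hpos
    rw [h1, h3]
    rw [hc, mul_assoc, h2, h4, mul_comm]
  have heq : MulAction.orbit (ConjAct G) x = (QuotientGroup.mk : G → G ⧸ N) ⁻¹'
      (MulAction.orbit (ConjAct (G ⧸ N)) (x : G ⧸ N)) := by
    apply Set.eq_of_subset_of_ncard_le hsub
    rw [← Nat.card_coe_set_eq, ← Nat.card_coe_set_eq, hcard]
  have hy : y ∈ MulAction.orbit (ConjAct G) x := by
    rw [heq]
    show (y : G ⧸ N) ∈ MulAction.orbit (ConjAct (G ⧸ N)) (x : G ⧸ N)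
    rw [hxy]
    exact MulAction.mem_orbit_self _
  obtain ⟨g, hg⟩ := hy
  refine ⟨ConjAct.ofConjAct g, ?_⟩
  rw [← hg]
  exact (ConjAct.smul_def g x).symm

end Cfsg.Agent.Helper21.GAG39
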