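import Mathlib
import Cfsg.Agent.Lib.Helper19.GInvAlpha1

set_option autoImplicit false
set_option linter.unusedSectionVars false
set_option linter.unusedVariables false
set_option linter.unusedSimpArgs false
set_option linter.style.haveILetI false

/-!
# Package (alpha) for helper17's GInv, part 2: extension and restriction of maps (helper19).
-/

namespace Cfsg.Agent.Helper19.GInvAlpha

open Cfsg.Agent.Helper2.PGeo Module

variable {F : Type*} [Field F] {V : Type*} [AddCommGroup V] [Module F V]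
  {γ : V →ₗ[F] V} {e : F}

/-- the projection, with values in the eigenspace -/
def projW (hI : IsInv γ e) : V →ₗ[F] eig γ e :=
  (proj γ e).codRestrict (eig γ e) (fun v => proj_mem hI v)

theorem projW_coe (hI : IsInv γ e) (v : V) : (projW hI v : V) = proj γ e v := rfl

theorem projW_of_mem (hI : IsInv γ e) (w : eig γ e) : projW hI (w : V) = w :=
  Subtype.ext (proj_of_mem hI (mem_eig.1 w.2))

theorem projW_of_mem' (hI : IsInv γ e) {v : V} (hv : γ v = e • v) :
    (projW hI v : V) = v := proj_of_mem hI hv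

theorem projW_of_neg (hI : IsInv γ e) {v : V} (hv : γ v = -e • v) : projW hI v = 0 :=
  Subtype.ext (proj_of_mem_neg hI hv)

theorem projW_gamma (hI : IsInv γ e) (v : V) : projW hI (γ v) = e • projW hI v := by
  apply Subtype.ext
  rw [projW_coe, proj_gamma, gamma_proj hI]
  rfl

theorem gamma_coe (w : eig γ e) : γ (w : V) = e • (w : V) := mem_eig.1 w.2

/-- extension of an endomorphism of the eigenspace by zero -/
def zext (hI : IsInv γ e) (f : eig γ e →ₗ[F] eig γ e) : V →ₗ[F] V :=
  (eig γ e).subtype ∘ₗ f ∘ₗ projW hI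

theorem zext_apply (hI : IsInv γ e) (f : eig γ e →ₗ[F] eig γ e) (v : V) :
    zext hI f v = (f (projW hI v) : V) := rfl

theorem zext_coe (hI : IsInv γ e) (f : eig γ e →ₗ[F] eig γ e) (w : eig γ e) :
    zext hI f (w : V) = (f w : V) := by
  rw [zext_apply, projW_of_mem]

theorem gamma_zext (hI : IsInv γ e) (f : eig γ e →ₗ[F] eig γ e) (v : V) :
    γ (zext hI f v) = e • zext hI f v := by
  rw [zext_apply, gamma_coe]

theorem zext_gamma (hI : IsInv γ e) (f : eig γ e →ₗ[F] eig γ e) (v : V) :
    zext hI f (γ v) = γ (zext hI f v) := by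
  rw [gamma_zext, zext_apply, zext_apply, projW_gamma, map_smul]
  rfl

/-- extension of an endomorphism of the eigenspace by the identity -/
def extMap (hI : IsInv γ e) (f : eig γ e →ₗ[F] eig γ e) : V →ₗ[F] V :=
  zext hI f + proj γ (-e)

theorem extMap_apply (hI : IsInv γ e) (f : eig γ e →ₗ[F] eig γ e) (v : V) :
    extMap hI f v = (f (projW hI v) : V) + proj γ (-e) v := rfl

theorem projW_extMap (hI : IsInv γ e) (f : eig γ e →ₗ[F] eig γ e) (v : V) :
    projW hI (extMap hI f v) = f (projW hI v) := by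
  rw [extMap_apply, map_add, projW_of_mem, projW_of_neg hI (gamma_proj hI.neg v), add_zero]

theorem proj_neg_extMap (hI : IsInv γ e) (f : eig γ e →ₗ[F] eig γ e) (v : V) :
    proj γ (-e) (extMap hI f v) = proj γ (-e) v := by
  rw [extMap_apply, map_add, proj_neg_of_mem hI (gamma_coe _),
    proj_of_mem hI.neg (gamma_proj hI.neg v), zero_add]

theorem extMap_comp (hI : IsInv γ e) (f g : eig γ e →ₗ[F] eig γ e) (v : V) :
    extMap hI f (extMap hI g v) = extMap hI (f ∘ₗ g) v := by
  rw [extMap_apply, projW_extMap, proj_neg_extMap, extMap_apply]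
  rfl

theorem extMap_id (hI : IsInv γ e) (v : V) : extMap hI LinearMap.id v = v := by
  rw [extMap_apply, LinearMap.id_apply, projW_coe, proj_add_proj hI]

theorem extMap_coe (hI : IsInv γ e) (f : eig γ e →ₗ[F] eig γ e) (w : eig γ e) :
    extMap hI f (w : V) = (f w : V) := by
  rw [extMap_apply, projW_of_mem, proj_neg_of_mem hI (gamma_coe w), add_zero]

/-- extension of an automorphism of the eigenspace by the identity -/
def extEquiv (hI : IsInv γ e) (g : eig γ e ≃ₗ[F] eig γ e) : V ≃ₗ[F] V :=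
  LinearEquiv.ofLinearMap (extMap hI g.toLinearMap) (extMap hI g.symm.toLinearMap)
    (by
      ext v
      rw [LinearMap.comp_apply, extMap_comp, LinearMap.id_apply]
      have : g.toLinearMap ∘ₗ g.symm.toLinearMap = LinearMap.id := by
        ext w; simp
      rw [this, extMap_id])
    (by
      ext v
      rw [LinearMap.comp_apply, extMap_comp, LinearMap.id_apply]
      have : g.symm.toLinearMap ∘ₗ g.toLinearMap = LinearMap.id := by
        ext w; simp
      rw [this, extMap_id])

theorem extEquiv_apply (hI : IsInv γ e) (g : eig γ e ≃ₗ[F] eig γ e) (v : V) :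
    extEquiv hI g v = (g (projW hI v) : V) + proj γ (-e) v := rfl

theorem extEquiv_coe (hI : IsInv γ e) (g : eig γ e ≃ₗ[F] eig γ e) (w : eig γ e) :
    extEquiv hI g (w : V) = (g w : V) := extMap_coe hI g.toLinearMap w

theorem extEquiv_symm_coe (hI : IsInv γ e) (g : eig γ e ≃ₗ[F] eig γ e) (w : eig γ e) :
    (extEquiv hI g).symm (w : V) = (g.symm w : V) := extMap_coe hI g.symm.toLinearMap w

theorem extEquiv_gamma (hI : IsInv γ e) (g : eig γ e ≃ₗ[F] eig γ e) (v : V) :
    extEquiv hI g (γ v) = γ (extEquiv hI g v) := by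
  rw [extEquiv_apply, extEquiv_apply, map_add, gamma_coe, projW_gamma, map_smul, proj_gamma]
  rfl

theorem extEquiv_iso {B : V →ₗ[F] V →ₗ[F] F} (hI : IsInv γ e)
    (hγiso : ∀ u v, B (γ u) (γ v) = B u v) (g : eig γ e ≃ₗ[F] eig γ e)
    (hg : ∀ u v : eig γ e, B (g u : V) (g v : V) = B (u : V) (v : V)) (u v : V) :
    B (extEquiv hI g u) (extEquiv hI g v) = B u v := by
  rw [extEquiv_apply, extEquiv_apply, B_decomp hI hγiso (gamma_coe _) (gamma_proj hI.neg u)
    (gamma_coe _) (gamma_proj hI.neg v), hg, B_split hI hγiso u v]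
  rfl

/-- `1 + zext N` is an isometry when `1 + N` is -/
theorem zext_iso {B : V →ₗ[F] V →ₗ[F] F} (hI : IsInv γ e)
    (hγiso : ∀ u v, B (γ u) (γ v) = B u v) (N : eig γ e →ₗ[F] eig γ e)
    (hN : ∀ u v : eig γ e, B ((u + N u : eig γ e) : V) ((v + N v : eig γ e) : V)
      = B (u : V) (v : V)) (u v : V) :
    B (u + zext hI N u) (v + zext hI N v) = B u v := by
  have h1 : ∀ x : V, x + zext hI N x
      = ((projW hI x + N (projW hI x) : eig γ e) : V) + proj γ (-e) x := by
    intro x
    rw [zext_apply, Submodule.coe_add, projW_coe]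
    have h0 := proj_add_proj hI x
    have h00 : ∀ a b c : V, a + b = x → x + c = a + c + b := by
      intro a b c hab; rw [← hab]; abel
    exact h00 _ _ _ h0
  rw [h1 u, h1 v, B_decomp hI hγiso (gamma_coe _) (gamma_proj hI.neg u)
    (gamma_coe _) (gamma_proj hI.neg v), hN, B_split hI hγiso u v]
  rfl

theorem zext_cube (hI : IsInv γ e) (N : eig γ e →ₗ[F] eig γ e)
    (hN : ∀ v, N (N (N v)) = 0) (v : V) : zext hI N (zext hI N (zext hI N v)) = 0 := by
  rw [zext_apply hI N v, zext_coe, zext_coe, hN]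
  rfl

/-- restriction of a commuting endomorphism to the eigenspace -/
def resMap (g : V →ₗ[F] V) (hg : ∀ v, g (γ v) = γ (g v)) (e : F) : eig γ e →ₗ[F] eig γ e :=
  g.restrict (fun w hw => by
    rw [mem_eig] at hw ⊢
    rw [← hg, hw, map_smul])

theorem resMap_coe (g : V →ₗ[F] V) (hg : ∀ v, g (γ v) = γ (g v)) (e : F) (w : eig γ e) :
    (resMap g hg e w : V) = g w := rfl

theorem symm_comm (g : V ≃ₗ[F] V) (hg : ∀ v, g (γ v) = γ (g v)) (v : V) :
    g.symm (γ v) = γ (g.symm v) := by
  apply g.injective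
  rw [hg, g.apply_symm_apply, g.apply_symm_apply]

/-- restriction of a commuting automorphism to the eigenspace -/
def resEquiv (g : V ≃ₗ[F] V) (hg : ∀ v, g (γ v) = γ (g v)) (e : F) :
    eig γ e ≃ₗ[F] eig γ e :=
  LinearEquiv.ofLinearMap (resMap g.toLinearMap hg e)
    (resMap g.symm.toLinearMap (symm_comm g hg) e)
    (by
      ext w
      rw [LinearMap.comp_apply, resMap_coe, resMap_coe, LinearMap.id_apply]
      exact g.apply_symm_apply _)
    (by
      ext w
      rw [LinearMap.comp_apply, resMap_coe, resMap_coe, LinearMap.id_apply]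
      exact g.symm_apply_apply _)

theorem resEquiv_coe (g : V ≃ₗ[F] V) (hg : ∀ v, g (γ v) = γ (g v)) (e : F) (w : eig γ e) :
    (resEquiv g hg e w : V) = g w := rfl

/-- the restrictions of the elements of a subgroup to a submodule -/
def resSub (M : Subgroup (V ≃ₗ[F] V)) (W : Submodule F V) : Subgroup (W ≃ₗ[F] W) where
  carrier := {k | ∃ m ∈ M, ∀ w : W, (k w : V) = m w}
  mul_mem' := by
    rintro k k' ⟨m, hm, hk⟩ ⟨m', hm', hk'⟩
    refine ⟨m * m', M.mul_mem hm hm', fun w => ?_⟩
    rw [LinearEquiv.mul_apply, LinearEquiv.mul_apply, hk, hk']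
  one_mem' := ⟨1, M.one_mem, fun w => rfl⟩
  inv_mem' := by
    rintro k ⟨m, hm, hk⟩
    refine ⟨m⁻¹, M.inv_mem hm, fun w => ?_⟩
    have h1 := hk (k⁻¹ w)
    have h2 : k (k⁻¹ w) = w := by
      rw [← LinearEquiv.mul_apply, mul_inv_cancel]; rfl
    rw [h2] at h1
    rw [h1, ← LinearEquiv.mul_apply, inv_mul_cancel]
    rfl

theorem mem_resSub {M : Subgroup (V ≃ₗ[F] V)} {W : Submodule F V} {k : W ≃ₗ[F] W} :
    k ∈ resSub M W ↔ ∃ m ∈ M, ∀ w : W, (k w : V) = m w := Iff.rfl

theorem pow_coe {W : Submodule F V} (k : W ≃ₗ[F] W) (m : V ≃ₗ[F] V)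
    (hk : ∀ w : W, (k w : V) = m w) (n : ℕ) (w : W) : ((k ^ n) w : V) = (m ^ n) w := by
  induction n generalizing w with
  | zero => rfl
  | succ n ih =>
    rw [pow_succ, pow_succ, LinearEquiv.mul_apply, LinearEquiv.mul_apply, ih, hk]

end Cfsg.Agent.Helper19.GInvAlpha
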