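import Mathlib
import Cfsg.Agent.Lib.Helper19.GInvAlpha2

set_option autoImplicit false
set_option linter.unusedSectionVars false
set_option linter.unusedVariables false
set_option linter.unusedSimpArgs false
set_option linter.style.haveILetI false

/-!
# Package (alpha) for helper17's GInv, part 3: the two statements (helper19).
-/

namespace Cfsg.Agent.Helper19.GInvAlpha

open Cfsg.Agent.Helper2.PGeo Module Cfsg.Agent.Helper17.GInv

variable {F : Type*} [Field F] [Finite F] {V : Type*} [AddCommGroup V] [Module F V]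
  [FiniteDimensional F V] {B : V →ₗ[F] V →ₗ[F] F} {γ : V →ₗ[F] V}

/-- the common last step -/
theorem final_step (h : IsEpsForm B 1) (hI : IsInv γ 1)
    (hγiso : ∀ u v, B (γ u) (γ v) = B u v)
    (hpos : 0 < finrank F (eig γ 1)) (hneg : 0 < finrank F (eig γ (-1)))
    (f : V →+ V) (cp cm μ : F)
    (hp : ∀ w, γ w = (1 : F) • w → f w = cp • w)
    (hm : ∀ w, γ w = (-1 : F) • w → f w = cm • w)
    (hμ : ∀ u v, B (f u) (f v) = μ * B u v) :
    ∃ s : F, (∀ v, f v = s • v) ∨ (∀ v, f v = s • γ v) := by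
  have e1 : cp * cp = μ := by
    obtain ⟨u, v, hu, hv, huv⟩ := exists_ne h hI hγiso hpos
    have h1 := hμ u v
    rw [hp u hu, hp v hv] at h1
    simp only [map_smul, LinearMap.smul_apply, smul_eq_mul] at h1
    apply mul_right_cancel₀ huv
    rw [← h1]; ring
  have e2 : cm * cm = μ := by
    obtain ⟨u, v, hu, hv, huv⟩ := exists_ne h hI.neg hγiso hneg
    have h1 := hμ u v
    rw [hm u hu, hm v hv] at h1
    simp only [map_smul, LinearMap.smul_apply, smul_eq_mul] at h1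
    apply mul_right_cancel₀ huv
    rw [← h1]; ring
  have e3 : (cm - cp) * (cm + cp) = 0 := by rw [← e1] at e2; linear_combination e2
  have hf : ∀ v, f v = cp • proj γ 1 v + cm • proj γ (-1) v := by
    intro v
    conv_lhs => rw [← proj_add_proj hI v]
    rw [map_add, hp _ (gamma_proj hI v), hm _ (gamma_proj hI.neg v)]
  refine ⟨cp, ?_⟩
  rcases mul_eq_zero.1 e3 with h4 | h4
  · left
    intro v
    rw [hf v, sub_eq_zero.1 h4, ← smul_add, proj_add_proj hI]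
  · right
    intro v
    rw [hf v, gamma_eq hI v, one_smul, neg_one_smul, eq_neg_of_add_eq_zero_left h4, smul_add,
      smul_neg, neg_smul]

theorem isInv_one (h2 : (2 : F) ≠ 0) (hγ2 : ∀ v, γ (γ v) = v) : IsInv γ 1 :=
  ⟨h2, hγ2, one_mul 1⟩

/-- the restriction of the elements of `M` to an eigenspace are scalars -/
theorem piece_H1 (h : IsEpsForm B 1) {e : F} (hI : IsInv γ e)
    (hγiso : ∀ u v, B (γ u) (γ v) = B u v)
    (hodd : Odd (finrank F (eig γ e)))
    (M : Subgroup (V ≃ₗ[F] V)) (hM : M ≤ sim B)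
    (hcomm : ∀ m ∈ M, ∀ v, m (γ v) = γ (m v))
    (hnorm : ∀ g : V ≃ₗ[F] V, (∀ u v, B (g u) (g v) = B u v) → (∀ v, g (γ v) = γ (g v)) →
      ∀ m ∈ M, g * m * g⁻¹ ∈ M)
    (hoddM : ∀ m ∈ M, ∃ k : ℕ, Odd k ∧ ∃ c : F, ∀ v, (m ^ k) v = c • v) :
    ∀ m ∈ M, ∃ c : F, ∀ w, γ w = e • w → m w = c • w := by
  intro m hm
  have hC := scalar_of_odd_normal_iso (isEps_restrict h hI hγiso) hodd (resSub M (eig γ e))
    (by
      rintro k ⟨m', hm', hk⟩
      obtain ⟨c, hc0, hc⟩ := hM hm'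
      refine ⟨c, hc0, fun u v => ?_⟩
      show B (k u : V) (k v : V) = c * B (u : V) (v : V)
      rw [hk, hk, hc])
    (by
      rintro g hg k ⟨m', hm', hk⟩
      have hg' : ∀ u v : eig γ e, B (g u : V) (g v : V) = B (u : V) (v : V) := hg
      refine ⟨extEquiv hI g * m' * (extEquiv hI g)⁻¹,
        hnorm _ (extEquiv_iso hI hγiso g hg') (extEquiv_gamma hI g) m' hm', fun w => ?_⟩
      rw [LinearEquiv.mul_apply, LinearEquiv.mul_apply, LinearEquiv.mul_apply,
        LinearEquiv.mul_apply]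
      have h1 : (extEquiv hI g)⁻¹ (w : V) = ((g⁻¹ w : eig γ e) : V) :=
        extEquiv_symm_coe hI g w
      rw [h1, ← hk, extEquiv_coe])
    (by
      rintro k ⟨m', hm', hk⟩
      obtain ⟨n, hn, c, hc⟩ := hoddM m' hm'
      refine ⟨n, hn, c, fun w => ?_⟩
      apply Subtype.ext
      rw [pow_coe k m' hk, hc]
      rfl)
  obtain ⟨c, hc⟩ := hC (resEquiv m (hcomm m hm) e) ⟨m, hm, fun w => rfl⟩
  refine ⟨c, fun w hw => ?_⟩
  have := hc ⟨w, mem_eig.2 hw⟩
  have h2 := congrArg Subtype.val this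
  exact h2

/-- (α)-H1 -/
theorem alpha_H1 (h : IsEpsForm B 1) (γ : V →ₗ[F] V) (hγ2 : ∀ v, γ (γ v) = v)
    (hγiso : ∀ u v, B (γ u) (γ v) = B u v)
    (hodd : Odd (finrank F (LinearMap.ker (γ + LinearMap.id))))
    (heven : Even (finrank F V))
    (M : Subgroup (V ≃ₗ[F] V)) (hM : M ≤ sim B)
    (hcomm : ∀ m ∈ M, ∀ v, m (γ v) = γ (m v))
    (hnorm : ∀ g : V ≃ₗ[F] V, (∀ u v, B (g u) (g v) = B u v) → (∀ v, g (γ v) = γ (g v)) →
      ∀ m ∈ M, g * m * g⁻¹ ∈ M)
    (hoddM : ∀ m ∈ M, ∃ k : ℕ, Odd k ∧ ∃ c : F, ∀ v, (m ^ k) v = c • v) :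
    ∀ m ∈ M, ∃ s : F, (∀ v, m v = s • v) ∨ (∀ v, m v = s • γ v) := by
  have hI : IsInv γ 1 := isInv_one h.two hγ2
  rw [ker_add_id] at hodd
  have hadd := finrank_add hI
  have hodd1 : Odd (finrank F (eig γ 1)) := by
    rcases hodd with ⟨a, ha⟩
    rcases heven with ⟨b, hb⟩
    exact ⟨b - a - 1, by omega⟩
  intro m hm
  obtain ⟨cp, hcp⟩ := piece_H1 h hI hγiso hodd1 M hM hcomm hnorm hoddM m hm
  obtain ⟨cm, hcm⟩ := piece_H1 h hI.neg hγiso hodd M hM hcomm hnorm hoddM m hm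
  obtain ⟨μ, hμ0, hμ⟩ := hM hm
  exact final_step h hI hγiso hodd1.pos hodd.pos (m : V →ₗ[F] V).toAddMonoidHom cp cm μ
    hcp hcm hμ

end Cfsg.Agent.Helper19.GInvAlpha
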