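import Mathlib
import Cfsg.Agent.Lib.Helper19.GInvAlpha3

set_option autoImplicit false
set_option linter.unusedSectionVars false
set_option linter.unusedVariables false
set_option linter.unusedSimpArgs false
set_option linter.style.haveILetI false

/-!
# Package (alpha) for helper17's GInv, part 4: the second statement (helper19).
-/

namespace Cfsg.Agent.Helper19.GInvAlpha

open Cfsg.Agent.Helper2.PGeo Module Cfsg.Agent.Helper17.GInv

variable {F : Type*} [Field F] [Finite F] {V : Type*} [AddCommGroup V] [Module F V]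
  [FiniteDimensional F V] {B : V →ₗ[F] V →ₗ[F] F} {γ : V →ₗ[F] V}

/-- restriction of a semilinear commuting map to an eigenspace -/
def resAdd {e : F} (τ : F →+* F) (hτe : τ e = e) (T : V →+ V)
    (hT : ∀ (c : F) (v : V), T (c • v) = τ c • T v) (hTγ : ∀ v, T (γ v) = γ (T v)) :
    eig γ e →+ eig γ e :=
  AddMonoidHom.mk' (fun w => ⟨T w, mem_eig.2 (by rw [← hTγ, gamma_coe, hT, hτe])⟩)
    (fun a b => Subtype.ext (by simp))

theorem resAdd_coe {e : F} (τ : F →+* F) (hτe : τ e = e) (T : V →+ V)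
    (hT : ∀ (c : F) (v : V), T (c • v) = τ c • T v) (hTγ : ∀ v, T (γ v) = γ (T v))
    (w : eig γ e) : (resAdd τ hτe T hT hTγ w : V) = T w := rfl

section piece

variable {e : F} (h : IsEpsForm B 1) (hI : IsInv γ e) (hγiso : ∀ u v, B (γ u) (γ v) = B u v)
  (τ : F →+* F) (hτe : τ e = e) (T : V →+ V) (hT : ∀ (c : F) (v : V), T (c • v) = τ c • T v)
  (hTinj : Function.Injective T) (hTγ : ∀ v, T (γ v) = γ (T v))
  (hcomm : ∀ N : V →ₗ[F] V, (∀ v, N (γ v) = γ (N v)) →
      (∀ u v, B (u + N u) (v + N v) = B u v) → (∀ v, N (N (N v)) = 0) →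
      ∀ v, T (N v) = N (T v))

include h hI hγiso hτe hT hTinj hTγ hcomm in
theorem piece_rigid (hdim : 3 ≤ finrank F (eig γ e)) :
    (∀ c, τ c = c) ∧ ∃ l : F, ∀ w, γ w = e • w → T w = l • w := by
  have hD := rigid_of_commute (isEps_restrict h hI hγiso) hdim τ (resAdd τ hτe T hT hTγ)
    (fun c w => Subtype.ext (by
      rw [resAdd_coe, Submodule.coe_smul, hT]
      rfl))
    (fun a b hab => Subtype.ext (hTinj (congrArg Subtype.val hab)))
    (by
      intro N hN1 hN3 w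
      apply Subtype.ext
      rw [resAdd_coe]
      have h1 := hcomm (zext hI N) (zext_gamma hI N) (zext_iso hI hγiso N hN1)
        (zext_cube hI N hN3) (w : V)
      rw [zext_coe] at h1
      rw [h1, zext_apply]
      have h2 : projW hI (T (w : V)) = resAdd τ hτe T hT hTγ w :=
        projW_of_mem hI (resAdd τ hτe T hT hTγ w)
      rw [h2])
  refine ⟨hD.1, ?_⟩
  obtain ⟨l, hl⟩ := hD.2
  refine ⟨l, fun w hw => ?_⟩
  exact congrArg Subtype.val (hl ⟨w, mem_eig.2 hw⟩)

include h hI hγiso hτe hT hTinj hTγ hcomm in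
theorem piece_scalar (hτ : ∀ c, τ c = c) (hodd : Odd (finrank F (eig γ e))) :
    ∃ l : F, ∀ w, γ w = e • w → T w = l • w := by
  by_cases hdim : 3 ≤ finrank F (eig γ e)
  · exact (piece_rigid h hI hγiso τ hτe T hT hTinj hTγ hcomm hdim).2
  · have h1 : finrank F (eig γ e) = 1 := by
      obtain ⟨k, hk⟩ := hodd
      omega
    obtain ⟨m, hm⟩ : ∃ m : eig γ e →ₗ[F] eig γ e, ∀ w, m w = resAdd τ hτe T hT hTγ w :=
      ⟨{ toFun := resAdd τ hτe T hT hTγ
         map_add' := (resAdd τ hτe T hT hTγ).map_add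
         map_smul' := fun c w => Subtype.ext (by
          rw [resAdd_coe, Submodule.coe_smul, hT, hτ]
          rfl) }, fun w => rfl⟩
    obtain ⟨l, hl⟩ := scalar_of_finrank_one h1 m
    refine ⟨l, fun w hw => ?_⟩
    have h2 := hl ⟨w, mem_eig.2 hw⟩
    rw [hm] at h2
    exact congrArg Subtype.val h2

end piece

/-- (α)-H2 -/
theorem alpha_H2 (h : IsEpsForm B 1) (γ : V →ₗ[F] V) (hγ2 : ∀ v, γ (γ v) = v)
    (hγiso : ∀ u v, B (γ u) (γ v) = B u v)
    (hodd : Odd (finrank F (LinearMap.ker (γ + LinearMap.id))))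
    (heven : Even (finrank F V)) (hdim : 4 ≤ finrank F V)
    (τ : F →+* F) (T : V →+ V) (hT : ∀ (c : F) (v : V), T (c • v) = τ c • T v)
    (hTinj : Function.Injective T) (hTγ : ∀ v, T (γ v) = γ (T v))
    (hsim : (∀ c, τ c = c) → ∃ μ : F, ∀ u v, B (T u) (T v) = μ * B u v)
    (hcomm : ∀ N : V →ₗ[F] V, (∀ v, N (γ v) = γ (N v)) →
      (∀ u v, B (u + N u) (v + N v) = B u v) → (∀ v, N (N (N v)) = 0) →
      ∀ v, T (N v) = N (T v)) :
    (∀ c, τ c = c) ∧ ∃ s : F, (∀ v, T v = s • v) ∨ (∀ v, T v = s • γ v) := by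
  have hI : IsInv γ 1 := isInv_one h.two hγ2
  rw [ker_add_id] at hodd
  have hadd := finrank_add hI
  have hodd1 : Odd (finrank F (eig γ 1)) := by
    rcases hodd with ⟨a, ha⟩
    rcases heven with ⟨b, hb⟩
    exact ⟨b - a - 1, by omega⟩
  have hτ1 : τ 1 = 1 := map_one τ
  have hτm : τ (-1) = -1 := by rw [map_neg, map_one]
  have hτ : ∀ c, τ c = c := by
    by_cases h3 : 3 ≤ finrank F (eig γ 1)
    · exact (piece_rigid h hI hγiso τ hτ1 T hT hTinj hTγ hcomm h3).1
    · have h3' : 3 ≤ finrank F (eig γ (-1)) := by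
        obtain ⟨k, hk⟩ := hodd1
        omega
      exact (piece_rigid h hI.neg hγiso τ hτm T hT hTinj hTγ hcomm h3').1
  refine ⟨hτ, ?_⟩
  obtain ⟨cp, hcp⟩ := piece_scalar h hI hγiso τ hτ1 T hT hTinj hTγ hcomm hτ hodd1
  obtain ⟨cm, hcm⟩ := piece_scalar h hI.neg hγiso τ hτm T hT hTinj hTγ hcomm hτ hodd
  obtain ⟨μ, hμ⟩ := hsim hτ
  exact final_step h hI hγiso hodd1.pos hodd.pos T cp cm μ hcp hcm hμ

end Cfsg.Agent.Helper19.GInvAlpha
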