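import Mathlib
import Cfsg.Prelude.Def_Solvable
import Cfsg.Agent.Lib.Helper20.GL4SubDefs

/-!
# S2553 (helper20's farm-out), PIECE EMB (helper19)

`S ⊴ K ≤ A₈` with `S` moving exactly six points: `K` embeds in `Perm (Fin 6)`
(restriction to the moved points; the kernel fixes six points and is even, hence trivial).
-/

set_option autoImplicit false
set_option linter.unusedSectionVars false
set_option linter.unusedVariables false
set_option linter.style.haveILetI false

namespace Cfsg.Agent.Helper20.GL4Sub

open scoped Pointwise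

namespace EMB

/-- `K ≤ N(S)` preserves the set of points moved by `S` -/
theorem mem_moved_of_mem (S K : Subgroup A8) (hN : K ≤ Subgroup.normalizer (S : Set A8))
    {k : A8} (hk : k ∈ K) {x : Fin 8} (hx : x ∈ moved S) :
    ((k : A8) : Equiv.Perm (Fin 8)) x ∈ moved S := by
  obtain ⟨s, hs, hsx⟩ := hx
  refine ⟨k * s * k⁻¹, ?_, ?_⟩
  · exact (Subgroup.mem_normalizer_iff.1 (hN hk) s).1 hs
  · intro hcon
    apply hsx
    have h1 : (((k * s * k⁻¹ : A8) : A8) : Equiv.Perm (Fin 8)) =
        ((k : A8) : Equiv.Perm (Fin 8)) * ((s : A8) : Equiv.Perm (Fin 8)) *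
          ((k : A8) : Equiv.Perm (Fin 8))⁻¹ := by
      simp
    rw [h1] at hcon
    simp only [Equiv.Perm.coe_mul, Function.comp_apply] at hcon
    have h2 : (((k : A8) : Equiv.Perm (Fin 8)))⁻¹ (((k : A8) : Equiv.Perm (Fin 8)) x) = x := by
      simp
    rw [h2] at hcon
    exact (((k : A8) : Equiv.Perm (Fin 8))).injective hcon

theorem mem_moved_iff (S K : Subgroup A8) (hN : K ≤ Subgroup.normalizer (S : Set A8))
    (k : K) (x : Fin 8) :
    x ∈ moved S ↔ (((k : A8) : A8) : Equiv.Perm (Fin 8)) x ∈ moved S := by
  constructor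
  · exact fun hx => mem_moved_of_mem S K hN k.2 hx
  · intro hx
    have h := mem_moved_of_mem S K hN (K.inv_mem k.2) hx
    have h1 : ((((k : A8)⁻¹ : A8) : A8) : Equiv.Perm (Fin 8)) =
        (((k : A8) : A8) : Equiv.Perm (Fin 8))⁻¹ := by simp
    rw [h1] at h
    simpa using h

/-- the restriction homomorphism to the moved points -/
noncomputable def res (S K : Subgroup A8) (hN : K ≤ Subgroup.normalizer (S : Set A8)) :
    K →* Equiv.Perm (moved S) where
  toFun k := Equiv.Perm.subtypePerm (((k : A8) : A8) : Equiv.Perm (Fin 8))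
    (fun x => (mem_moved_iff S K hN k x).symm)
  map_one' := by
    ext x
    simp
  map_mul' k l := by
    apply Equiv.ext
    intro x
    apply Subtype.ext
    show (((((k * l : K) : A8) : A8) : Equiv.Perm (Fin 8)) x : Fin 8) =
      (((k : A8) : A8) : Equiv.Perm (Fin 8)) ((((l : A8) : A8) : Equiv.Perm (Fin 8)) x)
    simp

theorem res_apply (S K : Subgroup A8) (hN : K ≤ Subgroup.normalizer (S : Set A8)) (k : K)
    (x : moved S) : ((res S K hN k x : moved S) : Fin 8) =
      (((k : A8) : A8) : Equiv.Perm (Fin 8)) x := rfl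

/-- an even permutation of eight points fixing six given points is trivial -/
theorem eq_one_of_fix (M : Set (Fin 8)) (hM : Nat.card M = 6) (g : Equiv.Perm (Fin 8))
    (hg : Equiv.Perm.sign g = 1) (hfix : ∀ x ∈ M, g x = x) : g = 1 := by
  classical
  have hsub : g.support ⊆ Finset.univ.filter (fun x => x ∉ M) := by
    intro x hx
    rw [Equiv.Perm.mem_support] at hx
    rw [Finset.mem_filter]
    exact ⟨Finset.mem_univ _, fun hxM => hx (hfix x hxM)⟩
  have hc6 : (Finset.univ.filter (fun x => x ∈ M)).card = 6 := by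
    rw [← hM, Nat.card_eq_fintype_card, Fintype.card_subtype]
  have hc2 : (Finset.univ.filter (fun x : Fin 8 => x ∉ M)).card = 2 := by
    have h := Finset.card_filter_add_card_filter_not (s := (Finset.univ : Finset (Fin 8)))
      (fun x => x ∈ M)
    rw [hc6, Finset.card_univ, Fintype.card_fin] at h
    omega
  have hle : g.support.card ≤ 2 := by
    have := Finset.card_le_card hsub
    rw [hc2] at this
    exact this
  by_contra hne
  have h1 : ¬ g.support.card ≤ 1 := by
    rw [Equiv.Perm.card_support_le_one]
    exact hne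
  have h2 : g.support.card = 2 := by omega
  rw [Equiv.Perm.card_support_eq_two] at h2
  have := Equiv.Perm.IsSwap.sign_eq h2
  rw [hg] at this
  exact absurd this (by decide)

end EMB

/-- EMB -/
theorem embed_six (S K : Subgroup A8) (hSK : S ≤ K)
    (hN : K ≤ Subgroup.normalizer (S : Set A8)) (hm : Nat.card (moved S) = 6) :
    ∃ f : K →* Equiv.Perm (Fin 6), Function.Injective f := by
  classical
  haveI : Finite (moved S) := Finite.of_injective (fun x : moved S => (x : Fin 8))
    Subtype.val_injective
  have e : moved S ≃ Fin 6 := Finite.equivFinOfCardEq hm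
  refine ⟨(Equiv.permCongrHom e).toMonoidHom.comp (EMB.res S K hN), ?_⟩
  have hinj : Function.Injective (EMB.res S K hN) := by
    rw [injective_iff_map_eq_one]
    intro k hk
    have hfix : ∀ x ∈ moved S, (((k : A8) : A8) : Equiv.Perm (Fin 8)) x = x := by
      intro x hx
      have h := congrArg (fun σ : Equiv.Perm (moved S) => ((σ ⟨x, hx⟩ : moved S) : Fin 8)) hk
      simpa [EMB.res_apply] using h
    have hsign : Equiv.Perm.sign (((k : A8) : A8) : Equiv.Perm (Fin 8)) = 1 :=
      Equiv.Perm.mem_alternatingGroup.1 (k : A8).2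
    have h1 := EMB.eq_one_of_fix (moved S) hm _ hsign hfix
    apply Subtype.ext
    apply Subtype.ext
    exact h1
  intro k l hkl
  apply hinj
  exact (Equiv.permCongrHom e).injective hkl

end Cfsg.Agent.Helper20.GL4Sub
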