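import Mathlib
import Cfsg.Agent.Lib.Helper8.GRDefs
import Cfsg.Agent.Lib.Helper4.XSDUAL

/-!
# S3085 piece GR-ORD4 (helper19): a noncommuting pair yields an element of square `z` and a witness.
-/

set_option autoImplicit false
set_option linter.unusedVariables false

namespace Cfsg.Agent.Helper8.GR

open Cfsg.Agent.Helper8.XS

/-! ### PIECE GR-ORD4 : a noncommuting pair yields an element of square `z` and a witness -/
theorem ord4 {Q : Type*} [Group Q] {z : Q} (h : XQ z) (a b : Q) (hab : a * b ≠ b * a) :
    ∃ w f : Q, (w = a ∨ w = b ∨ w = a * b) ∧ (f = a ∨ f = b) ∧ w * w = z ∧ f * w ≠ w * f := by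
  rcases h.hsq a with haa | haa
  · rcases h.hsq b with hbb | hbb
    · -- both involutions: `w = a * b`
      have hab' : a * b = z * (b * a) := by
        rcases h.hcomm a b with h1 | h1
        · exact absurd h1 hab
        · exact h1
      have hba : b * a = z * (a * b) := by
        rw [hab', ← mul_assoc, h.hzz, one_mul]
      refine ⟨a * b, a, Or.inr (Or.inr rfl), Or.inl rfl, ?_, ?_⟩
      · calc (a * b) * (a * b) = a * ((b * a) * b) := by simp only [mul_assoc]
          _ = a * ((z * (a * b)) * b) := by rw [hba]
          _ = (a * z) * (a * (b * b)) := by simp only [mul_assoc]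
          _ = (z * a) * (a * (b * b)) := by rw [h.hcen a]
          _ = z * ((a * a) * (b * b)) := by simp only [mul_assoc]
          _ = z := by rw [haa, hbb, one_mul, mul_one]
      · intro hc
        apply hab
        have : a * (a * b) = a * (b * a) := by rw [hc, mul_assoc]
        exact mul_left_cancel this
    · exact ⟨b, a, Or.inr (Or.inl rfl), Or.inl rfl, hbb, hab⟩
  · exact ⟨a, b, Or.inl rfl, Or.inr rfl, haa, fun hc => hab hc.symm⟩

end Cfsg.Agent.Helper8.GR
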