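import Mathlib
import Cfsg.Prelude.Def_CaseTheorems
import Cfsg.Agent.Lib.Helper22.PPrimeCore
import Cfsg.Agent.Lib.Helper27.GWBDefs

/-!
# S0508 (helper27's farm-out), PIECE CORE (helper19), core version

`C(t) = O(C(t)) S` from a normal 2-complement of `C(t)` (the statement of the piece NCOMP, as a hypothesis).
-/

set_option autoImplicit false
set_option linter.unusedVariables false
set_option linter.unusedSectionVars false
set_option linter.style.haveILetI false

namespace Cfsg.Agent.Helper27.GWB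

universe u

variable {G : Type u} [Group G] [Finite G]

namespace CORE

/-- a normal subgroup `W` of odd order and index `|S|` (`S` a `2`-subgroup) forces `O(C) S = C` -/
theorem odd_core_sup {C : Type u} [Group C] [Finite C] (S' : Subgroup C) (h2 : IsPGroup 2 S')
    (W : Subgroup C) (hWn : W.Normal) (hWo : Odd (Nat.card W)) (hWi : W.index = Nat.card S') :
    Odd (Nat.card (Cfsg.oddCore C)) ∧ Cfsg.oddCore C ⊔ S' = ⊤ := by
  have hcop : (Nat.card (Cfsg.oddCore C)).Coprime 2 := Cfsg.Agent.Helper22.card_pPrimeCore_coprime 2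
  have hodd : Odd (Nat.card (Cfsg.oddCore C)) := Nat.Coprime.odd_of_right hcop
  refine ⟨hodd, ?_⟩
  have hWle : W ≤ Cfsg.oddCore C :=
    Cfsg.Agent.Helper22.le_pPrimeCore 2 W hWn (Nat.Coprime.symm (Nat.coprime_two_left.2 hWo))
  haveI : (Cfsg.oddCore C).Normal := Cfsg.Agent.Helper22.pPrimeCore_normal 2
  obtain ⟨k, hk⟩ := h2.exists_card_eq
  have hinf : S' ⊓ Cfsg.oddCore C = ⊥ := by
    apply disjoint_iff.1
    apply Subgroup.disjoint_of_coprime_natCard
    rw [hk]
    exact Nat.Coprime.pow_left k (Nat.Coprime.symm hcop)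
  have hcard := Cfsg.Agent.Helper22.card_sup_eq_mul S' (Cfsg.oddCore C) hinf
  have hC : Nat.card W * W.index = Nat.card C := Subgroup.card_mul_index W
  have hdvd : Nat.card W ∣ Nat.card (Cfsg.oddCore C) := Subgroup.card_dvd_of_le hWle
  have hpos : 0 < Nat.card (Cfsg.oddCore C) := Nat.card_pos
  have hle : Nat.card W ≤ Nat.card (Cfsg.oddCore C) := Nat.le_of_dvd hpos hdvd
  rw [sup_comm]
  apply Subgroup.eq_top_of_le_card
  rw [hcard, ← hC, hWi, mul_comm]
  exact Nat.mul_le_mul_left _ hle

end CORE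

/-- PIECE CORE, with the statement of NCOMP for `C(t)` as a hypothesis. -/
theorem core_mul_sylow_core (S : Sylow 2 G) (t : G)
    (htZ : ∀ s ∈ (S : Subgroup G), s * t = t * s)
    (hN : ∃ W : Subgroup ↥(Subgroup.centralizer ({t} : Set G)), W.Normal ∧ Odd (Nat.card W) ∧
      W.index = Nat.card (S : Subgroup G))
    (O : Subgroup G)
    (hO : O = (Cfsg.oddCore (Subgroup.centralizer ({t} : Set G))).map
      (Subgroup.centralizer ({t} : Set G)).subtype) :
    O ≤ Subgroup.centralizer ({t} : Set G) ∧ Odd (Nat.card O) ∧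
    O ⊔ (S : Subgroup G) = Subgroup.centralizer ({t} : Set G) := by
  set Ct : Subgroup G := Subgroup.centralizer ({t} : Set G) with hCt
  have hSle : (S : Subgroup G) ≤ Ct := by
    intro s hs
    rw [hCt, Subgroup.mem_centralizer_singleton_iff]
    exact htZ s hs
  obtain ⟨W, hWn, hWo, hWi⟩ := hN
  set S' : Subgroup Ct := (S : Subgroup G).subgroupOf Ct with hS'
  have hcardS' : Nat.card S' = Nat.card (S : Subgroup G) :=
    Nat.card_congr (Subgroup.subgroupOfEquivOfLe hSle).toEquiv
  have h2 : IsPGroup 2 S' := IsPGroup.of_equiv (S.isPGroup') (Subgroup.subgroupOfEquivOfLe hSle).symm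
  obtain ⟨hodd, htop⟩ := CORE.odd_core_sup S' h2 W hWn hWo (hWi.trans hcardS'.symm)
  refine ⟨?_, ?_, ?_⟩
  · rw [hO]
    exact Subgroup.map_subtype_le _
  · rw [hO, Subgroup.card_map_of_injective Ct.subtype_injective]
    exact hodd
  · have h1 := congrArg (Subgroup.map Ct.subtype) htop
    rw [Subgroup.map_sup, ← hO, hS', Subgroup.map_subgroupOf_eq_of_le hSle, ← MonoidHom.range_eq_map,
      Subgroup.range_subtype] at h1
    exact h1

end Cfsg.Agent.Helper27.GWB
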