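import Mathlib
import Cfsg.Prelude.Def_CaseTheorems
import Cfsg.Agent.Lib.Helper27.GWBDefs
import Cfsg.Agent.Lib.Helper19.GWBCORECore
import Cfsg.Agent.Lib.Helper7.GWBNCOMP

/-!
# S0508 (helper27's farm-out), PIECE CORE (helper19)

`C(t) = O(C(t)) S`: the piece NCOMP applied inside `C(t)`, then `GWBCORECore`.
-/

set_option autoImplicit false
set_option linter.unusedVariables false
set_option linter.unusedSectionVars false
set_option linter.style.haveILetI false

namespace Cfsg.Agent.Helper27.GWB

universe u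

variable {G : Type u} [Group G] [Finite G]

/-- PIECE CORE. -/
theorem core_mul_sylow (S : Sylow 2 G) (t : G) (ht : orderOf t = 2)
    (htZ : ∀ s ∈ (S : Subgroup G), s * t = t * s)
    (S0 : Subgroup G) (hle : S0 ≤ (S : Subgroup G)) (hc : IsCyclic S0)
    (hi : S0.relIndex (S : Subgroup G) = 2) (htS0 : t ∈ S0)
    (hinv : ∀ s ∈ (S : Subgroup G), s ∉ S0 → orderOf s = 2)
    (O : Subgroup G)
    (hO : O = (Cfsg.oddCore (Subgroup.centralizer ({t} : Set G))).map
      (Subgroup.centralizer ({t} : Set G)).subtype) :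
    O ≤ Subgroup.centralizer ({t} : Set G) ∧ Odd (Nat.card O) ∧
    O ⊔ (S : Subgroup G) = Subgroup.centralizer ({t} : Set G) := by
  refine core_mul_sylow_core S t htZ ?_ O hO
  have hSle : (S : Subgroup G) ≤ Subgroup.centralizer ({t} : Set G) := by
    intro s hs
    rw [Subgroup.mem_centralizer_singleton_iff]
    exact htZ s hs
  have htC : t ∈ Subgroup.centralizer ({t} : Set G) := hSle (hle htS0)
  have hcoe : ((S.subtype hSle : Sylow 2 ↥(Subgroup.centralizer ({t} : Set G))) :
      Subgroup ↥(Subgroup.centralizer ({t} : Set G))) =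
      (S : Subgroup G).subgroupOf (Subgroup.centralizer ({t} : Set G)) := Sylow.coe_subtype S hSle
  have h := exists_normal_two_complement (C := ↥(Subgroup.centralizer ({t} : Set G))) (S.subtype hSle)
    (S0.subgroupOf (Subgroup.centralizer ({t} : Set G))) ?_ ?_ ?_ ⟨t, htC⟩ ?_ ?_ ?_ ?_
  · obtain ⟨W, hWn, hWo, hWi⟩ := h
    refine ⟨W, hWn, hWo, ?_⟩
    rw [hWi, hcoe]
    exact Nat.card_congr (Subgroup.subgroupOfEquivOfLe hSle).toEquiv
  · rw [hcoe]
    intro x hx
    exact Subgroup.mem_subgroupOf.2 (hle (Subgroup.mem_subgroupOf.1 hx))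
  · haveI := hc
    exact isCyclic_of_surjective (Subgroup.subgroupOfEquivOfLe (hle.trans hSle)).symm.toMonoidHom
      (Subgroup.subgroupOfEquivOfLe (hle.trans hSle)).symm.surjective
  · rw [hcoe, Subgroup.relIndex_subgroupOf hSle]
    exact hi
  · rw [← ht]
    exact Subgroup.orderOf_mk t htC
  · exact Subgroup.mem_subgroupOf.2 htS0
  · intro c
    apply Subtype.ext
    have := c.2
    rw [Subgroup.mem_centralizer_singleton_iff] at this
    exact this
  · intro s hs hs0
    rw [hcoe] at hs
    rw [← Subgroup.orderOf_coe]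
    exact hinv (s : G) (Subgroup.mem_subgroupOf.1 hs) (fun h' => hs0 (Subgroup.mem_subgroupOf.2 h'))

end Cfsg.Agent.Helper27.GWB
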