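import Mathlib
import Cfsg.Agent.Lib.Helper27.GWBDefs

/-!
# S0508 (helper27's farm-out), PIECE DIH1 (helper19)

A dihedral group `S` (of order `2n`, `n ≥ 2`) with a central involution `t` has a cyclic subgroup of index 2
containing `t`.
-/

set_option autoImplicit false
set_option linter.unusedVariables false
set_option linter.unusedSectionVars false
set_option linter.style.haveILetI false

namespace Cfsg.Agent.Helper27.GWB

universe u

namespace DIH1

/-- in `D_n` (`n ≥ 2`) a central involution lies in a cyclic subgroup of index 2 -/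
theorem dihedral (n : ℕ) (hn : 2 ≤ n) (τ : DihedralGroup n) (hτ : orderOf τ = 2)
    (hc : ∀ g : DihedralGroup n, g * τ = τ * g) :
    ∃ R : Subgroup (DihedralGroup n), IsCyclic R ∧ R.index = 2 ∧ τ ∈ R := by
  haveI : NeZero n := ⟨by omega⟩
  have hcard : Nat.card (DihedralGroup n) = 2 * n := DihedralGroup.nat_card
  rcases τ with i | i
  · refine ⟨Subgroup.zpowers (DihedralGroup.r 1), inferInstance, ?_, ?_⟩
    · have h1 : Nat.card (Subgroup.zpowers (DihedralGroup.r (1 : ZMod n))) = n := by
        rw [Nat.card_zpowers, DihedralGroup.orderOf_r_one]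
      have h2 := Subgroup.card_mul_index (Subgroup.zpowers (DihedralGroup.r (1 : ZMod n)))
      rw [h1, hcard] at h2
      have hn0 : 0 < n := by omega
      exact Nat.eq_of_mul_eq_mul_left hn0 (by rw [h2]; ring)
    · have : (DihedralGroup.r (1 : ZMod n)) ^ i.val = DihedralGroup.r i := by
        rw [DihedralGroup.r_one_pow, ZMod.natCast_zmod_val]
      rw [← this]
      exact Subgroup.pow_mem _ (Subgroup.mem_zpowers _) _
  · -- `sr i` central forces `n = 2`
    have h1 := hc (DihedralGroup.r 1)
    rw [DihedralGroup.r_mul_sr, DihedralGroup.sr_mul_r] at h1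
    have h2 : i - 1 = i + 1 := by
      injection h1
    have h3 : ((2 : ℕ) : ZMod n) = 0 := by
      have : (2 : ZMod n) = 0 := by linear_combination -h2
      exact_mod_cast this
    have h4 : n ∣ 2 := (ZMod.natCast_eq_zero_iff 2 n).1 h3
    have h5 : n = 2 := le_antisymm (Nat.le_of_dvd (by norm_num) h4) hn
    refine ⟨Subgroup.zpowers (DihedralGroup.sr i), inferInstance, ?_, Subgroup.mem_zpowers _⟩
    have h6 : Nat.card (Subgroup.zpowers (DihedralGroup.sr i)) = 2 := by
      rw [Nat.card_zpowers, DihedralGroup.orderOf_sr]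
    have h7 := Subgroup.card_mul_index (Subgroup.zpowers (DihedralGroup.sr i))
    rw [h6, hcard] at h7
    omega

end DIH1

variable {G : Type u} [Group G] [Finite G]

/-- PIECE DIH1. -/
theorem exists_cyclic_index_two (S : Subgroup G) (n : ℕ) (hn : 2 ≤ n)
    (hS : Nonempty (S ≃* DihedralGroup n))
    (t : G) (ht : orderOf t = 2) (htS : t ∈ S) (htZ : ∀ s ∈ S, s * t = t * s) :
    ∃ S0 : Subgroup G, S0 ≤ S ∧ IsCyclic S0 ∧ S0.relIndex S = 2 ∧ t ∈ S0 := by
  obtain ⟨e⟩ := hS
  set τ : DihedralGroup n := e ⟨t, htS⟩ with hτdef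
  have hτ : orderOf τ = 2 := by
    rw [hτdef, MulEquiv.orderOf_eq e, ← ht]
    exact (Subgroup.orderOf_mk t htS)
  have hc : ∀ g : DihedralGroup n, g * τ = τ * g := by
    intro g
    obtain ⟨x, rfl⟩ := e.surjective g
    rw [hτdef, ← map_mul, ← map_mul]
    congr 1
    apply Subtype.ext
    exact htZ x x.2
  obtain ⟨R, hRc, hRi, hτR⟩ := DIH1.dihedral n hn τ hτ hc
  refine ⟨(R.comap e.toMonoidHom).map S.subtype, Subgroup.map_subtype_le _, ?_, ?_, ?_⟩
  · -- cyclic: injective hom into `R`
    let f : ↥((R.comap e.toMonoidHom).map S.subtype) →* R :=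
      { toFun := fun x => ⟨e ⟨x.1, Subgroup.map_subtype_le _ x.2⟩, by
          obtain ⟨y, hy, hyx⟩ := x.2
          have : (⟨x.1, Subgroup.map_subtype_le _ x.2⟩ : S) = y := Subtype.ext hyx.symm
          rw [this]
          exact hy⟩
        map_one' := by
          apply Subtype.ext
          exact map_one e
        map_mul' := fun x y => by
          apply Subtype.ext
          exact map_mul e ⟨x.1, _⟩ ⟨y.1, _⟩ }
    have hf : Function.Injective f := by
      intro x y hxy
      have h1 : e ⟨x.1, Subgroup.map_subtype_le _ x.2⟩ = e ⟨y.1, Subgroup.map_subtype_le _ y.2⟩ :=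
        congrArg Subtype.val hxy
      have h2 := e.injective h1
      apply Subtype.ext
      exact congrArg (fun z : S => (z : G)) h2
    haveI := hRc
    exact isCyclic_of_injective f hf
  · unfold Subgroup.relIndex Subgroup.subgroupOf
    rw [Subgroup.comap_map_eq_self_of_injective S.subtype_injective]
    have := Subgroup.index_comap_of_surjective (H := R) (f := e.toMonoidHom) e.surjective
    rw [this, hRi]
  · exact Subgroup.mem_map.2 ⟨⟨t, htS⟩, hτR, rfl⟩

end Cfsg.Agent.Helper27.GWB
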