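import Mathlib
import Cfsg.Agent.Lib.Helper23.HKKDefs
import Cfsg.Agent.Lib.Helper23.HKKExt
import Cfsg.Agent.Lib.Helper23.HKKGrp

/-!
# S3779 piece FCO (helper19): a fixed-point-free automorphism of prime order `p` forces `|G| ≡ 1 mod p`.
-/

set_option autoImplicit false
set_option linter.unusedSectionVars false
set_option linter.unusedVariables false
set_option linter.style.haveILetI false

namespace Cfsg.Agent.Helper23.HKK

section F

variable {G : Type*} [Group G]

/-- FCO -/
theorem fpf_card_coprime [Finite G] {p : ℕ} (hp : p.Prime) (α : MulAut G) (hα : orderOf α = p)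
    (hfpf : ∀ g : G, α g = g → g = 1) : (Nat.card G).Coprime p := by
  haveI : Fact p.Prime := ⟨hp⟩
  have hA : IsPGroup p (Subgroup.zpowers α) := by
    apply IsPGroup.of_card (n := 1)
    rw [Nat.card_zpowers, hα, pow_one]
  have h1 := hA.card_modEq_card_fixedPoints (α := G)
  have hfix : MulAction.fixedPoints (Subgroup.zpowers α) G = {1} := by
    ext g
    rw [MulAction.mem_fixedPoints, Set.mem_singleton_iff]
    constructor
    · intro h
      apply hfpf
      exact h ⟨α, Subgroup.mem_zpowers α⟩
    · rintro rfl a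
      exact smul_one _
  have hc : Nat.card (MulAction.fixedPoints (Subgroup.zpowers α) G) = 1 := by
    rw [hfix]
    simp
  rw [hc] at h1
  rw [Nat.coprime_comm, Nat.Prime.coprime_iff_not_dvd hp]
  intro hdvd
  have h2 : Nat.card G ≡ 0 [MOD p] := (Nat.modEq_zero_iff_dvd).2 hdvd
  have h3 : 1 ≡ 0 [MOD p] := h1.symm.trans h2
  have h4 : p ∣ 1 := (Nat.modEq_zero_iff_dvd).1 h3
  exact hp.one_lt.ne' (Nat.dvd_one.1 h4)

end F

end Cfsg.Agent.Helper23.HKK
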