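import Mathlib
import Cfsg.Agent.Lib.Helper25.HeisP
import Cfsg.Agent.Lib.Helper29.StemSplit2

/-!
# S2046 piece HEISLOCAL (helper19 for helper29): the local statement at an odd prime `p` whose
Sylow subgroup is extraspecial of order `p ^ 3` and exponent `p`, from abstract elements.
Generalises `Cfsg.Agent.Helper29.SchurJ2.local3`.
-/

set_option autoImplicit false
set_option linter.unusedSectionVars false
set_option linter.unusedVariables false
set_option linter.style.haveILetI false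
set_option linter.unusedSimpArgs false

namespace Cfsg.Agent.Helper29.StemOdd

open Cfsg.Agent.Helper29.StemSylow Cfsg.Agent.Helper29.StemSplit
open scoped commutatorElement

theorem heislocal_conj_pair {G' : Type*} [Group G'] (g x y : G') (i j : ℤ) :
    g * (x ^ i * y ^ j) * g⁻¹ = (g * x * g⁻¹) ^ i * (g * y * g⁻¹) ^ j := by
  rw [conj_zpow, conj_zpow]
  group

/-- the same for conjugation by the inverse -/
theorem heislocal_conj_pair' {G' : Type*} [Group G'] (g x y : G') (i j : ℤ) :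
    g⁻¹ * (x ^ i * y ^ j) * g = (g⁻¹ * x * g) ^ i * (g⁻¹ * y * g) ^ j := by
  have := heislocal_conj_pair g⁻¹ x y i j
  rw [inv_inv] at this
  exact this

theorem local_of_heis {Γ G : Type*} [Group Γ] [Group G] [Finite G] (p : ℕ) (hp : p.Prime)
    (hp2 : p ≠ 2) (σ : Γ →* G) (hs : Function.Surjective σ) (hK : σ.ker ≤ Subgroup.center Γ)
    (X Y N : G) (hX : X ^ p = 1) (hY : Y ^ p = 1) (hcx : X * ⁅X, Y⁆ = ⁅X, Y⁆ * X)
    (hcy : Y * ⁅X, Y⁆ = ⁅X, Y⁆ * Y) (hnx : N * X * N⁻¹ = X⁻¹) (hny : N * Y * N⁻¹ = Y⁻¹)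
    (hc1 : ⁅X, Y⁆ ≠ 1) (hG : ¬ p ^ 4 ∣ Nat.card G) :
    ∃ Q : Subgroup G, ¬ p ∣ Q.index ∧ ∀ k ∈ ⁅Q.comap σ, Q.comap σ⁆, k ∈ σ.ker → k = 1 := by
  haveI : Fact p.Prime := ⟨hp⟩
  obtain ⟨C, hC⟩ : ∃ C : G, C = ⁅X, Y⁆ := ⟨_, rfl⟩
  rw [← hC] at hcx hcy hc1
  have xc : Commute X C := hcx
  have yc : Commute Y C := hcy
  -- `C ^ p = 1`
  have hCp : C ^ p = 1 := by
    rw [hC, ← comm_pow_left_of_comm X Y (by rw [← hC]; exact hcx), hX, commutatorElement_def]
    group
  have hCo : orderOf C = p := orderOf_eq_prime hCp hc1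
  -- `X ≠ 1`
  have hX1 : X ≠ 1 := by
    intro h
    apply hc1
    rw [hC, h, commutatorElement_def]
    group
  -- `C ∉ ⟨X⟩`
  have hCX : C ∉ Subgroup.zpowers X := by
    intro hmem
    rw [← mem_powers_iff_mem_zpowers] at hmem
    obtain ⟨m, hm⟩ := hmem
    -- `⁅X ^ m, Y⁆ = C ^ m` and `X ^ m = C` commutes with `Y`
    have h1 : ⁅X ^ m, Y⁆ = C ^ m := by
      rw [hC]
      exact comm_pow_left_of_comm X Y (by rw [← hC]; exact hcx) m
    have h2 : ⁅X ^ m, Y⁆ = 1 := by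
      have e : X ^ m = C := hm
      rw [e]
      exact commutatorElement_eq_one_iff_commute.2 yc.symm
    have h3 : C ^ m = 1 := by rw [← h1, h2]
    have h4 : p ∣ m := by
      rw [← hCo]
      exact orderOf_dvd_of_pow_eq_one h3
    obtain ⟨k, rfl⟩ := h4
    apply hc1
    have e : X ^ (p * k) = C := hm
    rw [← e, pow_mul, hX, one_pow]
  let E : Subgroup G := pairSubgroup X C xc
  let D : Subgroup G := Subgroup.zpowers Y
  obtain ⟨hEp, hE2⟩ := sq_dvd_card_pair p X C xc hX hCp hX1 hCX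
  have hDp : IsPGroup p D := by
    intro g
    refine ⟨1, ?_⟩
    obtain ⟨i, hi⟩ := Subgroup.mem_zpowers_iff.1 g.2
    apply Subtype.ext
    rw [pow_one, Subgroup.coe_pow, ← hi, ← zpow_natCast, ← zpow_mul, mul_comm, zpow_mul,
      zpow_natCast, hY, one_zpow]
    rfl
  -- conjugation by `Y`
  have yx : Y * X * Y⁻¹ = X * C⁻¹ := by
    have e : Y * X * Y⁻¹ = C⁻¹ * X := by
      rw [hC, commutatorElement_def]
      group
    rw [e, (xc.inv_right).eq]
  have ycc : Y * C * Y⁻¹ = C := by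
    rw [yc.eq]; group
  have yx' : Y⁻¹ * X * Y = X * C := by
    have e2 : Y⁻¹ * X * Y = X * ⁅X⁻¹, Y⁻¹⁆ := by
      rw [commutatorElement_def]; group
    rw [e2, comm_inv_inv (by rw [← hC]; exact hcx) (by rw [← hC]; exact hcy), ← hC]
  have ycc' : Y⁻¹ * C * Y = C := by
    rw [mul_assoc, ← yc.eq, ← mul_assoc, inv_mul_cancel, one_mul]
  have hconj : ∀ w ∈ E, Y * w * Y⁻¹ ∈ E := by
    rintro w ⟨i, j, rfl⟩
    refine ⟨i, -i + j, ?_⟩
    rw [heislocal_conj_pair, yx, ycc, (xc.inv_right).mul_zpow, zpow_add, inv_zpow, zpow_neg,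
      mul_assoc]
  have hconj' : ∀ w ∈ E, Y⁻¹ * w * Y ∈ E := by
    rintro w ⟨i, j, rfl⟩
    refine ⟨i, i + j, ?_⟩
    rw [heislocal_conj_pair', yx', ycc', xc.mul_zpow, zpow_add, mul_assoc]
  have hYn : Y ∈ Subgroup.normalizer (E : Set G) := by
    rw [Subgroup.mem_normalizer_iff]
    intro w
    constructor
    · exact hconj w
    · intro h
      have h2 := hconj' _ h
      have e : Y⁻¹ * (Y * w * Y⁻¹) * Y = w := by group
      rw [e] at h2
      exact h2
  have hDle : D ≤ Subgroup.normalizer (E : Set G) := by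
    show Subgroup.zpowers Y ≤ _
    rw [Subgroup.zpowers_le]
    exact hYn
  have hYE : Y ∉ E := by
    rintro ⟨i, j, h⟩
    have hc : Commute X Y := by
      rw [h]
      exact ((Commute.refl X).zpow_right i).mul_right (xc.zpow_right j)
    apply hc1
    rw [hC]
    exact commutatorElement_eq_one_iff_commute.2 hc
  have hPQ : IsPGroup p (E ⊔ D : Subgroup G) :=
    IsPGroup.to_sup_of_normal_left' hEp hDp hDle
  refine ⟨E ⊔ D, ?_, ?_⟩
  · exact not_dvd_index_of_lt p E (E ⊔ D) hPQ le_sup_left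
      ⟨Y, Subgroup.mem_sup_right (Subgroup.mem_zpowers Y), hYE⟩ 2 hE2 hG
  obtain ⟨x, hx⟩ := hs X
  obtain ⟨y, hy⟩ := hs Y
  obtain ⟨n, hn⟩ := hs N
  have hxm : X ∈ Subgroup.closure ({σ x, σ y} : Set G) :=
    Subgroup.subset_closure (by rw [hx]; simp)
  have hym : Y ∈ Subgroup.closure ({σ x, σ y} : Set G) :=
    Subgroup.subset_closure (by rw [hy]; simp)
  have hcm : C ∈ Subgroup.closure ({σ x, σ y} : Set G) := by
    rw [hC, commutatorElement_def]
    exact Subgroup.mul_mem _ (Subgroup.mul_mem _ (Subgroup.mul_mem _ hxm hym)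
      (Subgroup.inv_mem _ hxm)) (Subgroup.inv_mem _ hym)
  apply comm_inf_ker_of_heis_prime p hp hp2 σ hK x y n
  · rw [hx]; exact hX
  · rw [hy]; exact hY
  · rw [hx, hy, ← hC]; exact hcx
  · rw [hx, hy, ← hC]; exact hcy
  · rw [hx, hn]; exact hnx
  · rw [hy, hn]; exact hny
  · rw [hx, hy, ← hC]; exact hc1
  · apply sup_le
    · rintro _ ⟨i, j, rfl⟩
      exact Subgroup.mul_mem _ (Subgroup.zpow_mem _ hxm i) (Subgroup.zpow_mem _ hcm j)
    · show Subgroup.zpowers Y ≤ _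
      rw [Subgroup.zpowers_le]
      exact hym

end Cfsg.Agent.Helper29.StemOdd
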