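import Mathlib
/-!
# S4707 piece DYN (helper16's skeleton `plans/S4707_Skel.lean.txt`): integer dynamics of `y ↦ y² - c y`
-/

set_option autoImplicit false
set_option linter.unusedSectionVars false
set_option linter.unusedVariables false

namespace Cfsg.Agent.Helper16.ITO

namespace DYN

/-- periodicity propagates -/
theorem per (c : ℤ) (y : ℕ → ℤ) (hrec : ∀ k, y (k + 1) = y k ^ 2 - c * y k)
    (N : ℕ) (hper : y N = y 0) : ∀ k, y (k + N) = y k := by
  intro k
  induction k with
  | zero => rw [Nat.zero_add]; exact hper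
  | succ k ih =>
    have : k + 1 + N = (k + N) + 1 := by omega
    rw [this, hrec, ih, hrec]

/-- above `c + 2` the orbit increases strictly -/
theorem inc (c : ℤ) (hc : 2 ≤ c) (y : ℕ → ℤ) (hrec : ∀ k, y (k + 1) = y k ^ 2 - c * y k)
    (k : ℕ) (hk : c + 2 ≤ y k) : ∀ j : ℕ, y k + j ≤ y (k + j) := by
  intro j
  induction j with
  | zero => simp
  | succ j ih =>
    have h1 : c + 2 ≤ y (k + j) := by
      have : (0 : ℤ) ≤ j := Int.natCast_nonneg j
      linarith
    have h2 : y (k + (j + 1)) = y (k + j) ^ 2 - c * y (k + j) := by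
      rw [← add_assoc, hrec]
    rw [h2]
    push_cast
    nlinarith

/-- the orbit never reaches `c + 2` -/
theorem lt_top (c : ℤ) (hc : 2 ≤ c) (y : ℕ → ℤ) (hrec : ∀ k, y (k + 1) = y k ^ 2 - c * y k)
    (N : ℕ) (hN : 0 < N) (hper : y N = y 0) (k : ℕ) : y k < c + 2 := by
  by_contra h
  push Not at h
  have h1 := inc c hc y hrec k h N
  rw [per c y hrec N hper k] at h1
  have : (0 : ℤ) < N := by exact_mod_cast hN
  linarith

end DYN

/-- PIECE DYN (pure integers): a periodic orbit of `y ↦ y² - c y` (`c ≥ 2`) avoiding the fixed point `c + 1` is `0`. -/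
theorem dyn_zero (c : ℤ) (hc : 2 ≤ c) (y : ℕ → ℤ) (hrec : ∀ k, y (k + 1) = y k ^ 2 - c * y k)
    (N : ℕ) (hN : 0 < N) (hper : y N = y 0) (hne : ∀ k, y k ≠ c + 1) : y 0 = 0 := by
  have htop : ∀ k, y k ≤ c := by
    intro k
    have h1 := DYN.lt_top c hc y hrec N hN hper k
    have h2 := hne k
    omega
  have hbot : ∀ k, 0 ≤ y k := by
    intro k
    by_contra h
    push Not at h
    have h1 : c + 1 ≤ y (k + 1) := by
      rw [hrec]
      nlinarith
    have h2 := htop (k + 1)
    linarith
  have h1 : y 1 = 0 := by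
    have h2 : y 1 = y 0 ^ 2 - c * y 0 := by
      have := hrec 0
      simpa using this
    have h3 : y 1 ≤ 0 := by
      rw [h2]
      nlinarith [hbot 0, htop 0]
    have h4 := hbot 1
    omega
  have hall : ∀ k, y (k + 1) = 0 := by
    intro k
    induction k with
    | zero => simpa using h1
    | succ k ih => rw [hrec, ih]; ring
  obtain ⟨M, rfl⟩ : ∃ M, N = M + 1 := ⟨N - 1, by omega⟩
  rw [← hper, hall M]

end Cfsg.Agent.Helper16.ITO
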