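import Mathlib
import Cfsg.Agent.Lib.Helper13.BR996CC
import Cfsg.Agent.Lib.Helper24.CharComplete
import Cfsg.Agent.Lib.Helper15.GL23Defs
import Cfsg.Agent.Lib.Helper15.GL23COUNT
import Cfsg.Agent.Lib.Helper3.J1Defs

/-!
# S0448 piece CCEQ (helper19): the class-constant equations
(`Cfsg.Agent.Helper10.BR996.class_const t t z` and helper15's `count_pairs` for `z = t, w, v, v³`).
-/

set_option autoImplicit false
set_option linter.unusedSectionVars false
set_option linter.unusedVariables false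

namespace Cfsg.Agent.Helper3.J1

open Cfsg Cfsg.Agent.Helper24 Cfsg.Agent.Helper15.GL23
open scoped ComplexConjugate

universe u

section Tab

variable {G : Type u} [Group G] [Fintype G] [Fintype (IrrCharacter G)]

theorem cceq_conj_sq5 : conj sq5 = sq5 := by
  unfold sq5
  exact Complex.conj_ofReal _

theorem cceq_sq5_ne : sq5 ≠ 0 := by
  unfold sq5
  rw [Complex.ofReal_ne_zero]
  exact (Real.sqrt_pos.2 (by norm_num)).ne'

/-- `t` is an involution (it is conjugate to any involution, and `nInv t ≠ 0` provides one) -/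
theorem cceq_order_t {t : G} {f : H0 →* G} (c : Cfg t f) : orderOf t = 2 := by
  have h30 := c.cnt_t
  unfold nInv at h30
  have hne : Nonempty {p : G × G // orderOf p.1 = 2 ∧ orderOf p.2 = 2 ∧ p.1 * p.2 = t} := by
    by_contra hcon
    rw [not_nonempty_iff] at hcon
    rw [Nat.card_of_isEmpty] at h30
    omega
  obtain ⟨⟨p, hp1, -, -⟩⟩ := hne
  have hc := c.one_class p.1 hp1
  obtain ⟨g, hg⟩ := isConj_iff.1 hc
  rw [← hp1, ← hg]
  exact ((MulAut.conj g).orderOf_eq t).symm

/-- the class constant `a(t,t;z)` in terms of `nInv z` -/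
theorem cceq_sum_eq {t : G} {f : H0 →* G} (c : Cfg t f) (z : G) :
    ∑ X : IrrCharacter G, (X : G → ℂ) t * (X : G → ℂ) t * conj ((X : G → ℂ) z) / (X : G → ℂ) 1 =
      (nInv z : ℂ) * 14400 / (Nat.card G : ℂ) := by
  have hG : (Nat.card G : ℂ) ≠ 0 := by
    have : Nat.card G ≠ 0 := Nat.card_pos.ne'
    exact_mod_cast this
  have h1 := Cfsg.Agent.Helper10.BR996.class_const t t z
  rw [count_pairs t (cceq_order_t c) c.one_class z, c.cardt] at h1
  rw [eq_div_iff hG, mul_comm, ← h1]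
  push_cast
  ring

/-- PIECE CCEQ: the class-constant equations -/
theorem cceq {t : G} {f : H0 →* G} (c : Cfg t f) {T U M N D : IrrCharacter G → ℤ}
    (h : ValData c T U M N D) : J1A.CCEq T U M N D (Nat.card G) := by
  have hsq : sq5 ≠ 0 := cceq_sq5_ne
  have et := cceq_sum_eq c t
  have eu := cceq_sum_eq c (f w0)
  have ev := cceq_sum_eq c (f v0)
  have ev3 := cceq_sum_eq c (f (v0 ^ 3))
  rw [c.cnt_t] at et
  rw [c.cnt_w] at eu
  rw [c.cnt_v] at ev
  rw [c.cnt_v3] at ev3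
  simp only [h.hT, h.hU, h.hV, h.hV3, h.hD, map_intCast, map_add, map_sub, map_mul, map_div₀,
    map_ofNat, cceq_conj_sq5] at et eu ev ev3
  push_cast at et eu ev ev3
  have eM : ∑ X : IrrCharacter G, (T X : ℂ) * (T X : ℂ) * (M X : ℂ) / (D X : ℂ) =
      288000 / (Nat.card G : ℂ) := by
    have h2 : ∑ X : IrrCharacter G, (T X : ℂ) * (T X : ℂ) * (M X : ℂ) / (D X : ℂ) =
        (∑ X : IrrCharacter G, (T X : ℂ) * (T X : ℂ) * (((M X : ℂ) + (N X : ℂ) * sq5) / 2) /
          (D X : ℂ)) +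
        (∑ X : IrrCharacter G, (T X : ℂ) * (T X : ℂ) * (((M X : ℂ) - (N X : ℂ) * sq5) / 2) /
          (D X : ℂ)) := by
      rw [← Finset.sum_add_distrib]
      refine Finset.sum_congr rfl fun X _ => ?_
      ring
    rw [h2, ev, ev3]
    ring
  have eN : ∑ X : IrrCharacter G, (T X : ℂ) * (T X : ℂ) * (N X : ℂ) / (D X : ℂ) = 0 := by
    have h2 : sq5 * ∑ X : IrrCharacter G, (T X : ℂ) * (T X : ℂ) * (N X : ℂ) / (D X : ℂ) =
        (∑ X : IrrCharacter G, (T X : ℂ) * (T X : ℂ) * (((M X : ℂ) + (N X : ℂ) * sq5) / 2) /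
          (D X : ℂ)) -
        (∑ X : IrrCharacter G, (T X : ℂ) * (T X : ℂ) * (((M X : ℂ) - (N X : ℂ) * sq5) / 2) /
          (D X : ℂ)) := by
      rw [Finset.mul_sum, ← Finset.sum_sub_distrib]
      refine Finset.sum_congr rfl fun X _ => ?_
      ring
    rw [ev, ev3, sub_self] at h2
    rcases mul_eq_zero.mp h2 with h3 | h3
    · exact absurd h3 hsq
    · exact h3
  refine ⟨?_, ?_, ?_, ?_⟩
  · have : ((∑ X : IrrCharacter G, ((T X : ℚ) ^ 2 * T X / (D X : ℚ)) : ℚ) : ℂ) =
        ((432000 / (Nat.card G : ℚ) : ℚ) : ℂ) := by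
      push_cast
      rw [show (432000 : ℂ) / (Nat.card G : ℂ) = 30 * 14400 / (Nat.card G : ℂ) by norm_num, ← et]
      refine Finset.sum_congr rfl fun X _ => ?_
      ring
    exact_mod_cast this
  · have : ((∑ X : IrrCharacter G, ((T X : ℚ) ^ 2 * U X / (D X : ℚ)) : ℚ) : ℂ) =
        ((86400 / (Nat.card G : ℚ) : ℚ) : ℂ) := by
      push_cast
      rw [show (86400 : ℂ) / (Nat.card G : ℂ) = 6 * 14400 / (Nat.card G : ℂ) by norm_num, ← eu]
      refine Finset.sum_congr rfl fun X _ => ?_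
      ring
    exact_mod_cast this
  · have : ((∑ X : IrrCharacter G, ((T X : ℚ) ^ 2 * M X / (D X : ℚ)) : ℚ) : ℂ) =
        ((288000 / (Nat.card G : ℚ) : ℚ) : ℂ) := by
      push_cast
      rw [← eM]
      refine Finset.sum_congr rfl fun X _ => ?_
      ring
    exact_mod_cast this
  · have : ((∑ X : IrrCharacter G, ((T X : ℚ) ^ 2 * N X / (D X : ℚ)) : ℚ) : ℂ) = ((0 : ℚ) : ℂ) := by
      push_cast
      rw [← eN]
      refine Finset.sum_congr rfl fun X _ => ?_
      ring
    exact_mod_cast this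

end Tab

end Cfsg.Agent.Helper3.J1
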