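import Mathlib
import Cfsg.Agent.Lib.Helper24.CharComplete
import Cfsg.Agent.Lib.Helper24.CharLinear
import Cfsg.Agent.Lib.Helper24.CharHom
import Cfsg.Agent.Lib.Helper24.CharAlgebra
import Cfsg.Agent.Lib.Helper3.J1Defs

/-!
# S0448 piece D10 (helper19): restriction to `K2 = Z2 × D10 = N_{H0}(⟨y0⟩)` and the linear character `1 ⊗ sgn`.
-/

set_option autoImplicit false
set_option linter.unusedSectionVars false
set_option linter.unusedVariables false
set_option linter.style.haveILetI false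

namespace Cfsg.Agent.Helper3.J1

open Cfsg Cfsg.Agent.Helper24 Cfsg.Agent.Helper15.GL23
open scoped ComplexConjugate

universe u

section Gen

variable {G : Type*} [Group G]

theorem d10_conj_mul (h k y : G) : (h * k) * y * (h * k)⁻¹ = h * (k * y * k⁻¹) * h⁻¹ := by group

theorem d10_conj_inv (h y : G) : h * y⁻¹ * h⁻¹ = (h * y * h⁻¹)⁻¹ := by group

/-- the elements centralizing or inverting `y` -/
def d10Norm (y : G) : Subgroup G where
  carrier := {h | h * y * h⁻¹ = y ∨ h * y * h⁻¹ = y⁻¹}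
  one_mem' := by
    left
    group
  mul_mem' := by
    intro h k hh hk
    rw [Set.mem_ofPred_eq] at hh hk ⊢
    rw [d10_conj_mul]
    rcases hk with hk | hk
    · rw [hk]; exact hh
    · rw [hk, d10_conj_inv]
      rcases hh with hh | hh
      · right; rw [hh]
      · left; rw [hh, inv_inv]
  inv_mem' := by
    intro h hh
    rw [Set.mem_ofPred_eq] at hh ⊢
    rcases hh with hh | hh
    · left
      calc h⁻¹ * y * (h⁻¹)⁻¹ = h⁻¹ * (h * y * h⁻¹) * (h⁻¹)⁻¹ := by rw [hh]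
        _ = y := by group
    · right
      have e : h * y⁻¹ * h⁻¹ = y := by rw [d10_conj_inv, hh, inv_inv]
      calc h⁻¹ * y * (h⁻¹)⁻¹ = h⁻¹ * (h * y⁻¹ * h⁻¹) * (h⁻¹)⁻¹ := by rw [e]
        _ = y⁻¹ := by group

theorem d10_mem_norm (y h : G) : h ∈ d10Norm y ↔ (h * y * h⁻¹ = y ∨ h * y * h⁻¹ = y⁻¹) := Iff.rfl

/-- the sign character of `d10Norm y` (for `y ≠ y⁻¹`) -/
noncomputable def d10Sign [DecidableEq G] (y : G) (hy : y ≠ y⁻¹) : ↥(d10Norm y) →* ℂˣ where
  toFun k := if (k : G) * y * (k : G)⁻¹ = y then 1 else -1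
  map_one' := by
    have : ((1 : ↥(d10Norm y)) : G) * y * ((1 : ↥(d10Norm y)) : G)⁻¹ = y := by
      rw [Subgroup.coe_one]; group
    rw [if_pos this]
  map_mul' := by
    intro h k
    have hh := h.2
    have hk := k.2
    rw [d10_mem_norm] at hh hk
    have hyy : y⁻¹ ≠ y := fun e => hy e.symm
    have e0 : ((h * k : ↥(d10Norm y)) : G) * y * ((h * k : ↥(d10Norm y)) : G)⁻¹ =
        (h : G) * ((k : G) * y * (k : G)⁻¹) * (h : G)⁻¹ := by
      rw [Subgroup.coe_mul, d10_conj_mul]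
    rcases hk with hk | hk
    · have v2 : (if (k : G) * y * (k : G)⁻¹ = y then (1 : ℂˣ) else -1) = 1 := if_pos hk
      have e1 : ((h * k : ↥(d10Norm y)) : G) * y * ((h * k : ↥(d10Norm y)) : G)⁻¹ =
          (h : G) * y * (h : G)⁻¹ := by rw [e0, hk]
      rw [v2, mul_one, e1]
    · have v2 : (if (k : G) * y * (k : G)⁻¹ = y then (1 : ℂˣ) else -1) = -1 :=
        if_neg (by rw [hk]; exact hyy)
      have e1 : ((h * k : ↥(d10Norm y)) : G) * y * ((h * k : ↥(d10Norm y)) : G)⁻¹ =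
          ((h : G) * y * (h : G)⁻¹)⁻¹ := by rw [e0, hk, d10_conj_inv]
      rw [v2, e1]
      rcases hh with hh | hh
      · rw [hh, if_neg hyy, if_pos rfl, one_mul]
      · rw [hh, inv_inv, if_pos rfl, if_neg hyy]
        norm_num

end Gen

/-- classification of the elements of `K2` (products only, for kernel evaluation) -/
def d10cls (h : H0) : Fin 8 :=
  if h = 1 then 0 else if h = z0 then 1 else if h * h = 1 then 2
  else if h = y0 ∨ h = y0⁻¹ then 3 else if h = y0 * y0 ∨ h = (y0 * y0)⁻¹ then 4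
  else if h = v0 ∨ h = v0⁻¹ then 5 else if h = v0 * v0 * v0 ∨ h = (v0 * v0 * v0)⁻¹ then 6 else 7

set_option synthInstance.maxSize 4096 in
set_option synthInstance.maxHeartbeats 400000 in
set_option maxRecDepth 100000 in
theorem d10_facts : ∀ h : H0, (h * y0 * h⁻¹ = y0 ∨ h * y0 * h⁻¹ = y0⁻¹) →
    d10cls h ≠ 7 ∧ (d10cls h = 2 → h * y0 * h⁻¹ ≠ y0) ∧ (d10cls h ≠ 2 → h * y0 * h⁻¹ = y0) := by
  decide +kernel

set_option synthInstance.maxSize 4096 in
set_option synthInstance.maxHeartbeats 400000 in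
set_option maxRecDepth 100000 in
theorem d10_cls_spec : ∀ h : H0, (d10cls h = 0 → h = 1) ∧ (d10cls h = 1 → h = z0) ∧
    (d10cls h = 2 → h ≠ 1 ∧ h * h = 1) ∧ (d10cls h = 3 → h = y0 ∨ h = y0⁻¹) ∧
    (d10cls h = 4 → h = y0 * y0 ∨ h = (y0 * y0)⁻¹) ∧ (d10cls h = 5 → h = v0 ∨ h = v0⁻¹) ∧
    (d10cls h = 6 → h = v0 * v0 * v0 ∨ h = (v0 * v0 * v0)⁻¹) := by
  decide +kernel

set_option maxRecDepth 100000 in
theorem d10_counts : ∀ c : Fin 8,
    (Finset.univ.filter (fun h : H0 => (h * y0 * h⁻¹ = y0 ∨ h * y0 * h⁻¹ = y0⁻¹) ∧ d10cls h = c)).card =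
      ![1, 1, 10, 2, 2, 2, 2, 0] c := by
  decide +kernel

set_option maxRecDepth 100000 in
theorem d10_card : (Finset.univ.filter (fun h : H0 => h * y0 * h⁻¹ = y0 ∨ h * y0 * h⁻¹ = y0⁻¹)).card = 20 := by
  decide +kernel

set_option maxRecDepth 100000 in
theorem d10_small : r0 * y0 * r0⁻¹ = y0⁻¹ ∧ r0 * (y0 * y0) * r0⁻¹ = (y0 * y0)⁻¹ ∧ r0 * v0 * r0⁻¹ = v0⁻¹ ∧
    r0 * (v0 * v0 * v0) * r0⁻¹ = (v0 * v0 * v0)⁻¹ ∧ y0 ≠ y0⁻¹ ∧ z0 ≠ 1 ∧ z0 * z0 = 1 := by
  decide +kernel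

instance d10_decMem : DecidablePred (· ∈ d10Norm y0) := fun h =>
  inferInstanceAs (Decidable (h * y0 * h⁻¹ = y0 ∨ h * y0 * h⁻¹ = y0⁻¹))

/-- PIECE D10 -/
theorem res_d10 {ψ : H0 → ℂ} (hψ : IsCharacter H0 ψ) (D T s M : ℤ) (hD : ψ 1 = (D : ℂ))
    (hT : ∀ h : H0, orderOf h = 2 → ψ h = (T : ℂ))
    (hS : ψ y0 + ψ (y0 ^ 2) = (s : ℂ)) (hM : ψ v0 + ψ (v0 ^ 3) = (M : ℂ)) :
    ∃ r : ℕ, D - 9 * T + 2 * s + 2 * M = 20 * r := by
  classical
  obtain ⟨c1, c2, c3, c4, hy, hz1, hz2⟩ := d10_small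
  have hcf := isClassFunction_of_isCharacter hψ
  have hinv1 : ψ y0⁻¹ = ψ y0 := by rw [← c1]; exact hcf y0 r0
  have hinv2 : ψ (y0 * y0)⁻¹ = ψ (y0 * y0) := by rw [← c2]; exact hcf _ r0
  have hinv3 : ψ v0⁻¹ = ψ v0 := by rw [← c3]; exact hcf v0 r0
  have hinv4 : ψ (v0 * v0 * v0)⁻¹ = ψ (v0 * v0 * v0) := by rw [← c4]; exact hcf _ r0
  have hS' : ψ y0 + ψ (y0 * y0) = (s : ℂ) := by rw [← pow_two]; exact hS
  have hM' : ψ v0 + ψ (v0 * v0 * v0) = (M : ℂ) := by
    have : v0 ^ 3 = v0 * v0 * v0 := by rw [pow_succ, pow_two]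
    rw [← this]; exact hM
  have hinvol : ∀ h : H0, h ≠ 1 → h * h = 1 → ψ h = (T : ℂ) := by
    intro h h1 h2
    apply hT
    exact orderOf_eq_prime (by rw [pow_two]; exact h2) h1
  -- the sign function on `H0`
  set sg : H0 → ℂ := fun h => if h * y0 * h⁻¹ = y0 then 1 else -1 with hsg
  set val : Fin 8 → ℂ := ![(D : ℂ), (T : ℂ), -(T : ℂ), ψ y0, ψ (y0 * y0), ψ v0, ψ (v0 * v0 * v0), 0]
    with hval
  set K2f : Finset H0 := Finset.univ.filter (fun h : H0 => h * y0 * h⁻¹ = y0 ∨ h * y0 * h⁻¹ = y0⁻¹)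
    with hK2f
  have hterm : ∀ h ∈ K2f, ψ h * sg h = val (d10cls h) := by
    intro h hh
    rw [hK2f, Finset.mem_filter] at hh
    obtain ⟨hne7, hinvt, hcen⟩ := d10_facts h hh.2
    obtain ⟨s0, s1, s2, s3, s4, s5, s6⟩ := d10_cls_spec h
    have hcases : d10cls h = 0 ∨ d10cls h = 1 ∨ d10cls h = 2 ∨ d10cls h = 3 ∨ d10cls h = 4 ∨
        d10cls h = 5 ∨ d10cls h = 6 := by
      have : ∀ c : Fin 8, c ≠ 7 → c = 0 ∨ c = 1 ∨ c = 2 ∨ c = 3 ∨ c = 4 ∨ c = 5 ∨ c = 6 := by decide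
      exact this _ hne7
    rcases hcases with hc | hc | hc | hc | hc | hc | hc
    · have hsg1 : sg h = 1 := by rw [hsg]; exact if_pos (hcen (by rw [hc]; decide))
      rw [hc, hsg1, s0 hc, hD, mul_one]; rfl
    · have hsg1 : sg h = 1 := by rw [hsg]; exact if_pos (hcen (by rw [hc]; decide))
      rw [hc, hsg1, s1 hc, hinvol z0 hz1 hz2, mul_one]; rfl
    · have hsg1 : sg h = -1 := by rw [hsg]; exact if_neg (hinvt hc)
      rw [hc, hsg1, hinvol h (s2 hc).1 (s2 hc).2]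
      show (T : ℂ) * -1 = -(T : ℂ)
      ring
    · have hsg1 : sg h = 1 := by rw [hsg]; exact if_pos (hcen (by rw [hc]; decide))
      rw [hc, hsg1, mul_one]
      rcases s3 hc with e | e
      · rw [e]; rfl
      · rw [e, hinv1]; rfl
    · have hsg1 : sg h = 1 := by rw [hsg]; exact if_pos (hcen (by rw [hc]; decide))
      rw [hc, hsg1, mul_one]
      rcases s4 hc with e | e
      · rw [e]; rfl
      · rw [e, hinv2]; rfl
    · have hsg1 : sg h = 1 := by rw [hsg]; exact if_pos (hcen (by rw [hc]; decide))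
      rw [hc, hsg1, mul_one]
      rcases s5 hc with e | e
      · rw [e]; rfl
      · rw [e, hinv3]; rfl
    · have hsg1 : sg h = 1 := by rw [hsg]; exact if_pos (hcen (by rw [hc]; decide))
      rw [hc, hsg1, mul_one]
      rcases s6 hc with e | e
      · rw [e]; rfl
      · rw [e, hinv4]; rfl
  -- evaluation of the sum over `K2f`
  have hsum : ∑ h ∈ K2f, ψ h * sg h = (D : ℂ) - 9 * T + 2 * s + 2 * M := by
    have h1 : ∑ h ∈ K2f, ψ h * sg h =
        ∑ c : Fin 8, ((K2f.filter (fun h => d10cls h = c)).card : ℂ) * val c := by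
      rw [← Finset.sum_fiberwise K2f d10cls (fun h => ψ h * sg h)]
      refine Finset.sum_congr rfl fun c _ => ?_
      have : ∀ h ∈ K2f.filter (fun h => d10cls h = c), ψ h * sg h = val c := by
        intro h hh
        rw [Finset.mem_filter] at hh
        rw [hterm h hh.1, hh.2]
      rw [Finset.sum_congr rfl this, Finset.sum_const, nsmul_eq_mul]
    have hcnt : ∀ c : Fin 8, (K2f.filter (fun h => d10cls h = c)).card =
        ![1, 1, 10, 2, 2, 2, 2, 0] c := by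
      intro c
      rw [hK2f, Finset.filter_filter]
      exact d10_counts c
    rw [h1]
    simp only [hcnt]
    rw [Fin.sum_univ_eight]
    simp only [hval, Matrix.cons_val_zero, Matrix.cons_val_one, Matrix.cons_val]
    push_cast
    rw [← hS', ← hM']
    ring
  -- the inner product
  have hy' : y0 ≠ y0⁻¹ := hy
  letI : Fintype (IrrCharacter ↥(d10Norm y0)) := irrFintype
  have hres : IsCharacter ↥(d10Norm y0) (fun k : ↥(d10Norm y0) => ψ k) :=
    isCharacter_restrict (d10Norm y0) hψ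
  have hlin : IsCharacter ↥(d10Norm y0)
      (fun k : ↥(d10Norm y0) => ((d10Sign y0 hy' k : ℂˣ) : ℂ)) :=
    isCharacter_of_isIrrCharacter (isIrrCharacter_of_monoidHom (d10Sign y0 hy'))
  obtain ⟨r, hr⟩ := classInner_char_nat hres hlin
  refine ⟨r, ?_⟩
  have hcardK : Nat.card ↥(d10Norm y0) = 20 := by
    rw [Nat.card_eq_fintype_card, Fintype.card_subtype]
    exact d10_card
  have hsgval : ∀ k : ↥(d10Norm y0), conj ((d10Sign y0 hy' k : ℂˣ) : ℂ) = sg (k : H0) := by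
    intro k
    show conj (((if (k : H0) * y0 * (k : H0)⁻¹ = y0 then (1 : ℂˣ) else -1 : ℂˣ)) : ℂ) = sg (k : H0)
    rw [hsg]
    by_cases hk : (k : H0) * y0 * (k : H0)⁻¹ = y0
    · simp only [if_pos hk, Units.val_one, map_one]
    · simp only [if_neg hk, Units.val_neg, Units.val_one, map_neg, map_one]
  have hsum2 : ∑ k : ↥(d10Norm y0), ψ k * conj ((d10Sign y0 hy' k : ℂˣ) : ℂ) =
      ∑ h ∈ K2f, ψ h * sg h := by
    rw [hK2f]
    rw [Finset.sum_subtype (Finset.univ.filter (fun h : H0 => h * y0 * h⁻¹ = y0 ∨ h * y0 * h⁻¹ = y0⁻¹))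
      (p := fun h => h ∈ d10Norm y0) (fun h => by simp [d10_mem_norm]) (fun h => ψ h * sg h)]
    refine Finset.sum_congr rfl fun k _ => ?_
    rw [hsgval k]
  unfold classInner at hr
  rw [hcardK, hsum2, hsum] at hr
  have h20 : ((D : ℂ) - 9 * T + 2 * s + 2 * M) = 20 * (r : ℂ) := by
    have : ((20 : ℕ) : ℂ) ≠ 0 := by norm_num
    field_simp at hr
    push_cast at hr
    linear_combination hr
  exact_mod_cast h20

end Cfsg.Agent.Helper3.J1
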