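import Mathlib
import Cfsg.Prelude.Def_Transfer
import Cfsg.Agent.Lib.Helper16.KF9Defs
import Cfsg.Agent.Lib.Helper19.KF9CENT6
import Cfsg.Agent.Lib.Helper26.KF9CENT

/-!
# S3805, PIECE CENT6 (helper19): the wrappers with the exact skeleton signatures
-/

set_option autoImplicit false
set_option linter.unusedSectionVars false
set_option linter.unusedVariables false

namespace Cfsg.Agent.Helper16.KF9

open Cfsg

universe u

variable {G : Type u} [Group G] [Finite G] {T : Sylow 3 G}

/-- PIECE CENT6 -/
theorem card_centralizer_c4 (h : Hyp T) (c : Cfg T) :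
    Nat.card (Subgroup.centralizer ({c.c4} : Set G)) = 6 :=
  card_centralizer_c4_core h c (card_centralizer_t1 h c)

/-- PIECE CENT6 -/
theorem card_centralizer_c5 (h : Hyp T) (c : Cfg T) :
    Nat.card (Subgroup.centralizer ({c.c5} : Set G)) = 6 :=
  card_centralizer_c5_core h c (card_centralizer_t2 h c)

end Cfsg.Agent.Helper16.KF9
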