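import Mathlib
import Cfsg.Prelude.Def_JComponents
import Cfsg.Agent.Lib.Helper27.KVDefs
import Cfsg.Agent.Lib.Helper7.JC48A
import Cfsg.Agent.Lib.Helper7.JC48B
import Cfsg.Agent.Lib.Helper7.Glaub3
import Cfsg.Agent.Lib.Helper25.JCSyl
import Cfsg.Agent.Lib.Helper15.SylowIn
import Cfsg.Agent.Lib.Helper21.BaerSuzuki
import Cfsg.Agent.Lib.Helper19.JCDefs

/-!
# KS12c / S2951' (helper27's farm-out): PIECE SYL, Sylow generalities.
-/

set_option autoImplicit false
set_option linter.unusedVariables false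
set_option linter.unusedSectionVars false
set_option linter.style.haveILetI false
set_option linter.unusedSimpArgs false

namespace Cfsg.Agent.Helper27.KV

open Cfsg Cfsg.Agent.Helper13.JCFF Cfsg.Agent.Helper27.KU

universe u

variable {G : Type u} [Group G] [Finite G]

/-- SYL (1).  Normalizer growth in the 2-group `S`. -/
theorem exists_mem_normalizer_not_mem {T S : Subgroup G} (hS : IsPGroup 2 ↥S) (hTS : T ≤ S)
    (hne : T ≠ S) : ∃ s ∈ S, s ∈ Subgroup.normalizer (T : Set G) ∧ s ∉ T := by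
  haveI : Fact (Nat.Prime 2) := ⟨Nat.prime_two⟩
  obtain ⟨n, hnS, hnT, hnN⟩ := Cfsg.Agent.Helper21.exists_mem_normalizer_not_mem hS hTS hne
  exact ⟨n, hnS, hnN, hnT⟩

/-- SYL (2). -/
theorem not_mem_of_isSylowTwoIn {T L : Subgroup G} (hTL : IsSylowTwoIn T L) {s : G}
    (hsN : s ∈ Subgroup.normalizer (T : Set G)) (hs2 : IsPGroup 2 ↥(Subgroup.zpowers s))
    (hsT : s ∉ T) : s ∉ L := by
  haveI : Fact (Nat.Prime 2) := ⟨Nat.prime_two⟩
  intro hsL
  have hSy := Cfsg.Agent.Helper7.JC48.isSylowIn_of_two hTL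
  have hzN : Subgroup.zpowers s ≤ Subgroup.normalizer (T : Set G) := by
    rw [Subgroup.zpowers_le]; exact hsN
  have h2 : IsPGroup 2 ↥(T ⊔ Subgroup.zpowers s : Subgroup G) :=
    IsPGroup.to_sup_of_normal_left' hTL.2.1 hs2 hzN
  have h3 := hSy.eq_of_le h2 le_sup_left
    (sup_le hTL.1 (by rw [Subgroup.zpowers_le]; exact hsL))
  apply hsT
  rw [← h3]
  exact Subgroup.mem_sup_right (Subgroup.mem_zpowers s)

/-- SYL (3). -/
theorem card_le_of_isSylowTwoIn {T L P : Subgroup G} (hTL : IsSylowTwoIn T L) (hP : IsPGroup 2 ↥P)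
    (hPL : P ≤ L) : Nat.card ↥P ≤ Nat.card ↥T := by
  obtain ⟨S', hPS', hS'⟩ := Cfsg.Agent.Helper25.JC.exists_isSylowTwoIn_of_le hPL hP
  obtain ⟨n, hnL, hn⟩ := Cfsg.Agent.Helper25.JC.isSylowTwoIn_conj hTL hS'
  calc Nat.card ↥P ≤ Nat.card ↥S' := Subgroup.card_le_of_le hPS'
    _ = Nat.card ↥T := by rw [hn]; exact Cfsg.Agent.Helper15.card_map_conj T n

/-- SYL (4). -/
theorem omegaCenterOf_le_of_mem_jOvergroups {T S L : Subgroup G} (hLT : L ∈ jOvergroups T)
    (hTS : T ≤ S) : omegaCenterOf S ≤ omegaCenterOf T := by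
  obtain ⟨hTL, -, hC⟩ := hLT
  have hSy := Cfsg.Agent.Helper7.JC48.isSylowIn_of_two hTL
  have hOT : pCoreOf 2 L ≤ T := Cfsg.Agent.Helper7.Glaub.pCoreOf_le_of_isSylowIn hSy
  intro x hx
  rw [Cfsg.Agent.Helper19.JC.mem_omegaCenterOf_iff] at hx ⊢
  obtain ⟨hxS, hxc, hx2⟩ := hx
  have hxC : x ∈ Subgroup.centralizer (pCoreOf 2 L : Set G) := by
    rw [Subgroup.mem_centralizer_iff]
    intro y hy
    exact hxc y (hTS (hOT hy))
  exact ⟨hOT (hC hxC), fun y hy => hxc y (hTS hy), hx2⟩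

/-- SYL (5).  The centre of a nontrivial 2-group contains an involution. -/
theorem omegaCenterOf_ne_bot {S : Subgroup G} (hS : IsPGroup 2 ↥S) (hS1 : S ≠ ⊥) :
    omegaCenterOf S ≠ ⊥ := by
  haveI : Fact (Nat.Prime 2) := ⟨Nat.prime_two⟩
  haveI : Nontrivial ↥S := (Subgroup.nontrivial_iff_ne_bot S).mpr hS1
  have hZ : Subgroup.center ↥S ≠ ⊥ := by
    have := hS.center_nontrivial
    exact (Subgroup.nontrivial_iff_ne_bot _).mp this
  have hZp : IsPGroup 2 ↥(Subgroup.center ↥S) := hS.to_subgroup _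
  -- an element of order 2 in the centre
  have hdvd : 2 ∣ Nat.card ↥(Subgroup.center ↥S) := by
    obtain ⟨n, hn⟩ := hZp.exists_card_eq
    have hn0 : n ≠ 0 := by
      rintro rfl
      rw [pow_zero] at hn
      exact hZ ((Subgroup.card_eq_one).mp hn)
    rw [hn]
    exact dvd_pow_self 2 hn0
  obtain ⟨z, hz⟩ := exists_prime_orderOf_dvd_card' 2 hdvd
  intro hbot
  have hzmem : ((z : ↥S) : G) ∈ omegaCenterOf S := by
    rw [Cfsg.Agent.Helper19.JC.mem_omegaCenterOf_iff]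
    refine ⟨(z : ↥S).2, ?_, ?_⟩
    · intro y hy
      have := (Subgroup.mem_center_iff.mp z.2) ⟨y, hy⟩
      exact congrArg Subtype.val this
    · have h1 : z ^ 2 = 1 := by rw [← hz]; exact pow_orderOf_eq_one z
      have h2 := congrArg (fun w : ↥(Subgroup.center ↥S) => ((w : ↥S) : G)) h1
      simpa using h2
  rw [hbot, Subgroup.mem_bot] at hzmem
  have hz1 : z = 1 := by
    apply Subtype.ext
    apply Subtype.ext
    simpa using hzmem
  rw [hz1, orderOf_one] at hz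
  norm_num at hz

/-- SYL (6). -/
theorem exists_sylow_ge (S : Sylow 2 G) {M : Subgroup G}
    (hMJ : Subgroup.normalizer (thompsonSubgroupOf 2 (S : Subgroup G) : Set G) ≤ M)
    {T : Subgroup G} (hT2 : IsPGroup 2 ↥T) (hTM : T ≤ M) :
    ∃ S' : Sylow 2 G, T ≤ (S' : Subgroup G) ∧
      Subgroup.normalizer (thompsonSubgroupOf 2 (S' : Subgroup G) : Set G) ≤ M := by
  haveI : Fact (Nat.Prime 2) := ⟨Nat.prime_two⟩
  have hSM : (S : Subgroup G) ≤ M := (Cfsg.Agent.Helper7.JC48.le_normalizer_J _).trans hMJ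
  obtain ⟨U, hTU, hUM⟩ := Cfsg.Agent.Helper15.exists_sylow_le_of_sylow_le S hSM hT2 hTM
  obtain ⟨k, hkM, hk⟩ := (Cfsg.Agent.Helper15.isSylowIn_of_sylow_le S hSM).exists_conj
    (Cfsg.Agent.Helper15.isSylowIn_of_sylow_le U hUM)
  refine ⟨U, hTU, ?_⟩
  rw [← hk, Cfsg.Agent.Helper7.JC48.normalizer_J_map_conj]
  calc _ ≤ M.map (MulAut.conj k).toMonoidHom := Subgroup.map_mono hMJ
    _ = M := Cfsg.Agent.Helper15.map_conj_eq_self_of_mem hkM

end Cfsg.Agent.Helper27.KV
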