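import Mathlib
import Cfsg.Prelude.Def_FusionSystem
import Cfsg.Agent.Lib.Helper3.LSDefs
import Cfsg.Agent.Lib.Helper3.LSTau
import Cfsg.Agent.Lib.Helper3.LSAsmDefs

/-!
S5286 farm-out (helper3), piece LS-ASM-TRANS: the fusion generated by the Leary–Stancu data of a fusion system
consists of maps of the system.
-/

set_option autoImplicit false
set_option linter.unusedSectionVars false
set_option linter.unusedVariables false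

noncomputable section

namespace Cfsg.Agent.Helper3.LS

universe u

variable {Ω : Type u} [Group Ω] {S : Subgroup Ω} (F : Cfsg.FusionSystem S)

/-- restriction of a map of the system to a smaller subgroup -/
theorem ls_asmtrans_restrict (P R : Subgroup Ω) (hP : P ≤ S) (hPR : P ≤ R) (φ : R →* Ω)
    (hφ : φ ∈ F.Hom R) : ∃ ψ ∈ F.Hom P, ∀ x : P, ψ x = φ ⟨x, hPR x.2⟩ := by
  have h0 : ∀ x : P, Cfsg.conjHom P (1 : Ω) x ∈ R := by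
    intro x
    show 1 * (x : Ω) * 1⁻¹ ∈ R
    rw [one_mul, inv_one, mul_one]
    exact hPR x.2
  refine ⟨φ.comp ((Cfsg.conjHom P (1 : Ω)).codRestrict R h0),
    F.comp_mem (F.conj_mem hP S.one_mem) hφ h0, ?_⟩
  intro x
  show φ ⟨1 * (x : Ω) * 1⁻¹, h0 x⟩ = φ ⟨x, hPR x.2⟩
  congr 1
  apply Subtype.ext
  show 1 * (x : Ω) * 1⁻¹ = x
  rw [one_mul, inv_one, mul_one]

theorem ls_asmtrans_rho_mem (P : Subgroup Ω) (hP : P ≤ S) (x : P) :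
    rho (⟨(x : Ω), hP x.2⟩ : S) ∈ (P.subgroupOf S).map rho :=
  ⟨⟨(x : Ω), hP x.2⟩, x.2, rfl⟩

variable [Finite S]

theorem ls_asmtrans_fwd (i : IdxF F) (P : Subgroup Ω) (hP : P ≤ S)
    (hle : (P.subgroupOf S).map rho ≤ (i.P.subgroupOf S).map rho) :
    ∃ ψ ∈ F.Hom P, ∀ x : P, ∃ hx : ψ x ∈ S,
      rho (⟨ψ x, hx⟩ : S) = tauF F i * rho (⟨(x : Ω), hP x.2⟩ : S) * (tauF F i)⁻¹ := by
  have hPi : P ≤ i.P := by
    intro x hx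
    have h2 : rho (⟨x, hP hx⟩ : S) ∈ (i.P.subgroupOf S).map rho :=
      hle (ls_asmtrans_rho_mem P hP ⟨x, hx⟩)
    obtain ⟨a, ha, hae⟩ := h2
    have h3 : a = ⟨x, hP hx⟩ := rho_injective hae
    have h4 : ((a : S) : Ω) ∈ i.P := ha
    rw [h3] at h4
    exact h4
  obtain ⟨ψ, hψ, hψe⟩ := ls_asmtrans_restrict F P i.P hP hPi i.φ i.mem
  refine ⟨ψ, hψ, fun x => ?_⟩
  have hx : ψ x ∈ S := (F.le_of_mem hψ).2 x
  refine ⟨hx, ?_⟩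
  have hc := tauF_conj F i ⟨⟨(x : Ω), hP x.2⟩, hPi x.2⟩
  have e : (⟨ψ x, hx⟩ : S) = liftHom F i ⟨⟨(x : Ω), hP x.2⟩, hPi x.2⟩ := by
    apply Subtype.ext
    rw [liftHom_coe]
    exact hψe x
  rw [e, ← hc]

theorem ls_asmtrans_bwd (i : IdxF F) (P : Subgroup Ω) (hP : P ≤ S)
    (hle : (P.subgroupOf S).map rho ≤
      ((i.P.subgroupOf S).map rho).map (MulAut.conj (tauF F i)).toMonoidHom) :
    ∃ ψ ∈ F.Hom P, ∀ x : P, ∃ hx : ψ x ∈ S,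
      rho (⟨ψ x, hx⟩ : S) = (tauF F i)⁻¹ * rho (⟨(x : Ω), hP x.2⟩ : S) * ((tauF F i)⁻¹)⁻¹ := by
  have hkey : ∀ x : P, ∃ a : i.P.subgroupOf S, liftHom F i a = ⟨(x : Ω), hP x.2⟩ := by
    intro x
    have h2 := hle (ls_asmtrans_rho_mem P hP x)
    obtain ⟨b, ⟨a, ha, rfl⟩, hbe⟩ := h2
    refine ⟨⟨a, ha⟩, ?_⟩
    have hc := tauF_conj F i ⟨a, ha⟩
    apply rho_injective
    rw [← hc]
    exact hbe
  have hPr : P ≤ i.φ.range := by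
    intro x hx
    obtain ⟨a, ha⟩ := hkey ⟨x, hx⟩
    refine ⟨⟨((a : S) : Ω), a.2⟩, ?_⟩
    have := congrArg (fun z : S => (z : Ω)) ha
    exact this
  obtain ⟨ψ₀, hψ₀, hψ₀e⟩ := F.inv_mem i.mem
  obtain ⟨ψ, hψ, hψe⟩ := ls_asmtrans_restrict F P i.φ.range hP hPr ψ₀ hψ₀
  refine ⟨ψ, hψ, fun x => ?_⟩
  have hx : ψ x ∈ S := (F.le_of_mem hψ).2 x
  refine ⟨hx, ?_⟩
  obtain ⟨a, ha⟩ := hkey x
  have ha' : i.φ ⟨((a : S) : Ω), a.2⟩ = (x : Ω) := congrArg (fun z : S => (z : Ω)) ha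
  have e1 : ψ x = ((a : S) : Ω) := by
    rw [hψe x]
    have : (⟨(x : Ω), hPr x.2⟩ : i.φ.range) = ⟨i.φ ⟨((a : S) : Ω), a.2⟩, ⟨_, rfl⟩⟩ :=
      Subtype.ext ha'.symm
    rw [this, hψ₀e]
  have e2 : (⟨ψ x, hx⟩ : S) = (a : S) := Subtype.ext e1
  have hc := tauF_conj F i a
  rw [ha] at hc
  rw [e2, ← hc]
  group

/-- LS-ASM-TRANS: the generated fusion consists of maps of the system -/
theorem asm_trans (σ : Equiv.Perm S) (Q : Subgroup (Equiv.Perm S)) (h : (dataF F).Fus σ Q)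
    (P : Subgroup Ω) (hP : P ≤ S) (hQ : Q = (P.subgroupOf S).map rho) :
    ∃ ψ ∈ F.Hom P, ∀ x : P, ∃ hx : ψ x ∈ S, rho (⟨ψ x, hx⟩ : S) = σ * rho (⟨(x : Ω), hP x.2⟩ : S) * σ⁻¹ := by
  induction h generalizing P with
  | inner s hs Q' hQ' =>
    have hs' : s ∈ (rho (S := S)).range := hs
    obtain ⟨t, rfl⟩ := hs'
    refine ⟨Cfsg.conjHom P (t : Ω), F.conj_mem hP t.2, fun x => ?_⟩
    have hx : Cfsg.conjHom P (t : Ω) x ∈ S :=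
      S.mul_mem (S.mul_mem t.2 (hP x.2)) (S.inv_mem t.2)
    refine ⟨hx, ?_⟩
    have e : (⟨Cfsg.conjHom P (t : Ω) x, hx⟩ : S) = t * ⟨(x : Ω), hP x.2⟩ * t⁻¹ := Subtype.ext rfl
    rw [e, map_mul, map_mul, map_inv]
  | fwd i Q' hQ' =>
    exact ls_asmtrans_fwd F i P hP (hQ ▸ hQ')
  | bwd i Q' hQ' =>
    exact ls_asmtrans_bwd F i P hP (hQ ▸ hQ')
  | comp σ₁ σ₂ Q' h₁ h₂ ih₁ ih₂ =>
    obtain ⟨ψ₁, hψ₁, hψ₁e⟩ := ih₁ P hP hQ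
    have hP' : ψ₁.range ≤ S := by
      rintro _ ⟨x, rfl⟩
      exact (F.le_of_mem hψ₁).2 x
    have hQ2 : Q'.map (MulAut.conj σ₁).toMonoidHom = (ψ₁.range.subgroupOf S).map rho := by
      ext g
      constructor
      · rintro ⟨q, hq, rfl⟩
        rw [hQ] at hq
        obtain ⟨a, ha, rfl⟩ := hq
        obtain ⟨hx, hxe⟩ := hψ₁e ⟨(a : Ω), ha⟩
        refine ⟨⟨ψ₁ ⟨(a : Ω), ha⟩, hx⟩, ⟨⟨(a : Ω), ha⟩, rfl⟩, ?_⟩
        rw [hxe]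
        rfl
      · rintro ⟨y, ⟨x, hxy⟩, rfl⟩
        obtain ⟨hx, hxe⟩ := hψ₁e x
        refine ⟨rho (⟨(x : Ω), hP x.2⟩ : S), ?_, ?_⟩
        · rw [hQ]
          exact ls_asmtrans_rho_mem P hP x
        · have : y = ⟨ψ₁ x, hx⟩ := Subtype.ext hxy.symm
          rw [this, hxe]
          rfl
    obtain ⟨ψ₂, hψ₂, hψ₂e⟩ := ih₂ ψ₁.range hP' hQ2
    have hcod : ∀ x : P, ψ₁ x ∈ ψ₁.range := fun x => ⟨x, rfl⟩
    refine ⟨ψ₂.comp (ψ₁.codRestrict ψ₁.range hcod), F.comp_mem hψ₁ hψ₂ hcod, fun x => ?_⟩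
    obtain ⟨hx1, hx1e⟩ := hψ₁e x
    obtain ⟨hx2, hx2e⟩ := hψ₂e ⟨ψ₁ x, hcod x⟩
    refine ⟨hx2, ?_⟩
    have e : (⟨ψ₂.comp (ψ₁.codRestrict ψ₁.range hcod) x, hx2⟩ : S) = ⟨ψ₂ ⟨ψ₁ x, hcod x⟩, hx2⟩ := rfl
    rw [e, hx2e]
    have e' : rho (⟨((⟨ψ₁ x, hcod x⟩ : ψ₁.range) : Ω), hP' (hcod x)⟩ : S) = rho (⟨ψ₁ x, hx1⟩ : S) := rfl
    rw [e', hx1e]
    group

end Cfsg.Agent.Helper3.LS
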