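import Mathlib
import Cfsg.Prelude.Def_Blocks
import Cfsg.Agent.Lib.Helper24.CharLinear
import Cfsg.Agent.Lib.Helper24.CharOrtho
import Cfsg.Agent.Lib.Helper17.M11Defs

/-!
# Simple groups of order 7920, PIECE A1 (helper19, for helper17): the statement of S4429 from the
table data.
-/

set_option autoImplicit false
set_option linter.unusedSectionVars false
set_option linter.unusedVariables false
set_option linter.style.haveILetI false

namespace Cfsg.Agent.Helper17.M11

open scoped ComplexConjugate
open Cfsg Cfsg.Agent.Helper24

universe u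

variable {G : Type u} [Group G] [Fintype G]

namespace A1

/-- the degree of the principal character. -/
theorem charDegree_principal : charDegree ((principalChar G : IrrCharacter G) : G → ℂ) = 1 := by
  simp [charDegree, principalChar]

/-- counting a subtype of a type enumerated by a duplicate-free list. -/
theorem card_subtype_eq_count {α : Type u} (L : List α) (hnd : L.Nodup) (hall : ∀ x, x ∈ L)
    (f : α → ℕ) (n : ℕ) : Nat.card {x : α // f x = n} = (L.map f).count n := by
  classical
  letI : Fintype α := ⟨L.toFinset, fun x => List.mem_toFinset.2 (hall x)⟩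
  have huniv : (Finset.univ : Finset α) = L.toFinset := rfl
  have hfilt : L.toFinset.filter (fun x => f x = n) =
      (L.filter (fun x => decide (f x = n))).toFinset := by
    ext x
    simp
  rw [Nat.card_eq_fintype_card, Fintype.card_subtype, huniv, hfilt,
    List.toFinset_card_of_nodup (hnd.filter _), List.count, List.countP_map,
    List.countP_eq_length_filter]
  congr 1

end A1

/-- PIECE A1: the statement of S4429 from the table data. -/
theorem degrees_of_ct {P Q : Subgroup G} (T : CT P Q) :
    Nat.card (IrrCharacter G) = 10 ∧ ∀ n : ℕ,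
      Nat.card {χ : IrrCharacter G // charDegree (χ : G → ℂ) = n} =
        (if n = 1 ∨ n = 11 ∨ n = 44 ∨ n = 45 ∨ n = 55 then 1 else if n = 10 then 3
          else if n = 16 then 2 else 0) := by
  classical
  set L : List (IrrCharacter G) :=
    [principalChar G, T.b.χ1, T.b.χ2, T.b.χ3, T.b.χ4, T.b.θ, T.b.θ', T.α, T.β, T.γ] with hL
  have hnd : L.Nodup := T.nodup
  have hall : ∀ χ : IrrCharacter G, χ ∈ L := T.all
  have hmap : L.map (fun χ : IrrCharacter G => charDegree (χ : G → ℂ)) =
      [1, 45, 10, 10, 10, 16, 16, 11, 44, 55] := by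
    simp only [hL, List.map_cons, List.map_nil, A1.charDegree_principal, T.b.deg1, T.b.deg2,
      T.b.deg3, T.b.deg4, T.b.degθ, T.b.degθ', T.degα, T.degβ, T.degγ]
  constructor
  · letI : Fintype (IrrCharacter G) := ⟨L.toFinset, fun x => List.mem_toFinset.2 (hall x)⟩
    rw [Nat.card_eq_fintype_card]
    show L.toFinset.card = 10
    rw [List.toFinset_card_of_nodup hnd]
    rfl
  · intro n
    rw [A1.card_subtype_eq_count L hnd hall _ n, hmap]
    by_cases h1 : n = 1
    · subst h1; rfl
    by_cases h10 : n = 10
    · subst h10; rfl
    by_cases h11 : n = 11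
    · subst h11; rfl
    by_cases h16 : n = 16
    · subst h16; rfl
    by_cases h44 : n = 44
    · subst h44; rfl
    by_cases h45 : n = 45
    · subst h45; rfl
    by_cases h55 : n = 55
    · subst h55; rfl
    have hr : ¬ (n = 1 ∨ n = 11 ∨ n = 44 ∨ n = 45 ∨ n = 55) := by
      rintro (h | h | h | h | h) <;> contradiction
    rw [if_neg hr, if_neg h10, if_neg h16]
    simp [Ne.symm h1, Ne.symm h10, Ne.symm h11, Ne.symm h16, Ne.symm h44,
      Ne.symm h45, Ne.symm h55]
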