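import Mathlib
import Cfsg.Prelude.Def_Sporadic
import Cfsg.Prelude.Def_Spor_Mathieu
import Cfsg.Agent.S0388
import Cfsg.Agent.Lib.Helper29.SchurM11

/-!
# M11Rec (helper6's farm-out for S3413 + S3592), PIECE MSIMPLE (helper19)

The concrete Mathieu group `Cfsg.Spor.M11` is simple of order `7920`.
-/

set_option autoImplicit false
set_option linter.unusedSectionVars false
set_option linter.unusedVariables false
set_option linter.style.haveILetI false

open Cfsg
open scoped Pointwise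

namespace Cfsg.Agent.Helper6.M11Rec

namespace MSIMPLE

/-- the point-and-dodecad stabiliser inside `M24`, mapped to permutations, is `Spor.M11` -/
theorem map_stab_eq :
    (MulAction.stabilizer M24 Cfsg.Spor.squareDodecad ⊓
      MulAction.stabilizer M24 (some 0 : GolayPt)).map M24.subtype = Cfsg.Spor.M11 := by
  ext g
  rw [Subgroup.mem_map]
  constructor
  · rintro ⟨⟨g', hg'⟩, hk, rfl⟩
    obtain ⟨hk1, hk2⟩ := Subgroup.mem_inf.1 hk
    refine Subgroup.mem_inf.2 ⟨Subgroup.mem_inf.2 ⟨hg', ?_⟩, ?_⟩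
    · exact MulAction.mem_stabilizer_iff.2 (MulAction.mem_stabilizer_iff.1 hk1)
    · exact MulAction.mem_stabilizer_iff.2 (MulAction.mem_stabilizer_iff.1 hk2)
  · intro hg
    obtain ⟨hM12, hs0⟩ := Subgroup.mem_inf.1 hg
    obtain ⟨hM24, hsD⟩ := Subgroup.mem_inf.1 hM12
    refine ⟨⟨g, hM24⟩, Subgroup.mem_inf.2 ⟨?_, ?_⟩, rfl⟩
    · exact MulAction.mem_stabilizer_iff.2 (MulAction.mem_stabilizer_iff.1 hsD)
    · exact MulAction.mem_stabilizer_iff.2 (MulAction.mem_stabilizer_iff.1 hs0)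

end MSIMPLE

/-- PIECE MSIMPLE. -/
theorem isM11_M11 : Cfsg.IsM11 ↥Cfsg.Spor.M11 := by
  refine ⟨?_, Cfsg.Agent.Helper29.SchurM11.card_M11⟩
  haveI hs := Cfsg.Agent.S0388.result Cfsg.Spor.squareDodecad
    Cfsg.Agent.Helper29.SchurM11.squareDodecad_mem (some 0)
    Cfsg.Agent.Helper29.SchurM11.zero_mem_sq
  have e1 := Subgroup.equivMapOfInjective
    (MulAction.stabilizer M24 Cfsg.Spor.squareDodecad ⊓
      MulAction.stabilizer M24 (some 0 : GolayPt)) M24.subtype (Subgroup.subtype_injective _)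
  have e2 := MulEquiv.subgroupCongr MSIMPLE.map_stab_eq
  exact (e1.trans e2).symm.isSimpleGroup

end Cfsg.Agent.Helper6.M11Rec
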