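import Mathlib

/-!
# M11Rec (helper6's farm-out for S3413 + S3592), PIECE ORB (helper19)

If every element of prime order `p` has centraliser of index `d`, then `d` divides the number of
elements of order `n` for every multiple `n` of `p` (orbit decomposition of the conjugation action).
-/

set_option autoImplicit false
set_option linter.unusedSectionVars false
set_option linter.unusedVariables false
set_option linter.style.haveILetI false

namespace Cfsg.Agent.Helper6.M11Rec

namespace ORB

variable {Γ : Type*} [Group Γ]

/-- the conjugation action on the elements of order `n` -/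
@[reducible] def act (n : ℕ) : MulAction Γ {x : Γ // orderOf x = n} where
  smul g x := ⟨g * x.1 * g⁻¹, by
    have h := (MulAut.conj g).orderOf_eq x.1
    rw [MulAut.conj_apply] at h
    rw [h]
    exact x.2⟩
  one_smul x := Subtype.ext (by
    show (1 : Γ) * x.1 * (1 : Γ)⁻¹ = x.1
    simp)
  mul_smul g h x := Subtype.ext (by
    show (g * h) * x.1 * (g * h)⁻¹ = g * (h * x.1 * h⁻¹) * g⁻¹
    simp [mul_assoc])

theorem act_val (n : ℕ) (g : Γ) (x : {x : Γ // orderOf x = n}) :
    (letI := act (Γ := Γ) n; (g • x).1) = g * x.1 * g⁻¹ := rfl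

end ORB

/-- PIECE ORB. -/
theorem dvd_card_orderOf_eq {Γ : Type*} [Group Γ] [Finite Γ] (p d n : ℕ) (hp : p.Prime)
    (hpn : p ∣ n)
    (hd : ∀ w : Γ, orderOf w = p → (Subgroup.centralizer ({w} : Set Γ)).index = d) :
    d ∣ Nat.card {x : Γ // orderOf x = n} := by
  classical
  letI := ORB.act (Γ := Γ) n
  have key : ∀ y : {x : Γ // orderOf x = n}, d ∣ Nat.card (MulAction.orbit Γ y) := by
    intro y
    have h1 : (MulAction.stabilizer Γ y).index = Nat.card (MulAction.orbit Γ y) := by
      rw [MulAction.index_stabilizer, Nat.card_coe_set_eq]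
    rw [← h1]
    have hn0 : n ≠ 0 := by
      have := orderOf_pos y.1
      rw [y.2] at this
      exact this.ne'
    obtain ⟨m, hm⟩ := hpn
    have hm0 : m ≠ 0 := by
      rintro rfl
      exact hn0 (by rw [hm, mul_zero])
    have hdiv : n / p = m := by
      rw [hm, Nat.mul_div_cancel_left _ hp.pos]
    have hw : orderOf (y.1 ^ (n / p)) = p := by
      rw [hdiv, orderOf_pow_of_dvd hm0 (by rw [y.2, hm]; exact dvd_mul_left m p), y.2, hm,
        Nat.mul_div_cancel _ (Nat.pos_of_ne_zero hm0)]
    have hle : MulAction.stabilizer Γ y ≤ Subgroup.centralizer ({y.1 ^ (n / p)} : Set Γ) := by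
      intro g hg
      rw [MulAction.mem_stabilizer_iff] at hg
      have hg' : g * y.1 * g⁻¹ = y.1 := congrArg Subtype.val hg
      have hcomm : Commute g y.1 := by
        show g * y.1 = y.1 * g
        calc g * y.1 = g * y.1 * g⁻¹ * g := by group
          _ = y.1 * g := by rw [hg']
      rw [Subgroup.mem_centralizer_singleton_iff]
      exact (hcomm.pow_right (n / p)).eq
    rw [← hd _ hw]
    exact Subgroup.index_dvd_of_le hle
  have e := MulAction.selfEquivSigmaOrbits Γ {x : Γ // orderOf x = n}
  haveI : Fintype (MulAction.orbitRel.Quotient Γ {x : Γ // orderOf x = n}) := Fintype.ofFinite _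
  rw [Nat.card_congr e, Nat.card_sigma]
  exact Finset.dvd_sum fun ω _ => key _

end Cfsg.Agent.Helper6.M11Rec
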