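import Mathlib
import Cfsg.Agent.Lib.Helper27.M11UDefs

/-!
# S0420 (helper27's farm-out), PIECE ORBIT (helper19): on the 12 points, `x` is an 11-cycle off `o` and `u`
fixes exactly one further point.
-/

set_option autoImplicit false
set_option linter.unusedSectionVars false
set_option linter.unusedVariables false
set_option linter.style.haveILetI false

namespace Cfsg.Agent.Helper27.M11U

universe u v

namespace ORBIT

/-- the number of fixed points of an element of prime order `p` is congruent to the degree mod `p` -/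
theorem card_fixed_modEq {G : Type u} [Group G] {X : Type v} [Fintype X] [DecidableEq X]
    [MulAction G X] (g : G) (p : ℕ) [hp : Fact p.Prime] (hg : orderOf g = p) :
    Fintype.card X ≡ (Finset.univ.filter (fun a : X => g • a = a)).card [MOD p] := by
  have hP : IsPGroup p (Subgroup.zpowers g) :=
    IsPGroup.of_card (n := 1) (by rw [Nat.card_zpowers, hg, pow_one])
  have h := hP.card_modEq_card_fixedPoints X
  rw [Nat.card_eq_fintype_card] at h
  have e : Nat.card (MulAction.fixedPoints (Subgroup.zpowers g) X) =
      (Finset.univ.filter (fun a : X => g • a = a)).card := by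
    have hiff : ∀ a : X, a ∈ MulAction.fixedPoints (Subgroup.zpowers g) X ↔ g • a = a := by
      intro a
      constructor
      · intro ha
        exact ha ⟨g, Subgroup.mem_zpowers g⟩
      · intro ha m
        have hle : Subgroup.zpowers g ≤ MulAction.stabilizer G a := by
          rw [Subgroup.zpowers_le]
          exact ha
        exact hle m.2
    rw [Nat.card_congr (Equiv.subtypeEquivRight hiff), Nat.card_eq_fintype_card,
      Fintype.card_subtype]
  rw [e] at h
  exact h

/-- powers of an element fixing a point fix it -/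
theorem pow_smul_eq {G : Type u} [Group G] {X : Type v} [MulAction G X] {g : G} {a : X}
    (h : g • a = a) (n : ℕ) : g ^ n • a = a := by
  have hle : g ∈ MulAction.stabilizer G a := h
  exact (MulAction.stabilizer G a).pow_mem hle n

theorem zpow_smul_eq {G : Type u} [Group G] {X : Type v} [MulAction G X] {g : G} {a : X}
    (h : g • a = a) (n : ℤ) : g ^ n • a = a := by
  have hle : g ∈ MulAction.stabilizer G a := h
  exact (MulAction.stabilizer G a).zpow_mem hle n

/-- an element of order `11` moving `z`: `x ^ k` fixes `z` only for `11 ∣ k` -/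
theorem dvd_of_zpow_smul {G : Type u} [Group G] {X : Type v} [MulAction G X] {x : G} {z : X}
    (hx : orderOf x = 11) (hz : x • z ≠ z) (k : ℤ) (hk : x ^ k • z = z) : (11 : ℤ) ∣ k := by
  by_contra hnd
  have hcop : IsCoprime k 11 := by
    rw [Int.isCoprime_iff_gcd_eq_one]
    have h11 : Nat.Prime 11 := by norm_num
    have h1 : ¬ (11 : ℕ) ∣ k.natAbs := by
      intro h
      apply hnd
      exact Int.natCast_dvd.2 h
    have := (Nat.Prime.coprime_iff_not_dvd h11).2 h1
    rw [Int.gcd, Nat.gcd_comm]
    exact this
  obtain ⟨m, n, hmn⟩ := hcop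
  apply hz
  have hx11 : x ^ (11 : ℤ) = 1 := by
    have := pow_orderOf_eq_one x
    rw [hx] at this
    exact_mod_cast this
  have : x = (x ^ k) ^ m := by
    calc x = x ^ (1 : ℤ) := (zpow_one x).symm
      _ = x ^ (m * k + n * 11) := by rw [hmn]
      _ = (x ^ k) ^ m * (x ^ (11 : ℤ)) ^ n := by
        rw [zpow_add, mul_comm m k, zpow_mul, mul_comm n 11, zpow_mul]
      _ = (x ^ k) ^ m := by rw [hx11, one_zpow, mul_one]
  rw [this]
  exact zpow_smul_eq hk m

end ORBIT

section Abstract

variable {G : Type u} [Group G] [Fintype G]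

theorem exists_base {X : Type v} [Fintype X] [MulAction G X] (hX : Fintype.card X = 12)
    (hfaith : Function.Injective (MulAction.toPermHom G X))
    {x u : G} (hx : orderOf x = 11) (hu : orderOf u = 5) (hux : u * x * u⁻¹ = x ^ 3)
    (o : X) (hxo : x • o = o) (huo : u • o = o) :
    ∃ z : X, z ≠ o ∧ u • z = z ∧ (∀ p : X, u • p = p → p = o ∨ p = z) ∧
      (∀ p : X, p ≠ o → ∃ i : Fin 11, x ^ (i : ℕ) • z = p) ∧
      (∀ i j : Fin 11, x ^ (i : ℕ) • z = x ^ (j : ℕ) • z → i = j) ∧
      (∀ i : Fin 11, x ^ (i : ℕ) • z ≠ o) := by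
  classical
  haveI : Fact (Nat.Prime 11) := ⟨by norm_num⟩
  haveI : Fact (Nat.Prime 5) := ⟨by norm_num⟩
  -- the fixed points of `x`
  have hfx : ∀ p : X, x • p = p → p = o := by
    have h1 := ORBIT.card_fixed_modEq (X := X) x 11 hx
    rw [hX] at h1
    set F := Finset.univ.filter (fun a : X => x • a = a) with hF
    have hoF : o ∈ F := by rw [hF, Finset.mem_filter]; exact ⟨Finset.mem_univ _, hxo⟩
    have hle : F.card ≤ 12 := by
      rw [← hX]
      exact Finset.card_le_univ F
    have hpos : 0 < F.card := Finset.card_pos.2 ⟨o, hoF⟩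
    have hcases : F.card = 1 ∨ F.card = 12 := by
      have : 12 % 11 = F.card % 11 := h1
      omega
    rcases hcases with h | h
    · obtain ⟨a, ha⟩ := Finset.card_eq_one.1 h
      intro p hp
      have hpF : p ∈ F := by rw [hF, Finset.mem_filter]; exact ⟨Finset.mem_univ _, hp⟩
      rw [ha, Finset.mem_singleton] at hpF hoF
      rw [hpF, hoF]
    · exfalso
      have hFu : F = Finset.univ := by
        apply Finset.eq_univ_of_card
        rw [h, hX]
      have hall : ∀ p : X, x • p = p := by
        intro p
        have : p ∈ F := by rw [hFu]; exact Finset.mem_univ p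
        rw [hF, Finset.mem_filter] at this
        exact this.2
      have hx1 : x = 1 := by
        apply hfaith
        ext p
        simp [hall p]
      rw [hx1, orderOf_one] at hx
      norm_num at hx
  -- a second fixed point of `u`
  obtain ⟨z, hzo, huz⟩ : ∃ z : X, z ≠ o ∧ u • z = z := by
    have h1 := ORBIT.card_fixed_modEq (X := X) u 5 hu
    rw [hX] at h1
    set F := Finset.univ.filter (fun a : X => u • a = a) with hF
    have h2 : 1 < F.card := by
      have : 12 % 5 = F.card % 5 := h1
      omega
    obtain ⟨z, hzF, hzo⟩ := Finset.exists_mem_ne h2 o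
    rw [hF, Finset.mem_filter] at hzF
    exact ⟨z, hzo, hzF.2⟩
  have hxz : x • z ≠ z := fun h => hzo (hfx z h)
  have hx11 : x ^ 11 = 1 := by
    have := pow_orderOf_eq_one x
    rwa [hx] at this
  -- the orbit of `z`
  have hmod : ∀ a b : ℕ, x ^ a • z = x ^ b • z → (11 : ℤ) ∣ (a : ℤ) - (b : ℤ) := by
    intro a b hab
    apply ORBIT.dvd_of_zpow_smul hx hxz
    have h1 : x ^ ((a : ℤ) - (b : ℤ)) = (x ^ b)⁻¹ * x ^ a := by
      rw [sub_eq_add_neg, add_comm, zpow_add, zpow_neg, zpow_natCast, zpow_natCast]
    rw [h1, mul_smul, hab, ← mul_smul, inv_mul_cancel, one_smul]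
  have hinj : ∀ i j : Fin 11, x ^ (i : ℕ) • z = x ^ (j : ℕ) • z → i = j := by
    intro i j hij
    have h1 := hmod _ _ hij
    have hi := i.2
    have hj := j.2
    apply Fin.ext
    omega
  have hno : ∀ i : Fin 11, x ^ (i : ℕ) • z ≠ o := by
    intro i hi
    apply hzo
    have h1 : x ^ (i : ℕ) • o = o := ORBIT.pow_smul_eq hxo _
    have h2 : x ^ (i : ℕ) • z = x ^ (i : ℕ) • o := by rw [hi, h1]
    exact MulAction.injective (x ^ (i : ℕ)) h2
  have hsurj : ∀ p : X, p ≠ o → ∃ i : Fin 11, x ^ (i : ℕ) • z = p := by
    set f : Fin 11 → X := fun i => x ^ (i : ℕ) • z with hf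
    have hfinj : Function.Injective f := fun i j h => hinj i j h
    have himg : (Finset.univ.image f) = Finset.univ.erase o := by
      apply Finset.eq_of_subset_of_card_le
      · intro p hp
        rw [Finset.mem_image] at hp
        obtain ⟨i, -, rfl⟩ := hp
        rw [Finset.mem_erase]
        exact ⟨hno i, Finset.mem_univ _⟩
      · rw [Finset.card_erase_of_mem (Finset.mem_univ o), Finset.card_univ, hX,
          Finset.card_image_of_injective _ hfinj, Finset.card_univ, Fintype.card_fin]
    intro p hp
    have : p ∈ Finset.univ.image f := by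
      rw [himg, Finset.mem_erase]
      exact ⟨hp, Finset.mem_univ _⟩
    rw [Finset.mem_image] at this
    obtain ⟨i, -, hi⟩ := this
    exact ⟨i, hi⟩
  -- the action of `u` on the orbit
  have hcomm : ∀ i : ℕ, u * x ^ i = x ^ (3 * i) * u := by
    intro i
    have h1 : u * x ^ i * u⁻¹ = x ^ (3 * i) := by
      rw [← conj_pow, hux, ← pow_mul]
    calc u * x ^ i = (u * x ^ i * u⁻¹) * u := by group
      _ = x ^ (3 * i) * u := by rw [h1]
  have hufix : ∀ p : X, u • p = p → p = o ∨ p = z := by
    intro p hp
    by_cases hpo : p = o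
    · exact Or.inl hpo
    · right
      obtain ⟨i, rfl⟩ := hsurj p hpo
      have h1 : u • x ^ (i : ℕ) • z = x ^ (3 * (i : ℕ)) • z := by
        rw [← mul_smul, hcomm, mul_smul, huz]
      rw [h1] at hp
      have h2 := hmod _ _ hp
      have hi := i.2
      have hi0 : (i : ℕ) = 0 := by
        push_cast at h2
        omega
      rw [hi0, pow_zero, one_smul]
  exact ⟨z, hzo, huz, hufix, hsurj, hinj, hno⟩

end Abstract

end Cfsg.Agent.Helper27.M11U

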