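import Mathlib
import Cfsg.Agent.Lib.Helper27.M11UDefs
import Cfsg.Agent.Lib.Helper19.M11UORBIT

/-!
# S0420 (helper27's farm-out), PIECE COORD (helper19): coordinates on the 12 points
-/

set_option autoImplicit false
set_option linter.unusedSectionVars false
set_option linter.unusedVariables false
set_option linter.style.haveILetI false

namespace Cfsg.Agent.Helper27.M11U

universe u v

namespace COORD

theorem X0_val : ∀ j : Fin 12, (j.val < 11 → (X0 j).val = (j.val + 1) % 11) ∧
    (j.val = 11 → (X0 j).val = 11) := by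
  decide

theorem U0_val : ∀ j : Fin 12, (j.val < 11 → (U0 j).val = (3 * j.val) % 11) ∧
    (j.val = 11 → (U0 j).val = 11) := by
  decide

end COORD

section Abstract

variable {G : Type u} [Group G] [Fintype G]

theorem exists_coord {X : Type v} [Fintype X] [MulAction G X] (hX : Fintype.card X = 12)
    (hfaith : Function.Injective (MulAction.toPermHom G X))
    {x u s : G} (hx : orderOf x = 11) (hu : orderOf u = 5) (hux : u * x * u⁻¹ = x ^ 3)
    (hsu : s * u * s⁻¹ = u ^ 2)
    (o : X) (hxo : x • o = o) (huo : u • o = o) (hso : s • o ≠ o) :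
    ∃ e : X ≃ Fin 12, e o = 11 ∧ trHom e x = X0 ∧ trHom e u = U0 ∧ trHom e s 11 = 0 ∧
      trHom e s 0 = 11 := by
  classical
  obtain ⟨z, hzo, huz, hufix, hsurj, hinj, hno⟩ := exists_base hX hfaith hx hu hux o hxo huo
  have hx11 : x ^ 11 = 1 := by
    have := pow_orderOf_eq_one x
    rwa [hx] at this
  have hu5 : u ^ 5 = 1 := by
    have := pow_orderOf_eq_one u
    rwa [hu] at this
  -- `n ↦ x ^ n • z` depends on `n mod 11` only
  have hgmod : ∀ n : ℕ, x ^ n • z = x ^ (n % 11) • z := by
    intro n
    conv_lhs => rw [← Nat.div_add_mod n 11]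
    rw [pow_add, pow_mul, hx11, one_pow, one_mul]
  -- the parametrization
  set f : Fin 12 → X := fun j => if j.val < 11 then x ^ j.val • z else o with hf
  have hf1 : ∀ j : Fin 12, j.val < 11 → f j = x ^ j.val • z := by
    intro j hj
    simp only [hf, if_pos hj]
  have hf2 : ∀ j : Fin 12, j.val = 11 → f j = o := by
    intro j hj
    have : ¬ j.val < 11 := by omega
    simp only [hf, if_neg this]
  have hfinj : Function.Injective f := by
    intro j k hjk
    by_cases hj : j.val < 11
    · by_cases hk : k.val < 11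
      · rw [hf1 j hj, hf1 k hk] at hjk
        have := hinj ⟨j.val, hj⟩ ⟨k.val, hk⟩ hjk
        apply Fin.ext
        have h2 : (⟨j.val, hj⟩ : Fin 11).val = (⟨k.val, hk⟩ : Fin 11).val := by rw [this]
        exact h2
      · exfalso
        have hk' : k.val = 11 := by have := k.2; omega
        rw [hf1 j hj, hf2 k hk'] at hjk
        exact hno ⟨j.val, hj⟩ hjk
    · have hj' : j.val = 11 := by have := j.2; omega
      by_cases hk : k.val < 11
      · exfalso
        rw [hf2 j hj', hf1 k hk] at hjk
        exact hno ⟨k.val, hk⟩ hjk.symm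
      · have hk' : k.val = 11 := by have := k.2; omega
        apply Fin.ext
        omega
  have hfbij : Function.Bijective f :=
    (Fintype.bijective_iff_injective_and_card f).2 ⟨hfinj, by rw [Fintype.card_fin, hX]⟩
  set e : X ≃ Fin 12 := (Equiv.ofBijective f hfbij).symm with he
  have hesymm : ∀ j : Fin 12, e.symm j = f j := fun j => rfl
  have hef : ∀ (p : X) (j : Fin 12), p = f j → e p = j := by
    intro p j hpj
    rw [he, Equiv.symm_apply_eq]
    exact hpj
  have hf11 : f 11 = o := hf2 11 (by decide)
  have hf0 : f 0 = z := by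
    rw [hf1 0 (by decide)]
    simp
  -- the action of `u` on the orbit
  have hcomm : ∀ i : ℕ, u * x ^ i = x ^ (3 * i) * u := by
    intro i
    have h1 : u * x ^ i * u⁻¹ = x ^ (3 * i) := by
      rw [← conj_pow, hux, ← pow_mul]
    calc u * x ^ i = (u * x ^ i * u⁻¹) * u := by group
      _ = x ^ (3 * i) * u := by rw [h1]
  -- `s` permutes the fixed points of `u`
  have hsfix : ∀ p : X, u • p = p → u • (s • p) = s • p := by
    intro p hp
    have h1 : s * u = u ^ 2 * s := by
      calc s * u = (s * u * s⁻¹) * s := by group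
        _ = u ^ 2 * s := by rw [hsu]
    have h2 : u ^ 2 • (s • p) = s • p := by
      rw [← mul_smul, ← h1, mul_smul, hp]
    have h3 : u = (u ^ 2) ^ 3 := by
      rw [← pow_mul]
      calc u = u ^ 5 * u := by rw [hu5, one_mul]
        _ = u ^ (2 * 3) := by rw [← pow_succ]
    rw [h3]
    exact ORBIT.pow_smul_eq h2 3
  have hsoz : s • o = z := by
    rcases hufix _ (hsfix o huo) with h | h
    · exact absurd h hso
    · exact h
  have hszo : s • z = o := by
    rcases hufix _ (hsfix z huz) with h | h
    · exact h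
    · exfalso
      apply hzo
      have : s • z = s • o := by rw [h, hsoz]
      exact MulAction.injective s this
  refine ⟨e, hef o 11 hf11.symm, ?_, ?_, ?_, ?_⟩
  · -- `x ↦ X0`
    apply Equiv.ext
    intro j
    rw [trHom_apply, hesymm]
    apply hef
    obtain ⟨h1, h2⟩ := COORD.X0_val j
    by_cases hj : j.val < 11
    · have hX0j : (X0 j).val < 11 := by rw [h1 hj]; exact Nat.mod_lt _ (by norm_num)
      rw [hf1 j hj, hf1 _ hX0j, h1 hj, ← hgmod, pow_succ', mul_smul]
    · have hj' : j.val = 11 := by have := j.2; omega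
      rw [hf2 j hj', hf2 _ (h2 hj'), hxo]
  · -- `u ↦ U0`
    apply Equiv.ext
    intro j
    rw [trHom_apply, hesymm]
    apply hef
    obtain ⟨h1, h2⟩ := COORD.U0_val j
    by_cases hj : j.val < 11
    · have hU0j : (U0 j).val < 11 := by rw [h1 hj]; exact Nat.mod_lt _ (by norm_num)
      rw [hf1 j hj, hf1 _ hU0j, h1 hj, ← hgmod, ← mul_smul, hcomm, mul_smul, huz]
    · have hj' : j.val = 11 := by have := j.2; omega
      rw [hf2 j hj', hf2 _ (h2 hj'), huo]
  · rw [trHom_apply, hesymm, hf11, hsoz]
    exact hef z 0 hf0.symm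
  · rw [trHom_apply, hesymm, hf0, hszo]
    exact hef o 11 hf11.symm

end Abstract

end Cfsg.Agent.Helper27.M11U

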