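import Mathlib
import Cfsg.Agent.Lib.Helper3.M24IdxDefs

/-!
S1589 farm-out (helper3), piece IDX-276B: a transitive subgroup of order 887040 does not exist.
-/

set_option autoImplicit false
set_option linter.unusedSectionVars false
set_option linter.unusedVariables false
open Cfsg

namespace Cfsg.Agent.Helper3.M24Idx

open Cfsg.Agent.Helper27 Cfsg.Agent.Helper29 Cfsg.Agent.Helper29.M24
open Cfsg.Agent.Helper29.M23Idx
open Cfsg.Agent.Helper29.FusM23 (Q23)
open Cfsg.Agent.Helper29.IdxTools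
open Cfsg.Agent.S0358 (idx)
open scoped Pointwise

/-- a set of three elements carries no fixed-point-free symmetric functional total relation -/
theorem m24idx_276b_no_pairing {α : Type*} [DecidableEq α] (T : Finset α) (hT : T.card = 3)
    (R : α → α → Prop) (hex : ∀ x ∈ T, ∃ y ∈ T, R x y) (hne : ∀ x y, R x y → x ≠ y)
    (hsymm : ∀ x y, R x y → R y x) (hfun : ∀ x y y', R x y → R x y' → y = y') : False := by
  obtain ⟨x, y, z, hxy, hxz, hyz, rfl⟩ := Finset.card_eq_three.1 hT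
  obtain ⟨x', hx', hRx⟩ := hex x (by simp)
  simp only [Finset.mem_insert, Finset.mem_singleton] at hx'
  rcases hx' with rfl | rfl | rfl
  · exact hne _ _ hRx rfl
  · -- R x y
    obtain ⟨z', hz', hRz⟩ := hex z (by simp)
    simp only [Finset.mem_insert, Finset.mem_singleton] at hz'
    rcases hz' with rfl | rfl | rfl
    · exact hyz (hfun _ _ _ hRx (hsymm _ _ hRz))
    · exact hxz ((hfun _ _ _ (hsymm _ _ hRz) (hsymm _ _ hRx)).symm)
    · exact hne _ _ hRz rfl
  · -- R x z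
    obtain ⟨y', hy', hRy⟩ := hex y (by simp)
    simp only [Finset.mem_insert, Finset.mem_singleton] at hy'
    rcases hy' with rfl | rfl | rfl
    · exact hyz (hfun _ _ _ (hsymm _ _ hRy) hRx)
    · exact hne _ _ hRy rfl
    · exact hxy ((hfun _ _ _ (hsymm _ _ hRy) (hsymm _ _ hRx)).symm)

theorem m24idx_276b_arith (n m : ℕ) (h1 : 1 ≤ n) (h23 : n ≤ 23) (h11 : n ≡ 1 [MOD 11])
    (hd : n ∣ 36960) (h7 : n ≡ m [MOD 7]) (hm : m ≤ 2) : n = 1 := by
  unfold Nat.ModEq at h11 h7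
  have h3 : n = 1 ∨ n = 12 ∨ n = 23 := by omega
  rcases h3 with rfl | rfl | rfl
  · rfl
  · omega
  · omega

/-- IDX-276B -/
theorem idx276_trans_false (K : Subgroup (Equiv.Perm GolayPt)) (hKM : K ≤ Cfsg.M24)
    (hc : Nat.card K = 887040) (htr : IsTrans K)
    (hF11 : ∀ t ∈ Cfsg.M24, orderOf t = 11 → (fixF t).card = 2)
    (hF7 : ∀ t ∈ Cfsg.M24, orderOf t = 7 → (fixF t).card = 3) : False := by
  classical
  -- an element of order 11 and its two fixed points
  obtain ⟨σ, hσK, hσ11⟩ := exists_orderOf_eq K 11 (by norm_num) (by rw [hc]; norm_num)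
  obtain ⟨f1, f2, hf12, hfix⟩ := Finset.card_eq_two.1 (hF11 σ (hKM hσK) hσ11)
  have hσf1 : σ f1 = f1 := (mem_fixF σ f1).1 (by rw [hfix]; simp)
  have hσf2 : σ f2 = f2 := (mem_fixF σ f2).1 (by rw [hfix]; simp)
  have hσpow : σ ^ 11 = 1 := by rw [← hσ11]; exact pow_orderOf_eq_one σ
  -- the point stabilizer
  have hK1card : Nat.card (stabIn K f1) = 36960 := by
    have := card_of_isTrans K htr f1
    omega
  have hσK1 : σ ∈ stabIn K f1 := (mem_stabIn K f1 σ).2 ⟨hσK, hσf1⟩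
  -- the orbit of `f2` under the stabilizer of `f1`
  have hf2O : f2 ∈ orbF (stabIn K f1) f2 := self_mem_orbF _ _
  have hf1O : f1 ∉ orbF (stabIn K f1) f2 := by
    intro h
    obtain ⟨g, hg, hgf⟩ := (mem_orbF _ _ _).1 h
    have hg1 : g f1 = f1 := ((mem_stabIn K f1 g).1 hg).2
    apply hf12
    apply g.injective
    rw [hg1, hgf]
  have hOdvd : (orbF (stabIn K f1) f2).card ∣ 36960 := by
    rw [← hK1card, card_orbF (stabIn K f1) f2]
    exact Dvd.intro _ rfl
  have hOle : (orbF (stabIn K f1) f2).card ≤ 23 := by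
    have h1 : orbF (stabIn K f1) f2 ⊆ Finset.univ.erase f1 := by
      intro p hp
      rw [Finset.mem_erase]
      refine ⟨?_, Finset.mem_univ _⟩
      rintro rfl
      exact hf1O hp
    have h2 := Finset.card_le_card h1
    rw [Finset.card_erase_of_mem (Finset.mem_univ _), card_univ_pt] at h2
    exact h2
  have hOpos : 1 ≤ (orbF (stabIn K f1) f2).card := Finset.card_pos.2 ⟨f2, hf2O⟩
  have hO11 : (orbF (stabIn K f1) f2).card ≡ 1 [MOD 11] := by
    have h1 := card_inv_modEq σ 11 (by norm_num) hσpow (orbF (stabIn K f1) f2)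
      (smul_orbF _ _ σ hσK1)
    have h2 : orbF (stabIn K f1) f2 ∩ fixF σ = {f2} := by
      rw [hfix]
      ext p
      simp only [Finset.mem_inter, Finset.mem_insert, Finset.mem_singleton]
      constructor
      · rintro ⟨hp, rfl | rfl⟩
        · exact absurd hp hf1O
        · rfl
      · rintro rfl
        exact ⟨hf2O, Or.inr rfl⟩
    rw [h2, Finset.card_singleton] at h1
    exact h1
  -- an element of order 7 in the stabilizer
  obtain ⟨τ', hτ'K1, hτ'7⟩ := exists_orderOf_eq (stabIn K f1) 7 (by norm_num)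
    (by rw [hK1card]; norm_num)
  have hτ'K : τ' ∈ K := stabIn_le K f1 hτ'K1
  have hτ'f1 : τ' f1 = f1 := ((mem_stabIn K f1 τ').1 hτ'K1).2
  have hτ'pow : τ' ^ 7 = 1 := by rw [← hτ'7]; exact pow_orderOf_eq_one τ'
  have hO7 := card_inv_modEq τ' 7 (by norm_num) hτ'pow (orbF (stabIn K f1) f2)
    (smul_orbF _ _ τ' hτ'K1)
  have hm : (orbF (stabIn K f1) f2 ∩ fixF τ').card ≤ 2 := by
    have h1 : orbF (stabIn K f1) f2 ∩ fixF τ' ⊆ (fixF τ').erase f1 := by
      intro p hp
      rw [Finset.mem_inter] at hp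
      rw [Finset.mem_erase]
      refine ⟨?_, hp.2⟩
      rintro rfl
      exact hf1O hp.1
    have h2 := Finset.card_le_card h1
    rw [Finset.card_erase_of_mem ((mem_fixF τ' f1).2 hτ'f1), hF7 τ' (hKM hτ'K) hτ'7] at h2
    exact h2
  have hO1 : (orbF (stabIn K f1) f2).card = 1 :=
    m24idx_276b_arith _ _ hOpos hOle hO11 hOdvd hO7 hm
  -- (a) the stabilizer of `f1` fixes `f2`
  have ha : ∀ k ∈ K, k f1 = f1 → k f2 = f2 := by
    intro k hk hk1
    obtain ⟨w, hw⟩ := Finset.card_eq_one.1 hO1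
    have h1 : f2 ∈ ({w} : Finset GolayPt) := by rw [← hw]; exact hf2O
    have h2 : k f2 ∈ ({w} : Finset GolayPt) := by
      rw [← hw]
      exact (mem_orbF _ _ _).2 ⟨k, (mem_stabIn K f1 k).2 ⟨hk, hk1⟩, rfl⟩
    rw [Finset.mem_singleton] at h1 h2
    rw [h2, ← h1]
  -- (b) an element mapping `f1` to `f2` swaps them
  have hb : ∀ k ∈ K, k f1 = f2 → k f2 = f1 := by
    intro k hk hk1
    have hcK : k⁻¹ * σ * k ∈ K := K.mul_mem (K.mul_mem (K.inv_mem hk) hσK) hk
    have hc1 : (k⁻¹ * σ * k) f1 = f1 := by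
      rw [Equiv.Perm.mul_apply, Equiv.Perm.mul_apply, hk1, hσf2, ← hk1]
      simp
    have hc2 := ha _ hcK hc1
    rw [Equiv.Perm.mul_apply, Equiv.Perm.mul_apply] at hc2
    have h3 : σ (k f2) = k f2 := by
      have := congrArg k hc2
      simpa using this
    have h4 : k f2 ∈ fixF σ := (mem_fixF σ _).2 h3
    rw [hfix, Finset.mem_insert, Finset.mem_singleton] at h4
    rcases h4 with h4 | h4
    · exact h4
    · exfalso
      apply hf12
      apply k.injective
      rw [hk1, h4]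
  obtain ⟨h, hhK, hh1⟩ := htr f1 f2
  have hh2 : h f2 = f1 := hb h hhK hh1
  -- an element of order 7 in `K`
  obtain ⟨τ, hτK, hτ7⟩ := exists_orderOf_eq K 7 (by norm_num) (by rw [hc]; norm_num)
  have hT := hF7 τ (hKM hτK) hτ7
  refine m24idx_276b_no_pairing (fixF τ) hT (fun x y => ∃ k ∈ K, k f1 = x ∧ k f2 = y) ?_ ?_ ?_ ?_
  · intro x hx
    obtain ⟨k, hk, hkx⟩ := htr f1 x
    refine ⟨k f2, ?_, k, hk, hkx, rfl⟩
    have hτx : τ x = x := (mem_fixF τ x).1 hx
    have hcK : k⁻¹ * τ * k ∈ K := K.mul_mem (K.mul_mem (K.inv_mem hk) hτK) hk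
    have hc1 : (k⁻¹ * τ * k) f1 = f1 := by
      rw [Equiv.Perm.mul_apply, Equiv.Perm.mul_apply, hkx, hτx, ← hkx]
      simp
    have hc2 := ha _ hcK hc1
    rw [Equiv.Perm.mul_apply, Equiv.Perm.mul_apply] at hc2
    rw [mem_fixF]
    have := congrArg k hc2
    simpa using this
  · rintro x y ⟨k, hk, hk1, hk2⟩ hxy
    apply hf12
    apply k.injective
    rw [hk1, hk2, hxy]
  · rintro x y ⟨k, hk, hk1, hk2⟩
    refine ⟨k * h, K.mul_mem hk hhK, ?_, ?_⟩
    · rw [Equiv.Perm.mul_apply, hh1, hk2]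
    · rw [Equiv.Perm.mul_apply, hh2, hk1]
  · rintro x y y' ⟨k, hk, hk1, hk2⟩ ⟨k', hk', hk'1, hk'2⟩
    have hcK : k'⁻¹ * k ∈ K := K.mul_mem (K.inv_mem hk') hk
    have hc1 : (k'⁻¹ * k) f1 = f1 := by
      rw [Equiv.Perm.mul_apply, hk1, ← hk'1]
      simp
    have hc2 := ha _ hcK hc1
    rw [Equiv.Perm.mul_apply] at hc2
    have := congrArg k' hc2
    rw [← hk2, ← hk'2]
    simpa using this

end Cfsg.Agent.Helper3.M24Idx
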