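import Mathlib
import Cfsg.Agent.Lib.Helper26.MHDefs

/-!
# S4221 (M. Hall), piece P3B (Case B is impossible for `n ≥ 8`): dependency-free core

`caseB_core` takes the needed instances of `Omega3.rot`, `dichotomy`, `star`, `card_Phi_eq`,
`card_Phi` as hypotheses.  Paper proof: `plans/S4221_proof.md`, section 4, Case B.
-/

set_option autoImplicit false
set_option linter.unusedSectionVars false
set_option linter.unusedVariables false
set_option linter.style.haveILetI false
set_option linter.unusedSimpArgs false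

namespace Cfsg.Agent.Helper26.MH.P3B

open MulAction Cfsg.Agent.Helper22.SharpFour

variable {G : Type*} [Group G] {α : Type*} [MulAction G α]

theorem inv_eq_of_inv {t : G} (ht : IsInv t) : t⁻¹ = t := inv_eq_of_mul_eq_one_left ht.1

theorem smul_smul_of_inv {t : G} (ht : IsInv t) (x : α) : t • t • x = x := by
  rw [← mul_smul, ht.1, one_smul]

theorem smul_eq_iff_of_inv {t : G} (ht : IsInv t) {x y : α} : t • x = y ↔ t • y = x := by
  constructor
  · intro h; rw [← h, smul_smul_of_inv ht]
  · intro h; rw [← h, smul_smul_of_inv ht]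

/-- an involution permuting `{p,q,r,s}` normalizes the pointwise stabilizer -/
theorem conj_mem_St4 {t : G} (ht : IsInv t) {p q r s : α}
    (hp : t • p = p ∨ t • p = q ∨ t • p = r ∨ t • p = s)
    (hq : t • q = p ∨ t • q = q ∨ t • q = r ∨ t • q = s)
    (hr : t • r = p ∨ t • r = q ∨ t • r = r ∨ t • r = s)
    (hs : t • s = p ∨ t • s = q ∨ t • s = r ∨ t • s = s)
    {g : G} (hg : g ∈ St4 G p q r s) : t * g * t⁻¹ ∈ St4 G p q r s := by
  rw [inv_eq_of_inv ht]
  obtain ⟨g1, g2, g3, g4⟩ := mem_St4.1 hg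
  have key : ∀ x : α, (t • x = p ∨ t • x = q ∨ t • x = r ∨ t • x = s) → (t * g * t) • x = x := by
    intro x hx
    rw [mul_smul, mul_smul]
    have : g • t • x = t • x := by
      rcases hx with h | h | h | h <;> rw [h] <;> assumption
    rw [this, smul_smul_of_inv ht]
  exact mem_St4.2 ⟨key p hp, key q hq, key r hr, key s hs⟩

theorem tyA_conj_mem {t : G} (ht : IsInv t) {p q r s : α} (hA : TyA t p q r s) {g : G}
    (hg : g ∈ St4 G p q r s) : t * g * t⁻¹ ∈ St4 G p q r s :=
  conj_mem_St4 ht (Or.inr (Or.inl hA.1)) (Or.inl hA.2.1) (Or.inr (Or.inr (Or.inl hA.2.2.1)))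
    (Or.inr (Or.inr (Or.inr hA.2.2.2))) hg

theorem tyC_conj_mem {t : G} (ht : IsInv t) {p q r s : α} (hC : TyC t p q r s) {g : G}
    (hg : g ∈ St4 G p q r s) : t * g * t⁻¹ ∈ St4 G p q r s :=
  conj_mem_St4 ht (Or.inr (Or.inl hC.1)) (Or.inl hC.2.1) (Or.inr (Or.inr (Or.inr hC.2.2.1)))
    (Or.inr (Or.inr (Or.inl hC.2.2.2))) hg

/-- invariance of the fixed-point set under a normalizing involution -/
theorem smul_mem_Phi {K : Subgroup G} {t : G} (ht : IsInv t)
    (hN : ∀ g ∈ K, t * g * t⁻¹ ∈ K) {x : α} (hx : x ∈ Phi α K) : t • x ∈ Phi α K := by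
  intro g hg
  have h1 := hx _ (hN g hg)
  rw [inv_eq_of_inv ht] at h1
  have h2 : g • t • x = t • ((t * g * t) • x) := by
    rw [mul_smul, mul_smul, smul_smul_of_inv ht]
  rw [h2, h1]

/-- an element of an odd-order subgroup cannot swap two distinct points -/
theorem no_swap_of_odd [Finite G] {K : Subgroup G} (hK : Odd (Nat.card K)) {x : G} (hx : x ∈ K)
    {u v : α} (huv : x • u = v) (hvu : x • v = u) : u = v := by
  obtain ⟨j, hj⟩ := hK
  have h1 : x ^ (2 * j + 1) = 1 := by
    have h := pow_card_eq_one' (G := K) (x := ⟨x, hx⟩)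
    have h2 : (((⟨x, hx⟩ : K) ^ Nat.card K : K) : G) = ((1 : K) : G) := congrArg Subtype.val h
    rw [SubgroupClass.coe_pow, Subgroup.coe_one, hj] at h2
    exact h2
  have h2 : ∀ i : ℕ, (x ^ (2 * i)) • u = u := by
    intro i
    induction i with
    | zero => simp
    | succ i ih =>
      have : x ^ (2 * (i + 1)) = x ^ (2 * i) * x * x := by
        rw [mul_assoc, ← pow_two, ← pow_add, mul_add, mul_one]
      rw [this, mul_smul, mul_smul, huv, hvu, ih]
  have h3 : (x ^ (2 * j + 1)) • u = v := by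
    rw [pow_succ, mul_smul, huv]
    have : x ^ (2 * j) * x = x * x ^ (2 * j) := (Commute.pow_self x (2 * j)).eq
    calc x ^ (2 * j) • v = (x ^ (2 * j) * x) • u := by rw [mul_smul, huv]
      _ = (x * x ^ (2 * j)) • u := by rw [this]
      _ = v := by rw [mul_smul, h2 j, huv]
  rw [h1, one_smul] at h3
  exact h3

/-- parity: a finset preserved by an involution without fixed points on it has even size -/
theorem even_card_of_no_fixed [DecidableEq α] {S : Finset α} {t : G} (ht : IsInv t)
    (hS : ∀ x ∈ S, t • x ∈ S) (hfix : ∀ x ∈ S, t • x ≠ x) : Even S.card := by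
  have h : (∑ x ∈ S, (1 : ZMod 2)) = 0 := by
    refine Finset.sum_involution (fun x _ => t • x) ?_ ?_ ?_ ?_
    · intro x hx; decide
    · intro x hx _; exact hfix x hx
    · intro x hx; exact hS x hx
    · intro x hx; exact smul_smul_of_inv ht x
  rw [Finset.sum_const, nsmul_eq_mul, mul_one] at h
  exact ZMod.natCast_eq_zero_iff_even.1 h

section core

variable [Finite G] {p q r s : α} {a c : G} {w k k' : α}

theorem r_ne_w (hV : VData p q r s a c) (hO : Omega3 p q r s a c w k k') : r ≠ w := by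
  intro h
  have h1 : c • r = s := hV.tc.2.2.1
  rw [h, hO.cw] at h1
  exact hV.d.cd (h.trans h1)

theorem s_ne_w (hV : VData p q r s a c) (hO : Omega3 p q r s a c w k k') : s ≠ w := by
  intro h
  have h1 : c • s = r := hV.tc.2.2.2
  rw [h, hO.cw] at h1
  exact hV.d.cd (h.trans h1).symm

theorem ne_of_fixed_c (hV : VData p q r s a c) {x : α} (hx : c • x = x) : x ≠ p ∧ x ≠ q := by
  constructor
  · intro h
    rw [h] at hx
    exact hV.d.ab (hx.symm.trans hV.tc.1)
  · intro h
    rw [h] at hx
    exact hV.d.ab (hV.tc.2.1.symm.trans hx)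

theorem d4_pqkk' (hV : VData p q r s a c) (hO : Omega3 p q r s a c w k k') : D4 p q k k' :=
  ⟨hV.d.ab, (ne_of_fixed_c hV hO.ck).1.symm, (ne_of_fixed_c hV hO.ck').1.symm,
    (ne_of_fixed_c hV hO.ck).2.symm, (ne_of_fixed_c hV hO.ck').2.symm, hO.kk'⟩

theorem ak' (hV : VData p q r s a c) (hO : Omega3 p q r s a c w k k') : a • k' = k :=
  (smul_eq_iff_of_inv hV.ia).1 hO.ak

/-- `H_w` is normal in `H` (index 3 in a group of odd order) -/
theorem stab_w_normal {H : Subgroup G} (hodd : Odd (Nat.card H)) {w : α}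
    (h3 : 3 * Nat.card (H ⊓ stabilizer G w : Subgroup G) = Nat.card H) :
    ∀ x ∈ (H ⊓ stabilizer G w : Subgroup G), ∀ g ∈ H, g * x * g⁻¹ ∈ (H ⊓ stabilizer G w : Subgroup G) := by
  set K : Subgroup G := H ⊓ stabilizer G w with hKdef
  have hKH : K ≤ H := inf_le_left
  have h1 : Nat.card K * K.relIndex H = Nat.card H := by
    have := Subgroup.relIndex_mul_relIndex (⊥ : Subgroup G) K H bot_le hKH
    rwa [Subgroup.relIndex_bot_left, Subgroup.relIndex_bot_left] at this
  have hKpos : 0 < Nat.card K := Nat.card_pos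
  have hrel : K.relIndex H = 3 := by
    have : Nat.card K * K.relIndex H = Nat.card K * 3 := by rw [h1, ← h3, mul_comm]
    exact Nat.eq_of_mul_eq_mul_left hKpos this
  have hdvd : 3 ∣ Nat.card H := ⟨Nat.card K, h3.symm⟩
  have hmin : (Nat.card H).minFac = 3 := by
    have hle : (Nat.card H).minFac ≤ 3 := Nat.minFac_le_of_dvd (by norm_num) hdvd
    have hne1 : Nat.card H ≠ 1 := by
      intro h; rw [h] at hdvd; exact absurd hdvd (by norm_num)
    have hpr := Nat.minFac_prime hne1
    have h2 : (Nat.card H).minFac ≠ 2 := by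
      intro h
      have : 2 ∣ Nat.card H := h ▸ Nat.minFac_dvd _
      exact (Nat.not_even_iff_odd.2 hodd) (even_iff_two_dvd.2 this)
    have := hpr.two_le
    omega
  have hN : (K.subgroupOf H).Normal := by
    apply Subgroup.normal_of_index_eq_minFac_card
    show K.relIndex H = (Nat.card H).minFac
    rw [hrel, hmin]
  intro x hx g hg
  exact (Subgroup.normal_subgroupOf_iff hKH).1 hN x g hx hg

variable [Fintype α] [DecidableEq α]

/-- in Case B the stabilizer `H_w` fixes `k` and `k'` -/
theorem stab_w_fixes (h : Hall G α) (hV : VData p q r s a c) (hO : Omega3 p q r s a c w k k')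
    (h3 : 3 * Nat.card (St4 G p q r s ⊓ stabilizer G w : Subgroup G) = Nat.card (St4 G p q r s))
    (hmv : ∃ g ∈ St4 G p q r s, g • w = k) :
    ∀ x ∈ (St4 G p q r s ⊓ stabilizer G w : Subgroup G), x • k = k ∧ x • k' = k' := by
  have hodd := h.odd p q r s hV.d
  have hnorm := stab_w_normal hodd h3
  obtain ⟨g, hg, hgw⟩ := hmv
  have hk : ∀ x ∈ (St4 G p q r s ⊓ stabilizer G w : Subgroup G), x • k = k := by
    intro x hx
    have h1 := hnorm x hx g⁻¹ (Subgroup.inv_mem _ hg)
    have h2 : (g⁻¹ * x * g⁻¹⁻¹) • w = w := mem_stabilizer_iff.1 (Subgroup.mem_inf.1 h1).2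
    rw [inv_inv, mul_smul, mul_smul, hgw] at h2
    have h3 : g • g⁻¹ • x • k = g • w := by rw [h2]
    rwa [smul_inv_smul, hgw] at h3
  intro x hx
  refine ⟨hk x hx, ?_⟩
  -- `a` normalizes `H_w`
  have hx' : a * x * a⁻¹ ∈ (St4 G p q r s ⊓ stabilizer G w : Subgroup G) := by
    refine Subgroup.mem_inf.2 ⟨tyA_conj_mem hV.ia hV.ta (Subgroup.mem_inf.1 hx).1, ?_⟩
    rw [mem_stabilizer_iff, inv_eq_of_inv hV.ia, mul_smul, mul_smul, hO.aw,
      mem_stabilizer_iff.1 (Subgroup.mem_inf.1 hx).2, hO.aw]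
  have h1 := hk _ hx'
  rw [inv_eq_of_inv hV.ia, mul_smul, mul_smul, hO.ak] at h1
  -- h1 : a • x • k' = k
  have h2 : a • a • x • k' = a • k := by rw [h1]
  rwa [smul_smul_of_inv hV.ia, hO.ak] at h2

/-- the two centralizers of `a` coincide -/
theorem cen_eq (h : Hall G α) (hV : VData p q r s a c) (hO : Omega3 p q r s a c w k k')
    (h3 : 3 * Nat.card (St4 G p q r s ⊓ stabilizer G w : Subgroup G) = Nat.card (St4 G p q r s))
    (hmv : ∃ g ∈ St4 G p q r s, g • w = k) :
    cen (St4 G p q k k' ⊓ stabilizer G w) a = cen (St4 G p q r s) a := by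
  have hfix := stab_w_fixes h hV hO h3 hmv
  have hodd2 := h.odd p q k k' (d4_pqkk' hV hO)
  have hrw := r_ne_w hV hO
  have hsw := s_ne_w hV hO
  ext x
  rw [mem_cen, mem_cen]
  constructor
  · rintro ⟨hx, hxa⟩
    obtain ⟨hx1, hx2⟩ := Subgroup.mem_inf.1 hx
    rw [mem_stabilizer_iff] at hx2
    obtain ⟨xp, xq, xk, xk'⟩ := mem_St4.1 hx1
    have hperm : ∀ y : α, a • y = y → a • x • y = x • y := by
      intro y hy
      rw [← mul_smul, ← hxa, mul_smul, hy]
    have hr := hO.fa _ (hperm r hV.ta.2.2.1)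
    have hs := hO.fa _ (hperm s hV.ta.2.2.2)
    have hrw' : x • r ≠ w := by
      intro h; rw [← hx2] at h
      exact hrw (smul_left_cancel x h)
    have hsw' : x • s ≠ w := by
      intro h; rw [← hx2] at h
      exact hsw (smul_left_cancel x h)
    have hinj : x • r ≠ x • s := fun h => hV.d.cd (smul_left_cancel x h)
    refine ⟨mem_St4.2 ⟨xp, xq, ?_, ?_⟩, hxa⟩
    · rcases hr with hr | hr | hr
      · exact hr
      · exfalso
        rcases hs with hs | hs | hs
        · exact hV.d.cd (no_swap_of_odd hodd2 hx1 hr hs)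
        · exact hinj (hr.trans hs.symm)
        · exact hsw' hs
      · exact absurd hr hrw'
    · rcases hs with hs | hs | hs
      · exfalso
        rcases hr with hr | hr | hr
        · exact hinj (hr.trans hs.symm)
        · exact hV.d.cd (no_swap_of_odd hodd2 hx1 hr hs)
        · exact hrw' hr
      · exact hs
      · exact absurd hs hsw'
  · rintro ⟨hx, hxa⟩
    obtain ⟨xp, xq, xr, xs⟩ := mem_St4.1 hx
    have hw1 : a • x • w = x • w := by
      rw [← mul_smul, ← hxa, mul_smul, hO.aw]
    have hw2 : x • w = w := by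
      rcases hO.fa _ hw1 with h | h | h
      · exfalso
        rw [← xr] at h
        exact hrw (smul_left_cancel x h).symm
      · exfalso
        rw [← xs] at h
        exact hsw (smul_left_cancel x h).symm
      · exact h
    have hxK : x ∈ (St4 G p q r s ⊓ stabilizer G w : Subgroup G) :=
      Subgroup.mem_inf.2 ⟨hx, mem_stabilizer_iff.2 hw2⟩
    obtain ⟨xk, xk'⟩ := hfix x hxK
    exact ⟨Subgroup.mem_inf.2 ⟨mem_St4.2 ⟨xp, xq, xk, xk'⟩, mem_stabilizer_iff.2 hw2⟩, hxa⟩

theorem card_Phi_finset (K : Subgroup G) [DecidablePred (fun x : α => x ∈ Phi α K)] :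
    Nat.card (Phi α K) = (Finset.univ.filter (fun x : α => x ∈ Phi α K)).card := by
  rw [Nat.card_coe_set_eq, Set.ncard_eq_toFinset_card']
  congr 1
  ext x
  simp

theorem eq_of_card_two {T : Finset α} (hT : T.card = 2) {x y z : α} (hx : x ∈ T) (hy : y ∈ T)
    (hz : z ∈ T) (hyx : y ≠ x) (hzx : z ≠ x) : y = z := by
  have h1 : (T.erase x).card = 1 := by rw [Finset.card_erase_of_mem hx, hT]
  obtain ⟨u, hu⟩ := Finset.card_eq_one.1 h1
  have hy' : y ∈ T.erase x := Finset.mem_erase.2 ⟨hyx, hy⟩
  have hz' : z ∈ T.erase x := Finset.mem_erase.2 ⟨hzx, hz⟩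
  rw [hu, Finset.mem_singleton] at hy' hz'
  rw [hy', hz']

/-- the sub-case where the stabilizer of `{p,q,k,k'}` fixes `w` -/
theorem fixes_w_false (h : Hall G α) (hV : VData p q r s a c) (hO : Omega3 p q r s a c w k k')
    (hmv : ∃ g ∈ St4 G p q r s, g • w = k)
    (hfix2 : ∀ g ∈ St4 G p q k k', g • w = w)
    (hPhi_eq : Nat.card (Phi α (St4 G p q r s)) = Nat.card (Phi α (St4 G p q k k')))
    (hPhi : Nat.card (Phi α (St4 G p q r s)) = 4 ∨ Nat.card (Phi α (St4 G p q r s)) = 5 ∨
      Nat.card (Phi α (St4 G p q r s)) = 6 ∨ Nat.card (Phi α (St4 G p q r s)) = 11) : False := by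
  classical
  obtain ⟨g, hg, hgw⟩ := hmv
  have hd2 := d4_pqkk' hV hO
  have hwp := (ne_of_fixed_c hV hO.cw).1
  have hwq := (ne_of_fixed_c hV hO.cw).2
  have hrw := r_ne_w hV hO
  have hsw := s_ne_w hV hO
  have hak' := ak' hV hO
  set S0 : Finset α := Finset.univ.filter (fun x : α => x ∈ Phi α (St4 G p q r s)) with hS0
  set S2 : Finset α := Finset.univ.filter (fun x : α => x ∈ Phi α (St4 G p q k k')) with hS2
  have hc0 : Nat.card (Phi α (St4 G p q r s)) = S0.card := card_Phi_finset _
  have hc2 : Nat.card (Phi α (St4 G p q k k')) = S2.card := card_Phi_finset _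
  have mem0 : ∀ x : α, x ∈ S0 ↔ ∀ y ∈ St4 G p q r s, y • x = x := by
    intro x; simp [hS0, mem_Phi]
  have mem2 : ∀ x : α, x ∈ S2 ↔ ∀ y ∈ St4 G p q k k', y • x = x := by
    intro x; simp [hS2, mem_Phi]
  -- five fixed points of the second stabilizer
  have h5 : 5 ≤ S2.card := by
    have hsub : ({p, q, k, k', w} : Finset α) ⊆ S2 := by
      intro x hx
      simp only [Finset.mem_insert, Finset.mem_singleton] at hx
      rw [mem2]
      intro y hy
      obtain ⟨y1, y2, y3, y4⟩ := mem_St4.1 hy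
      rcases hx with rfl | rfl | rfl | rfl | rfl
      · exact y1
      · exact y2
      · exact y3
      · exact y4
      · exact hfix2 y hy
    have hcard : ({p, q, k, k', w} : Finset α).card = 5 := by
      rw [Finset.card_insert_of_notMem, Finset.card_insert_of_notMem,
        Finset.card_insert_of_notMem, Finset.card_pair hO.wk'.symm]
      · simp only [Finset.mem_insert, Finset.mem_singleton, not_or]
        exact ⟨hO.kk', hO.wk.symm⟩
      · simp only [Finset.mem_insert, Finset.mem_singleton, not_or]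
        exact ⟨hd2.bc, hd2.bd, hwq.symm⟩
      · simp only [Finset.mem_insert, Finset.mem_singleton, not_or]
        exact ⟨hd2.ab, hd2.ac, hd2.ad, hwp.symm⟩
    calc 5 = ({p, q, k, k', w} : Finset α).card := hcard.symm
      _ ≤ S2.card := Finset.card_le_card hsub
  -- membership facts for `S0`
  have hp0 : p ∈ S0 := (mem0 p).2 (fun y hy => (mem_St4.1 hy).1)
  have hq0 : q ∈ S0 := (mem0 q).2 (fun y hy => (mem_St4.1 hy).2.1)
  have hr0 : r ∈ S0 := (mem0 r).2 (fun y hy => (mem_St4.1 hy).2.2.1)
  have hs0 : s ∈ S0 := (mem0 s).2 (fun y hy => (mem_St4.1 hy).2.2.2)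
  have hw0 : w ∉ S0 := by
    intro hw
    have := (mem0 w).1 hw g hg
    rw [hgw] at this
    exact hO.wk this.symm
  have ha0 : ∀ x ∈ S0, a • x ∈ S0 := by
    intro x hx
    rw [hS0, Finset.mem_filter] at hx ⊢
    exact ⟨Finset.mem_univ _, smul_mem_Phi hV.ia (fun y hy => tyA_conj_mem hV.ia hV.ta hy) hx.2⟩
  have hc0' : ∀ x ∈ S0, c • x ∈ S0 := by
    intro x hx
    rw [hS0, Finset.mem_filter] at hx ⊢
    exact ⟨Finset.mem_univ _, smul_mem_Phi hV.ic (fun y hy => tyC_conj_mem hV.ic hV.tc hy) hx.2⟩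
  -- parity
  have heven : Even S0.card := by
    have hsub : ({r, s} : Finset α) ⊆ S0 := by
      intro x hx
      simp only [Finset.mem_insert, Finset.mem_singleton] at hx
      rcases hx with rfl | rfl
      · exact hr0
      · exact hs0
    have h1 : (S0 \ {r, s}).card = S0.card - 2 := by
      rw [Finset.card_sdiff_of_subset hsub, Finset.card_pair hV.d.cd]
    have h2 : 2 ≤ S0.card := by
      calc 2 = ({r, s} : Finset α).card := (Finset.card_pair hV.d.cd).symm
        _ ≤ S0.card := Finset.card_le_card hsub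
    have h3 : Even (S0 \ {r, s}).card := by
      apply even_card_of_no_fixed hV.ia
      · intro x hx
        rw [Finset.mem_sdiff] at hx ⊢
        refine ⟨ha0 x hx.1, ?_⟩
        simp only [Finset.mem_insert, Finset.mem_singleton, not_or] at hx ⊢
        constructor
        · intro h
          have := (smul_eq_iff_of_inv hV.ia).1 h
          rw [hV.ta.2.2.1] at this
          exact hx.2.1 this.symm
        · intro h
          have := (smul_eq_iff_of_inv hV.ia).1 h
          rw [hV.ta.2.2.2] at this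
          exact hx.2.2 this.symm
      · intro x hx hfx
        rw [Finset.mem_sdiff] at hx
        simp only [Finset.mem_insert, Finset.mem_singleton, not_or] at hx
        rcases hO.fa x hfx with h | h | h
        · exact hx.2.1 h
        · exact hx.2.2 h
        · exact hw0 (h ▸ hx.1)
    rw [h1] at h3
    obtain ⟨j, hj⟩ := h3
    exact ⟨j + 1, by omega⟩
  have h6 : S0.card = 6 := by
    rw [hc0] at hPhi hPhi_eq
    rw [hc2] at hPhi_eq
    obtain ⟨j, hj⟩ := heven
    omega
  -- the two remaining points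
  have hsub4 : ({p, q, r, s} : Finset α) ⊆ S0 := by
    intro x hx
    simp only [Finset.mem_insert, Finset.mem_singleton] at hx
    rcases hx with rfl | rfl | rfl | rfl
    · exact hp0
    · exact hq0
    · exact hr0
    · exact hs0
  have hcard4 : ({p, q, r, s} : Finset α).card = 4 := by
    rw [Finset.card_insert_of_notMem, Finset.card_insert_of_notMem, Finset.card_pair hV.d.cd]
    · simp only [Finset.mem_insert, Finset.mem_singleton, not_or]
      exact ⟨hV.d.bc, hV.d.bd⟩
    · simp only [Finset.mem_insert, Finset.mem_singleton, not_or]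
      exact ⟨hV.d.ab, hV.d.ac, hV.d.ad⟩
  have hT : (S0 \ {p, q, r, s}).card = 2 := by
    rw [Finset.card_sdiff_of_subset hsub4, hcard4, h6]
  obtain ⟨x, hx⟩ : (S0 \ {p, q, r, s}).Nonempty := by
    rw [← Finset.card_pos, hT]; norm_num
  have hx' := hx
  rw [Finset.mem_sdiff] at hx'
  simp only [Finset.mem_insert, Finset.mem_singleton, not_or] at hx'
  obtain ⟨hx0, hxp, hxq, hxr, hxs⟩ := hx'
  have hxw : x ≠ w := fun h => hw0 (h ▸ hx0)
  -- `a • x`
  have hax : a • x ∈ S0 \ {p, q, r, s} := by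
    rw [Finset.mem_sdiff]
    refine ⟨ha0 x hx0, ?_⟩
    simp only [Finset.mem_insert, Finset.mem_singleton, not_or]
    refine ⟨?_, ?_, ?_, ?_⟩
    · intro h; rw [← hV.ta.2.1] at h; exact hxq (smul_left_cancel a h)
    · intro h; rw [← hV.ta.1] at h; exact hxp (smul_left_cancel a h)
    · intro h; rw [← hV.ta.2.2.1] at h; exact hxr (smul_left_cancel a h)
    · intro h; rw [← hV.ta.2.2.2] at h; exact hxs (smul_left_cancel a h)
  have hax_ne : a • x ≠ x := by
    intro hfx
    rcases hO.fa x hfx with h | h | h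
    · exact hxr h
    · exact hxs h
    · exact hxw h
  -- `(a * c) • x`
  have hbp : (a * c) • p = p := by rw [mul_smul, hV.tc.1, hV.ta.2.1]
  have hbq : (a * c) • q = q := by rw [mul_smul, hV.tc.2.1, hV.ta.1]
  have hbr : (a * c) • r = s := by rw [mul_smul, hV.tc.2.2.1, hV.ta.2.2.2]
  have hbs : (a * c) • s = r := by rw [mul_smul, hV.tc.2.2.2, hV.ta.2.2.1]
  have hbx : (a * c) • x ∈ S0 \ {p, q, r, s} := by
    rw [Finset.mem_sdiff]
    refine ⟨by rw [mul_smul]; exact ha0 _ (hc0' x hx0), ?_⟩
    simp only [Finset.mem_insert, Finset.mem_singleton, not_or]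
    refine ⟨?_, ?_, ?_, ?_⟩
    · intro h; rw [← hbp] at h; exact hxp (smul_left_cancel _ h)
    · intro h; rw [← hbq] at h; exact hxq (smul_left_cancel _ h)
    · intro h; rw [← hbs] at h; exact hxs (smul_left_cancel _ h)
    · intro h; rw [← hbr] at h; exact hxr (smul_left_cancel _ h)
  have hbx_ne : (a * c) • x ≠ x := by
    intro hfx
    rcases hO.fb x hfx with h | h | h
    · exact hxp h
    · exact hxq h
    · exact hxw h
  have heq : a • x = (a * c) • x := eq_of_card_two hT hx hax hbx hax_ne hbx_ne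
  have hcx : c • x = x := by
    rw [mul_smul] at heq
    exact (smul_left_cancel a heq).symm
  have hk0 : k ∈ S0 := by
    rcases hO.fc x hcx with h | h | h
    · exact absurd h hxw
    · exact h ▸ hx0
    · have := ha0 x hx0
      rw [h, hak'] at this
      exact this
  have := (mem0 k).1 hk0 g hg
  rw [← hgw] at this
  have h2 : g • w = w := smul_left_cancel g this
  rw [hgw] at h2
  exact hO.wk h2.symm

/-- **Case B is impossible for `n ≥ 8`** (core: the needed instances of `Omega3.rot`,
`dichotomy`, `star`, `card_Phi_eq`, `card_Phi` are hypotheses). -/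
theorem caseB_core (h : Hall G α) (h8 : 8 ≤ Fintype.card α) (hV : VData p q r s a c)
    (hO : Omega3 p q r s a c w k k')
    (h3 : 3 * Nat.card (St4 G p q r s ⊓ stabilizer G w : Subgroup G) = Nat.card (St4 G p q r s))
    (hmv : ∃ g ∈ St4 G p q r s, g • w = k)
    (hdich : (∀ g ∈ St4 G p q k k', g • w = w) ∨
      3 * Nat.card (cen (St4 G p q k k' ⊓ stabilizer G w) a) = Nat.card (cen (St4 G p q k k') a))
    (hstar : 3 * (3 - 1) * Nat.card (cen (St4 G p q r s) a) =
      (Fintype.card α - 3 - 2) * Nat.card (cen (St4 G p q k k') a))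
    (hPhi_eq : Nat.card (Phi α (St4 G p q r s)) = Nat.card (Phi α (St4 G p q k k')))
    (hPhi : Nat.card (Phi α (St4 G p q r s)) = 4 ∨ Nat.card (Phi α (St4 G p q r s)) = 5 ∨
      Nat.card (Phi α (St4 G p q r s)) = 6 ∨ Nat.card (Phi α (St4 G p q r s)) = 11) : False := by
  rcases hdich with hA | hB
  · exact fixes_w_false h hV hO hmv hA hPhi_eq hPhi
  · rw [cen_eq h hV hO h3 hmv] at hB
    have hpos : 0 < Nat.card (cen (St4 G p q r s) a) := Nat.card_pos
    rw [← hB] at hstar
    have h1 : 3 * (3 - 1) = (Fintype.card α - 3 - 2) * 3 := by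
      apply Nat.eq_of_mul_eq_mul_right hpos
      rw [hstar]; ring
    omega

end core

end Cfsg.Agent.Helper26.MH.P3B
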