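import Mathlib
import Cfsg.Agent.Lib.Helper26.MHDefs
import Cfsg.Agent.Lib.Helper19.MHP3BCore
import Cfsg.Agent.Lib.Helper15.MHP3DICH
import Cfsg.Agent.Lib.Helper23.MHP3SET
import Cfsg.Agent.Lib.Helper1.MHWITT
import Cfsg.Agent.Lib.Helper1.MHSTAR

/-!
# S4221 (M. Hall), piece P3B: Case B is impossible for `n ≥ 8`
(wrapper of `P3B.caseB_core` on the pieces P3SET, P3DICH, STAR, WITT)
-/

set_option autoImplicit false
set_option linter.unusedSectionVars false
set_option linter.unusedVariables false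

namespace Cfsg.Agent.Helper26.MH

open MulAction Cfsg.Agent.Helper22.SharpFour

variable {G : Type*} [Group G] [Finite G] {α : Type*} [Fintype α] [DecidableEq α] [MulAction G α]

theorem caseB (h : Hall G α) (h8 : 8 ≤ Fintype.card α)
    (hphi : ∀ t : G, IsInv t → (fixF α t).card = 3) {p q r s : α} {a c : G} (hV : VData p q r s a c)
    {w k k' : α} (hO : Omega3 p q r s a c w k k')
    (h3 : 3 * Nat.card (St4 G p q r s ⊓ stabilizer G w : Subgroup G) = Nat.card (St4 G p q r s))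
    (hmv : ∃ g ∈ St4 G p q r s, g • w = k) : False := by
  obtain ⟨hV2, hO2⟩ := Omega3.rot hV hO
  have hd2 : D4 p q k k' := P3B.d4_pqkk' hV hO
  have hdich : (∀ g ∈ St4 G p q k k', g • w = w) ∨
      3 * Nat.card (cen (St4 G p q k k' ⊓ stabilizer G w) a) =
        Nat.card (cen (St4 G p q k k') a) := by
    rcases dichotomy h h8 hphi hV2 hO2 with hA | ⟨-, hB, -⟩
    · exact Or.inl hA
    · exact Or.inr hB
  have hkp : k ≠ p := (P3B.ne_of_fixed_c hV hO.ck).1
  have hkq : k ≠ q := (P3B.ne_of_fixed_c hV hO.ck).2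
  have hap : a • p ≠ p := by rw [hV.ta.1]; exact hV.d.ab.symm
  have hakk : a • k ≠ k := by rw [hO.ak]; exact hO.kk'.symm
  have hstar := star h h8 hV.ia (f₁ := r) (f₂ := s) (x := p) (y := k) hV.ta.2.2.1 hV.ta.2.2.2
    hV.d.cd hap hakk hkp (by rw [hV.ta.1]; exact hkq)
  rw [hphi a hV.ia, hV.ta.1, hO.ak] at hstar
  exact P3B.caseB_core h h8 hV hO h3 hmv hdich hstar (card_Phi_eq h hV.d hd2) (card_Phi h hV.d)

end Cfsg.Agent.Helper26.MH
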