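import Mathlib
import Cfsg.Prelude.Def_Characters
import Cfsg.Prelude.Def_Blocks
import Cfsg.Agent.Lib.Helper8.MXDefs
import Cfsg.Agent.Lib.Helper24.CharComplete
import Cfsg.Agent.Lib.Helper24.CharAbelian
import Cfsg.Agent.Lib.Helper24.CharCentral
import Cfsg.Agent.Lib.Helper24.CharHom
import Cfsg.Agent.Lib.Helper24.AcdSemi

/-!
# S4756 piece CONV1 (helper19): if `G/D` is abelian and `C_D(g) = 1`, every nonlinear irreducible
character vanishes at `g`.
-/

set_option autoImplicit false
set_option linter.unusedSectionVars false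
set_option linter.unusedVariables false
set_option linter.style.haveILetI false
set_option linter.unusedSimpArgs false

namespace Cfsg.Agent.Helper8.MX

open Cfsg
open scoped ComplexConjugate

universe u

variable {G : Type u} [Group G] [Finite G]

/-- PIECE CONV1. If `G/D` is abelian and `C_D(g) = 1` then `|C_G(g)| ≤ |G : D| ≤` the number of
linear characters, so all nonlinear irreducible characters vanish at `g`. -/
theorem vanish_of_fpf (D : Subgroup G) [D.Normal] (hD : commutator G ≤ D) (g : G)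
    (hg : ∀ d ∈ D, g * d = d * g → d = 1) (χ : IrrCharacter G) (hχ : (χ : G → ℂ) 1 ≠ 1) :
    (χ : G → ℂ) g = 0 := by
  classical
  haveI : Fintype G := Fintype.ofFinite G
  letI : Fintype (IrrCharacter G) := Cfsg.Agent.Helper24.irrFintype
  have h2 := Cfsg.Agent.Helper24.second_orthogonality' g g
  rw [if_pos (IsConj.refl g)] at h2
  -- the centraliser embeds into `G ⧸ D`
  have hcard : Nat.card (Subgroup.centralizer ({g} : Set G)) ≤ D.index := by
    have hinj : Function.Injective
        (fun c : Subgroup.centralizer ({g} : Set G) => ((c : G) : G ⧸ D)) := by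
      intro c1 c2 h
      have h1 : (c1 : G)⁻¹ * (c2 : G) ∈ D := QuotientGroup.eq.mp h
      have hc1 := c1.2
      have hc2 := c2.2
      rw [Subgroup.mem_centralizer_iff] at hc1 hc2
      have e1 := hc1 g (Set.mem_singleton g)
      have e2 := hc2 g (Set.mem_singleton g)
      have h3 : g * ((c1 : G)⁻¹ * (c2 : G)) = ((c1 : G)⁻¹ * (c2 : G)) * g := by
        have e1' : g * (c1 : G)⁻¹ = (c1 : G)⁻¹ * g := by
          calc g * (c1 : G)⁻¹ = (c1 : G)⁻¹ * ((c1 : G) * g) * (c1 : G)⁻¹ := by group
            _ = (c1 : G)⁻¹ * (g * (c1 : G)) * (c1 : G)⁻¹ := by rw [e1]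
            _ = (c1 : G)⁻¹ * g := by group
        calc g * ((c1 : G)⁻¹ * (c2 : G)) = (g * (c1 : G)⁻¹) * (c2 : G) := by group
          _ = (c1 : G)⁻¹ * (g * (c2 : G)) := by rw [e1']; group
          _ = (c1 : G)⁻¹ * ((c2 : G) * g) := by rw [e2]
          _ = ((c1 : G)⁻¹ * (c2 : G)) * g := by group
      have h4 := hg _ h1 h3
      apply Subtype.ext
      exact inv_mul_eq_one.mp h4
    have := Nat.card_le_card_of_injective _ hinj
    rwa [← Subgroup.index_eq_card] at this
  have hidx : D.index ≤ (commutator G).index :=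
    Nat.le_of_dvd (Nat.pos_of_ne_zero Subgroup.index_ne_zero_of_finite)
      (Subgroup.index_dvd_of_le hD)
  have hlin : Nat.card {ψ : IrrCharacter G // (ψ : G → ℂ) 1 = 1} = (commutator G).index :=
    Cfsg.Agent.Helper24.card_linear_characters
  -- real form of the orthogonality relation
  have hre : ∑ ψ : IrrCharacter G, Complex.normSq ((ψ : G → ℂ) g) =
      (Nat.card (Subgroup.centralizer ({g} : Set G)) : ℝ) := by
    have := congrArg Complex.re h2
    simp only [Complex.re_sum, Complex.mul_conj, Complex.ofReal_re, Complex.natCast_re] at this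
    exact this
  rw [← Fintype.sum_subtype_add_sum_subtype
    (fun ψ : IrrCharacter G => (ψ : G → ℂ) 1 = 1)
    (fun ψ => Complex.normSq ((ψ : G → ℂ) g))] at hre
  have h3 : ∑ ψ : {ψ : IrrCharacter G // (ψ : G → ℂ) 1 = 1},
      Complex.normSq (((ψ.1 : IrrCharacter G) : G → ℂ) g) = ((commutator G).index : ℝ) := by
    have h4 : ∀ ψ : {ψ : IrrCharacter G // (ψ : G → ℂ) 1 = 1},
        Complex.normSq (((ψ.1 : IrrCharacter G) : G → ℂ) g) = 1 := by
      rintro ⟨ψ, hψ⟩
      have h5 := Cfsg.Agent.Helper24.AcdSemi.linear_mul_conj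
        (Cfsg.Agent.Helper24.isCharacter_of_isIrrCharacter ψ.2) hψ g
      rw [Complex.mul_conj] at h5
      exact_mod_cast h5
    rw [Finset.sum_congr rfl (fun ψ _ => h4 ψ), Finset.sum_const, Finset.card_univ,
      ← Nat.card_eq_fintype_card, hlin]
    simp
  rw [h3] at hre
  have h6 : ∑ ψ : {ψ : IrrCharacter G // ¬ (ψ : G → ℂ) 1 = 1},
      Complex.normSq (((ψ.1 : IrrCharacter G) : G → ℂ) g) ≤ 0 := by
    have h7 : (Nat.card (Subgroup.centralizer ({g} : Set G)) : ℝ) ≤ ((commutator G).index : ℝ) := by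
      exact_mod_cast hcard.trans hidx
    linarith
  have h8 : ∀ ψ ∈ (Finset.univ : Finset {ψ : IrrCharacter G // ¬ (ψ : G → ℂ) 1 = 1}),
      0 ≤ Complex.normSq (((ψ.1 : IrrCharacter G) : G → ℂ) g) :=
    fun ψ _ => Complex.normSq_nonneg _
  have h9 := (Finset.sum_eq_zero_iff_of_nonneg h8).mp
    (le_antisymm h6 (Finset.sum_nonneg h8)) ⟨χ, hχ⟩ (Finset.mem_univ _)
  exact Complex.normSq_eq_zero.mp h9

end Cfsg.Agent.Helper8.MX
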