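import Mathlib
import Cfsg.Agent.Lib.Helper8.MXDefs

/-!
# S4756 piece GT1 (helper19): under `CentCard G p` the derived subgroup is a `p`-group.
-/

set_option autoImplicit false
set_option linter.unusedSectionVars false
set_option linter.unusedVariables false
set_option linter.style.haveILetI false
set_option linter.unusedSimpArgs false

namespace Cfsg.Agent.Helper8.MX

open Cfsg

universe u

variable {G : Type u} [Group G] [Finite G]

/-- PIECE GT1. For `q ≠ p` take `y ≠ 1` in the centre of a Sylow `q`-subgroup `Q`:
`|Q|` divides `|C_G(y)| = |G : G'|`, so `q ∤ |G'|`. -/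
theorem isPGroup_commutator (p : ℕ) [Fact p.Prime] (h2 : CentCard G p) :
    IsPGroup p (commutator G) := by
  classical
  have hp : p.Prime := Fact.out
  have hcard_ne : Nat.card (commutator G) ≠ 0 := Nat.card_pos.ne'
  have key : ∀ q : ℕ, q.Prime → q ∣ Nat.card (commutator G) → q = p := by
    intro q hq hqd
    by_contra hqp
    haveI : Fact q.Prime := ⟨hq⟩
    obtain Q : Sylow q G := default
    have hqG : q ∣ Nat.card G := hqd.trans (Subgroup.card_subgroup_dvd_card _)
    have hQcard : Nat.card Q = q ^ (Nat.card G).factorization q := Sylow.card_eq_multiplicity Q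
    have hfac_pos : 0 < (Nat.card G).factorization q :=
      hq.factorization_pos_of_dvd Nat.card_pos.ne' hqG
    haveI : Nontrivial Q := by
      rw [← Finite.one_lt_card_iff_nontrivial, hQcard]
      exact Nat.one_lt_pow hfac_pos.ne' hq.one_lt
    have hQp : IsPGroup q Q := Q.isPGroup'
    haveI := hQp.center_nontrivial
    obtain ⟨z, hz⟩ := exists_ne (1 : Subgroup.center Q)
    set y : G := ((z : Q) : G) with hy
    have hy1 : y ≠ 1 := by
      intro h
      apply hz
      apply Subtype.ext
      apply Subtype.ext
      rw [hy] at h
      simpa using h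
    obtain ⟨k, hk⟩ := (IsPGroup.iff_orderOf.mp hQp) (z : Q)
    have hyo : orderOf y = q ^ k := by rw [hy, Subgroup.orderOf_coe]; exact hk
    have hcent := h2 y hy1 ⟨q, k, hq, hqp, hyo⟩
    have hQle : (Q : Subgroup G) ≤ Subgroup.centralizer {y} := by
      intro x hx
      rw [Subgroup.mem_centralizer_iff]
      intro w hw
      rw [Set.mem_singleton_iff] at hw
      subst hw
      have hzc := z.2
      rw [Subgroup.mem_center_iff] at hzc
      have h1 := hzc ⟨x, hx⟩
      have h3 := congrArg Subtype.val h1
      simpa using h3.symm
    have hdvd : Nat.card Q ∣ (commutator G).index := by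
      rw [← hcent]
      exact Subgroup.card_dvd_of_le hQle
    have hmul : Nat.card (commutator G) * (commutator G).index = Nat.card G :=
      Subgroup.card_mul_index _
    have hdvd' : q ^ (Nat.card G).factorization q ∣ (commutator G).index := by
      rw [← hQcard]; exact hdvd
    have hbad : q ^ ((Nat.card G).factorization q + 1) ∣ Nat.card G := by
      have h4 : q * q ^ (Nat.card G).factorization q ∣
          Nat.card (commutator G) * (commutator G).index := Nat.mul_dvd_mul hqd hdvd'
      rw [hmul] at h4
      rw [pow_succ, mul_comm]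
      exact h4
    exact Nat.pow_succ_factorization_not_dvd Nat.card_pos.ne' hq hbad
  obtain ⟨n, hn⟩ : ∃ n, Nat.card (commutator G) = p ^ n :=
    ⟨_, Nat.eq_prime_pow_of_unique_prime_dvd hcard_ne (fun {q} hq hqd => key q hq hqd)⟩
  exact IsPGroup.of_card hn

end Cfsg.Agent.Helper8.MX
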