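import Mathlib
import Cfsg.Agent.Lib.Helper8.MXDefs

/-!
# S4756 piece GT2 (helper19): if `G'` is a `p`-group, the Sylow `p`-subgroup is normal, contains
`G'`, and has an abelian complement.
-/

set_option autoImplicit false
set_option linter.unusedSectionVars false
set_option linter.unusedVariables false
set_option linter.style.haveILetI false
set_option linter.unusedSimpArgs false

namespace Cfsg.Agent.Helper8.MX

open Cfsg
open scoped commutatorElement

universe u

variable {G : Type u} [Group G] [Finite G]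

/-- PIECE GT2. If `G'` is a `p`-group, the Sylow `p`-subgroup is normal, contains `G'`, and has an
abelian complement (Schur-Zassenhaus existence is in Mathlib). -/
theorem exists_abelian_complement (p : ℕ) [Fact p.Prime] (hc : IsPGroup p (commutator G))
    (P : Sylow p G) :
    commutator G ≤ (P : Subgroup G) ∧ (P : Subgroup G).Normal ∧
      ∃ A : Subgroup G, (∀ a ∈ A, ∀ b ∈ A, a * b = b * a) ∧ (Nat.card A).Coprime p ∧
        A ⊔ (P : Subgroup G) = ⊤ ∧ A ⊓ (P : Subgroup G) = ⊥ := by
  classical
  have hp : p.Prime := Fact.out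
  obtain ⟨P0, hP0⟩ := hc.exists_le_sylow
  obtain ⟨g, hg⟩ := MulAction.exists_smul_eq G P0 P
  have hnorm : (commutator G).Normal := inferInstance
  have hle : commutator G ≤ (P : Subgroup G) := by
    intro x hx
    rw [← hg, Sylow.coe_subgroup_smul, Subgroup.mem_pointwise_smul_iff_inv_smul_mem]
    apply hP0
    have h1 : (MulAut.conj g)⁻¹ • x = g⁻¹ * x * g⁻¹⁻¹ := by
      simp [MulAut.smul_def]
    rw [h1]
    exact hnorm.conj_mem x hx g⁻¹
  have hPn : (P : Subgroup G).Normal := by
    refine ⟨fun x hx g => ?_⟩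
    have h1 : g * x * g⁻¹ = ⁅g, x⁆ * x := by
      simp [commutatorElement_def, mul_assoc]
    rw [h1]
    exact (P : Subgroup G).mul_mem (hle (Subgroup.commutator_mem_commutator
      (Subgroup.mem_top g) (Subgroup.mem_top x))) hx
  refine ⟨hle, hPn, ?_⟩
  haveI := hPn
  obtain ⟨A, hA⟩ := Subgroup.exists_left_complement'_of_coprime
    (N := (P : Subgroup G)) (Sylow.card_coprime_index P)
  have hdisj : A ⊓ (P : Subgroup G) = ⊥ := hA.disjoint.eq_bot
  refine ⟨A, ?_, ?_, hA.sup_eq_top, hdisj⟩
  · intro a ha b hb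
    have h1 : ⁅a, b⁆ ∈ A ⊓ (P : Subgroup G) := by
      refine ⟨?_, hle (Subgroup.commutator_mem_commutator
        (Subgroup.mem_top a) (Subgroup.mem_top b))⟩
      rw [commutatorElement_def]
      exact A.mul_mem (A.mul_mem (A.mul_mem ha hb) (A.inv_mem ha)) (A.inv_mem hb)
    rw [hdisj, Subgroup.mem_bot] at h1
    exact (commutatorElement_eq_one_iff_commute.mp h1).eq
  · rw [← hA.index_eq_card]
    have h1 : ¬ p ∣ (P : Subgroup G).index := Sylow.not_dvd_index P
    exact ((Nat.Prime.coprime_iff_not_dvd hp).2 h1).symm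

end Cfsg.Agent.Helper8.MX
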