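import Mathlib
import Cfsg.Agent.Lib.Helper19.MaxCentA

/-!
# Maximal centralizers: the case where `N / Z(N)` has a nontrivial centre
(helper19's shared library)
-/

set_option autoImplicit false

namespace Cfsg.Agent.Helper19.MaxCent

open Cfsg.Agent.Helper19.ClassSize

variable {G : Type*} [Group G]

/-! ### commutator cancellation -/

theorem comm_cancel_left {Q : Type*} [Group Q] {t m b : Q} (h1 : Commute t m)
    (h2 : Commute t b) : (t * m) * b * (t * m)⁻¹ * b⁻¹ = m * b * m⁻¹ * b⁻¹ := by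
  have hc : Commute t (m * b * m⁻¹ * b⁻¹) :=
    ((h1.mul_right h2).mul_right h1.inv_right).mul_right h2.inv_right
  calc (t * m) * b * (t * m)⁻¹ * b⁻¹ = t * m * b * m⁻¹ * (t⁻¹ * b⁻¹) := by group
    _ = t * m * b * m⁻¹ * (b⁻¹ * t⁻¹) := by rw [(h2.inv_inv).eq]
    _ = t * (m * b * m⁻¹ * b⁻¹) * t⁻¹ := by group
    _ = (m * b * m⁻¹ * b⁻¹) * t * t⁻¹ := by rw [hc.eq]
    _ = m * b * m⁻¹ * b⁻¹ := by group

theorem comm_cancel_right {Q : Type*} [Group Q] {t m a : Q} (h1 : Commute t a)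
    (h2 : Commute t m) : a * (t * m) * a⁻¹ * (t * m)⁻¹ = a * m * a⁻¹ * m⁻¹ := by
  have := comm_cancel_left h2 h1
  calc a * (t * m) * a⁻¹ * (t * m)⁻¹ = ((t * m) * a * (t * m)⁻¹ * a⁻¹)⁻¹ := by group
    _ = (m * a * m⁻¹ * a⁻¹)⁻¹ := by rw [this]
    _ = a * m * a⁻¹ * m⁻¹ := by group

theorem comm_cancel {Q : Type*} [Group Q] {t1 m1 t2 m2 : Q} (h1 : Commute t1 m1)
    (h2 : Commute t1 t2) (h3 : Commute t1 m2) (h4 : Commute t2 m1) (h5 : Commute t2 m2) :
    (t1 * m1) * (t2 * m2) * (t1 * m1)⁻¹ * (t2 * m2)⁻¹ = m1 * m2 * m1⁻¹ * m2⁻¹ := by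
  rw [comm_cancel_left h1 (h2.mul_right h3), comm_cancel_right h4 h5]

/-! ### the second centre relative to a normal subgroup -/

/-- preimage in `N` of the centre of `N / L` -/
def Zover (N L : Subgroup G) [L.Normal] : Subgroup G :=
  N ⊓ (Subgroup.centralizer
    ((N.map (QuotientGroup.mk' L) : Subgroup (G ⧸ L)) : Set (G ⧸ L))).comap (QuotientGroup.mk' L)

theorem mem_Zover {N L : Subgroup G} [L.Normal] {t : G} :
    t ∈ Zover N L ↔ t ∈ N ∧ ∀ n ∈ N,
      (QuotientGroup.mk' L n) * (QuotientGroup.mk' L t) =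
        (QuotientGroup.mk' L t) * (QuotientGroup.mk' L n) := by
  unfold Zover
  rw [Subgroup.mem_inf, Subgroup.mem_comap, Subgroup.mem_centralizer_iff]
  constructor
  · rintro ⟨h1, h2⟩
    exact ⟨h1, fun n hn => h2 _ (Subgroup.mem_map_of_mem _ hn)⟩
  · rintro ⟨h1, h2⟩
    refine ⟨h1, ?_⟩
    intro u hu
    obtain ⟨n, hn, rfl⟩ := Subgroup.mem_map.mp hu
    exact h2 n hn

theorem mem_Zover' {N L : Subgroup G} [L.Normal] {t : G} :
    t ∈ Zover N L ↔ t ∈ N ∧ ∀ n ∈ N, (t * n)⁻¹ * (n * t) ∈ L := by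
  rw [mem_Zover]
  constructor
  · rintro ⟨h1, h2⟩
    refine ⟨h1, fun n hn => ?_⟩
    have h3 := h2 n hn
    rw [← map_mul, ← map_mul] at h3
    exact QuotientGroup.eq.mp h3.symm
  · rintro ⟨h1, h2⟩
    refine ⟨h1, fun n hn => ?_⟩
    rw [← map_mul, ← map_mul]
    exact (QuotientGroup.eq.mpr (h2 n hn)).symm

theorem Zover_le (N L : Subgroup G) [L.Normal] : Zover N L ≤ N := inf_le_left

instance Zover_normal (N L : Subgroup G) [N.Normal] [L.Normal] : (Zover N L).Normal := by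
  unfold Zover
  have : (N.map (QuotientGroup.mk' L)).Normal :=
    Subgroup.Normal.map inferInstance _ (QuotientGroup.mk'_surjective L)
  infer_instance

section Fin

variable [Finite G] {N : Subgroup G} [N.Normal]

omit [Finite G] in
theorem commute_of_mem_Zover {x y : G} (hx : x ∈ Zover N (ZN N)) (hy : y ∈ N)
    (hco : (orderOf x).Coprime (orderOf y)) : Commute x y := by
  obtain ⟨hxN, hx2⟩ := mem_Zover'.mp hx
  set c := (x * y)⁻¹ * (y * x) with hc
  have hcZ : c ∈ ZN N := hx2 y hy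
  have h : y * x = x * y * c := by rw [hc]; group
  have hcx : Commute c x := ((mem_ZN.mp hcZ).2 x hxN).symm
  have hcy : Commute c y := ((mem_ZN.mp hcZ).2 y hy).symm
  have e1 := mul_pow_of_central h hcx (orderOf x)
  have e2 := pow_mul_of_central h hcy (orderOf y)
  rw [pow_orderOf_eq_one, one_mul, mul_one] at e1
  rw [pow_orderOf_eq_one, one_mul, mul_one] at e2
  have c1 : c ^ orderOf x = 1 := by
    have : y * c ^ orderOf x = y * 1 := by rw [mul_one]; exact e1.symm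
    exact mul_left_cancel this
  have c2 : c ^ orderOf y = 1 := by
    have : x * c ^ orderOf y = x * 1 := by rw [mul_one]; exact e2.symm
    exact mul_left_cancel this
  have d1 : orderOf c ∣ orderOf x := orderOf_dvd_of_pow_eq_one c1
  have d2 : orderOf c ∣ orderOf y := orderOf_dvd_of_pow_eq_one c2
  have d3 : orderOf c ∣ 1 := by
    have := Nat.dvd_gcd d1 d2
    rwa [hco.gcd_eq_one] at this
  have hc1 : c = 1 := orderOf_eq_one_iff.mp (Nat.dvd_one.mp d3)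
  rw [hc1, mul_one] at h
  exact h.symm

omit [Finite G] in
theorem coprime_of_pow {x y : G} {p q i j : ℕ} (hp : p.Prime) (hq : q.Prime) (hpq : p ≠ q)
    (hx : orderOf x = p ^ i) (hy : y ^ q ^ j = 1) : (orderOf x).Coprime (orderOf y) := by
  rw [hx]
  have hd : orderOf y ∣ q ^ j := orderOf_dvd_of_pow_eq_one hy
  exact Nat.Coprime.coprime_dvd_right hd
    (Nat.Coprime.pow _ _ ((Nat.coprime_primes hp hq).mpr hpq))

/-- Step B: a noncentral element of the second centre forces `N / Z(N)` to be a `p`-group -/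
theorem stepB (hN : MaxC N) {x0 : G} (hx0 : x0 ∈ Zover N (ZN N)) (hx0Z : x0 ∉ ZN N) :
    ∃ p : ℕ, p.Prime ∧ ∀ n ∈ N, ∃ k : ℕ, n ^ p ^ k ∈ ZN N := by
  have h1 : ∃ p : ℕ, p.Prime ∧ ∃ a : ℕ, (∃ i, orderOf (x0 ^ a) = p ^ i) ∧ x0 ^ a ∉ ZN N := by
    by_contra hcon
    push Not at hcon
    exact hx0Z (mem_of_primary_parts _ x0 (fun q hq a ha => hcon q hq a ha))
  obtain ⟨p, hp, a, ⟨i, hi⟩, hxZ⟩ := h1
  set x := x0 ^ a with hxdef
  have hxW : x ∈ Zover N (ZN N) := Subgroup.pow_mem _ hx0 a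
  have hxN : x ∈ N := Zover_le _ _ hxW
  refine ⟨p, hp, ?_⟩
  -- all `q`-elements, `q ≠ p`, are central
  have claim : ∀ q : ℕ, q.Prime → q ≠ p → ∀ y ∈ N, (∃ j : ℕ, y ^ q ^ j = 1) → y ∈ ZN N := by
    intro q hq hqp y hy ⟨j, hj⟩
    by_contra hyZ
    have key : ∀ y' ∈ N, y' ∉ ZN N → y' ^ q ^ j = 1 → Cz x = Cz y' := by
      intro y' hy' hy'Z hy'j
      have hco := coprime_of_pow hp hq hqp.symm hi hy'j
      exact Cz_eq_of_coprime hN hxN hxZ hy' hy'Z (commute_of_mem_Zover hxW hy' hco) hco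
    have hxy : Cz x = Cz y := key y hy hyZ hj
    have hMn : (Cz x).Normal := by
      apply normal_of_conj_mem N (Cz x) (sup_Cz_eq_top hN hxN hxZ)
      intro n hn m hm
      have hy'N : n * y * n⁻¹ ∈ N := ‹N.Normal›.conj_mem y hy n
      have hy'Z : n * y * n⁻¹ ∉ ZN N := by
        intro h
        apply hyZ
        have := (ZN_normal N).conj_mem _ h n⁻¹
        have e : n⁻¹ * (n * y * n⁻¹) * n⁻¹⁻¹ = y := by group
        rwa [e] at this
      have hy'j : (n * y * n⁻¹) ^ q ^ j = 1 := by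
        rw [conj_pow, hj, mul_one, mul_inv_cancel]
      rw [key _ hy'N hy'Z hy'j]
      apply conj_mem_Cz
      rw [← hxy]; exact hm
    let A : Subgroup G := Cz x ⊓ Subgroup.centralizer (Cz x : Set G)
    have hAn : A.Normal := by
      show (Cz x ⊓ Subgroup.centralizer (Cz x : Set G)).Normal
      infer_instance
    have hA : ∀ a ∈ A, ∀ b ∈ A, a * b = b * a := by
      intro a ha b hb
      have ha1 : a ∈ Cz x := (Subgroup.mem_inf.mp ha).1
      have hb2 := (Subgroup.mem_inf.mp hb).2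
      rw [Subgroup.mem_centralizer_iff] at hb2
      exact hb2 a ha1
    have hxA : x ∈ A := by
      refine Subgroup.mem_inf.mpr ⟨self_mem_Cz x, ?_⟩
      rw [Subgroup.mem_centralizer_iff]
      intro h hh
      exact (mem_Cz.mp hh).symm
    have hyA : y ∈ A := by
      refine Subgroup.mem_inf.mpr ⟨by rw [hxy]; exact self_mem_Cz y, ?_⟩
      rw [Subgroup.mem_centralizer_iff]
      intro h hh
      have : h ∈ Cz y := by rw [← hxy]; exact hh
      exact (mem_Cz.mp this).symm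
    obtain ⟨g, hgN, hgx⟩ := exists_not_mem_Cz hxN hxZ
    have hgZ : g ∉ ZN N := fun h => hgx (ZN_le_Cz hxN h)
    have hgy : g ∉ Cz y := by rw [← hxy]; exact hgx
    have hxq : (orderOf x).Coprime q := by
      rw [hi]; exact Nat.Coprime.pow_left _ ((Nat.coprime_primes hp hq).mpr hqp.symm)
    exact two_primes_false A hA hxA hyA hxq ⟨j, hj⟩ (hN g hgN hgZ) hgx hgy
  intro n hn
  obtain ⟨a', b', hdec, ⟨k, hk⟩, hcop, _⟩ := exists_pow_decomp n p hp
  have hb : n ^ b' ∈ ZN N := by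
    apply mem_of_primary_parts
    intro q hq c ⟨j, hj⟩
    by_cases hqp : q = p
    · subst hqp
      have d1 : q ^ j ∣ orderOf (n ^ b') := by
        rw [← hj]; exact orderOf_pow_dvd c
      have d2 : (q ^ j).Coprime (orderOf (n ^ b')) := Nat.Coprime.pow_left _ hcop.symm
      have d3 : q ^ j = 1 := Nat.Coprime.eq_one_of_dvd d2 d1
      rw [d3, orderOf_eq_one_iff] at hj
      rw [hj]; exact Subgroup.one_mem _
    · apply claim q hq hqp _ (N.pow_mem (N.pow_mem hn b') c)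
      exact ⟨j, by rw [← hj]; exact pow_orderOf_eq_one _⟩
  refine ⟨k, ?_⟩
  have e : n ^ p ^ k = (n ^ a') ^ p ^ k * (n ^ b') ^ p ^ k := by
    rw [← (Commute.pow_pow_self n a' b').mul_pow, ← hdec]
  rw [e, ← hk, pow_orderOf_eq_one, one_mul]
  exact Subgroup.pow_mem _ hb _

/-- Step A, first half: commutators of `N` lie in every maximal centralizer -/
theorem stepA_comm (hN : MaxC N) {p : ℕ} (hp : p.Prime)
    (hpg : ∀ n ∈ N, ∃ k : ℕ, n ^ p ^ k ∈ ZN N) {x : G} (hx : x ∈ N) (hxZ : x ∉ ZN N)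
    {a b : G} (ha : a ∈ N) (hb : b ∈ N) : a * b * a⁻¹ * b⁻¹ ∈ Cz x := by
  have hM : IsCoatom (Cz x) := hN x hx hxZ
  let L : Subgroup G := N ⊓ (Cz x).normalCore
  have hLn : L.Normal := by
    show (N ⊓ (Cz x).normalCore).Normal
    infer_instance
  have hZL : ZN N ≤ L :=
    le_inf (ZN_le N) (Subgroup.normal_le_normalCore.mpr (ZN_le_Cz hx))
  have hLM : L ≤ Cz x := inf_le_right.trans (Subgroup.normalCore_le _)
  have hpF : Fact p.Prime := ⟨hp⟩
  let Nb : Subgroup (G ⧸ L) := N.map (QuotientGroup.mk' L)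
  have hNbp : IsPGroup p Nb := by
    rintro ⟨u, hu⟩
    obtain ⟨n, hn, rfl⟩ := Subgroup.mem_map.mp hu
    obtain ⟨k, hk⟩ := hpg n hn
    refine ⟨k, Subtype.ext ?_⟩
    show (QuotientGroup.mk' L n) ^ p ^ k = 1
    rw [← map_pow]
    exact (QuotientGroup.eq_one_iff _).mpr (hZL hk)
  obtain ⟨n0, hn0, hn0x⟩ := exists_not_mem_Cz hx hxZ
  have hNbnt : Nontrivial Nb := by
    rw [Subgroup.nontrivial_iff_exists_ne_one]
    refine ⟨QuotientGroup.mk' L n0, Subgroup.mem_map_of_mem _ hn0, ?_⟩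
    intro h
    exact hn0x (hLM ((QuotientGroup.eq_one_iff _).mp h))
  have hcnt : Nontrivial (Subgroup.center Nb) := hNbp.center_nontrivial
  obtain ⟨u, hu, hu1⟩ := (Subgroup.nontrivial_iff_exists_ne_one _).mp hcnt
  obtain ⟨t, ht, htu⟩ := Subgroup.mem_map.mp u.2
  have htW : t ∈ Zover N L := by
    rw [mem_Zover]
    refine ⟨ht, fun n hn => ?_⟩
    have h1 := Subgroup.mem_center_iff.mp hu ⟨QuotientGroup.mk' L n, Subgroup.mem_map_of_mem _ hn⟩
    have h2 := congrArg Subtype.val h1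
    rw [htu]
    exact h2
  have htL : t ∉ L := by
    intro h
    apply hu1
    apply Subtype.ext
    rw [← htu]
    exact (QuotientGroup.eq_one_iff _).mpr h
  have hsup : Zover N L ⊔ Cz x = ⊤ := by
    rcases coatom_cases hM (Zover N L) with h | h
    · exfalso
      apply htL
      exact Subgroup.mem_inf.mpr ⟨ht, (Subgroup.normal_le_normalCore.mpr h) htW⟩
    · exact h
  obtain ⟨t1, ht1, m1, hm1, rfl⟩ := exists_mul_of_sup_eq_top_in N (Zover N L) (Cz x)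
    (Zover_le N L) hsup ha
  obtain ⟨t2, ht2, m2, hm2, rfl⟩ := exists_mul_of_sup_eq_top_in N (Zover N L) (Cz x)
    (Zover_le N L) hsup hb
  obtain ⟨hm1N, hm1M⟩ := Subgroup.mem_inf.mp hm1
  obtain ⟨hm2N, hm2M⟩ := Subgroup.mem_inf.mp hm2
  obtain ⟨ht1N, ht1c⟩ := mem_Zover.mp ht1
  obtain ⟨ht2N, ht2c⟩ := mem_Zover.mp ht2
  have key : QuotientGroup.mk' L ((t1 * m1) * (t2 * m2) * (t1 * m1)⁻¹ * (t2 * m2)⁻¹) =
      QuotientGroup.mk' L (m1 * m2 * m1⁻¹ * m2⁻¹) := by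
    simp only [map_mul, map_inv]
    exact comm_cancel (ht1c m1 hm1N).symm (ht1c t2 ht2N).symm (ht1c m2 hm2N).symm
      (ht2c m1 hm1N).symm (ht2c m2 hm2N).symm
  have h3 : (m1 * m2 * m1⁻¹ * m2⁻¹)⁻¹ * ((t1 * m1) * (t2 * m2) * (t1 * m1)⁻¹ * (t2 * m2)⁻¹) ∈ L :=
    QuotientGroup.eq.mp key.symm
  have h4 : m1 * m2 * m1⁻¹ * m2⁻¹ ∈ Cz x :=
    (Cz x).mul_mem ((Cz x).mul_mem ((Cz x).mul_mem hm1M hm2M) ((Cz x).inv_mem hm1M))
      ((Cz x).inv_mem hm2M)
  have h5 := (Cz x).mul_mem h4 (hLM h3)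
  rwa [mul_inv_cancel_left] at h5

/-- Step A: if `N / Z(N)` is a `p`-group then it is elementary abelian -/
theorem stepA (hN : MaxC N) {p : ℕ} (hp : p.Prime)
    (hpg : ∀ n ∈ N, ∃ k : ℕ, n ^ p ^ k ∈ ZN N) :
    (∀ a ∈ N, ∀ b ∈ N, a * b * a⁻¹ * b⁻¹ ∈ ZN N) ∧ ∀ a ∈ N, a ^ p ∈ ZN N := by
  have hcomm : ∀ a ∈ N, ∀ b ∈ N, a * b * a⁻¹ * b⁻¹ ∈ ZN N := by
    intro a ha b hb
    have hcN : a * b * a⁻¹ * b⁻¹ ∈ N :=
      N.mul_mem (N.mul_mem (N.mul_mem ha hb) (N.inv_mem ha)) (N.inv_mem hb)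
    rw [mem_ZN]
    refine ⟨hcN, fun n hn => ?_⟩
    by_cases hnZ : n ∈ ZN N
    · exact ((mem_ZN.mp hnZ).2 _ hcN).symm
    · exact mem_Cz.mp (stepA_comm hN hp hpg hn hnZ ha hb)
  refine ⟨hcomm, ?_⟩
  intro x hx
  by_contra hxp
  have hxZ : x ∉ ZN N := fun h => hxp (Subgroup.pow_mem _ h p)
  have hxpN : x ^ p ∈ N := N.pow_mem hx p
  have hCeq : Cz x = Cz (x ^ p) :=
    coatom_eq_of_le (hN x hx hxZ) (hN _ hxpN hxp) (Cz_pow_le x p)
  obtain ⟨n, hn, hnx⟩ := exists_not_mem_Cz hx hxZ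
  have hex : ∃ k : ℕ, n ^ p ^ k ∈ Cz x := by
    obtain ⟨k, hk⟩ := hpg n hn
    exact ⟨k, ZN_le_Cz hx hk⟩
  classical
  set k0 := Nat.find hex with hk0
  have hk0s : n ^ p ^ k0 ∈ Cz x := Nat.find_spec hex
  have hk0pos : k0 ≠ 0 := by
    intro h
    rw [h, pow_zero, pow_one] at hk0s
    exact hnx hk0s
  set t := n ^ p ^ (k0 - 1) with htdef
  have htN : t ∈ N := N.pow_mem hn _
  have htx : t ∉ Cz x := Nat.find_min hex (by omega : k0 - 1 < k0)
  have htp : t ^ p ∈ Cz x := by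
    have : t ^ p = n ^ p ^ k0 := by
      rw [htdef, ← pow_mul, ← pow_succ]
      congr 2
      omega
    rw [this]; exact hk0s
  set c := (x * t)⁻¹ * (t * x) with hc
  have hcZ : c ∈ ZN N := by
    have := hcomm t⁻¹ (N.inv_mem htN) x⁻¹ (N.inv_mem hx)
    have e : t⁻¹ * x⁻¹ * t⁻¹⁻¹ * x⁻¹⁻¹ = c := by rw [hc]; group
    rwa [e] at this
  have h : t * x = x * t * c := by rw [hc]; group
  have hcx : Commute c x := ((mem_ZN.mp hcZ).2 x hx).symm
  have hct : Commute c t := ((mem_ZN.mp hcZ).2 t htN).symm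
  have e1 := pow_mul_of_central h hct p
  have e2 := mul_pow_of_central h hcx p
  have hcp : c ^ p = 1 := by
    have h3 : x * t ^ p = t ^ p * x := mem_Cz.mp htp
    rw [← h3] at e1
    have : x * t ^ p * c ^ p = x * t ^ p * 1 := by rw [mul_one]; exact e1.symm
    exact mul_left_cancel this
  rw [hcp, mul_one] at e2
  apply htx
  rw [hCeq, mem_Cz]
  exact e2.symm

end Fin

end Cfsg.Agent.Helper19.MaxCent
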