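import Mathlib
import Cfsg.Agent.Lib.Helper19.MaxCentA
import Cfsg.Agent.S0183

/-!
# Maximal centralizers, centreless case: minimal normal subgroups are abelian
(helper19's shared library)
-/

set_option autoImplicit false

namespace Cfsg.Agent.Helper19.MaxCent

open Cfsg.Agent.Helper19.ClassSize

variable {G : Type*} [Group G]

/-- minimal normal subgroups of `G` inside `N` -/
def MinNormalIn (N X : Subgroup G) : Prop :=
  X.Normal ∧ X ≤ N ∧ X ≠ ⊥ ∧ ∀ Y : Subgroup G, Y.Normal → Y ≤ X → Y ≠ ⊥ → Y = X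

theorem exists_minNormalIn [Finite G] (N : Subgroup G) [hNn : N.Normal] (hN1 : N ≠ ⊥) :
    ∃ X, MinNormalIn N X := by
  obtain ⟨X, ⟨hXn, hXN, hX1⟩, hmin⟩ := exists_minimal_of_wellFoundedLT
    (fun X : Subgroup G => X.Normal ∧ X ≤ N ∧ X ≠ ⊥) ⟨N, hNn, le_rfl, hN1⟩
  exact ⟨X, hXn, hXN, hX1, fun Y hYn hYX hY1 =>
    le_antisymm hYX (hmin ⟨hYn, hYX.trans hXN, hY1⟩ hYX)⟩

theorem mem_normalizer_zpowers {g w : G} (h1 : g * w * g⁻¹ ∈ Subgroup.zpowers w)
    (h2 : g⁻¹ * w * g ∈ Subgroup.zpowers w) :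
    g ∈ Subgroup.normalizer ((Subgroup.zpowers w : Subgroup G) : Set G) := by
  rw [Subgroup.mem_normalizer_iff]
  intro h
  constructor
  · intro hh
    obtain ⟨k, rfl⟩ := Subgroup.mem_zpowers_iff.mp hh
    rw [← conj_zpow]
    exact Subgroup.zpow_mem _ h1 k
  · intro hh
    obtain ⟨k, hk⟩ := Subgroup.mem_zpowers_iff.mp hh
    have e : h = g⁻¹ * w ^ k * g := by rw [hk]; group
    have e2 : g⁻¹ * w ^ k * g = (g⁻¹ * w * g) ^ k := by
      have := conj_zpow (a := g⁻¹) (b := w) (i := k)
      rw [inv_inv] at this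
      exact this.symm
    rw [e, e2]
    exact Subgroup.zpow_mem _ h2 k

section Fin

variable [Finite G] {N : Subgroup G}

theorem even_case (hN : MaxC N) (hZ : ZN N = ⊥) {X : Subgroup G} (hX : MinNormalIn N X)
    (hZX : X ⊓ Subgroup.centralizer (X : Set G) = ⊥) (heven : 2 ∣ Nat.card X) : False := by
  obtain ⟨hXn, hXN, hX1, hmin⟩ := hX
  have : Fact (Nat.Prime 2) := ⟨Nat.prime_two⟩
  obtain ⟨t', ht'⟩ := exists_prime_orderOf_dvd_card' 2 heven
  set t : G := t'.val with htdef
  have ht : orderOf t = 2 := by rw [← ht']; exact Subgroup.orderOf_coe t'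
  have htX : t ∈ X := t'.2
  have htt : t * t = 1 := by rw [← pow_two, ← ht]; exact pow_orderOf_eq_one t
  have ht1 : t ≠ 1 := by
    intro h; rw [h, orderOf_one] at ht; omega
  have hinv : t⁻¹ = t := inv_eq_of_mul_eq_one_right htt
  have hcomm : ∀ g : G, Commute t (g * t * g⁻¹) := by
    intro g
    set t2 := g * t * g⁻¹ with ht2
    have ht2X : t2 ∈ X := hXn.conj_mem t htX g
    have ht2t2 : t2 * t2 = 1 := by
      rw [ht2]
      calc g * t * g⁻¹ * (g * t * g⁻¹) = g * (t * t) * g⁻¹ := by group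
        _ = 1 := by rw [htt]; group
    have hinv2 : t2⁻¹ = t2 := inv_eq_of_mul_eq_one_right ht2t2
    set w := t * t2 with hw
    have hwinv : w⁻¹ = t2 * t := by rw [hw, mul_inv_rev, hinv, hinv2]
    by_cases hww : w * w = 1
    · have e : w⁻¹ = w := inv_eq_of_mul_eq_one_right hww
      show t * t2 = t2 * t
      rw [← hwinv, e]
    · exfalso
      have hwX : w ∈ X := X.mul_mem htX ht2X
      have hw1 : w ≠ 1 := by
        intro h; apply hww; rw [h, one_mul]
      have hwZ : w ∉ ZN N := by rw [hZ, Subgroup.mem_bot]; exact hw1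
      have hM := hN w (hXN hwX) hwZ
      have htw : t * w * t⁻¹ = w⁻¹ := by
        rw [hwinv, hinv]
        calc t * w * t = t * (t * t2) * t := by rw [hw]
          _ = (t * t) * t2 * t := by group
          _ = t2 * t := by rw [htt, one_mul]
      have htnot : t ∉ Cz w := by
        intro h
        rw [mem_Cz] at h
        apply hww
        have e : w⁻¹ = w := by
          rw [← htw, ← h]; group
        calc w * w = w⁻¹ * w := by rw [e]
          _ = 1 := inv_mul_cancel w
      have hD1 : t ∈ Subgroup.normalizer ((Subgroup.zpowers w : Subgroup G) : Set G) := by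
        apply mem_normalizer_zpowers
        · rw [htw]; exact Subgroup.inv_mem _ (Subgroup.mem_zpowers w)
        · have : t⁻¹ * w * t = w⁻¹ := by
            rw [← htw, hinv]
          rw [this]; exact Subgroup.inv_mem _ (Subgroup.mem_zpowers w)
      have hD2 : Cz w ≤ Subgroup.normalizer ((Subgroup.zpowers w : Subgroup G) : Set G) := by
        intro g hg
        rw [mem_Cz] at hg
        apply mem_normalizer_zpowers
        · have : g * w * g⁻¹ = w := by rw [← hg]; group
          rw [this]; exact Subgroup.mem_zpowers w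
        · have : g⁻¹ * w * g = w := by rw [mul_assoc, hg]; group
          rw [this]; exact Subgroup.mem_zpowers w
      have hDn : (Subgroup.zpowers w).Normal := by
        rw [← Subgroup.normalizer_eq_top_iff]
        rcases coatom_cases hM (Subgroup.normalizer ((Subgroup.zpowers w : Subgroup G) : Set G))
          with h | h
        · exact absurd (h hD1) htnot
        · rwa [sup_eq_left.mpr hD2] at h
      have hDX : Subgroup.zpowers w ≤ X := (Subgroup.zpowers_le).mpr hwX
      have hDne : Subgroup.zpowers w ≠ ⊥ := by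
        intro h
        apply hw1
        have := Subgroup.mem_zpowers w
        rwa [h, Subgroup.mem_bot] at this
      have hDeq := hmin _ hDn hDX hDne
      have : w ∈ X ⊓ Subgroup.centralizer (X : Set G) := by
        refine Subgroup.mem_inf.mpr ⟨hwX, ?_⟩
        rw [Subgroup.mem_centralizer_iff]
        intro h hh
        have hh' : h ∈ Subgroup.zpowers w := by rw [hDeq]; exact hh
        obtain ⟨k, rfl⟩ := Subgroup.mem_zpowers_iff.mp hh'
        exact (Commute.zpow_self w k).eq
      rw [hZX, Subgroup.mem_bot] at this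
      exact hw1 this
  have hY : Subgroup.normalClosure {t} ≤ Cz t := by
    unfold Subgroup.normalClosure
    rw [Subgroup.closure_le]
    intro a ha
    obtain ⟨b, hb, hba⟩ := Group.mem_conjugatesOfSet_iff.mp ha
    rw [Set.mem_singleton_iff] at hb
    rw [hb] at hba
    obtain ⟨c, hc⟩ := isConj_iff.mp hba
    rw [SetLike.mem_coe, mem_Cz, ← hc]
    exact (hcomm c).eq
  have hYX : Subgroup.normalClosure {t} ≤ X :=
    Subgroup.normalClosure_le_normal (by simpa using htX)
  have hY1 : Subgroup.normalClosure {t} ≠ ⊥ := by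
    intro h
    have := Subgroup.subset_normalClosure (Set.mem_singleton t)
    rw [h] at this
    exact ht1 (Subgroup.mem_bot.mp this)
  have hYeq := hmin _ Subgroup.normalClosure_normal hYX hY1
  have : t ∈ X ⊓ Subgroup.centralizer (X : Set G) := by
    refine Subgroup.mem_inf.mpr ⟨htX, ?_⟩
    rw [Subgroup.mem_centralizer_iff]
    intro h hh
    have h2 : h ∈ Cz t := hY (by rw [hYeq]; exact hh)
    exact (mem_Cz.mp h2).symm
  rw [hZX, Subgroup.mem_bot] at this
  exact ht1 this

theorem nilpotent_inf_Cz (hN : MaxC N) (hZ : ZN N = ⊥) {x : G} {r : ℕ} (hr : r.Prime)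
    (hx : x ∈ N) (hxr : orderOf x = r) : Group.IsNilpotent ↥(N ⊓ Cz x) := by
  have hx1 : x ≠ 1 := by
    intro h; rw [h, orderOf_one] at hxr; exact hr.one_lt.ne hxr
  have hxZ : x ∉ ZN N := by rw [hZ, Subgroup.mem_bot]; exact hx1
  by_cases hB : ∃ y ∈ N ⊓ Cz x, y ≠ 1 ∧ (orderOf y).Coprime r
  · obtain ⟨y, hy, hy1, hyr⟩ := hB
    obtain ⟨hyN, hyx⟩ := Subgroup.mem_inf.mp hy
    have hyZ : y ∉ ZN N := by rw [hZ, Subgroup.mem_bot]; exact hy1
    have hcomm : ∀ a ∈ N ⊓ Cz x, ∀ b ∈ N ⊓ Cz x, a * b = b * a := by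
      intro a ha b hb
      obtain ⟨haN, hax⟩ := Subgroup.mem_inf.mp ha
      obtain ⟨_, hbx⟩ := Subgroup.mem_inf.mp hb
      exact mem_Cz.mp (Cz_le_Cz_of_mem hN hr hx hxZ hyN hyZ (mem_Cz.mp hyx)
        ⟨1, by rw [hxr, pow_one]⟩ hyr haN hax hbx)
    let _ : CommGroup ↥(N ⊓ Cz x) :=
      { (inferInstance : Group ↥(N ⊓ Cz x)) with
        mul_comm := fun a b => Subtype.ext (hcomm a a.2 b b.2) }
    exact CommGroup.isNilpotent
  · push Not at hB
    have hp : IsPGroup r ↥(N ⊓ Cz x) := by
      rintro ⟨b, hb⟩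
      obtain ⟨a1, a2, hdec, ⟨i, hi⟩, hcop, _⟩ := exists_pow_decomp b r hr
      have h2 : b ^ a2 = 1 := by
        by_contra hne
        exact hB (b ^ a2) (Subgroup.pow_mem _ hb a2) hne hcop
      have hb' : b = b ^ a1 := by
        rw [h2, mul_one] at hdec; exact hdec
      refine ⟨i, Subtype.ext ?_⟩
      show b ^ r ^ i = 1
      rw [hb', ← hi]
      exact pow_orderOf_eq_one _
    have : Fact r.Prime := ⟨hr⟩
    exact hp.isNilpotent

theorem isCN_of_le (hN : MaxC N) (hZ : ZN N = ⊥) {X : Subgroup G} (hXN : X ≤ N) :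
    Cfsg.IsCNGroup ↥X := by
  intro g hg
  have hg1 : (g : G) ≠ 1 := fun h => hg (Subtype.ext h)
  obtain ⟨r, hr, k, hk⟩ := exists_prime_order_pow hg1
  have hxN : (g : G) ^ k ∈ N := hXN (X.pow_mem g.2 k)
  have hnil := nilpotent_inf_Cz hN hZ hr hxN hk
  let f : ↥(Subgroup.centralizer ({g} : Set ↥X)) →* ↥(N ⊓ Cz ((g : G) ^ k)) :=
    ((X.subtype).comp (Subgroup.centralizer ({g} : Set ↥X)).subtype).codRestrict
      (N ⊓ Cz ((g : G) ^ k)) (by
        intro u
        refine Subgroup.mem_inf.mpr ⟨hXN u.1.2, ?_⟩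
        have hu := u.2
        rw [Subgroup.mem_centralizer_iff] at hu
        have h1 : g * u.1 = u.1 * g := hu g rfl
        have h2 : (g : G) * (u.1 : G) = (u.1 : G) * g := congrArg Subtype.val h1
        exact Cz_pow_le (g : G) k (mem_Cz.mpr h2))
  have hf : Function.Injective f := by
    rw [MonoidHom.injective_codRestrict]
    exact (Subtype.val_injective).comp Subtype.val_injective
  exact Subgroup.isNilpotent_of_ker_le_center f
    (by rw [(MonoidHom.ker_eq_bot_iff f).mpr hf]; exact bot_le)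

theorem odd_case (hN : MaxC N) (hZ : ZN N = ⊥) {X : Subgroup G} (hX : MinNormalIn N X)
    (hodd : Odd (Nat.card X)) : ∀ a ∈ X, ∀ b ∈ X, a * b = b * a := by
  obtain ⟨hXn, hXN, hX1, hmin⟩ := hX
  have hsol : Group.IsSolvable ↥X := Cfsg.Agent.S0183.result hodd (isCN_of_le hN hZ hXN)
  have hnt : Nontrivial ↥X := (Subgroup.nontrivial_iff_ne_bot X).mpr hX1
  have hlt : commutator ↥X < ⊤ := Group.IsSolvable.commutator_lt_top_of_nontrivial ↥X
  have hcn : (⁅X, X⁆ : Subgroup G).Normal := Subgroup.commutator_normal X X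
  have hcX : ⁅X, X⁆ ≤ X := Subgroup.commutator_le_right X X
  have hne : ⁅X, X⁆ ≠ X := by
    intro h
    apply hlt.ne
    rw [eq_top_iff]
    intro u _
    have hu : (u : G) ∈ ⁅X, X⁆ := by rw [h]; exact u.2
    rw [← Subgroup.map_subtype_commutator] at hu
    obtain ⟨v, hv, hvu⟩ := Subgroup.mem_map.mp hu
    have : v = u := Subtype.ext hvu
    rwa [this] at hv
  have hbot : ⁅X, X⁆ = ⊥ := by
    by_contra h
    exact hne (hmin _ hcn hcX h)
  intro a ha b hb
  have := Subgroup.commutator_mem_commutator ha hb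
  rw [hbot, Subgroup.mem_bot, commutatorElement_eq_one_iff_mul_comm] at this
  exact this

/-- in the centreless case a minimal normal subgroup of `G` inside `N` is abelian -/
theorem minNormal_abelian (hN : MaxC N) (hZ : ZN N = ⊥) {X : Subgroup G}
    (hX : MinNormalIn N X) : ∀ a ∈ X, ∀ b ∈ X, a * b = b * a := by
  rcases Nat.even_or_odd (Nat.card X) with he | ho
  · by_contra hnab
    have hXn := hX.1
    have hZXn : (X ⊓ Subgroup.centralizer (X : Set G)).Normal := inferInstance
    have hZX : X ⊓ Subgroup.centralizer (X : Set G) = ⊥ := by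
      by_contra h
      have h2 := hX.2.2.2 _ hZXn inf_le_left h
      apply hnab
      intro a ha b hb
      have hb' : b ∈ X ⊓ Subgroup.centralizer (X : Set G) := by rw [h2]; exact hb
      have h3 := (Subgroup.mem_inf.mp hb').2
      rw [Subgroup.mem_centralizer_iff] at h3
      exact h3 a ha
    exact even_case hN hZ hX hZX (even_iff_two_dvd.mp he)
  · exact odd_case hN hZ hX ho

end Fin

end Cfsg.Agent.Helper19.MaxCent
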