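import Mathlib
import Cfsg.Agent.Lib.Helper19.MaxCentA

/-!
# Maximal centralizers, centreless case: structure over an abelian minimal normal subgroup
(helper19's shared library)
-/

set_option autoImplicit false

namespace Cfsg.Agent.Helper19.MaxCent

open Cfsg.Agent.Helper19.ClassSize

variable {G : Type*} [Group G]

/-- the elements of exponent `p` in a commutative subgroup -/
def expSub (A : Subgroup G) (hA : ∀ a ∈ A, ∀ b ∈ A, a * b = b * a) (p : ℕ) : Subgroup G where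
  carrier := {a | a ∈ A ∧ a ^ p = 1}
  one_mem' := ⟨A.one_mem, one_pow p⟩
  mul_mem' := by
    rintro a b ⟨ha, hk⟩ ⟨hb, hl⟩
    have hc : Commute a b := hA a ha b hb
    exact ⟨A.mul_mem ha hb, by rw [hc.mul_pow, hk, hl, one_mul]⟩
  inv_mem' := by
    rintro a ⟨ha, hk⟩
    exact ⟨A.inv_mem ha, by rw [inv_pow, hk, inv_one]⟩

theorem expSub_normal (A : Subgroup G) [hAn : A.Normal] (hA : ∀ a ∈ A, ∀ b ∈ A, a * b = b * a)
    (p : ℕ) : (expSub A hA p).Normal := by
  constructor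
  rintro a ⟨ha, hk⟩ g
  refine ⟨hAn.conj_mem a ha g, ?_⟩
  rw [conj_pow, hk, mul_one, mul_inv_cancel]

/-- variant of `two_primes_false` for a normal common centralizer -/
theorem two_primes_false' [Finite G] {M : Subgroup G} [hMn : M.Normal] {x y g : G} {q : ℕ}
    (hxM : Cz x = M) (hyM : Cz y = M) (hxq : (orderOf x).Coprime q)
    (hyq : ∃ j : ℕ, y ^ q ^ j = 1) (hg : IsCoatom (Cz g)) (hgM : g ∉ M) : False := by
  let A : Subgroup G := M ⊓ Subgroup.centralizer (M : Set G)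
  have hAn : A.Normal := by
    show (M ⊓ Subgroup.centralizer (M : Set G)).Normal
    infer_instance
  have hA : ∀ a ∈ A, ∀ b ∈ A, a * b = b * a := by
    intro a ha b hb
    have ha1 : a ∈ M := (Subgroup.mem_inf.mp ha).1
    have hb2 := (Subgroup.mem_inf.mp hb).2
    rw [Subgroup.mem_centralizer_iff] at hb2
    exact hb2 a ha1
  have hxA : x ∈ A := by
    refine Subgroup.mem_inf.mpr ⟨by rw [← hxM]; exact self_mem_Cz x, ?_⟩
    rw [Subgroup.mem_centralizer_iff]
    intro h hh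
    have : h ∈ Cz x := by rw [hxM]; exact hh
    exact (mem_Cz.mp this).symm
  have hyA : y ∈ A := by
    refine Subgroup.mem_inf.mpr ⟨by rw [← hyM]; exact self_mem_Cz y, ?_⟩
    rw [Subgroup.mem_centralizer_iff]
    intro h hh
    have : h ∈ Cz y := by rw [hyM]; exact hh
    exact (mem_Cz.mp this).symm
  exact two_primes_false A hA hxA hyA hxq hyq hg (by rw [hxM]; exact hgM)
    (by rw [hyM]; exact hgM)

section Fin

variable [Finite G] {N : Subgroup G} [N.Normal]

omit [N.Normal] in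
/-- a nontrivial normal subgroup with trivial centre is not a `p`-group: it has an element of
prime order `q ≠ p` -/
theorem exists_prime_order_ne (hZ : ZN N = ⊥) (hN1 : N ≠ ⊥) {p : ℕ} (hp : p.Prime) :
    ∃ y ∈ N, ∃ q : ℕ, q.Prime ∧ q ≠ p ∧ orderOf y = q := by
  by_contra hcon
  push Not at hcon
  have hpg : IsPGroup p ↥N := by
    rintro ⟨n, hn⟩
    obtain ⟨a1, a2, hdec, ⟨i, hi⟩, hcop, _⟩ := exists_pow_decomp n p hp
    have h2 : n ^ a2 = 1 := by
      by_contra hne
      obtain ⟨r, hr, k, hk⟩ := exists_prime_order_pow hne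
      have hrp : r ≠ p := by
        intro h
        have d1 : r ∣ orderOf (n ^ a2) := by rw [← hk]; exact orderOf_pow_dvd k
        rw [h] at d1
        have := Nat.Coprime.eq_one_of_dvd hcop.symm d1
        exact hp.one_lt.ne' this
      exact hcon _ (N.pow_mem (N.pow_mem hn a2) k) r hr hrp hk
    have hn' : n = n ^ a1 := by
      rw [h2, mul_one] at hdec; exact hdec
    refine ⟨i, Subtype.ext ?_⟩
    show n ^ p ^ i = 1
    rw [hn', ← hi]
    exact pow_orderOf_eq_one _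
  have hnt : Nontrivial ↥N := (Subgroup.nontrivial_iff_ne_bot N).mpr hN1
  have hpF : Fact p.Prime := ⟨hp⟩
  have hcnt : Nontrivial (Subgroup.center ↥N) := hpg.center_nontrivial
  obtain ⟨z, hz, hz1⟩ := (Subgroup.nontrivial_iff_exists_ne_one _).mp hcnt
  have hzZ : (z : G) ∈ ZN N := by
    rw [mem_ZN]
    refine ⟨z.2, fun n hn => ?_⟩
    have := Subgroup.mem_center_iff.mp hz ⟨n, hn⟩
    exact congrArg Subtype.val this
  rw [hZ, Subgroup.mem_bot] at hzZ
  exact hz1 (Subtype.ext hzZ)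

/-- the structure of `N` over an abelian minimal normal subgroup, in the centreless case -/
theorem abelian_case (hN : MaxC N) (hZ : ZN N = ⊥) (hN1 : N ≠ ⊥) {X : Subgroup G}
    (hXn : X.Normal) (hXN : X ≤ N) (hX1 : X ≠ ⊥)
    (hmin : ∀ Y : Subgroup G, Y.Normal → Y ≤ X → Y ≠ ⊥ → Y = X)
    (hXab : ∀ a ∈ X, ∀ b ∈ X, a * b = b * a) :
    ∃ p : ℕ, p.Prime ∧ (∀ x ∈ X, x ^ p = 1) ∧ ∃ y ∈ N, (orderOf y).Prime ∧
      (∀ x ∈ X, x ≠ 1 → y * x ≠ x * y) ∧
      ∀ n ∈ N, ∃ x ∈ X, ∃ u ∈ Subgroup.zpowers y, n = x * u := by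
  have nz : ∀ {g : G}, g ≠ 1 → g ∉ ZN N := by
    intro g hg; rw [hZ, Subgroup.mem_bot]; exact hg
  -- exponent `p`
  have hnt : Nontrivial ↥X := (Subgroup.nontrivial_iff_ne_bot X).mpr hX1
  have hcard : Nat.card ↥X ≠ 1 := by
    intro h
    have := (Nat.card_eq_one_iff_unique.mp h).1
    exact not_subsingleton ↥X this
  set p := (Nat.card ↥X).minFac with hpdef
  have hp : p.Prime := Nat.minFac_prime hcard
  have hpF : Fact p.Prime := ⟨hp⟩
  obtain ⟨x0', hx0'⟩ := exists_prime_orderOf_dvd_card' p (Nat.minFac_dvd _)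
  have hexp : ∀ x ∈ X, x ^ p = 1 := by
    have hYn : (expSub X hXab p).Normal := expSub_normal X hXab p
    have hYX : expSub X hXab p ≤ X := fun a ha => ha.1
    have hY1 : expSub X hXab p ≠ ⊥ := by
      intro h
      have hmem : (x0' : G) ∈ expSub X hXab p := by
        refine ⟨x0'.2, ?_⟩
        have : x0' ^ p = 1 := by rw [← hx0']; exact pow_orderOf_eq_one _
        have := congrArg Subtype.val this
        simpa using this
      rw [h, Subgroup.mem_bot] at hmem
      have : x0' = 1 := Subtype.ext hmem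
      rw [this, orderOf_one] at hx0'
      exact hp.one_lt.ne hx0'
    have hYeq := hmin _ hYn hYX hY1
    intro x hx
    have : x ∈ expSub X hXab p := by rw [hYeq]; exact hx
    exact this.2
  refine ⟨p, hp, hexp, ?_⟩
  have hord : ∀ x ∈ X, x ≠ 1 → orderOf x = p := fun x hx hx1 =>
    orderOf_eq_prime (hexp x hx) hx1
  -- a fixed nonidentity element of `X`
  obtain ⟨x0, hx0, hx01⟩ := (Subgroup.nontrivial_iff_exists_ne_one X).mp hnt
  have hx0N : x0 ∈ N := hXN hx0
  -- (1a)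
  have h1a : ∀ y ∈ N, y ∉ Subgroup.centralizer (X : Set G) → (orderOf y).Coprime p →
      ∀ x ∈ X, x ≠ 1 → ¬ Commute x y := by
    intro y hy hyC hco x hx hx1 hc
    have hy1 : y ≠ 1 := by
      intro h; apply hyC; rw [h]; exact Subgroup.one_mem _
    have hCeq : Cz x = Cz y := Cz_eq_of_coprime hN (hXN hx) (nz hx1) hy (nz hy1) hc
      (by rw [hord x hx hx1]; exact hco.symm)
    apply hyC
    rw [Subgroup.mem_centralizer_iff]
    intro x' hx'
    have : x' ∈ Cz y := by
      rw [← hCeq, mem_Cz]; exact hXab x hx x' hx'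
    exact (mem_Cz.mp this).symm
  -- (1b)
  have h1b : ∀ y' ∈ N, y' ∈ Subgroup.centralizer (X : Set G) → ∀ q : ℕ, q.Prime → q ≠ p →
      orderOf y' = q → False := by
    intro y' hy' hy'C q hq hqp hy'q
    have hy'1 : y' ≠ 1 := by
      intro h; rw [h, orderOf_one] at hy'q; exact hq.one_lt.ne hy'q
    rw [Subgroup.mem_centralizer_iff] at hy'C
    have hco : p.Coprime q := (Nat.coprime_primes hp hq).mpr hqp.symm
    have hall : ∀ x ∈ X, x ≠ 1 → Cz x = Cz y' := by
      intro x hx hx1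
      exact Cz_eq_of_coprime hN (hXN hx) (nz hx1) hy' (nz hy'1) (hy'C x hx)
        (by rw [hord x hx hx1, hy'q]; exact hco)
    have hMn : (Cz y').Normal := by
      constructor
      intro m hm g
      have h1 : g * x0 * g⁻¹ ∈ X := hXn.conj_mem x0 hx0 g
      have h2 : g * x0 * g⁻¹ ≠ 1 := by
        intro h
        apply hx01
        have : x0 = g⁻¹ * (g * x0 * g⁻¹) * g := by group
        rw [this, h]; group
      rw [← hall _ h1 h2]
      apply conj_mem_Cz
      rw [hall x0 hx0 hx01]; exact hm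
    obtain ⟨g, hgN, hgx⟩ := exists_not_mem_Cz hx0N (nz hx01)
    have hgZ : g ∉ ZN N := fun h => hgx (ZN_le_Cz hx0N h)
    exact two_primes_false' (M := Cz y') (hall x0 hx0 hx01) rfl
      (by rw [hord x0 hx0 hx01]; exact hco) ⟨1, by rw [pow_one, ← hy'q]; exact pow_orderOf_eq_one _⟩
      (hN g hgN hgZ) (by rw [← hall x0 hx0 hx01]; exact hgx)
  -- the element `y`
  obtain ⟨y, hyN, q, hq, hqp, hyq⟩ := exists_prime_order_ne hZ hN1 hp
  have hy1 : y ≠ 1 := by
    intro h; rw [h, orderOf_one] at hyq; exact hq.one_lt.ne hyq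
  have hyC : y ∉ Subgroup.centralizer (X : Set G) := fun h => h1b y hyN h q hq hqp hyq
  have hcoqp : q.Coprime p := (Nat.coprime_primes hq hp).mpr hqp
  have hfpf : ∀ x ∈ X, x ≠ 1 → ¬ Commute x y :=
    h1a y hyN hyC (by rw [hyq]; exact hcoqp)
  have hMy : IsCoatom (Cz y) := hN y hyN (nz hy1)
  have hMx0 : IsCoatom (Cz x0) := hN x0 hx0N (nz hx01)
  refine ⟨y, hyN, by rw [hyq]; exact hq, fun x hx hx1 h => hfpf x hx hx1 h.symm, ?_⟩
  -- (1c)
  have h1c : ∀ c ∈ N, c ∈ Subgroup.centralizer (X : Set G) → c ∈ Cz y → c = 1 := by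
    intro c hcN hcC hcy
    by_contra hc1
    obtain ⟨r, hr, k, hk⟩ := exists_prime_order_pow hc1
    have hc'N : c ^ k ∈ N := N.pow_mem hcN k
    have hc'C : c ^ k ∈ Subgroup.centralizer (X : Set G) := Subgroup.pow_mem _ hcC k
    have hc'y : c ^ k ∈ Cz y := Subgroup.pow_mem _ hcy k
    have hc'1 : c ^ k ≠ 1 := by
      intro h; rw [h, orderOf_one] at hk; exact hr.one_lt.ne hk
    by_cases hrp : r = p
    · have hCeq : Cz (c ^ k) = Cz y := Cz_eq_of_coprime hN hc'N (nz hc'1) hyN (nz hy1)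
        (mem_Cz.mp hc'y).symm (by rw [hk, hrp, hyq]; exact hcoqp.symm)
      rw [Subgroup.mem_centralizer_iff] at hc'C
      have : x0 ∈ Cz y := by
        rw [← hCeq, mem_Cz]; exact (hc'C x0 hx0).symm
      exact hfpf x0 hx0 hx01 (mem_Cz.mp this).symm
    · exact h1b _ hc'N hc'C r hr hrp hk
  -- (1d)
  let C : Subgroup G := N ⊓ Subgroup.centralizer (X : Set G)
  have hCn : C.Normal := by
    show (N ⊓ Subgroup.centralizer (X : Set G)).Normal
    infer_instance
  have hXC : X ≤ C := by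
    intro x hx
    refine Subgroup.mem_inf.mpr ⟨hXN hx, ?_⟩
    rw [Subgroup.mem_centralizer_iff]
    intro x' hx'
    exact hXab x' hx' x hx
  have hx0y : x0 ∉ Cz y := fun h => hfpf x0 hx0 hx01 (mem_Cz.mp h).symm
  have hsupC : C ⊔ Cz y = ⊤ := by
    rcases coatom_cases hMy C with h | h
    · exact absurd (h (hXC hx0)) hx0y
    · exact h
  have hsupX : X ⊔ Cz y = ⊤ := by
    rcases coatom_cases hMy X with h | h
    · exact absurd (h hx0) hx0y
    · exact h
  have hzN : Subgroup.zpowers y ≤ N := Subgroup.zpowers_le.mpr hyN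
  have hzy : Subgroup.zpowers y ≤ Cz y := Subgroup.zpowers_le.mpr (self_mem_Cz y)
  -- the normal subgroup `T`
  let T : Subgroup G := C ⊔ Subgroup.zpowers y
  have hTN : T ≤ N := sup_le inf_le_left hzN
  have hTn : T.Normal := by
    constructor
    intro t ht g
    obtain ⟨c0, hc0, m0, hm0, rfl⟩ := exists_mul_of_sup_eq_top C (Cz y) hsupC g
    have ht' : t ∈ ((C ⊔ Subgroup.zpowers y : Subgroup G) : Set G) := ht
    rw [Subgroup.normal_mul] at ht'
    obtain ⟨c, hc, u, hu, rfl⟩ := Set.mem_mul.mp ht'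
    have hmu : m0 * u * m0⁻¹ = u := by
      obtain ⟨k, rfl⟩ := Subgroup.mem_zpowers_iff.mp hu
      have h1 : Commute m0 y := (mem_Cz.mp hm0).symm
      have h2 : Commute m0 (y ^ k) := h1.zpow_right k
      rw [h2.eq]; group
    have e : c0 * m0 * (c * u) * (c0 * m0)⁻¹ =
        (c0 * (m0 * c * m0⁻¹)) * (m0 * u * m0⁻¹) * c0⁻¹ := by group
    rw [e, hmu]
    exact T.mul_mem (T.mul_mem ((le_sup_left : C ≤ T) (C.mul_mem hc0 (hCn.conj_mem c hc m0)))
      ((le_sup_right : Subgroup.zpowers y ≤ T) hu)) (T.inv_mem ((le_sup_left : C ≤ T) hc0))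
  -- (1e')
  have h1e : ∀ d ∈ N, d ∈ Cz x0 → d ∈ Cz y → d = 1 := by
    intro d hdN hdx hdy
    by_contra hd1
    obtain ⟨r, hr, k, hk⟩ := exists_prime_order_pow hd1
    have hd'N : d ^ k ∈ N := N.pow_mem hdN k
    have hd'x : d ^ k ∈ Cz x0 := Subgroup.pow_mem _ hdx k
    have hd'y : d ^ k ∈ Cz y := Subgroup.pow_mem _ hdy k
    have hd'1 : d ^ k ≠ 1 := by
      intro h; rw [h, orderOf_one] at hk; exact hr.one_lt.ne hk
    by_cases hrq : r = q
    · have hCeq : Cz (d ^ k) = Cz x0 := Cz_eq_of_coprime hN hd'N (nz hd'1) hx0N (nz hx01)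
        (mem_Cz.mp hd'x).symm (by rw [hk, hrq, hord x0 hx0 hx01]; exact hcoqp)
      have : y ∈ Cz x0 := by
        rw [← hCeq, mem_Cz]; exact (mem_Cz.mp hd'y).symm
      exact hfpf x0 hx0 hx01 (mem_Cz.mp this)
    · have hCeq : Cz (d ^ k) = Cz y := Cz_eq_of_coprime hN hd'N (nz hd'1) hyN (nz hy1)
        (mem_Cz.mp hd'y).symm
        (by rw [hk, hyq]; exact (Nat.coprime_primes hr hq).mpr hrq)
      have : x0 ∈ Cz y := by
        rw [← hCeq, mem_Cz]; exact (mem_Cz.mp hd'x).symm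
      exact hx0y this
  -- (H)
  have hH : ∀ h ∈ N, h ∈ Cz y → h ∈ Subgroup.zpowers y := by
    intro h hhN hhy
    have hsupT : T ⊔ Cz x0 = ⊤ := by
      rcases coatom_cases hMx0 T with h' | h'
      · exfalso
        have : y ∈ Cz x0 := h' ((le_sup_right : Subgroup.zpowers y ≤ T) (Subgroup.mem_zpowers y))
        exact hfpf x0 hx0 hx01 (mem_Cz.mp this)
      · exact h'
    obtain ⟨t, ht, m, hm, rfl⟩ := exists_mul_of_sup_eq_top_in N T (Cz x0) hTN hsupT hhN
    obtain ⟨hmN, hmx⟩ := Subgroup.mem_inf.mp hm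
    have ht' : t ∈ ((C ⊔ Subgroup.zpowers y : Subgroup G) : Set G) := ht
    rw [Subgroup.normal_mul] at ht'
    obtain ⟨c, hc, u, hu, rfl⟩ := Set.mem_mul.mp ht'
    have hd : u⁻¹ * (c * u * m) = 1 := by
      apply h1e
      · exact N.mul_mem (N.inv_mem (hzN hu)) hhN
      · have e : u⁻¹ * (c * u * m) = (u⁻¹ * c * u⁻¹⁻¹) * m := by group
        rw [e]
        have h3 : u⁻¹ * c * u⁻¹⁻¹ ∈ C := hCn.conj_mem c hc u⁻¹
        have h4 := (Subgroup.mem_inf.mp h3).2
        rw [Subgroup.mem_centralizer_iff] at h4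
        have h5 : u⁻¹ * c * u⁻¹⁻¹ ∈ Cz x0 := mem_Cz.mpr (h4 x0 hx0)
        exact (Cz x0).mul_mem h5 hmx
      · exact (Cz y).mul_mem ((Cz y).inv_mem (hzy hu)) hhy
    have : c * u * m = u := by
      have := congrArg (fun z => u * z) hd
      simpa using this
    rw [this]; exact hu
  -- conclusion
  intro n hn
  obtain ⟨c, hc, h, hh, rfl⟩ := exists_mul_of_sup_eq_top_in N C (Cz y) inf_le_left hsupC hn
  obtain ⟨hhN, hhy⟩ := Subgroup.mem_inf.mp hh
  obtain ⟨x, hx, m, hm, rfl⟩ := exists_mul_of_sup_eq_top X (Cz y) hsupX c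
  have hmC : m ∈ C := by
    have : m = x⁻¹ * (x * m) := by group
    rw [this]
    exact C.mul_mem (C.inv_mem (hXC hx)) hc
  have hm1 : m = 1 := h1c m (Subgroup.mem_inf.mp hmC).1 (Subgroup.mem_inf.mp hmC).2 hm
  refine ⟨x, hx, h, hH h hhN hhy, ?_⟩
  rw [hm1, mul_one]

end Fin

end Cfsg.Agent.Helper19.MaxCent
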