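import Mathlib
import Cfsg.Prelude.Def_Solvable

/-!
# A semidirect product with a fixed-point-free complement of prime order is a Frobenius group
(helper19's shared library)
-/

set_option autoImplicit false

namespace Cfsg.Agent.Helper19.MaxCent

open scoped Pointwise

theorem mem_conj_smul {H : Type*} [Group H] {Q : Subgroup H} {g v : H} :
    v ∈ MulAut.conj g • Q ↔ ∃ s ∈ Q, g * s * g⁻¹ = v := by
  rw [Subgroup.mem_smul_pointwise_iff_exists]
  simp only [MulAut.smul_def, MulAut.conj_apply]

theorem frob_of_semidirect {H : Type*} [Group H] [Finite H] (K : Subgroup H) [hKn : K.Normal]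
    (hK1 : K ≠ ⊥) (y : H) (hy : (orderOf y).Prime)
    (hfpf : ∀ x ∈ K, x ≠ 1 → y * x ≠ x * y)
    (hdec : ∀ h : H, ∃ x ∈ K, ∃ u ∈ Subgroup.zpowers y, h = x * u) :
    Cfsg.IsFrobeniusComplement (Subgroup.zpowers y) ∧ (Nat.card (Subgroup.zpowers y)).Prime ∧
      (K : Set H) = Cfsg.frobeniusKernel (Subgroup.zpowers y) := by
  have hcard : Nat.card (Subgroup.zpowers y) = orderOf y := Nat.card_zpowers y
  have hy1 : y ≠ 1 := by
    intro h; rw [h, orderOf_one] at hy; exact Nat.not_prime_one hy
  have hKQ : ∀ u ∈ K, u ∈ Subgroup.zpowers y → u = 1 := by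
    intro u hu huQ
    by_contra hne
    obtain ⟨k, rfl⟩ := Subgroup.mem_zpowers_iff.mp huQ
    exact hfpf _ hu hne (Commute.self_zpow y k).eq
  have hgen : ∀ u ∈ Subgroup.zpowers y, u ≠ 1 → y ∈ Subgroup.zpowers u := by
    intro u hu hu1
    have hle : Subgroup.zpowers u ≤ Subgroup.zpowers y := Subgroup.zpowers_le.mpr hu
    have hd : orderOf u ∣ orderOf y := by
      rw [← hcard]; exact Subgroup.orderOf_dvd_natCard _ hu
    have ho : orderOf u = orderOf y := by
      rcases (Nat.dvd_prime hy).mp hd with h | h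
      · exact absurd (orderOf_eq_one_iff.mp h) hu1
      · exact h
    have heq : Subgroup.zpowers u = Subgroup.zpowers y :=
      Subgroup.eq_of_le_of_card_ge hle (by rw [Nat.card_zpowers, Nat.card_zpowers, ho])
    rw [heq]; exact Subgroup.mem_zpowers y
  have hfpf' : ∀ u ∈ Subgroup.zpowers y, u ≠ 1 → ∀ x ∈ K, x ≠ 1 → u * x ≠ x * u := by
    intro u hu hu1 x hx hx1 hc
    obtain ⟨k, hk⟩ := Subgroup.mem_zpowers_iff.mp (hgen u hu hu1)
    have h1 : Commute u x := hc
    have h2 : Commute (u ^ k) x := h1.zpow_left k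
    rw [hk] at h2
    exact hfpf x hx hx1 h2.eq
  obtain ⟨x1, hx1K, hx11⟩ : ∃ x ∈ K, x ≠ 1 := by
    have hnt : Nontrivial ↥K := (Subgroup.nontrivial_iff_ne_bot K).mpr hK1
    exact (Subgroup.nontrivial_iff_exists_ne_one K).mp hnt
  refine ⟨⟨?_, ?_, ?_⟩, by rw [hcard]; exact hy, ?_⟩
  · intro h
    have := Subgroup.mem_zpowers y
    rw [h, Subgroup.mem_bot] at this
    exact hy1 this
  · intro h
    apply hx11
    apply hKQ x1 hx1K
    rw [h]; exact Subgroup.mem_top _
  · intro g hg
    rw [eq_bot_iff]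
    intro v hv
    obtain ⟨hvQ, hvg⟩ := Subgroup.mem_inf.mp hv
    obtain ⟨v', hv'Q, hv'⟩ := mem_conj_smul.mp hvg
    obtain ⟨x, hx, u, hu, rfl⟩ := hdec g
    have hx1 : x ≠ 1 := by
      intro h; apply hg; rw [h, one_mul]; exact hu
    set v'' := u * v' * u⁻¹ with hv''
    have hv''Q : v'' ∈ Subgroup.zpowers y :=
      Subgroup.mul_mem _ (Subgroup.mul_mem _ hu hv'Q) (Subgroup.inv_mem _ hu)
    have hv2 : v = x * v'' * x⁻¹ := by
      rw [← hv', hv'']; group
    have hwQ : v * v''⁻¹ ∈ Subgroup.zpowers y :=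
      Subgroup.mul_mem _ hvQ (Subgroup.inv_mem _ hv''Q)
    have hwK : v * v''⁻¹ ∈ K := by
      have e : v * v''⁻¹ = x * (v'' * x⁻¹ * v''⁻¹) := by rw [hv2]; group
      rw [e]
      exact K.mul_mem hx (hKn.conj_mem x⁻¹ (K.inv_mem hx) v'')
    have hw1 : v * v''⁻¹ = 1 := hKQ _ hwK hwQ
    have hvv : v = v'' := mul_inv_eq_one.mp hw1
    rw [Subgroup.mem_bot]
    by_contra hv1
    apply hfpf' v hvQ hv1 x hx hx1
    have e : v = x * v * x⁻¹ := by
      conv_lhs => rw [hv2, ← hvv]
    calc v * x = x * v * x⁻¹ * x := by rw [← e]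
      _ = x * v := by group
  · ext h
    constructor
    · intro hh
      have hh' : h ∈ K := hh
      show h = 1 ∨ ∀ g : H, h ∉ MulAut.conj g • Subgroup.zpowers y
      by_cases h1 : h = 1
      · exact Or.inl h1
      · right
        intro g hg
        obtain ⟨s, hsQ, hs⟩ := mem_conj_smul.mp hg
        have hsK : s ∈ K := by
          have e : s = g⁻¹ * h * g⁻¹⁻¹ := by rw [← hs]; group
          rw [e]; exact hKn.conj_mem h hh' g⁻¹
        have hs1 : s = 1 := hKQ s hsK hsQ
        apply h1
        rw [← hs, hs1]; group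
    · intro hh
      show h ∈ K
      by_contra hK
      rcases hh with h1 | hall
      · apply hK; rw [h1]; exact K.one_mem
      · obtain ⟨x, hx, u, hu, rfl⟩ := hdec h
        have hu1 : u ≠ 1 := by
          intro h; apply hK; rw [h, mul_one]; exact hx
        let θ : ↥K → ↥K := fun a =>
          ⟨(a : H) * (u * (a : H)⁻¹ * u⁻¹), K.mul_mem a.2 (hKn.conj_mem _ (K.inv_mem a.2) u)⟩
        have hinj : Function.Injective θ := by
          intro a b hab
          have h1 : (a : H) * (u * (a : H)⁻¹ * u⁻¹) = (b : H) * (u * (b : H)⁻¹ * u⁻¹) :=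
            congrArg Subtype.val hab
          have h2 : u * ((b : H)⁻¹ * a) = ((b : H)⁻¹ * a) * u := by
            have h3 : (a : H) * u * (a : H)⁻¹ = (b : H) * u * (b : H)⁻¹ := by
              have := congrArg (fun z => z * u) h1
              simpa [mul_assoc] using this
            calc u * ((b : H)⁻¹ * a) = (b : H)⁻¹ * ((b : H) * u * (b : H)⁻¹) * a := by group
              _ = (b : H)⁻¹ * ((a : H) * u * (a : H)⁻¹) * a := by rw [h3]
              _ = ((b : H)⁻¹ * a) * u := by group
          have h4 : (b : H)⁻¹ * a = 1 := by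
            by_contra hne
            exact hfpf' u hu hu1 _ (K.mul_mem (K.inv_mem b.2) a.2) hne h2
          apply Subtype.ext
          have := congrArg (fun z => (b : H) * z) h4
          simpa using this
        have hsurj : Function.Surjective θ := Finite.injective_iff_surjective.mp hinj
        obtain ⟨a, ha⟩ := hsurj ⟨x, hx⟩
        have ha' : (a : H) * (u * (a : H)⁻¹ * u⁻¹) = x := congrArg Subtype.val ha
        apply hall (a : H)
        rw [mem_conj_smul]
        refine ⟨u, hu, ?_⟩
        rw [← ha']; group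

end Cfsg.Agent.Helper19.MaxCent
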