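import Mathlib
import Cfsg.Agent.Lib.Helper19.MaxCentB
import Cfsg.Agent.Lib.Helper19.MaxCentC
import Cfsg.Agent.Lib.Helper19.MaxCentD

/-!
# Maximal centralizers: the centreless structure theorem and passage to `G / Z(N)`
(helper19's shared library)
-/

set_option autoImplicit false

namespace Cfsg.Agent.Helper19.MaxCent

open Cfsg.Agent.Helper19.ClassSize

variable {G : Type*} [Group G]

theorem isCoatom_map_mk {K M : Subgroup G} [K.Normal] (hKM : K ≤ M) (hM : IsCoatom M) :
    IsCoatom (M.map (QuotientGroup.mk' K)) := by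
  have hsurj := QuotientGroup.mk'_surjective K
  have hcm : (M.map (QuotientGroup.mk' K)).comap (QuotientGroup.mk' K) = M := by
    apply Subgroup.comap_map_eq_self
    rw [QuotientGroup.ker_mk']; exact hKM
  constructor
  · intro h
    rw [h, Subgroup.comap_top] at hcm
    exact hM.1 hcm.symm
  · intro B hB
    have h1 : M ≤ B.comap (QuotientGroup.mk' K) := by
      rw [← hcm]; exact Subgroup.comap_mono hB.le
    have h2 : M ≠ B.comap (QuotientGroup.mk' K) := by
      intro h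
      apply hB.ne
      rw [h, Subgroup.map_comap_eq_self_of_surjective hsurj]
    have h3 := hM.2 _ (lt_of_le_of_ne h1 h2)
    have h4 := Subgroup.map_comap_eq_self_of_surjective hsurj B
    rw [h3, Subgroup.map_top_of_surjective _ hsurj] at h4
    exact h4.symm

section Fin

variable [Finite G] {N : Subgroup G} [N.Normal]

/-- the centreless structure theorem -/
theorem centreless_structure (hN : MaxC N) (hZ : ZN N = ⊥) (hN1 : N ≠ ⊥) :
    ∃ X : Subgroup G, X.Normal ∧ X ≤ N ∧ X ≠ ⊥ ∧ (∀ a ∈ X, ∀ b ∈ X, a * b = b * a) ∧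
      ∃ p : ℕ, p.Prime ∧ (∀ x ∈ X, x ^ p = 1) ∧ ∃ y ∈ N, (orderOf y).Prime ∧
      (∀ x ∈ X, x ≠ 1 → y * x ≠ x * y) ∧
      ∀ n ∈ N, ∃ x ∈ X, ∃ u ∈ Subgroup.zpowers y, n = x * u := by
  obtain ⟨X, hX⟩ := exists_minNormalIn N hN1
  have hXab := minNormal_abelian hN hZ hX
  obtain ⟨hXn, hXN, hX1, hmin⟩ := hX
  exact ⟨X, hXn, hXN, hX1, hXab, abelian_case hN hZ hN1 hXn hXN hX1 hmin hXab⟩

omit [Finite G] in
/-- passage to the quotient by the centre of `N` when the second centre equals the centre -/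
theorem quotient_data (hN : MaxC N) (hW : Zover N (ZN N) ≤ ZN N) (hne : ¬ N ≤ ZN N) :
    MaxC (N.map (QuotientGroup.mk' (ZN N))) ∧ ZN (N.map (QuotientGroup.mk' (ZN N))) = ⊥ ∧
      N.map (QuotientGroup.mk' (ZN N)) ≠ ⊥ := by
  have hZb : ZN (N.map (QuotientGroup.mk' (ZN N))) = ⊥ := by
    rw [eq_bot_iff]
    intro u hu
    obtain ⟨huN, hu2⟩ := mem_ZN.mp hu
    obtain ⟨t, ht, rfl⟩ := Subgroup.mem_map.mp huN
    have htW : t ∈ Zover N (ZN N) := by
      rw [mem_Zover]
      exact ⟨ht, fun n hn => hu2 _ (Subgroup.mem_map_of_mem _ hn)⟩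
    rw [Subgroup.mem_bot]
    exact (QuotientGroup.eq_one_iff _).mpr (hW htW)
  refine ⟨?_, hZb, ?_⟩
  · intro u hu huZ
    obtain ⟨x, hx, rfl⟩ := Subgroup.mem_map.mp hu
    have hxZ : x ∉ ZN N := by
      intro h
      apply huZ
      have : QuotientGroup.mk' (ZN N) x = 1 := (QuotientGroup.eq_one_iff _).mpr h
      rw [this]; exact Subgroup.one_mem _
    have hM := hN x hx hxZ
    have hMb := isCoatom_map_mk (ZN_le_Cz hx) hM
    have hle : (Cz x).map (QuotientGroup.mk' (ZN N)) ≤ Cz (QuotientGroup.mk' (ZN N) x) := by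
      intro v hv
      obtain ⟨m, hm, rfl⟩ := Subgroup.mem_map.mp hv
      rw [mem_Cz, ← map_mul, ← map_mul, mem_Cz.mp hm]
    have hnt : Cz (QuotientGroup.mk' (ZN N) x) ≠ ⊤ := by
      intro h
      apply huZ
      rw [mem_ZN]
      refine ⟨hu, fun n' _ => ?_⟩
      have : n' ∈ Cz (QuotientGroup.mk' (ZN N) x) := by rw [h]; exact Subgroup.mem_top _
      exact (mem_Cz.mp this).symm
    by_cases heq : (Cz x).map (QuotientGroup.mk' (ZN N)) = Cz (QuotientGroup.mk' (ZN N) x)
    · rw [← heq]; exact hMb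
    · exact absurd (hMb.2 _ (lt_of_le_of_ne hle heq)) hnt
  · intro h
    apply hne
    intro n hn
    have : QuotientGroup.mk' (ZN N) n ∈ N.map (QuotientGroup.mk' (ZN N)) :=
      Subgroup.mem_map_of_mem _ hn
    rw [h, Subgroup.mem_bot] at this
    exact (QuotientGroup.eq_one_iff _).mp this

end Fin

end Cfsg.Agent.Helper19.MaxCent
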