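import Mathlib
import Cfsg.Agent.Lib.Helper4.McLDefs
import Cfsg.Agent.Lib.Helper27.McLPAIR

set_option autoImplicit false
set_option linter.unusedSectionVars false
set_option linter.unusedVariables false
set_option linter.style.haveILetI false
set_option linter.unusedSimpArgs false

/-!
# S5075 piece CLS: classes of transvections under the relation generated by non-commuting (helper19)
-/

namespace Cfsg.Agent.Helper4.McL

open Module

section CLS
variable {p : ℕ} [Fact p.Prime] {V : Type*} [AddCommGroup V] [Module (ZMod p) V]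

/-- nontrivial transvections of `H` -/
def tvSet (H : Subgroup (V ≃ₗ[ZMod p] V)) : Set (V ≃ₗ[ZMod p] V) := {g | g ∈ H ∧ IsTv g ∧ g ≠ 1}

/-- the equivalence relation generated by non-commuting -/
def Linked (H : Subgroup (V ≃ₗ[ZMod p] V)) (s t : V ≃ₗ[ZMod p] V) : Prop :=
  Relation.EqvGen (fun a b => a ∈ tvSet H ∧ b ∈ tvSet H ∧ a * b ≠ b * a) s t

/-- the class of `t` -/
def cls (H : Subgroup (V ≃ₗ[ZMod p] V)) (t : V ≃ₗ[ZMod p] V) : Set (V ≃ₗ[ZMod p] V) :=
  {s | s ∈ tvSet H ∧ Linked H t s}

theorem Linked.symm' {H : Subgroup (V ≃ₗ[ZMod p] V)} {s t : V ≃ₗ[ZMod p] V} (h : Linked H s t) :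
    Linked H t s := Relation.EqvGen.symm _ _ h

theorem Linked.trans' {H : Subgroup (V ≃ₗ[ZMod p] V)} {s t r : V ≃ₗ[ZMod p] V}
    (h : Linked H s t) (h' : Linked H t r) : Linked H s r := Relation.EqvGen.trans _ _ _ h h'

theorem tvSet_inv {H : Subgroup (V ≃ₗ[ZMod p] V)} {g : V ≃ₗ[ZMod p] V} (hg : g ∈ tvSet H) :
    g⁻¹ ∈ tvSet H :=
  ⟨H.inv_mem hg.1, hg.2.1.inv, fun h => hg.2.2 (inv_eq_one.mp h)⟩

theorem tvSet_conj {H : Subgroup (V ≃ₗ[ZMod p] V)} {g s : V ≃ₗ[ZMod p] V} (hg : g ∈ H)
    (hs : s ∈ tvSet H) : g * s * g⁻¹ ∈ tvSet H := by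
  refine ⟨H.mul_mem (H.mul_mem hg hs.1) (H.inv_mem hg), hs.2.1.conj g, ?_⟩
  intro h
  apply hs.2.2
  have : s = g⁻¹ * (g * s * g⁻¹) * g := by group
  rw [this, h]
  group

/-- induct on EqvGen: along a non-commuting step membership in P cannot change. -/
theorem indec_cls (H : Subgroup (V ≃ₗ[ZMod p] V)) (t : V ≃ₗ[ZMod p] V) : Indec (cls H t) := by
  intro P hP
  have key : ∀ a b : V ≃ₗ[ZMod p] V, Linked H a b →
      ((a ∈ cls H t ∧ a ∈ P) ↔ (b ∈ cls H t ∧ b ∈ P)) := by
    intro a b hab
    induction hab with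
    | rel a b h =>
      obtain ⟨ha, hb, hne⟩ := h
      constructor
      · rintro ⟨hac, haP⟩
        have hbc : b ∈ cls H t := ⟨hb, hac.2.trans' (Relation.EqvGen.rel _ _ ⟨ha, hb, hne⟩)⟩
        refine ⟨hbc, ?_⟩
        by_contra hbP
        exact hne (hP a hac b hbc haP hbP)
      · rintro ⟨hbc, hbP⟩
        have hac : a ∈ cls H t :=
          ⟨ha, hbc.2.trans' (Relation.EqvGen.symm _ _ (Relation.EqvGen.rel _ _ ⟨ha, hb, hne⟩))⟩
        refine ⟨hac, ?_⟩
        by_contra haP
        exact hne (hP b hbc a hac hbP haP).symm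
    | refl a => exact Iff.rfl
    | symm a b _ ih => exact ih.symm
    | trans a b c _ _ ih1 ih2 => exact ih1.trans ih2
  by_cases h : ∃ s ∈ cls H t, s ∈ P
  · left
    obtain ⟨s, hs, hsP⟩ := h
    intro s' hs'
    have hl : Linked H s s' := hs.2.symm'.trans' hs'.2
    exact ((key s s' hl).mp ⟨hs, hsP⟩).2
  · right
    push Not at h
    exact h

theorem commute_of_not_linked {H : Subgroup (V ≃ₗ[ZMod p] V)} {s s' : V ≃ₗ[ZMod p] V}
    (hs : s ∈ tvSet H) (hs' : s' ∈ tvSet H) (h : ¬ Linked H s s') : s * s' = s' * s := by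
  by_contra hne
  exact h (Relation.EqvGen.rel _ _ ⟨hs, hs', hne⟩)

/-- conjugation by a generator keeps the class -/
theorem conj_gen_mem_cls {H : Subgroup (V ≃ₗ[ZMod p] V)} {t s g : V ≃ₗ[ZMod p] V}
    (hg : g ∈ tvSet H) (hs : s ∈ cls H t) : g * s * g⁻¹ ∈ cls H t := by
  by_cases hc : g * s = s * g
  · have : g * s * g⁻¹ = s := by rw [hc]; group
    rw [this]
    exact hs
  · have h1 : g * s * g⁻¹ ∈ tvSet H := tvSet_conj hg.1 hs.1
    refine ⟨h1, ?_⟩
    have hsg : Linked H s g := Relation.EqvGen.rel _ _ ⟨hs.1, hg, fun h => hc h.symm⟩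
    have hgc : Linked H g (g * s * g⁻¹) := by
      apply Relation.EqvGen.rel
      refine ⟨hg, h1, ?_⟩
      intro h
      apply hc
      have h3 : g * s * g⁻¹ = s := by
        calc g * s * g⁻¹ = g⁻¹ * (g * (g * s * g⁻¹)) := by group
          _ = g⁻¹ * (g * s * g⁻¹ * g) := by rw [h]
          _ = s := by group
      calc g * s = g * s * g⁻¹ * g := by group
        _ = s * g := by rw [h3]
    exact (hs.2.trans' hsg).trans' hgc

/-- closure induction on h; for a generator g ∈ tvSet H: if g commutes with s then g s g⁻¹ = s; otherwise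
g s g⁻¹ ∈ tvSet H does not commute with g, so s ~ g ~ g s g⁻¹. -/
theorem conj_mem_cls {H : Subgroup (V ≃ₗ[ZMod p] V)} (hH : H = Subgroup.closure (tvSet H))
    {t s h : V ≃ₗ[ZMod p] V} (hh : h ∈ H) (hs : s ∈ cls H t) : h * s * h⁻¹ ∈ cls H t := by
  rw [hH] at hh
  revert s
  induction hh using Subgroup.closure_induction'' with
  | mem g hg =>
    intro s hs
    exact conj_gen_mem_cls hg hs
  | inv_mem g hg =>
    intro s hs
    exact conj_gen_mem_cls (tvSet_inv hg) hs
  | one =>
    intro s hs
    simpa using hs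
  | mul a b _ _ iha ihb =>
    intro s hs
    have : a * b * s * (a * b)⁻¹ = a * (b * s * b⁻¹) * a⁻¹ := by group
    rw [this]
    exact iha (ihb hs)

/-- N ≤ closure (cls H t) normalised by it and a p-group: elements of N commute with the other classes
(commute_of_not_linked), so N is normalised by H = closure (tvSet H); hence N.subgroupOf H ≤ pCore = ⊥. -/
theorem noNormalP_cls {H : Subgroup (V ≃ₗ[ZMod p] V)} (hH : H = Subgroup.closure (tvSet H))
    (hO : ∀ N : Subgroup (V ≃ₗ[ZMod p] V), N ≤ H → (∀ g ∈ H, ∀ n ∈ N, g * n * g⁻¹ ∈ N) →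
      IsPGroup p N → N = ⊥)
    (t : V ≃ₗ[ZMod p] V) : NoNormalP (Subgroup.closure (cls H t)) := by
  intro N hNC hnorm hpN
  have hCH : Subgroup.closure (cls H t) ≤ H := by
    rw [Subgroup.closure_le]
    intro s hs
    exact hs.1.1
  -- a generator normalizes `N`
  have hgen : ∀ g ∈ tvSet H, ∀ n ∈ N, g * n * g⁻¹ ∈ N := by
    intro g hg n hn
    by_cases hgc : g ∈ cls H t
    · exact hnorm g (Subgroup.subset_closure hgc) n hn
    · -- g commutes with every element of the class
      have hcomm : ∀ s ∈ cls H t, g * s = s * g := by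
        intro s hs
        apply commute_of_not_linked hg hs.1
        intro hl
        exact hgc ⟨hg, hs.2.trans' hl.symm'⟩
      have hcent : Subgroup.closure (cls H t) ≤ Subgroup.centralizer {g} := by
        rw [Subgroup.closure_le]
        intro s hs
        rw [SetLike.mem_coe, Subgroup.mem_centralizer_iff]
        intro x hx
        rw [Set.mem_singleton_iff] at hx
        rw [hx]
        exact hcomm s hs
      have h1 := hcent (hNC hn)
      rw [Subgroup.mem_centralizer_iff] at h1
      have h2 : g * n = n * g := h1 g rfl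
      have : g * n * g⁻¹ = n := by rw [h2]; group
      rw [this]
      exact hn
  apply hO N (hNC.trans hCH) ?_ hpN
  intro g hg
  rw [hH] at hg
  induction hg using Subgroup.closure_induction'' with
  | mem g hg => exact hgen g hg
  | inv_mem g hg => exact hgen g⁻¹ (tvSet_inv hg)
  | one =>
    intro n hn
    simpa using hn
  | mul a b _ _ iha ihb =>
    intro n hn
    have : a * b * n * (a * b)⁻¹ = a * (b * n * b⁻¹) * a⁻¹ := by group
    rw [this]
    exact iha _ (ihb n hn)

/-- generators: s = tv φ u ∈ Y, t = tv ψ w ∈ Y' nontrivial and commuting give ψ u = 0 (tv_mul_comm_iff), so t u = u;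
comm (closure Y) is spanned by the centres of the elements of Y. -/
theorem comm_le_fix_of_commute {Y Y' : Set (V ≃ₗ[ZMod p] V)} (hY : ∀ t ∈ Y, IsTv t)
    (hY' : ∀ t ∈ Y', IsTv t) (hc : ∀ s ∈ Y, ∀ t ∈ Y', s * t = t * s) :
    comm (Subgroup.closure Y) ≤ fix (Subgroup.closure Y') := by
  -- generators of `Y` move every vector inside the fixed space
  have hgenY : ∀ s ∈ Y, ∀ x : V, s x - x ∈ fix (Subgroup.closure Y') := by
    intro s hs x
    obtain ⟨φ, u, hφu, rfl⟩ := hY s hs
    rw [tv_apply hφu]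
    have : x + φ x • u - x = φ x • u := by abel
    rw [this]
    by_cases hφ : φ = 0
    · rw [hφ]; simp
    by_cases hu : u = 0
    · rw [hu]; simp
    apply Submodule.smul_mem
    -- `u` is fixed by `closure Y'`
    intro t ht
    induction ht using Subgroup.closure_induction'' with
    | mem t ht =>
      obtain ⟨ψ, w, hψw, rfl⟩ := hY' t ht
      by_cases hψ : ψ = 0
      · rw [hψ]; simp
      by_cases hw : w = 0
      · rw [hw]; simp
      have h1 := (tv_mul_comm_iff hφu hψw hφ hψ hu hw).mp (hc _ hs _ ht)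
      rw [tv_apply hψw, h1.2, zero_smul, add_zero]
    | inv_mem t ht =>
      obtain ⟨ψ, w, hψw, rfl⟩ := hY' t ht
      by_cases hψ : ψ = 0
      · rw [hψ]; simp
      by_cases hw : w = 0
      · rw [hw]; simp
      have h1 := (tv_mul_comm_iff hφu hψw hφ hψ hu hw).mp (hc _ hs _ ht)
      rw [tv_inv]
      have h2 : (-ψ) w = 0 := by simp [hψw]
      rw [tv_apply h2]
      simp [h1.2]
    | one => simp
    | mul a b _ _ iha ihb =>
      rw [LinearEquiv.mul_apply, ihb, iha]
  -- hence so does every element of `closure Y`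
  have hall : ∀ g ∈ Subgroup.closure Y, ∀ x : V, g x - x ∈ fix (Subgroup.closure Y') := by
    intro g hg
    induction hg using Subgroup.closure_induction with
    | mem s hs => exact hgenY s hs
    | one =>
      intro x
      simp
    | mul a b _ _ iha ihb =>
      intro x
      have : (a * b) x - x = (a (b x) - b x) + (b x - x) := by
        rw [LinearEquiv.mul_apply]; abel
      rw [this]
      exact Submodule.add_mem _ (iha (b x)) (ihb x)
    | inv a _ iha =>
      intro x
      have h1 := iha (a⁻¹ x)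
      have h2 : a (a⁻¹ x) = x := by
        rw [← LinearEquiv.mul_apply, mul_inv_cancel]; rfl
      rw [h2] at h1
      have : a⁻¹ x - x = -(x - a⁻¹ x) := by abel
      rw [this]
      exact Submodule.neg_mem _ h1
  unfold comm
  rw [Submodule.span_le]
  rintro y ⟨g, hg, x, rfl⟩
  exact hall g hg x

end CLS

end Cfsg.Agent.Helper4.McL
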