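import Mathlib
import Cfsg.Agent.Lib.Helper4.McLDefs
import Cfsg.Agent.Lib.Helper27.McLPAIR

set_option autoImplicit false
set_option linter.unusedSectionVars false
set_option linter.unusedVariables false
set_option linter.style.haveILetI false
set_option linter.unusedSimpArgs false

/-!
# S5075 piece QI: `QHyp` from the hypotheses of the reduction (helper19)
-/

namespace Cfsg.Agent.Helper4.McL

open Module

section QI
variable {p : ℕ} [Fact p.Prime] {V : Type*} [AddCommGroup V] [Module (ZMod p) V]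

theorem qi_nsmul_eq_zero {n : ℕ} (h : p ∣ n) (v : V) : n • v = 0 := by
  rw [← Nat.cast_smul_eq_nsmul (ZMod p) n v, (ZMod.natCast_eq_zero_iff n p).mpr h, zero_smul]

/-- the powers of a unipotent element of class 3 -/
theorem qi_pow_apply (g : V ≃ₗ[ZMod p] V)
    (h3 : ∀ x : V, g (g (g x - x) - (g x - x)) = g (g x - x) - (g x - x)) (k : ℕ) (x : V) :
    (g ^ k) x = x + k • (g x - x) + (k.choose 2) • (g (g x - x) - (g x - x)) := by
  induction k with
  | zero => simp
  | succ k ih =>
    rw [pow_succ', LinearEquiv.mul_apply, ih, map_add, map_add, map_nsmul, map_nsmul, h3]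
    have e1 : g x = x + (g x - x) := by abel
    have e2 : g (g x - x) = (g x - x) + (g (g x - x) - (g x - x)) := by abel
    have e3 : (k + 1).choose 2 = k + k.choose 2 := by
      rw [Nat.choose_succ_succ' k 1, Nat.choose_one_right]
    rw [e3]
    generalize hA : g x - x = A at *
    generalize hB : g A - A = B at *
    rw [e1, e2, smul_add, add_smul, add_smul, one_smul]
    abel

/-- (g-1)³ = 0 and p ≥ 3 give (g-1)^p = 0, and (g-1)^p = g^p - 1 in characteristic p
(sub_pow_char_of_commute in Module.End (ZMod p) V, or expand). -/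
theorem isPGroup_of_flag (hp : p ≠ 2) (N : Subgroup (V ≃ₗ[ZMod p] V)) (X1 X2 : Submodule (ZMod p) V)
    (h : ∀ g ∈ N, (∀ x, g x - x ∈ X2) ∧ (∀ x ∈ X2, g x - x ∈ X1) ∧ (∀ x ∈ X1, g x = x)) :
    IsPGroup p N := by
  have hpp : p.Prime := Fact.out
  have hp3 : 2 < p := lt_of_le_of_ne hpp.two_le (Ne.symm hp)
  intro g
  refine ⟨1, ?_⟩
  rw [pow_one]
  obtain ⟨g, hg⟩ := g
  obtain ⟨ha, hb, hc⟩ := h g hg
  apply Subtype.ext
  rw [Subgroup.coe_pow, Subgroup.coe_one]
  show g ^ p = 1
  apply LinearEquiv.ext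
  intro x
  have h3 : ∀ x : V, g (g (g x - x) - (g x - x)) = g (g x - x) - (g x - x) := by
    intro x
    exact hc _ (hb _ (ha x))
  rw [qi_pow_apply g h3 p x, qi_nsmul_eq_zero (dvd_refl p),
    qi_nsmul_eq_zero (hpp.dvd_choose_self (by norm_num) hp3)]
  simp

/-- a normal `p`-subgroup given by a flag is trivial -/
theorem qi_flag_trivial (hp : p ≠ 2) {K : Subgroup (V ≃ₗ[ZMod p] V)} (hNP : NoNormalP K)
    (X1 X2 : Submodule (ZMod p) V) (h1 : Inv K X1) (h2 : Inv K X2) {g : V ≃ₗ[ZMod p] V}
    (hgK : g ∈ K) (ha : ∀ x, g x - x ∈ X2) (hb : ∀ x ∈ X2, g x - x ∈ X1)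
    (hc : ∀ x ∈ X1, g x = x) : g = 1 := by
  -- the subgroup of all such elements
  let N : Subgroup (V ≃ₗ[ZMod p] V) :=
    { carrier := {g | g ∈ K ∧ (∀ x, g x - x ∈ X2) ∧ (∀ x ∈ X2, g x - x ∈ X1) ∧
        (∀ x ∈ X1, g x = x)}
      mul_mem' := by
        rintro a b ⟨haK, ha1, ha2, ha3⟩ ⟨hbK, hb1, hb2, hb3⟩
        refine ⟨K.mul_mem haK hbK, ?_, ?_, ?_⟩
        · intro x
          have : (a * b) x - x = (a (b x) - b x) + (b x - x) := by
            rw [LinearEquiv.mul_apply]; abel
          rw [this]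
          exact Submodule.add_mem _ (ha1 _) (hb1 _)
        · intro x hx
          have : (a * b) x - x = (a (b x) - b x) + (b x - x) := by
            rw [LinearEquiv.mul_apply]; abel
          rw [this]
          exact Submodule.add_mem _ (ha2 _ (h2 b hbK x hx)) (hb2 _ hx)
        · intro x hx
          rw [LinearEquiv.mul_apply, hb3 x hx, ha3 x hx]
      one_mem' := by
        refine ⟨K.one_mem, ?_, ?_, ?_⟩
        · intro x; simp
        · intro x _; simp
        · intro x _; rfl
      inv_mem' := by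
        rintro a ⟨haK, ha1, ha2, ha3⟩
        have hinv : ∀ x, a (a⁻¹ x) = x := by
          intro x
          rw [← LinearEquiv.mul_apply, mul_inv_cancel]; rfl
        refine ⟨K.inv_mem haK, ?_, ?_, ?_⟩
        · intro x
          have h := ha1 (a⁻¹ x)
          rw [hinv] at h
          have : a⁻¹ x - x = -(x - a⁻¹ x) := by abel
          rw [this]
          exact Submodule.neg_mem _ h
        · intro x hx
          have h := ha2 (a⁻¹ x) (h2 _ (K.inv_mem haK) x hx)
          rw [hinv] at h
          have : a⁻¹ x - x = -(x - a⁻¹ x) := by abel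
          rw [this]
          exact Submodule.neg_mem _ h
        · intro x hx
          have h := ha3 x hx
          calc a⁻¹ x = a⁻¹ (a x) := by rw [h]
            _ = x := by rw [← LinearEquiv.mul_apply, inv_mul_cancel]; rfl }
  have hNK : N ≤ K := fun g hg => hg.1
  have hnorm : ∀ k ∈ K, ∀ n ∈ N, k * n * k⁻¹ ∈ N := by
    rintro k hk n ⟨hnK, hn1, hn2, hn3⟩
    have hkinv : ∀ x, k (k⁻¹ x) = x := by
      intro x
      rw [← LinearEquiv.mul_apply, mul_inv_cancel]; rfl
    have hform : ∀ x, (k * n * k⁻¹) x - x = k (n (k⁻¹ x) - k⁻¹ x) := by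
      intro x
      rw [LinearEquiv.mul_apply, LinearEquiv.mul_apply, map_sub, hkinv]
    refine ⟨K.mul_mem (K.mul_mem hk hnK) (K.inv_mem hk), ?_, ?_, ?_⟩
    · intro x
      rw [hform]
      exact h2 k hk _ (hn1 _)
    · intro x hx
      rw [hform]
      exact h1 k hk _ (hn2 _ (h2 _ (K.inv_mem hk) x hx))
    · intro x hx
      rw [LinearEquiv.mul_apply, LinearEquiv.mul_apply, hn3 _ (h1 _ (K.inv_mem hk) x hx), hkinv]
  have hpN : IsPGroup p N := by
    apply isPGroup_of_flag hp N X1 X2
    rintro g ⟨_, hg1, hg2, hg3⟩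
    exact ⟨hg1, hg2, hg3⟩
  have hbot := hNP N hNK hnorm hpN
  have hgN : g ∈ N := ⟨hgK, ha, hb, hc⟩
  rw [hbot, Subgroup.mem_bot] at hgN
  exact hgN

theorem qi_inv_bot (K : Subgroup (V ≃ₗ[ZMod p] V)) : Inv K (⊥ : Submodule (ZMod p) V) := by
  intro g _ x hx
  rw [Submodule.mem_bot] at hx ⊢
  rw [hx, map_zero]

/-- all elements of the closure move vectors inside `X` if the generators do -/
theorem qi_closure_sub_mem {Y : Set (V ≃ₗ[ZMod p] V)} (X : Submodule (ZMod p) V)
    (hgen : ∀ s ∈ Y, ∀ x : V, s x - x ∈ X) :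
    ∀ g ∈ Subgroup.closure Y, ∀ x : V, g x - x ∈ X := by
  intro g hg
  induction hg using Subgroup.closure_induction with
  | mem s hs => exact hgen s hs
  | one =>
    intro x
    simp
  | mul a b _ _ iha ihb =>
    intro x
    have : (a * b) x - x = (a (b x) - b x) + (b x - x) := by
      rw [LinearEquiv.mul_apply]; abel
    rw [this]
    exact Submodule.add_mem _ (iha (b x)) (ihb x)
  | inv a _ iha =>
    intro x
    have h1 := iha (a⁻¹ x)
    have h2 : a (a⁻¹ x) = x := by
      rw [← LinearEquiv.mul_apply, mul_inv_cancel]; rfl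
    rw [h2] at h1
    have : a⁻¹ x - x = -(x - a⁻¹ x) := by abel
    rw [this]
    exact Submodule.neg_mem _ h1

/-- all elements of the closure fix `x` if the generators do -/
theorem qi_closure_fix {Y : Set (V ≃ₗ[ZMod p] V)} (x : V) (hgen : ∀ s ∈ Y, s x = x) :
    ∀ g ∈ Subgroup.closure Y, g x = x := by
  intro g hg
  induction hg using Subgroup.closure_induction with
  | mem s hs => exact hgen s hs
  | one => rfl
  | mul a b _ _ iha ihb => rw [LinearEquiv.mul_apply, ihb, iha]
  | inv a _ iha =>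
    calc a⁻¹ x = a⁻¹ (a x) := by rw [iha]
      _ = x := by rw [← LinearEquiv.mul_apply, inv_mul_cancel]; rfl

/-- a transvection of `K` not moving everything into the invariant subspace `X` kills `X` -/
theorem qi_tv_dichotomy {X : Submodule (ZMod p) V} {ψ : Dual (ZMod p) V} {w : V} (hψw : ψ w = 0)
    (hinv : ∀ x ∈ X, tv ψ w x ∈ X) (hnot : ¬ ∀ x, tv ψ w x - x ∈ X) : ∀ x ∈ X, ψ x = 0 := by
  intro x hx
  by_contra hne
  apply hnot
  have h1 : tv ψ w x - x ∈ X := Submodule.sub_mem _ (hinv x hx) hx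
  rw [tv_apply hψw] at h1
  have h2 : ψ x • w ∈ X := by
    have : x + ψ x • w - x = ψ x • w := by abel
    rwa [this] at h1
  have hw : w ∈ X := by
    have := X.smul_mem (ψ x)⁻¹ h2
    rwa [smul_smul, inv_mul_cancel₀ hne, one_smul] at this
  intro y
  rw [tv_apply hψw]
  have : y + ψ y • w - y = ψ y • w := by abel
  rw [this]
  exact X.smul_mem _ hw

theorem qHyp_of_indec (hp : p ≠ 2) {K : Subgroup (V ≃ₗ[ZMod p] V)} {Y : Set (V ≃ₗ[ZMod p] V)}
    (hY : ∀ t ∈ Y, IsTv t) (hgen : K = Subgroup.closure Y) (hind : Indec Y) (hNP : NoNormalP K) :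
    QHyp K := by
  have hYK : ∀ t ∈ Y, t ∈ K := by
    intro t ht
    rw [hgen]
    exact Subgroup.subset_closure ht
  refine ⟨?_, ?_, ?_⟩
  · -- gen
    apply le_antisymm
    · rw [Subgroup.closure_le]
      intro g hg
      exact hg.1
    · conv_lhs => rw [hgen]
      apply Subgroup.closure_mono
      intro t ht
      exact ⟨hYK t ht, hY t ht⟩
  · -- q1
    intro X hX
    have hcond : ∀ s ∈ Y, ∀ t ∈ Y, s ∈ {t : V ≃ₗ[ZMod p] V | ∀ x, t x - x ∈ X} →
        t ∉ {t : V ≃ₗ[ZMod p] V | ∀ x, t x - x ∈ X} → s * t = t * s := by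
      intro s hs t ht hsP htP
      rw [Set.mem_ofPred_eq] at hsP htP
      obtain ⟨φ, u, hφu, rfl⟩ := hY s hs
      obtain ⟨ψ, w, hψw, rfl⟩ := hY t ht
      by_cases hφ : φ = 0
      · rw [hφ]; simp
      by_cases hu : u = 0
      · rw [hu]; simp
      by_cases hψ : ψ = 0
      · rw [hψ]; simp
      by_cases hw : w = 0
      · rw [hw]; simp
      -- `u ∈ X`
      obtain ⟨x0, hx0⟩ := pair_exists_ne hφ
      have huX : u ∈ X := by
        have h1 := hsP x0
        rw [tv_apply hφu] at h1
        have : x0 + φ x0 • u - x0 = φ x0 • u := by abel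
        rw [this] at h1
        have := X.smul_mem (φ x0)⁻¹ h1
        rwa [smul_smul, inv_mul_cancel₀ hx0, one_smul] at this
      -- `ψ` kills `X`
      have hψX : ∀ x ∈ X, ψ x = 0 :=
        qi_tv_dichotomy hψw (fun x hx => hX _ (hYK _ ht) x hx) htP
      have hψu : ψ u = 0 := hψX u huX
      rw [tv_mul_comm_iff hφu hψw hφ hψ hu hw]
      refine ⟨?_, hψu⟩
      by_contra hφw
      -- the commutator
      have htu : tv ψ w u = u := by rw [tv_apply hψw, hψu, zero_smul, add_zero]
      have hcomp : φ ∘ₗ ((tv ψ w).symm : V →ₗ[ZMod p] V) = φ + (-(φ w)) • ψ := by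
        ext x
        have h1 : (tv ψ w).symm x = (tv ψ w)⁻¹ x := rfl
        have h2 : (-ψ) w = 0 := by simp [hψw]
        rw [LinearMap.comp_apply, LinearEquiv.coe_coe, h1, tv_inv, tv_apply h2]
        simp only [LinearMap.neg_apply, map_add, map_smul, smul_eq_mul, LinearMap.add_apply,
          LinearMap.smul_apply]
        ring
      have hψ'u : ((-(φ w)) • ψ) u = 0 := by simp [hψu]
      have hconj : tv ψ w * tv φ u * (tv ψ w)⁻¹ = tv φ u * tv ((-(φ w)) • ψ) u := by
        rw [conj_tv, htu, hcomp, tv_add_left hφu hψ'u]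
      have hcK : tv ((-(φ w)) • ψ) u ∈ K := by
        have h1 : tv ((-(φ w)) • ψ) u = (tv φ u)⁻¹ * (tv ψ w * tv φ u * (tv ψ w)⁻¹) := by
          rw [hconj]; group
        rw [h1]
        exact K.mul_mem (K.inv_mem (hYK _ hs))
          (K.mul_mem (K.mul_mem (hYK _ ht) (hYK _ hs)) (K.inv_mem (hYK _ ht)))
      have hc1 : tv ((-(φ w)) • ψ) u = 1 := by
        apply qi_flag_trivial hp hNP ⊥ X (qi_inv_bot K) hX hcK
        · intro x
          rw [tv_apply hψ'u]
          have : x + ((-(φ w)) • ψ) x • u - x = ((-(φ w)) • ψ) x • u := by abel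
          rw [this]
          exact X.smul_mem _ huX
        · intro x hx
          rw [tv_apply hψ'u, Submodule.mem_bot]
          simp [hψX x hx]
        · intro x hx
          rw [Submodule.mem_bot] at hx
          rw [hx, map_zero]
      rcases (tv_eq_one_iff hψ'u).mp hc1 with h | h
      · rcases smul_eq_zero.mp h with h' | h'
        · exact hφw (neg_eq_zero.mp h')
        · exact hψ h'
      · exact hu h
    rcases hind _ hcond with hall | hnone
    · left
      unfold comm
      rw [Submodule.span_le]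
      rintro y ⟨g, hg, x, rfl⟩
      rw [hgen] at hg
      exact qi_closure_sub_mem X hall g hg x
    · right
      intro x hx
      rw [mem_fix]
      intro g hg
      rw [hgen] at hg
      apply qi_closure_fix x ?_ g hg
      intro t ht
      obtain ⟨ψ, w, hψw, rfl⟩ := hY t ht
      have hψX := qi_tv_dichotomy hψw (fun x hx => hX _ (hYK _ ht) x hx) (hnone _ ht)
      rw [tv_apply hψw, hψX x hx, zero_smul, add_zero]
  · -- q3
    intro g hg hgc
    exact qi_flag_trivial hp hNP (fix K) (comm K) (inv_fix K) (inv_comm K) hg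
      (fun x => sub_mem_comm hg x) hgc (fun x hx => hx g hg)

/-- K ≠ ⊥ irreducible: comm K ≠ ⊥ is invariant so = ⊤; fix K ≠ ⊤ so = ⊥; q1, q3 are then trivial. -/
theorem mHyp_of_irred {K : Subgroup (V ≃ₗ[ZMod p] V)}
    (hgen : Subgroup.closure {g | g ∈ K ∧ IsTv g} = K)
    (hirr : ∀ X : Submodule (ZMod p) V, Inv K X → X = ⊥ ∨ X = ⊤) (hne : K ≠ ⊥) : MHyp K := by
  have hcomm : comm K = ⊤ := by
    rcases hirr _ (inv_comm K) with h | h
    · exfalso
      apply hne
      rw [Subgroup.eq_bot_iff_forall]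
      intro g hg
      apply LinearEquiv.ext
      intro x
      have h1 := sub_mem_comm hg x
      rw [h, Submodule.mem_bot, sub_eq_zero] at h1
      exact h1
    · exact h
  have hfix : fix K = ⊥ := by
    rcases hirr _ (inv_fix K) with h | h
    · exact h
    · exfalso
      apply hne
      rw [Subgroup.eq_bot_iff_forall]
      intro g hg
      apply LinearEquiv.ext
      intro x
      have h1 : x ∈ fix K := by rw [h]; exact Submodule.mem_top
      exact h1 g hg
  refine ⟨⟨hgen, ?_, ?_⟩, hcomm⟩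
  · intro X hX
    rcases hirr X hX with h | h
    · right
      rw [h]
      exact bot_le
    · left
      rw [h]
      exact le_top
  · intro g hg h
    apply LinearEquiv.ext
    intro x
    have h1 := h x (by rw [hcomm]; exact Submodule.mem_top)
    rw [hfix, Submodule.mem_bot, sub_eq_zero] at h1
    exact h1

end QI

end Cfsg.Agent.Helper4.McL
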