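import Mathlib
import Cfsg.Agent.Lib.Helper4.McLDefs
import Cfsg.Agent.Lib.Helper19.McLQI

set_option autoImplicit false
set_option linter.unusedSectionVars false
set_option linter.unusedVariables false
set_option linter.style.haveILetI false
set_option linter.unusedSimpArgs false

/-!
# S5075 piece DU (core): the dual module, `[V,K] + C_V(K) = V` (helper19)

The core takes the statement of `QHyp.comm_inf_fix` (piece Q4) for the dual module as a hypothesis.
-/

namespace Cfsg.Agent.Helper4.McL

open Module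

section DU
variable {p : ℕ} [Fact p.Prime] {V : Type*} [AddCommGroup V] [Module (ZMod p) V]

/-- the contragredient action on the dual space -/
noncomputable def dualHom : (V ≃ₗ[ZMod p] V) →* (Dual (ZMod p) V ≃ₗ[ZMod p] Dual (ZMod p) V) where
  toFun g := g.symm.dualMap
  map_one' := by
    apply LinearEquiv.ext
    intro l
    apply LinearMap.ext
    intro x
    rfl
  map_mul' := by
    intro g h
    apply LinearEquiv.ext
    intro l
    apply LinearMap.ext
    intro x
    rfl

theorem dualHom_apply (g : V ≃ₗ[ZMod p] V) (l : Dual (ZMod p) V) (x : V) :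
    (dualHom g l) x = l (g⁻¹ x) := rfl

theorem dualHom_injective :
    Function.Injective (dualHom : (V ≃ₗ[ZMod p] V) →* (Dual (ZMod p) V ≃ₗ[ZMod p] Dual (ZMod p) V)) := by
  intro g h hgh
  have h1 : ∀ x : V, g⁻¹ x = h⁻¹ x := by
    intro x
    rw [← sub_eq_zero, ← Module.forall_dual_apply_eq_zero_iff (ZMod p)]
    intro l
    have := congrArg (fun e : Dual (ZMod p) V ≃ₗ[ZMod p] Dual (ZMod p) V => e l x) hgh
    simp only [dualHom_apply] at this
    rw [map_sub, this, sub_self]
  have h2 : g⁻¹ = h⁻¹ := LinearEquiv.ext h1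
  exact inv_injective h2

theorem dualHom_tv {φ : Dual (ZMod p) V} {u : V} (h : φ u = 0) :
    dualHom (tv φ u) = tv (-(Dual.eval (ZMod p) V u)) φ := by
  have h' : (-(Dual.eval (ZMod p) V u)) φ = 0 := by
    simp [h]
  have h2 : (-φ) u = 0 := by simp [h]
  apply LinearEquiv.ext
  intro l
  apply LinearMap.ext
  intro x
  rw [dualHom_apply, tv_inv, tv_apply h2, tv_apply h']
  simp only [LinearMap.neg_apply, map_add, map_smul, smul_eq_mul, Dual.eval_apply,
    LinearMap.add_apply, LinearMap.smul_apply, neg_smul, map_neg]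
  ring

theorem dualHom_isTv {g : V ≃ₗ[ZMod p] V} (hg : IsTv g) : IsTv (dualHom g) := by
  obtain ⟨φ, u, h, rfl⟩ := hg
  rw [dualHom_tv h]
  exact isTv_tv _ _

variable [Module.Finite (ZMod p) V]

theorem comm_sup_fix_core (hp : p ≠ 2)
    (hQ4 : ∀ K' : Subgroup (Dual (ZMod p) V ≃ₗ[ZMod p] Dual (ZMod p) V), QHyp K' →
      comm K' ⊓ fix K' = ⊥)
    {K : Subgroup (V ≃ₗ[ZMod p] V)} {Y : Set (V ≃ₗ[ZMod p] V)}
    (hY : ∀ t ∈ Y, IsTv t) (hgen : K = Subgroup.closure Y) (hind : Indec Y) (hNP : NoNormalP K) :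
    comm K ⊔ fix K = ⊤ := by
  -- the dual configuration
  have hY' : ∀ t ∈ dualHom '' Y, IsTv t := by
    rintro t ⟨s, hs, rfl⟩
    exact dualHom_isTv (hY s hs)
  have hgen' : K.map dualHom = Subgroup.closure (dualHom '' Y) := by
    rw [hgen, MonoidHom.map_closure]
  have hind' : Indec (dualHom '' Y) := by
    intro P' hP'
    have hcond : ∀ s ∈ Y, ∀ t ∈ Y, s ∈ dualHom ⁻¹' P' → t ∉ dualHom ⁻¹' P' → s * t = t * s := by
      intro s hs t ht hsP htP
      apply dualHom_injective
      rw [map_mul, map_mul]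
      exact hP' _ ⟨s, hs, rfl⟩ _ ⟨t, ht, rfl⟩ hsP htP
    rcases hind _ hcond with h | h
    · left
      rintro t ⟨s, hs, rfl⟩
      exact h s hs
    · right
      rintro t ⟨s, hs, rfl⟩
      exact h s hs
  have hNP' : NoNormalP (K.map dualHom) := by
    intro N' hN'K hnorm hpN'
    have hcomapK : N'.comap dualHom ≤ K := by
      intro n hn
      obtain ⟨k, hk, hkn⟩ := hN'K (Subgroup.mem_comap.mp hn)
      rw [← dualHom_injective hkn]
      exact hk
    have hnormK : ∀ g ∈ K, ∀ n ∈ N'.comap dualHom, g * n * g⁻¹ ∈ N'.comap dualHom := by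
      intro g hg n hn
      rw [Subgroup.mem_comap, map_mul, map_mul, map_inv]
      exact hnorm _ (Subgroup.mem_map_of_mem _ hg) _ (Subgroup.mem_comap.mp hn)
    have hbot := hNP _ hcomapK hnormK (hpN'.comap_of_injective dualHom dualHom_injective)
    rw [Subgroup.eq_bot_iff_forall]
    intro n' hn'
    obtain ⟨k, hk, rfl⟩ := hN'K hn'
    have hk1 : k ∈ N'.comap dualHom := Subgroup.mem_comap.mpr hn'
    rw [hbot, Subgroup.mem_bot] at hk1
    rw [hk1, map_one]
  have hQ' : QHyp (K.map dualHom) := qHyp_of_indec hp hY' hgen' hind' hNP'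
  have hcap := hQ4 _ hQ'
  -- `fix K' ⊇ (comm K)^⊥`
  have hfix : (comm K).dualAnnihilator ≤ fix (K.map dualHom) := by
    intro l hl
    rw [mem_fix]
    rintro g' ⟨g, hg, rfl⟩
    apply LinearMap.ext
    intro x
    rw [dualHom_apply]
    have h1 : l (g⁻¹ x - x) = 0 :=
      (Submodule.mem_dualAnnihilator l).mp hl _ (sub_mem_comm (K.inv_mem hg) x)
    rw [map_sub, sub_eq_zero] at h1
    exact h1
  -- `comm K' ⊇ (fix K)^⊥`
  have hco : (comm (K.map dualHom)).dualCoannihilator ≤ fix K := by
    intro x hx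
    rw [Submodule.mem_dualCoannihilator] at hx
    rw [mem_fix]
    intro g hg
    rw [← sub_eq_zero, ← Module.forall_dual_apply_eq_zero_iff (ZMod p)]
    intro l
    have h1 : dualHom g⁻¹ l - l ∈ comm (K.map dualHom) :=
      sub_mem_comm (Subgroup.mem_map_of_mem _ (K.inv_mem hg)) l
    have h2 := hx _ h1
    rw [LinearMap.sub_apply, dualHom_apply, inv_inv] at h2
    rw [map_sub]
    exact h2
  have hcomm : (fix K).dualAnnihilator ≤ comm (K.map dualHom) := by
    have h1 := Submodule.dualAnnihilator_anti hco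
    rwa [Subspace.dualCoannihilator_dualAnnihilator_eq] at h1
  -- conclusion
  have hann : (comm K ⊔ fix K).dualAnnihilator = ⊥ := by
    rw [Submodule.dualAnnihilator_sup_eq, eq_bot_iff, ← hcap]
    exact le_inf (inf_le_right.trans hcomm) (inf_le_left.trans hfix)
  rw [← Submodule.dualAnnihilator_top] at hann
  exact Subspace.dualAnnihilator_inj.mp hann

end DU

end Cfsg.Agent.Helper4.McL
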