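import Mathlib
import Cfsg.Agent.Lib.Helper4.McLDefs
import Cfsg.Agent.S0765
import Cfsg.Agent.Lib.Helper28.SympIso
import Cfsg.Agent.Lib.Helper11.AltForm

set_option autoImplicit false
set_option linter.unusedSectionVars false
set_option linter.unusedVariables false
set_option linter.style.haveILetI false
set_option linter.unusedSimpArgs false

/-!
# S5075 piece GSP: `Sp(V,B)` is generated by its transvections, for an abstract space (helper19)
-/

namespace Cfsg.Agent.Helper4.McL

open Module Matrix Cfsg.Agent.Helper28.SympIso Cfsg.Agent.Helper28.IsoGrp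

section GSP
variable {F : Type*} [Field F] {V : Type*} [AddCommGroup V] [Module F V] [FiniteDimensional F V]

/-- symplectic transvections are isometries -/
theorem gsp_tv_mem (B : LinearMap.BilinForm F V) (hA : B.IsAlt) (a : F) (u : V) :
    ∀ x y, B (tv (a • B u) u x) (tv (a • B u) u y) = B x y := by
  intro x y
  have h0 : (a • B u) u = 0 := by
    rw [LinearMap.smul_apply, hA u, smul_zero]
  rw [tv_apply h0, tv_apply h0]
  simp only [LinearMap.smul_apply, smul_eq_mul, map_add, map_smul, LinearMap.add_apply, hA u,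
    mul_zero, add_zero]
  have h1 : B x u = -B u x := (hA.neg_eq u x).symm
  rw [h1]
  ring

/-- the action of a symplectic transvection matrix -/
theorem gsp_sympTransvection_mulVec (k : ℕ) (w : Fin k ⊕ Fin k → F) (c : F)
    (x : Fin k ⊕ Fin k → F) :
    Cfsg.sympTransvection k w c *ᵥ x = x + (c * Cfsg.sympForm k F x w) • w := by
  unfold Cfsg.sympTransvection Cfsg.sympForm
  rw [Matrix.add_mulVec, Matrix.one_mulVec, Matrix.smul_mulVec, Matrix.vecMulVec_mulVec,
    op_smul_eq_smul, dotProduct_comm, smul_smul]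

theorem closure_symp_tv (B : LinearMap.BilinForm F V) (hA : B.IsAlt) (hB : B.Nondegenerate) :
    (Subgroup.closure {g : V ≃ₗ[F] V | ∃ (a : F) (u : V), g = tv (a • B u) u} : Set (V ≃ₗ[F] V)) =
      {g | ∀ x y, B (g x) (g y) = B x y} := by
  have hset : {g : V ≃ₗ[F] V | ∀ x y, B (g x) (g y) = B x y} = (isoGrp B : Set (V ≃ₗ[F] V)) := rfl
  rw [hset]
  congr 1
  apply le_antisymm
  · rw [Subgroup.closure_le]
    rintro g ⟨a, u, rfl⟩
    exact gsp_tv_mem B hA a u
  · obtain ⟨k, hk⟩ := Cfsg.Agent.Helper11.even_finrank_of_nondegenerate_isAlt B hB hA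
    have hk2 : finrank F V = 2 * k := by rw [hk]; ring
    obtain ⟨e, he⟩ := exists_symp_equiv B hA hB k hk2
    -- the homomorphism from the matrix symplectic group to `V ≃ₗ V`
    let Ψ : Matrix.symplecticGroup (Fin k) F →* (V ≃ₗ[F] V) :=
      ((conjEquiv e).symm.toMonoidHom.comp (isoGrp (sympBil k F)).subtype).comp
        (sympMulEquiv k).toMonoidHom
    have hΨ : ∀ (A : Matrix.symplecticGroup (Fin k) F) (x : V),
        Ψ A x = e.symm ((A : Matrix (Fin k ⊕ Fin k) (Fin k ⊕ Fin k) F) *ᵥ e x) := by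
      intro A x
      rfl
    intro g hg
    -- `g` is in the image of `Ψ`
    have hg' : conjEquiv e g ∈ isoGrp (sympBil k F) := by
      intro x y
      rw [conjEquiv_apply, conjEquiv_apply, he, hg, ← he, LinearEquiv.apply_symm_apply,
        LinearEquiv.apply_symm_apply]
    have hgΨ : Ψ ((sympMulEquiv k).symm ⟨conjEquiv e g, hg'⟩) = g := by
      show (conjEquiv e).symm (((sympMulEquiv k) ((sympMulEquiv k).symm ⟨conjEquiv e g, hg'⟩) :
        isoGrp (sympBil k F)) : (Fin k ⊕ Fin k → F) ≃ₗ[F] (Fin k ⊕ Fin k → F)) = g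
      rw [MulEquiv.apply_symm_apply]
      exact (conjEquiv e).symm_apply_apply g
    have htop : (sympMulEquiv k).symm ⟨conjEquiv e g, hg'⟩ ∈
        Subgroup.closure {A : Matrix.symplecticGroup (Fin k) F |
          ∃ (w : Fin k ⊕ Fin k → F) (c : F),
            (A : Matrix (Fin k ⊕ Fin k) (Fin k ⊕ Fin k) F) = Cfsg.sympTransvection k w c} := by
      rw [Cfsg.Agent.S0765.result k]
      exact Subgroup.mem_top _
    have hmap := Subgroup.mem_map_of_mem Ψ htop
    rw [hgΨ, MonoidHom.map_closure] at hmap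
    refine Subgroup.closure_mono ?_ hmap
    rintro _ ⟨A, ⟨w, c, hAw⟩, rfl⟩
    refine ⟨-c, e.symm w, ?_⟩
    apply LinearEquiv.ext
    intro x
    have h0 : ((-c) • B (e.symm w)) (e.symm w) = 0 := by
      rw [LinearMap.smul_apply, hA (e.symm w), smul_zero]
    rw [hΨ, hAw, gsp_sympTransvection_mulVec, tv_apply h0, map_add, map_smul,
      LinearEquiv.symm_apply_apply, ← sympBil_apply]
    have h1 : sympBil k F (e x) w = B x (e.symm w) := by
      rw [← he, LinearEquiv.apply_symm_apply]
    have h2 : B x (e.symm w) = -B (e.symm w) x := (hA.neg_eq (e.symm w) x).symm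
    rw [h1, h2, LinearMap.smul_apply, smul_eq_mul]
    congr 2
    ring

end GSP

end Cfsg.Agent.Helper4.McL
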