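import Mathlib
import Cfsg.Agent.Lib.Helper4.McLDefs

set_option autoImplicit false
set_option linter.unusedSectionVars false
set_option linter.unusedVariables false
set_option linter.style.haveILetI false
set_option linter.unusedSimpArgs false

/-!
# S5075 piece MSP (core): the case `dim Φ_u = 1` gives a symplectic group (helper19)

The core takes the conclusions of pieces FORM (`exists_form`) and GSP (`closure_symp_tv`)
as hypotheses.
-/

namespace Cfsg.Agent.Helper4.McL

open Module

section MSP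
variable {p : ℕ} [Fact p.Prime] {V : Type*} [AddCommGroup V] [Module (ZMod p) V]
  [Module.Finite (ZMod p) V] {K : Subgroup (V ≃ₗ[ZMod p] V)}

theorem eq_Sp_core (hgen : Subgroup.closure {g | g ∈ K ∧ IsTv g} = K)
    (h : ∀ u : V, u ≠ 0 → finrank (ZMod p) ↥(Phi K u) = 1)
    (hform : ∃ B : LinearMap.BilinForm (ZMod p) V, B.IsAlt ∧
      ∀ u : V, u ≠ 0 → Phi K u = Submodule.span (ZMod p) {B u})
    (hGSP : ∀ B : LinearMap.BilinForm (ZMod p) V, B.IsAlt → B.Nondegenerate →
      (Subgroup.closure {g : V ≃ₗ[ZMod p] V | ∃ (a : ZMod p) (u : V), g = tv (a • B u) u} :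
        Set (V ≃ₗ[ZMod p] V)) = {g | ∀ x y, B (g x) (g y) = B x y}) :
    ∃ B : LinearMap.BilinForm (ZMod p) V, B.IsAlt ∧ B.Nondegenerate ∧
      (K : Set (V ≃ₗ[ZMod p] V)) = {g | ∀ x y, B (g x) (g y) = B x y} := by
  obtain ⟨B, hA, hB⟩ := hform
  have hBne : ∀ u : V, u ≠ 0 → B u ≠ 0 := by
    intro u hu h0
    have h1 := h u hu
    rw [hB u hu, h0] at h1
    have h2 : Submodule.span (ZMod p) {(0 : Dual (ZMod p) V)} = ⊥ := by
      rw [Submodule.span_singleton_eq_bot]
    rw [h2, finrank_bot] at h1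
    exact zero_ne_one h1
  have hsepL : ∀ x : V, (∀ y : V, B x y = 0) → x = 0 := by
    intro x hx
    by_contra hne
    exact hBne x hne (LinearMap.ext hx)
  have hnd : B.Nondegenerate := by
    refine ⟨hsepL, ?_⟩
    intro y hy
    apply hsepL
    intro x
    have := hA.neg_eq y x
    rw [hy x, neg_eq_zero] at this
    exact this
  refine ⟨B, hA, hnd, ?_⟩
  rw [← hGSP B hA hnd]
  congr 1
  apply le_antisymm
  · conv_lhs => rw [← hgen]
    rw [Subgroup.closure_le]
    rintro g ⟨hgK, φ, u, hφu, rfl⟩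
    by_cases hu : u = 0
    · rw [hu, tv_zero_right]
      exact Subgroup.one_mem _
    have hφ : φ ∈ Phi K u := ⟨hφu, hgK⟩
    rw [hB u hu, Submodule.mem_span_singleton] at hφ
    obtain ⟨a, rfl⟩ := hφ
    exact Subgroup.subset_closure ⟨a, u, rfl⟩
  · rw [Subgroup.closure_le]
    rintro g ⟨a, u, rfl⟩
    by_cases hu : u = 0
    · rw [hu, tv_zero_right]
      exact K.one_mem
    have hφ : a • B u ∈ Phi K u := by
      rw [hB u hu]
      exact Submodule.smul_mem _ _ (Submodule.mem_span_singleton_self _)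
    exact tv_mem hφ

end MSP

end Cfsg.Agent.Helper4.McL
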