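import Mathlib
import Cfsg.Agent.Lib.Helper21.N9KDefs

/-!
# S3702 (helper21's GROUP farm-out), PIECE KLOC (helper19)

The seven vector counts in `F₃³`: the number of pairs `(x', y')` in the `K0`-classes of two of the representatives
`z 0, z 1, z 2` (weights 1, 2, 3) with given product.
-/

set_option autoImplicit false
set_option linter.unusedSectionVars false
set_option linter.unusedVariables false
set_option linter.style.haveILetI false

namespace Cfsg.Agent.Helper21.N9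

open Cfsg Cfsg.Agent.Helper16

/-- the number of pairs `(x', y')` in the `K0`-classes of `x`, `y` with `x' y' = z` -/
noncomputable def locK (x y z : ↥K0) : ℕ :=
  Nat.card {q : ↥K0 × ↥K0 // (∃ h : ↥K0, q.1 = h * x * h⁻¹) ∧ (∃ h : ↥K0, q.2 = h * y * h⁻¹) ∧ q.1 * q.2 = z}

/-- vectors of `F₃³` -/
abbrev KlocV : Type := Fin 3 × Fin 3 × Fin 3

/-- the element of `J0` attached to a vector -/
def klocW (v : KlocV) : ↥K0 := Wj v.1 v.2.1 v.2.2

/-- nonzero vectors of class `a` -/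
def klocOK (a : Fin 9) (v : KlocV) : Prop :=
  ¬ (v.1 = 0 ∧ v.2.1 = 0 ∧ v.2.2 = 0) ∧ TC648.clsJ v.1 v.2.1 v.2.2 = a

instance (a : Fin 9) (v : KlocV) : Decidable (klocOK a v) := by
  unfold klocOK
  infer_instance

/-- conjugates of `z a` (`a < 3`) are vectors of class `a` -/
theorem kloc_conj_idx : ∀ a : Fin 9, a < 3 → ∀ q : Idx,
    (idx (Wk q * CK.z a * (Wk q)⁻¹).1).2.2.2 = (0, 0, 0, 0) ∧
      klocOK a ((idx (Wk q * CK.z a * (Wk q)⁻¹).1).1, (idx (Wk q * CK.z a * (Wk q)⁻¹).1).2.1,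
        (idx (Wk q * CK.z a * (Wk q)⁻¹).1).2.2.1) := by
  decide +kernel

/-- vectors of class `a` are conjugates of `z a` -/
theorem kloc_conj_ex : ∀ a : Fin 9, a < 3 → ∀ v : KlocV, klocOK a v →
    ∃ q : Idx, klocW v = Wk q * CK.z a * (Wk q)⁻¹ := by
  decide +kernel

theorem kloc_class (a : Fin 9) (ha : a < 3) (x : ↥K0) :
    (∃ h : ↥K0, x = h * CK.z a * h⁻¹) ↔ ∃ v : KlocV, klocOK a v ∧ x = klocW v := by
  constructor
  · rintro ⟨h, rfl⟩
    obtain ⟨q, rfl⟩ := Wk_surjective h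
    obtain ⟨h1, h2⟩ := kloc_conj_idx a ha q
    have h3 : Wk (idx (Wk q * CK.z a * (Wk q)⁻¹).1) = Wk q * CK.z a * (Wk q)⁻¹ :=
      k0Equiv.apply_symm_apply _
    generalize idx (Wk q * CK.z a * (Wk q)⁻¹).1 = r at h1 h2 h3
    obtain ⟨i, j, k, r4⟩ := r
    simp only at h1 h2
    subst h1
    exact ⟨(i, j, k), h2, h3.symm⟩
  · rintro ⟨v, hv, rfl⟩
    obtain ⟨q, hq⟩ := kloc_conj_ex a ha v hv
    exact ⟨Wk q, hq⟩

theorem klocW_injective : Function.Injective klocW := by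
  intro v w h
  have := Wk_injective h
  obtain ⟨v1, v2, v3⟩ := v
  obtain ⟨w1, w2, w3⟩ := w
  simp only [Prod.mk.injEq] at this ⊢
  exact ⟨this.1, this.2.1, this.2.2.1⟩

theorem klocW_add (v w : KlocV) : klocW v * klocW w = klocW (v + w) :=
  Wj_mul _ _ _ _ _ _

/-- the local count as a count of vectors -/
theorem kloc_count (a b : Fin 9) (ha : a < 3) (hb : b < 3) (vc : KlocV) :
    locK (CK.z a) (CK.z b) (klocW vc) =
      Fintype.card {p : KlocV × KlocV // klocOK a p.1 ∧ klocOK b p.2 ∧ p.1 + p.2 = vc} := by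
  unfold locK
  rw [← Nat.card_eq_fintype_card]
  symm
  refine Nat.card_congr (Equiv.ofBijective
    (fun p => ⟨(klocW p.1.1, klocW p.1.2), ?_⟩) ⟨?_, ?_⟩)
  · refine ⟨(kloc_class a ha _).2 ⟨_, p.2.1, rfl⟩, (kloc_class b hb _).2 ⟨_, p.2.2.1, rfl⟩, ?_⟩
    show klocW p.1.1 * klocW p.1.2 = klocW vc
    rw [klocW_add, p.2.2.2]
  · intro p p' h
    have h1 := congrArg (fun t => t.1.1) h
    have h2 := congrArg (fun t => t.1.2) h
    apply Subtype.ext
    exact Prod.ext (klocW_injective h1) (klocW_injective h2)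
  · rintro ⟨⟨x, y⟩, hx, hy, hxy⟩
    obtain ⟨v, hv, rfl⟩ := (kloc_class a ha x).1 hx
    obtain ⟨w, hw, rfl⟩ := (kloc_class b hb y).1 hy
    have hvw : v + w = vc := by
      apply klocW_injective
      rw [← klocW_add]
      exact hxy
    exact ⟨⟨(v, w), hv, hw, hvw⟩, rfl⟩

theorem kloc_z0 : CK.z 0 = klocW (1, 0, 0) := by decide +kernel
theorem kloc_z1 : CK.z 1 = klocW (1, 1, 0) := by decide +kernel
theorem kloc_z2 : CK.z 2 = klocW (1, 1, 1) := by decide +kernel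

/-- PIECE S3702-GR-KLOC -/
theorem loc_count_K0 :
    locK (CK.z 0) (CK.z 1) (CK.z 0) = 4 ∧ locK (CK.z 0) (CK.z 1) (CK.z 1) = 2 ∧
    locK (CK.z 0) (CK.z 1) (CK.z 2) = 3 ∧ locK (CK.z 0) (CK.z 2) (CK.z 0) = 0 ∧
    locK (CK.z 0) (CK.z 2) (CK.z 2) = 3 ∧ locK (CK.z 1) (CK.z 2) (CK.z 1) = 4 ∧
    locK (CK.z 1) (CK.z 2) (CK.z 2) = 3 := by
  have c1 := kloc_count 0 1 (by decide) (by decide) (1, 0, 0)
  have c2 := kloc_count 0 1 (by decide) (by decide) (1, 1, 0)
  have c3 := kloc_count 0 1 (by decide) (by decide) (1, 1, 1)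
  have c4 := kloc_count 0 2 (by decide) (by decide) (1, 0, 0)
  have c5 := kloc_count 0 2 (by decide) (by decide) (1, 1, 1)
  have c6 := kloc_count 1 2 (by decide) (by decide) (1, 1, 0)
  have c7 := kloc_count 1 2 (by decide) (by decide) (1, 1, 1)
  rw [← kloc_z0] at c1 c4
  rw [← kloc_z1] at c2 c6
  rw [← kloc_z2] at c3 c5 c7
  rw [c1, c2, c3, c4, c5, c6, c7]
  decide +kernel

end Cfsg.Agent.Helper21.N9
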