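import Mathlib
import Cfsg.Agent.Lib.Lead.NC2Defs

/-!
# S3894 (n = 2), piece N2-K2 (helper19): the commutant of a non-scalar 2×2 matrix.
-/

set_option autoImplicit false
set_option linter.unusedSectionVars false
set_option linter.unusedVariables false

namespace Cfsg.Agent.Lead.NC2

open Matrix

variable {F : Type*} [Field F]

theorem commutant_eq {x m : Matrix (Fin 2) (Fin 2) F} (hx : ¬ IsScalar x) (hm : m * x = x * m) :
    ∃ a b : F, m = a • (1 : Matrix (Fin 2) (Fin 2) F) + b • x := by
  have h00 := congrFun (congrFun hm 0) 0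
  have h01 := congrFun (congrFun hm 0) 1
  have h10 := congrFun (congrFun hm 1) 0
  have h11 := congrFun (congrFun hm 1) 1
  simp only [Matrix.mul_apply, Fin.sum_univ_two] at h00 h01 h10 h11
  have hcases : x 0 1 ≠ 0 ∨ x 1 0 ≠ 0 ∨ x 0 0 ≠ x 1 1 := by
    by_contra hcon
    push Not at hcon
    obtain ⟨hq, hr, hps⟩ := hcon
    apply hx
    refine ⟨x 0 0, ?_⟩
    ext i j
    fin_cases i <;> fin_cases j <;> simp [hq, hr, hps]
  rcases hcases with hq | hr | hps
  · refine ⟨m 0 0 - m 0 1 / x 0 1 * x 0 0, m 0 1 / x 0 1, ?_⟩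
    ext i j
    fin_cases i <;> fin_cases j <;>
      simp only [Fin.zero_eta, Fin.mk_one, Fin.isValue, Matrix.add_apply, Matrix.smul_apply,
        Matrix.one_apply_eq, Matrix.one_apply_ne, ne_eq, zero_ne_one, one_ne_zero,
        not_false_eq_true, smul_eq_mul, mul_one, mul_zero, zero_add]
    · ring
    · field_simp
    · field_simp
      linear_combination (-1 : F) * h00
    · field_simp
      linear_combination (-1 : F) * h01
  · refine ⟨m 0 0 - m 1 0 / x 1 0 * x 0 0, m 1 0 / x 1 0, ?_⟩
    ext i j
    fin_cases i <;> fin_cases j <;>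
      simp only [Fin.zero_eta, Fin.mk_one, Fin.isValue, Matrix.add_apply, Matrix.smul_apply,
        Matrix.one_apply_eq, Matrix.one_apply_ne, ne_eq, zero_ne_one, one_ne_zero,
        not_false_eq_true, smul_eq_mul, mul_one, mul_zero, zero_add]
    · ring
    · field_simp
      linear_combination h00
    · field_simp
    · field_simp
      linear_combination h10
  · have hps' : x 0 0 - x 1 1 ≠ 0 := sub_ne_zero.2 hps
    refine ⟨m 0 0 - (m 0 0 - m 1 1) / (x 0 0 - x 1 1) * x 0 0,
      (m 0 0 - m 1 1) / (x 0 0 - x 1 1), ?_⟩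
    ext i j
    fin_cases i <;> fin_cases j <;>
      simp only [Fin.zero_eta, Fin.mk_one, Fin.isValue, Matrix.add_apply, Matrix.smul_apply,
        Matrix.one_apply_eq, Matrix.one_apply_ne, ne_eq, zero_ne_one, one_ne_zero,
        not_false_eq_true, smul_eq_mul, mul_one, mul_zero, zero_add]
    · ring
    · field_simp
      linear_combination (-1 : F) * h01
    · field_simp
      linear_combination h10
    · field_simp
      ring

end Cfsg.Agent.Lead.NC2
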