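import Mathlib
import Cfsg.Agent.Lib.Lead.NC2Defs
import Cfsg.Agent.Lib.Helper1.NC2CEN
import Cfsg.Agent.Lib.Helper28.NC2F3
import Cfsg.Agent.Lib.Helper25.NC2TI

/-!
# S3894 (n = 2), piece N2-LEMN (helper19): core, with the two N2-GOOD statements as hypotheses.
-/

set_option autoImplicit false
set_option linter.unusedSectionVars false
set_option linter.unusedVariables false

namespace Cfsg.Agent.Lead.NC2

open Matrix

variable {F : Type*} [Field F]

/-- the central element: a nilpotent subgroup `H` containing `pr x`, `x` good, has a central element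
`pr z ≠ 1` commuting with every `pr g ∈ H`. -/
theorem nc2_lemn_center
    (hgood : ∀ {x : GL (Fin 2) F}, Good x → ¬ IsScalar (x : Matrix (Fin 2) (Fin 2) F))
    {H : Subgroup (PGL2 F)} (hH : Group.IsNilpotent H)
    {x : GL (Fin 2) F} (hx : Good x) (m : pr x ∈ H) :
    ∃ z : GL (Fin 2) F, ¬ IsScalar (z : Matrix (Fin 2) (Fin 2) F) ∧ pr z ∈ H ∧
      ∀ g : GL (Fin 2) F, pr g ∈ H → pr g * pr z = pr z * pr g := by
  have hxs : ¬ IsScalar (x : Matrix (Fin 2) (Fin 2) F) := hgood hx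
  have hx1 : pr x ≠ 1 := fun h => hxs ((pr_eq_one_iff x).1 h)
  have hnt : Nontrivial H :=
    ⟨⟨⟨pr x, m⟩, 1, fun h => hx1 (congrArg Subtype.val h)⟩⟩
  have hc : Subgroup.center H ≠ ⊥ := Group.IsNilpotent.center_ne_bot H
  obtain ⟨⟨zb, hzb⟩, hzb1⟩ := (Subgroup.ne_bot_iff_exists_ne_one).1 hc
  obtain ⟨z, hz⟩ := pr_surjective (zb : PGL2 F)
  refine ⟨z, ?_, ?_, ?_⟩
  · intro hs
    apply hzb1
    have h1 : pr z = 1 := (pr_eq_one_iff z).2 hs
    apply Subtype.ext
    apply Subtype.ext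
    rw [← hz, h1]
    rfl
  · rw [hz]
    exact zb.2
  · intro g hg
    have h := (Subgroup.mem_center_iff.1 hzb) ⟨pr g, hg⟩
    have h' := congrArg Subtype.val h
    rw [hz]
    exact h'

/-- core of `le_T_of_nilpotent_uni`. -/
theorem nc2_lemn_core1
    (hgood : ∀ {x : GL (Fin 2) F}, Good x → ¬ IsScalar (x : Matrix (Fin 2) (Fin 2) F))
    (huni : ∀ {x z : GL (Fin 2) F}, UniType x →
      ¬ IsScalar (z : Matrix (Fin 2) (Fin 2) F) → z * x = x * z → UniType z)
    {H : Subgroup (PGL2 F)} (hH : Group.IsNilpotent H)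
    {x : GL (Fin 2) F} (hx : UniType x) (m : pr x ∈ H) : H ≤ T x := by
  have hxg : Good x := Or.inr hx
  obtain ⟨z, hzs, hzH, hzc⟩ := nc2_lemn_center hgood hH hxg m
  have hzx : z * x = x * z := commute_of_pr_commute hxg (hzc x m).symm
  have hzu : UniType z := huni hx hzs hzx
  have hzg : Good z := Or.inr hzu
  have hT : T z = T x := T_eq_of_commute (hgood hxg) hzs hzx
  intro hb hhb
  obtain ⟨h, rfl⟩ := pr_surjective hb
  rw [← hT]
  exact (pr_mem_T_iff z h).2 (commute_of_pr_commute hzg (hzc h hhb))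

/-- core of `T_eq_of_nilpotent`. -/
theorem nc2_lemn_core2
    (hgood : ∀ {x : GL (Fin 2) F}, Good x → ¬ IsScalar (x : Matrix (Fin 2) (Fin 2) F))
    {H : Subgroup (PGL2 F)} (hH : Group.IsNilpotent H)
    {x₁ x₂ : GL (Fin 2) F} (h₁ : Good x₁) (h₂ : Good x₂) (m₁ : pr x₁ ∈ H) (m₂ : pr x₂ ∈ H) :
    T x₁ = T x₂ := by
  obtain ⟨z, hzs, hzH, hzc⟩ := nc2_lemn_center hgood hH h₁ m₁
  have hz1 : z * x₁ = x₁ * z := commute_of_pr_commute h₁ (hzc x₁ m₁).symm
  have hz2 : z * x₂ = x₂ * z := commute_of_pr_commute h₂ (hzc x₂ m₂).symm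
  have hT1 : T z = T x₁ := T_eq_of_commute (hgood h₁) hzs hz1
  have hT2 : T z = T x₂ := T_eq_of_commute (hgood h₂) hzs hz2
  rw [← hT1, hT2]

end Cfsg.Agent.Lead.NC2
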