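import Mathlib
import Cfsg.Agent.Lib.Lead.NC2Defs
import Cfsg.Agent.Lib.Helper6.NC2GOOD
import Cfsg.Agent.Lib.Helper19.NC2LEMNCore

/-!
# S3894 (n = 2), piece N2-LEMN (helper19): nilpotent subgroups of `PGL₂` and the pieces `T x`.
-/

set_option autoImplicit false
set_option linter.unusedSectionVars false
set_option linter.unusedVariables false

namespace Cfsg.Agent.Lead.NC2

open Matrix

variable {F : Type*} [Field F]

theorem le_T_of_nilpotent_uni {H : Subgroup (PGL2 F)} (hH : Group.IsNilpotent H)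
    {x : GL (Fin 2) F} (hx : UniType x) (m : pr x ∈ H) : H ≤ T x :=
  nc2_lemn_core1 (fun h => Good.not_isScalar h) (fun h1 h2 h3 => uniType_of_commute h1 h2 h3)
    hH hx m

theorem T_eq_of_nilpotent {H : Subgroup (PGL2 F)} (hH : Group.IsNilpotent H)
    {x₁ x₂ : GL (Fin 2) F} (h₁ : Good x₁) (h₂ : Good x₂) (m₁ : pr x₁ ∈ H) (m₂ : pr x₂ ∈ H) :
    T x₁ = T x₂ :=
  nc2_lemn_core2 (fun h => Good.not_isScalar h) hH h₁ h₂ m₁ m₂

end Cfsg.Agent.Lead.NC2
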