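import Mathlib
import Cfsg.Agent.Lib.Helper19.Conj
import Cfsg.Agent.Lib.Helper19.CardProd

/-!
# Invariance of joins, meets and conjugates under a normalizing subgroup (helper19 library)
-/

set_option autoImplicit false

namespace Cfsg.Agent.Helper19

variable {G : Type*} [Group G]

theorem le_normalizer_sSup (B : Subgroup G) (S : Set (Subgroup G))
    (h : ∀ K ∈ S, B ≤ Subgroup.normalizer (K : Set G)) :
    B ≤ Subgroup.normalizer ((sSup S : Subgroup G) : Set G) := by
  rw [Subgroup.le_normalizer_iff]
  intro b hb x hx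
  have hle : sSup S ≤ (sSup S).comap (MulAut.conj b).toMonoidHom := by
    apply sSup_le
    intro K hK k hk
    rw [Subgroup.mem_comap]
    have := (Subgroup.le_normalizer_iff.mp (h K hK)) b hb k hk
    exact (le_sSup hK) this
  exact hle hx

theorem le_normalizer_sup (B K L : Subgroup G) (hK : B ≤ Subgroup.normalizer (K : Set G))
    (hL : B ≤ Subgroup.normalizer (L : Set G)) :
    B ≤ Subgroup.normalizer ((K ⊔ L : Subgroup G) : Set G) := by
  have := le_normalizer_sSup B {K, L} (by
    intro X hX
    rcases hX with rfl | rfl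
    · exact hK
    · exact hL)
  rwa [sSup_pair] at this

theorem le_normalizer_inf (B K L : Subgroup G) (hK : B ≤ Subgroup.normalizer (K : Set G))
    (hL : B ≤ Subgroup.normalizer (L : Set G)) :
    B ≤ Subgroup.normalizer ((K ⊓ L : Subgroup G) : Set G) := by
  rw [Subgroup.le_normalizer_iff]
  intro b hb x hx
  exact Subgroup.mem_inf.mpr ⟨(Subgroup.le_normalizer_iff.mp hK) b hb x hx.1,
    (Subgroup.le_normalizer_iff.mp hL) b hb x hx.2⟩

theorem le_normalizer_of_normal (B N : Subgroup G) [N.Normal] :
    B ≤ Subgroup.normalizer (N : Set G) := by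
  rw [Subgroup.normalizer_eq_top]
  exact le_top

/-- Conjugating by an element centralizing `A` preserves `A`-invariance. -/
theorem le_normalizer_map_conj_of_mem_centralizer (A H : Subgroup G) (c : G)
    (hc : c ∈ Subgroup.centralizer (A : Set G)) (hAH : A ≤ Subgroup.normalizer (H : Set G)) :
    A ≤ Subgroup.normalizer ((H.map (MulAut.conj c).toMonoidHom : Subgroup G) : Set G) := by
  rw [Subgroup.le_normalizer_iff]
  intro a ha y hy
  rw [mem_map_conj] at hy ⊢
  have h1 := (Subgroup.le_normalizer_iff.mp hAH) a ha _ hy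
  have hca : a * c = c * a := (Subgroup.mem_centralizer_iff.mp hc) a ha
  have hca' : c⁻¹ * a = a * c⁻¹ := by
    rw [inv_mul_eq_iff_eq_mul, ← mul_assoc, ← hca, mul_assoc, mul_inv_cancel, mul_one]
  have e : c⁻¹ * (a * y * a⁻¹) * c = a * (c⁻¹ * y * c) * a⁻¹ := by
    have hca'' : a⁻¹ * c = c * a⁻¹ := by
      rw [inv_mul_eq_iff_eq_mul, ← mul_assoc, hca, mul_assoc, mul_inv_cancel, mul_one]
    calc c⁻¹ * (a * y * a⁻¹) * c = (c⁻¹ * a) * y * (a⁻¹ * c) := by group
      _ = (a * c⁻¹) * y * (c * a⁻¹) := by rw [hca', hca'']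
      _ = a * (c⁻¹ * y * c) * a⁻¹ := by group
  rw [e]
  exact h1

/-- Invariance is preserved by a conjugate of the acting group. -/
theorem normalizer_map_conj (H : Subgroup G) (g : G) :
    (Subgroup.normalizer (H : Set G)).map (MulAut.conj g).toMonoidHom =
      Subgroup.normalizer ((H.map (MulAut.conj g).toMonoidHom : Subgroup G) : Set G) :=
  Subgroup.map_normalizer_eq_of_bijective H (MulAut.conj g).bijective

/-- Order of a semidirect product inside a group. -/
theorem card_sup_of_disjoint [Finite G] (N A : Subgroup G) [N.Normal] (h : A ⊓ N = ⊥) :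
    Nat.card ↥(N ⊔ A) = Nat.card N * Nat.card A := by
  have h1 := card_mul_relIndex_sup A N
  have h2 := card_inf_mul_relIndex A N
  rw [h, Subgroup.card_bot, one_mul] at h2
  rw [Subgroup.relIndex_sup_right, h2, sup_comm] at h1
  exact h1.symm

end Cfsg.Agent.Helper19
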