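import Mathlib
import Cfsg.Agent.Lib.Helper3.SmallOrd
import Cfsg.Agent.Lib.Lead.PermTools

/-!
# S0978 (helper28's farm-out), PIECE B1, core (helper19): `|N(P₇)| = 42`, `|C(P₇)| = 21` is impossible in a
simple group of order 5040, given that a subgroup of index 8 excludes elements of order 21.
-/

set_option autoImplicit false
set_option linter.unusedSectionVars false
set_option linter.unusedVariables false
set_option linter.style.haveILetI false

open Cfsg

namespace Cfsg.Agent.Helper28.Ord5040

namespace B1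

/-- For a subgroup `T` containing the normalizer of a Sylow `p`-subgroup: `[G : T] ≡ 1 mod p`. -/
theorem index_modEq_one {G : Type*} [Group G] [Finite G] (p : ℕ) [Fact p.Prime] (P : Sylow p G)
    (T : Subgroup G) (hNT : Subgroup.normalizer ((P : Subgroup G) : Set G) ≤ T) :
    T.index ≡ 1 [MOD p] := by
  set N := Subgroup.normalizer ((P : Subgroup G) : Set G) with hN
  have hPT : (P : Subgroup G) ≤ T := le_trans Subgroup.le_normalizer hNT
  have h1 : N.relIndex T * T.index = N.index := Subgroup.relIndex_mul_index hNT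
  have h3 : N.index ≡ 1 [MOD p] := by
    have h3' := card_sylow_modEq_one p G
    rw [Sylow.card_eq_index_normalizer P] at h3'
    exact h3'
  have h4 : N.relIndex T ≡ 1 [MOD p] := by
    rw [Subgroup.relIndex, hN, Subgroup.subgroupOf_normalizer_eq hPT]
    have h5 := Sylow.card_eq_index_normalizer (P.subtype hPT)
    have h6 := card_sylow_modEq_one p ↥T
    rw [h5] at h6
    exact h6
  calc T.index = 1 * T.index := (one_mul _).symm
    _ ≡ N.relIndex T * T.index [MOD p] := Nat.ModEq.mul_right _ h4.symm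
    _ = N.index := h1
    _ ≡ 1 [MOD p] := h3

/-- an element of prime order `q` in a subgroup whose order is divisible by `q` -/
theorem exists_mem_orderOf {G : Type*} [Group G] [Finite G] (K : Subgroup G) (q : ℕ)
    [Fact q.Prime] (hq : q ∣ Nat.card K) : ∃ y ∈ K, orderOf y = q := by
  obtain ⟨y, hy⟩ := exists_prime_orderOf_dvd_card' (G := K) q hq
  exact ⟨y.1, y.2, by rw [← hy]; exact Subgroup.orderOf_coe y⟩

end B1

variable {G : Type*} [Group G] [Finite G] [IsSimpleGroup G]

theorem case_B1_core
    (hidx : ∀ H : Subgroup G, H.index = 8 → ∀ z : G, orderOf z = 21 ∨ orderOf z = 35 → False)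
    (h : Nat.card G = 5040) (hG : ∃ x y : G, x * y ≠ y * x) (P : Sylow 7 G)
    (hP : Nat.card (P : Subgroup G) = 7)
    (hN : Nat.card (Subgroup.normalizer ((P : Subgroup G) : Set G)) = 42)
    (hc : Nat.card (Subgroup.centralizer ((P : Subgroup G) : Set G)) = 21) : False := by
  classical
  haveI : Fact (Nat.Prime 7) := ⟨by norm_num⟩
  haveI : Fact (Nat.Prime 3) := ⟨by norm_num⟩
  set C := Subgroup.centralizer ((P : Subgroup G) : Set G) with hCdef
  set N := Subgroup.normalizer ((P : Subgroup G) : Set G) with hNdef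
  obtain ⟨a, haP, ha⟩ := B1.exists_mem_orderOf (P : Subgroup G) 7 (by rw [hP])
  obtain ⟨y, hyC, hy⟩ := B1.exists_mem_orderOf C 3 (by rw [hc]; norm_num)
  have ha1 : a ≠ 1 := by
    rintro rfl
    rw [orderOf_one] at ha
    norm_num at ha
  have haC : a ∈ C :=
    Cfsg.Agent.Lead.mem_centralizer_of_commute_of_prime_card (P : Subgroup G) hP haP ha1
      (Commute.refl a)
  have hcomm : Commute a y := Subgroup.mem_centralizer_iff.1 hyC a haP
  set z := a * y with hzdef
  have hz : orderOf z = 21 := by
    rw [hzdef, hcomm.orderOf_mul_eq_mul_orderOf_of_coprime (by rw [ha, hy]; norm_num), ha, hy]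
  have hzC : z ∈ C := C.mul_mem haC hyC
  have hCz : ∀ g ∈ C, g ∈ Subgroup.zpowers z := by
    have hle : Subgroup.zpowers z ≤ C := by
      rw [Subgroup.zpowers_le]
      exact hzC
    have hcard : Nat.card C ≤ Nat.card (Subgroup.zpowers z) := by
      rw [Nat.card_zpowers, hz, hc]
    have := Subgroup.eq_of_le_of_card_ge hle hcard
    intro g hg
    rw [this]
    exact hg
  set r := z ^ 7 with hrdef
  have hr : orderOf r = 3 := by
    rw [hrdef, orderOf_pow, hz]
    norm_num
  set R := Subgroup.zpowers r with hRdef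
  have hRcard : Nat.card R = 3 := by
    rw [hRdef, Nat.card_zpowers, hr]
  -- `N(P) ≤ N(R)`
  have key : ∀ n ∈ N, ∀ x ∈ R, n * x * n⁻¹ ∈ R := by
    intro n hn x hx
    have h1 : n * z * n⁻¹ ∈ C := by
      rw [hCdef, Subgroup.mem_centralizer_iff]
      intro u hu
      have hu' : n⁻¹ * u * n ∈ (P : Subgroup G) := by
        have := (Subgroup.mem_normalizer_iff.1 (N.inv_mem hn) u).1 hu
        simpa using this
      have h2 := Subgroup.mem_centralizer_iff.1 hzC _ hu'
      calc u * (n * z * n⁻¹) = n * ((n⁻¹ * u * n) * z) * n⁻¹ := by group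
        _ = n * (z * (n⁻¹ * u * n)) * n⁻¹ := by rw [h2]
        _ = n * z * n⁻¹ * u := by group
    obtain ⟨k, hk⟩ := Subgroup.mem_zpowers_iff.1 (hCz _ h1)
    obtain ⟨m, hm⟩ := Subgroup.mem_zpowers_iff.1 hx
    have e0 : n * x * n⁻¹ = (r ^ k) ^ m := by
      rw [← hm]
      have e1 : n * r ^ m * n⁻¹ = (n * r * n⁻¹) ^ m := by rw [conj_zpow]
      have e2 : n * r * n⁻¹ = (n * z * n⁻¹) ^ 7 := by rw [hrdef, conj_pow]
      rw [e1, e2, ← hk]
      congr 1
      rw [hrdef, ← zpow_natCast, ← zpow_mul, mul_comm, zpow_mul, zpow_natCast]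
    rw [e0]
    exact Subgroup.zpow_mem _ (Subgroup.zpow_mem _ (Subgroup.mem_zpowers r) k) m
  have hNR : N ≤ Subgroup.normalizer (R : Set G) := by
    intro n hn
    rw [Subgroup.mem_normalizer_iff]
    intro x
    constructor
    · exact key n hn x
    · intro hx
      have := key n⁻¹ (N.inv_mem hn) _ hx
      simpa [mul_assoc] using this
  set H := Subgroup.normalizer (R : Set G) with hHdef
  -- a Sylow 3-subgroup through `R`
  have hR3 : IsPGroup 3 R := IsPGroup.of_card (n := 1) (by rw [hRcard, pow_one])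
  obtain ⟨Q, hRQ⟩ := hR3.exists_le_sylow
  have hQcard : Nat.card (Q : Subgroup G) = 3 ^ 2 :=
    (Cfsg.Agent.Lead.sylow_facts (p := 3) (k := 2) (m := 560) (by rw [h]; norm_num) (by norm_num)).1 Q
  have hQcomm : ∀ a b : (Q : Subgroup G), a * b = b * a := by
    have hQc := IsPGroup.isMulCommutative_of_card_eq_prime_sq (p := 3) (G := (Q : Subgroup G)) hQcard
    exact fun a b => hQc.is_comm.comm a b
  have hQH : (Q : Subgroup G) ≤ H := by
    refine le_trans ?_ (Subgroup.centralizer_le_normalizer (R : Set G))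
    intro q hq
    rw [Subgroup.mem_centralizer_iff]
    intro x hx
    have := hQcomm ⟨x, hRQ hx⟩ ⟨q, hq⟩
    exact congrArg Subtype.val this
  -- arithmetic
  have d1 : 42 ∣ Nat.card H := by
    rw [← hN]
    exact Subgroup.card_dvd_of_le hNR
  have d2 : 9 ∣ Nat.card H := by
    have := Subgroup.card_dvd_of_le hQH
    rw [hQcard] at this
    exact this
  have d3 : Nat.card H * H.index = 5040 := by
    rw [← h]
    exact Subgroup.card_mul_index H
  have d4 : H.index % 7 = 1 := B1.index_modEq_one 7 P H hNR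
  have hne : H ≠ ⊤ := by
    apply Cfsg.Agent.Lead.normalizer_ne_top_of_simple
    · intro hb
      rw [hb, Subgroup.card_bot] at hRcard
      norm_num at hRcard
    · intro ht
      rw [ht, Subgroup.card_top, h] at hRcard
      norm_num at hRcard
  have hi1 : H.index ≠ 1 := fun h1 => hne (Subgroup.index_eq_one.1 h1)
  have hi8 : H.index = 8 := by
    obtain ⟨c1, hc1⟩ : 126 ∣ Nat.card H := by
      have : Nat.lcm 42 9 ∣ Nat.card H := Nat.lcm_dvd d1 d2
      have e : Nat.lcm 42 9 = 126 := by norm_num
      rwa [e] at this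
    generalize H.index = i at d3 d4 hi1 ⊢
    rw [hc1] at d3
    have h40 : c1 * i = 40 := by
      have : 126 * (c1 * i) = 126 * 40 := by rw [← mul_assoc, d3]
      exact Nat.eq_of_mul_eq_mul_left (by norm_num) this
    have hi40 : i ∣ 40 := ⟨c1, by rw [← h40]; ring⟩
    have hile : i ≤ 40 := Nat.le_of_dvd (by norm_num) hi40
    interval_cases i <;> omega
  exact hidx H hi8 z (Or.inl hz)

end Cfsg.Agent.Helper28.Ord5040

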