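import Mathlib
import Cfsg.Prelude.Def_Blocks
import Cfsg.Agent.Lib.Helper3.SmallOrd
import Cfsg.Agent.Lib.Lead.PermTools
import Cfsg.Agent.Lib.Helper24.CharComplete
import Cfsg.Agent.Lib.Helper24.CharIntegral
import Cfsg.Agent.Lib.Helper17.BTRED
import Cfsg.Agent.Lib.Helper19.O5040B1Core
import Cfsg.Agent.S4441

/-!
# S0978 (helper28's farm-out), PIECE A, core (helper19): `|N(P₇) : C(P₇)| = 2`, `|C(P₇)| = 70` is impossible
in a simple group of order 5040 (given STEP3 and IDX8 as hypotheses).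
-/

set_option autoImplicit false
set_option linter.unusedSectionVars false
set_option linter.unusedVariables false
set_option linter.style.haveILetI false

open Cfsg

namespace Cfsg.Agent.Helper28.Ord5040

namespace A

open scoped ComplexConjugate

theorem arith1 : ∀ c ∈ Finset.Icc 14 70, c ∣ 5040 → (c + 1) ∣ 5040 → c % 7 = 1 → c = 15 := by
  decide

theorem arith2 : ∀ c ∈ Finset.Icc 14 70, c ∣ 5040 → (c - 1) ∣ 5040 → c % 7 = 6 → False := by
  decide

/-- the arithmetic of case A -/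
theorem arith (c D j : ℕ) (εc ε : ℤ) (hεc : εc = 1 ∨ εc = -1) (hε : ε = 1 ∨ ε = -1)
    (hc : c ∣ 5040) (hD : D ∣ 5040) (hsq : c ^ 2 ≤ 5040) (hj : 1 ≤ j) (hjc : 2 * 7 * j ≤ c)
    (hmodc : (c : ℤ) ≡ εc [ZMOD 7]) (hrel : ε * (D : ℤ) = 1 + εc * (c : ℤ)) :
    c = 15 ∧ D = 16 ∧ ε = 1 ∧ εc = 1 ∧ j = 1 := by
  have hc70 : c ≤ 70 := by
    by_contra hcon
    push Not at hcon
    have : 71 ^ 2 ≤ c ^ 2 := Nat.pow_le_pow_left hcon 2
    omega
  have hc14 : 14 ≤ c := by omega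
  have hmem : c ∈ Finset.Icc 14 70 := Finset.mem_Icc.2 ⟨hc14, hc70⟩
  have hdvd := hmodc.dvd
  rcases hεc with rfl | rfl <;> rcases hε with rfl | rfl
  · have hD1 : D = c + 1 := by omega
    have hc7 : c % 7 = 1 := by omega
    have hc15 := arith1 c hmem hc (hD1 ▸ hD) hc7
    refine ⟨hc15, by omega, rfl, rfl, by omega⟩
  · exfalso
    omega
  · exfalso
    omega
  · exfalso
    have hD1 : D = c - 1 := by omega
    have hc7 : c % 7 = 6 := by omega
    exact arith2 c hmem hc (hD1 ▸ hD) hc7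

end A

variable {G : Type*} [Group G] [Finite G] [IsSimpleGroup G]

open scoped ComplexConjugate in
theorem case_A_core
    (hidx : ∀ H : Subgroup G, H.index = 8 → ∀ z : G, orderOf z = 21 ∨ orderOf z = 35 → False)
    (h : Nat.card G = 5040) (hG : ∃ x y : G, x * y ≠ y * x) (P : Sylow 7 G)
    (hP : Nat.card (P : Subgroup G) = 7)
    (hstep3 : ∀ t : G, orderOf t = 2 → t ∈ Subgroup.centralizer ((P : Subgroup G) : Set G) →
      ∀ χ : IrrCharacter G, (∃ g : G, (χ : G → ℂ) g ≠ 1) → ∀ ε : ℤ,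
      (∀ x : G, x ∈ (P : Subgroup G) → x ≠ 1 → ∀ y : G,
        y ∈ Subgroup.centralizer ((P : Subgroup G) : Set G) → ¬ 7 ∣ orderOf y →
        (χ : G → ℂ) (x * y) = (ε : ℂ)) →
      ∃ j : ℕ, 1 ≤ j ∧ (χ : G → ℂ) t = (charDegree (χ : G → ℂ) : ℂ) - 4 * ((7 : ℕ) : ℂ) * (j : ℂ) ∧
        2 * 7 * j ≤ charDegree (χ : G → ℂ))
    (hk : (Subgroup.centralizer ((P : Subgroup G) : Set G)).relIndex
      (Subgroup.normalizer ((P : Subgroup G) : Set G)) = 2)
    (hc : Nat.card (Subgroup.centralizer ((P : Subgroup G) : Set G)) = 70) : False := by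
  classical
  haveI : Fact (Nat.Prime 7) := ⟨by norm_num⟩
  haveI : Fact (Nat.Prime 5) := ⟨by norm_num⟩
  haveI : Fact (Nat.Prime 2) := ⟨by norm_num⟩
  haveI : Fintype G := Fintype.ofFinite G
  letI : Fintype (IrrCharacter G) := Cfsg.Agent.Helper24.irrFintype
  set C := Subgroup.centralizer ((P : Subgroup G) : Set G) with hCdef
  obtain ⟨M, hM⟩ := Cfsg.Agent.Helper24.Glaub.exists_isPModular (p := 7) (by norm_num)
  haveI : M.IsPrime := hM.2.1.isPrime
  obtain ⟨X, Y, hB, hdisj, hXcard, hYcard, εX, ε, hX, hε, hYdeg, hYagree, hYsum⟩ :=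
    Cfsg.Agent.S4441.result 7 M hM (by norm_num) P hP 2 hk
  set χ₀ := Cfsg.Agent.Helper24.principalChar G with hχ₀
  have hχ₀B : χ₀ ∈ principalBlock M G := Cfsg.Agent.Helper23.Blk.principalChar_mem_principalBlock
  have hχ₀1 : ∀ g : G, (χ₀ : G → ℂ) g = 1 := fun _ => rfl
  have hχ₀deg : charDegree (χ₀ : G → ℂ) = 1 := by
    have h1 := Cfsg.Agent.Helper24.irr_one_eq_charDegree χ₀.2
    rw [hχ₀1] at h1
    have h3 : ((charDegree (χ₀ : G → ℂ) : ℕ) : ℂ) = ((1 : ℕ) : ℂ) := by rw [← h1]; simp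
    exact_mod_cast h3
  have hone_reg : ¬ 7 ∣ orderOf (1 : G) := by
    rw [orderOf_one]
    norm_num
  -- `χ₀ ∈ X`
  have hχ₀X : χ₀ ∈ X := by
    rw [hB] at hχ₀B
    rcases hχ₀B with h1 | h1
    · exact h1
    · exfalso
      have h2 := (hYdeg χ₀ h1).dvd
      rw [hχ₀deg] at h2
      rcases hε with rfl | rfl <;> omega
  have hε₀ : εX χ₀ = 1 := by
    obtain ⟨h1, h2, -⟩ := hX χ₀ hχ₀X
    rcases h1 with h1 | h1
    · exact h1
    · exfalso
      have h3 := h2.dvd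
      rw [hχ₀deg, h1] at h3
      omega
  -- the shape of `X` and `Y`
  have hX2 : X.ncard = 2 := by rw [← Nat.card_coe_set_eq, hXcard]
  have hY3 : Y.ncard = 3 := by rw [← Nat.card_coe_set_eq, hYcard]
  obtain ⟨χ', hχ'ne, hXeq⟩ : ∃ χ' : IrrCharacter G, χ' ≠ χ₀ ∧ X = {χ₀, χ'} := by
    obtain ⟨a, b, hab, hXab⟩ := Set.ncard_eq_two.1 hX2
    rw [hXab] at hχ₀X
    rcases hχ₀X with h1 | h1
    · exact ⟨b, fun hb => hab (by rw [← h1, hb]), by rw [hXab, h1]⟩
    · have h1' : χ₀ = b := h1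
      exact ⟨a, fun ha => hab (by rw [← h1', ha]), by rw [hXab, h1', Set.pair_comm]⟩
  obtain ⟨θ₁, θ₂, θ₃, h12, h13, h23, hYeq⟩ := Set.ncard_eq_three.1 hY3
  have hχ'X : χ' ∈ X := by rw [hXeq]; simp
  have hθ₁Y : θ₁ ∈ Y := by rw [hYeq]; simp
  have hθ₂Y : θ₂ ∈ Y := by rw [hYeq]; simp
  have hθ₃Y : θ₃ ∈ Y := by rw [hYeq]; simp
  have hXY : ∀ a ∈ X, ∀ b ∈ Y, a ≠ b := fun a ha b hb hab =>
    (Set.disjoint_left.1 hdisj) ha (hab ▸ hb)
  obtain ⟨hεc, hmodc, hvalc⟩ := hX χ' hχ'X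
  -- the sum over `X`
  have hsumX : ∀ g : G, ∑ᶠ χ ∈ X, (εX χ : ℂ) * (χ : G → ℂ) g =
      1 + (εX χ' : ℂ) * (χ' : G → ℂ) g := by
    intro g
    rw [hXeq, finsum_mem_pair hχ'ne.symm, hε₀, hχ₀1]
    push_cast
    ring
  -- degrees
  set c := charDegree (χ' : G → ℂ) with hcdef
  set D := charDegree (θ₁ : G → ℂ) with hDdef
  have hχ'1 : (χ' : G → ℂ) 1 = (c : ℂ) := Cfsg.Agent.Helper24.irr_one_eq_charDegree χ'.2
  have hθ₁1 : (θ₁ : G → ℂ) 1 = (D : ℂ) := Cfsg.Agent.Helper24.irr_one_eq_charDegree θ₁.2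
  have hrel : ε * (D : ℤ) = 1 + εX χ' * (c : ℤ) := by
    have h1 := hYsum θ₁ hθ₁Y 1 hone_reg
    rw [hsumX, hθ₁1, hχ'1] at h1
    exact_mod_cast h1
  have hcdvd : c ∣ 5040 := by
    rw [← h]
    exact Cfsg.Agent.Helper24.charDegree_dvd_card χ'.2
  have hDdvd : D ∣ 5040 := by
    rw [← h]
    exact Cfsg.Agent.Helper24.charDegree_dvd_card θ₁.2
  have hsq : c ^ 2 ≤ 5040 := by
    rw [← h, ← Cfsg.Agent.Helper24.sum_charDegree_sq (G := G)]
    exact Finset.single_le_sum (f := fun χ : IrrCharacter G => charDegree (χ : G → ℂ) ^ 2)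
      (fun _ _ => Nat.zero_le _) (Finset.mem_univ χ')
  -- the involution
  obtain ⟨t, htC, ht⟩ := B1.exists_mem_orderOf C 2 (by rw [hc]; norm_num)
  have htreg : ¬ 7 ∣ orderOf t := by rw [ht]; norm_num
  have hχ'g : ∃ g : G, (χ' : G → ℂ) g ≠ 1 := by
    by_contra hcon
    push Not at hcon
    apply hχ'ne
    apply Subtype.ext
    funext g
    rw [hcon g, hχ₀1]
  obtain ⟨j, hj1, hjval, hjle⟩ := hstep3 t ht htC χ' hχ'g (εX χ') hvalc
  obtain ⟨hc15, hD16, hε1, hεc1, hj1'⟩ := A.arith c D j (εX χ') ε hεc hε hcdvd hDdvd hsq hj1 hjle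
    hmodc hrel
  -- the values at `t`
  have hχ't : (χ' : G → ℂ) t = -13 := by
    rw [hjval, ← hcdef, hc15, hj1']
    norm_num
  have hθt : ∀ θ ∈ Y, (θ : G → ℂ) t = -12 := by
    intro θ hθ
    have h1 := hYsum θ hθ t htreg
    rw [hsumX, hε1, hεc1, hχ't] at h1
    push_cast at h1
    rw [one_mul] at h1
    rw [h1]
    norm_num
  -- second orthogonality
  have hso := Cfsg.Agent.Helper24.second_orthogonality' t t
  rw [if_pos (IsConj.refl t)] at hso
  have hso' : ∑ χ : IrrCharacter G, Complex.normSq ((χ : G → ℂ) t) =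
      (Nat.card (Subgroup.centralizer ({t} : Set G)) : ℝ) := by
    have h1 : ∑ χ : IrrCharacter G, ((Complex.normSq ((χ : G → ℂ) t) : ℝ) : ℂ) =
        (Nat.card (Subgroup.centralizer ({t} : Set G)) : ℂ) := by
      rw [← hso]
      exact Finset.sum_congr rfl (fun χ _ => (Complex.mul_conj _).symm)
    have h2 : ((∑ χ : IrrCharacter G, Complex.normSq ((χ : G → ℂ) t) : ℝ) : ℂ) =
        (((Nat.card (Subgroup.centralizer ({t} : Set G)) : ℕ) : ℝ) : ℂ) := by
      push_cast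
      exact h1
    exact_mod_cast h2
  have hge : (602 : ℝ) ≤ (Nat.card (Subgroup.centralizer ({t} : Set G)) : ℝ) := by
    rw [← hso']
    have hsub : ({χ₀, χ', θ₁, θ₂, θ₃} : Finset (IrrCharacter G)) ⊆ Finset.univ :=
      Finset.subset_univ _
    refine le_trans ?_ (Finset.sum_le_sum_of_subset_of_nonneg hsub
      (fun χ _ _ => Complex.normSq_nonneg _))
    have n1 : χ₀ ∉ ({χ', θ₁, θ₂, θ₃} : Finset (IrrCharacter G)) := by
      simp only [Finset.mem_insert, Finset.mem_singleton, not_or]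
      exact ⟨hχ'ne.symm, hXY _ hχ₀X _ hθ₁Y, hXY _ hχ₀X _ hθ₂Y, hXY _ hχ₀X _ hθ₃Y⟩
    have n2 : χ' ∉ ({θ₁, θ₂, θ₃} : Finset (IrrCharacter G)) := by
      simp only [Finset.mem_insert, Finset.mem_singleton, not_or]
      exact ⟨hXY _ hχ'X _ hθ₁Y, hXY _ hχ'X _ hθ₂Y, hXY _ hχ'X _ hθ₃Y⟩
    have n3 : θ₁ ∉ ({θ₂, θ₃} : Finset (IrrCharacter G)) := by
      simp only [Finset.mem_insert, Finset.mem_singleton, not_or]
      exact ⟨h12, h13⟩
    have n4 : θ₂ ∉ ({θ₃} : Finset (IrrCharacter G)) := by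
      simp only [Finset.mem_singleton]
      exact h23
    rw [Finset.sum_insert n1, Finset.sum_insert n2, Finset.sum_insert n3, Finset.sum_insert n4,
      Finset.sum_singleton, hχ₀1, hχ't, hθt θ₁ hθ₁Y, hθt θ₂ hθ₂Y, hθt θ₃ hθ₃Y]
    have e1 : Complex.normSq (1 : ℂ) = 1 := by simp
    have e2 : Complex.normSq (-13 : ℂ) = 169 := by
      rw [Complex.normSq_neg]
      have : (13 : ℂ) = ((13 : ℝ) : ℂ) := by norm_num
      rw [this, Complex.normSq_ofReal]
      norm_num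
    have e3 : Complex.normSq (-12 : ℂ) = 144 := by
      rw [Complex.normSq_neg]
      have : (12 : ℂ) = ((12 : ℝ) : ℂ) := by norm_num
      rw [this, Complex.normSq_ofReal]
      norm_num
    rw [e1, e2, e3]
    norm_num
  have hge' : 602 ≤ Nat.card (Subgroup.centralizer ({t} : Set G)) := by exact_mod_cast hge
  -- the index of `C(t)`
  set Ct := Subgroup.centralizer ({t} : Set G) with hCt
  have hCtne : Ct ≠ ⊤ := by
    intro htop
    have htz : t ∈ Subgroup.center G := by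
      rw [Subgroup.mem_center_iff]
      intro g
      have hg : g ∈ Ct := by rw [htop]; trivial
      exact ((Subgroup.mem_centralizer_iff.1 hg) t (Set.mem_singleton t)).symm
    rcases (inferInstance : (Subgroup.center G).Normal).eq_bot_or_eq_top with h1 | h1
    · rw [h1, Subgroup.mem_bot] at htz
      rw [htz, orderOf_one] at ht
      norm_num at ht
    · obtain ⟨x, y, hxy⟩ := hG
      apply hxy
      have hx : x ∈ Subgroup.center G := by rw [h1]; trivial
      exact ((Subgroup.mem_center_iff.1 hx) y).symm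
  have hfac := Cfsg.Agent.Helper3.SmallOrd.two_mul_card_dvd_factorial_index hG Ct hCtne
  have hci : Nat.card Ct * Ct.index = 5040 := by
    rw [← h]
    exact Subgroup.card_mul_index Ct
  have hi8 : Ct.index = 8 := by
    rw [h] at hfac
    generalize Ct.index = i at hfac hci
    generalize Nat.card Ct = n at hge' hci
    have hi : i ≤ 8 := by
      by_contra hcon
      push Not at hcon
      have : 602 * 9 ≤ n * i := Nat.mul_le_mul hge' hcon
      omega
    interval_cases i <;> simp [Nat.factorial] at hfac <;> omega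
  -- an element of order 35
  obtain ⟨a, haP, ha⟩ := B1.exists_mem_orderOf (P : Subgroup G) 7 (by rw [hP])
  obtain ⟨y, hyC, hy⟩ := B1.exists_mem_orderOf C 5 (by rw [hc]; norm_num)
  have hcomm : Commute a y := Subgroup.mem_centralizer_iff.1 hyC a haP
  have hz : orderOf (a * y) = 35 := by
    rw [hcomm.orderOf_mul_eq_mul_orderOf_of_coprime (by rw [ha, hy]; norm_num), ha, hy]
  exact hidx Ct hi8 (a * y) (Or.inr hz)

end Cfsg.Agent.Helper28.Ord5040

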