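import Mathlib
import Cfsg.Agent.Lib.Helper19.O5040ACore
import Cfsg.Agent.Lib.Helper7.O5040IDX8
import Cfsg.Agent.Lib.Helper28.O5040STEP3

/-!
# S0978 (helper28's farm-out), PIECE A (helper19): `|N(P₇) : C(P₇)| = 2`, `|C(P₇)| = 70` is impossible in a
simple group of order 5040.
-/

set_option autoImplicit false
open Cfsg

namespace Cfsg.Agent.Helper28.Ord5040

variable {G : Type*} [Group G] [Finite G] [IsSimpleGroup G]

theorem case_A (h : Nat.card G = 5040) (hG : ∃ x y : G, x * y ≠ y * x) (P : Sylow 7 G)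
    (hP : Nat.card (P : Subgroup G) = 7)
    (hk : (Subgroup.centralizer ((P : Subgroup G) : Set G)).relIndex
      (Subgroup.normalizer ((P : Subgroup G) : Set G)) = 2)
    (hc : Nat.card (Subgroup.centralizer ((P : Subgroup G) : Set G)) = 70) : False := by
  haveI : Fact (Nat.Prime 7) := ⟨by norm_num⟩
  exact case_A_core (fun H hH z hz => no_index_eight hG H hH z hz) h hG P hP
    (fun t ht htC χ hχ ε hval => step3 hG 7 (by norm_num) P hP t ht htC χ hχ ε hval) hk hc

end Cfsg.Agent.Helper28.Ord5040
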