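import Mathlib
import Cfsg.Agent.Lib.Helper19.O5040B1Core
import Cfsg.Agent.Lib.Helper7.O5040IDX8

/-!
# S0978 (helper28's farm-out), PIECE B1 (helper19): `|N(P₇)| = 42`, `|C(P₇)| = 21` is impossible in a simple
group of order 5040.
-/

set_option autoImplicit false
open Cfsg

namespace Cfsg.Agent.Helper28.Ord5040

variable {G : Type*} [Group G] [Finite G] [IsSimpleGroup G]

theorem case_B1 (h : Nat.card G = 5040) (hG : ∃ x y : G, x * y ≠ y * x) (P : Sylow 7 G)
    (hP : Nat.card (P : Subgroup G) = 7)
    (hN : Nat.card (Subgroup.normalizer ((P : Subgroup G) : Set G)) = 42)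
    (hc : Nat.card (Subgroup.centralizer ((P : Subgroup G) : Set G)) = 21) : False :=
  case_B1_core (fun H hH z hz => no_index_eight hG H hH z hz) h hG P hP hN hc

end Cfsg.Agent.Helper28.Ord5040
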