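import Mathlib
import Cfsg.Agent.Lib.Helper25.OInvDefs
import Cfsg.Agent.Lib.Helper13.InvNAsmA
import Cfsg.Agent.Lib.Helper13.InvNTableH
import Cfsg.Agent.Lib.Helper6.ChevLSL2
import Cfsg.Agent.Lib.Helper15.InvNNACT

/-!
# OINV-S1 piece MAIN, core (helper19): the induction on the frames and the final statement; the
statements of the pieces STEP1, STEP2, NCALC (5) are hypotheses here.
-/

set_option autoImplicit false
set_option linter.unusedSectionVars false
set_option linter.unusedVariables false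
set_option linter.style.haveILetI false

namespace Cfsg.Agent.Helper25.OInv

open Cfsg Cfsg.Lie Cfsg.Agent.Lead.Chev Cfsg.Agent.Helper13.InvN Cfsg.Agent.Helper6.ChevL
  Cfsg.Agent.Helper6.SL2Hom Matrix

variable {F : Type*} [Field F] {D : ChevalleyDatum} (hF : ChevFacts D F)
include hF

/-- the empty frame -/
theorem main_nil (h : GL D.Idx F) (hh : h ∈ D.diagonalSubgroup F) :
    ∃ c ∈ D.group F, c * (h * nWordGL D hF.xadd (frameWord ([] : Frame))) * c⁻¹ ∈
      D.diagonalSubgroup F := by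
  refine ⟨1, one_mem _, ?_⟩
  have e : frameWord ([] : Frame) = [] := rfl
  rw [e, nWordGL_nil, mul_one, one_mul, inv_one, mul_one]
  exact hh

/-- MAIN (1) with STEP1, STEP2 as hypotheses -/
theorem conj_frames_core (Fr : List Frame) (E : List OEntry) (hE : OddOK D Fr E)
    (hstep1 : ∀ (S : Frame) (e : OEntry), EntryOK D Fr S e → ∀ h ∈ D.diagonalSubgroup F,
      (h * nWordGL D hF.xadd (frameWord S)) * (h * nWordGL D hF.xadd (frameWord S)) = 1 →
      ∃ g ∈ D.group F, ∃ k₁ ∈ D.diagonalSubgroup F, ∃ k₂ ∈ D.diagonalSubgroup F,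
        g * (h * nWordGL D hF.xadd (frameWord S)) * g⁻¹ =
          k₁ * nGL D hF.xadd (froot D (e.c, e.i)) * k₂ * (h * nWordGL D hF.xadd (frameWord S)))
    (hstep2 : ∀ (S : Frame) (e : OEntry), EntryOK D Fr S e → ∀ h ∈ D.diagonalSubgroup F,
      ∀ k₁ ∈ D.diagonalSubgroup F, ∀ k₂ ∈ D.diagonalSubgroup F,
      InN hF (nWordGL D hF.xadd e.v *
        (k₁ * nGL D hF.xadd (froot D (e.c, e.i)) * k₂ * (h * nWordGL D hF.xadd (frameWord S))) *
        (nWordGL D hF.xadd e.v)⁻¹) (frameWord (Fr.getD e.tgt []))) :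
    ∀ n : ℕ, ∀ S ∈ Fr, S.length ≤ n → ∀ h ∈ D.diagonalSubgroup F,
      (h * nWordGL D hF.xadd (frameWord S)) * (h * nWordGL D hF.xadd (frameWord S)) = 1 →
      ∃ c ∈ D.group F, c * (h * nWordGL D hF.xadd (frameWord S)) * c⁻¹ ∈ D.diagonalSubgroup F := by
  intro n
  induction n with
  | zero =>
    intro S hS hlen h hh htt
    have hS0 : S = [] := List.eq_nil_of_length_eq_zero (by omega)
    subst hS0
    exact main_nil hF h hh
  | succ n ih =>
    intro S hS hlen h hh htt
    by_cases hS0 : S = []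
    · subst hS0
      exact main_nil hF h hh
    · obtain ⟨idx, hidx, hSidx⟩ := List.getElem_of_mem hS
      have hidxE : idx < E.length := by rw [hE.1]; exact hidx
      have hmem : (S, E[idx]) ∈ Fr.zip E := by
        rw [List.mem_iff_getElem]
        refine ⟨idx, by rw [List.length_zip]; omega, ?_⟩
        rw [List.getElem_zip, hSidx]
      have hok : EntryOK D Fr S E[idx] := hE.2 _ hmem hS0
      obtain ⟨e, he⟩ : ∃ e, e = E[idx] := ⟨_, rfl⟩
      rw [← he] at hok
      obtain ⟨g, hg, k₁, hk₁, k₂, hk₂, e1⟩ := hstep1 S e hok h hh htt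
      obtain ⟨h', hh', e2⟩ := hstep2 S e hok h hh k₁ hk₁ k₂ hk₂
      have hS'mem : Fr.getD e.tgt [] ∈ Fr := by
        rw [List.getD_eq_getElem _ _ hok.htgt]
        exact List.getElem_mem _
      have hlen' : (Fr.getD e.tgt []).length ≤ n := by
        have := hok.hlen
        omega
      obtain ⟨t, ht⟩ : ∃ t, t = h * nWordGL D hF.xadd (frameWord S) := ⟨_, rfl⟩
      rw [← ht] at htt e1 e2
      rw [← ht]
      have e3 : h' * nWordGL D hF.xadd (frameWord (Fr.getD e.tgt [])) =
          (nWordGL D hF.xadd e.v * g) * t * (nWordGL D hF.xadd e.v * g)⁻¹ := by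
        rw [← e2, ← e1]; group
      have htt' : (h' * nWordGL D hF.xadd (frameWord (Fr.getD e.tgt []))) *
          (h' * nWordGL D hF.xadd (frameWord (Fr.getD e.tgt []))) = 1 := by
        rw [e3]
        calc (nWordGL D hF.xadd e.v * g) * t * (nWordGL D hF.xadd e.v * g)⁻¹ *
              ((nWordGL D hF.xadd e.v * g) * t * (nWordGL D hF.xadd e.v * g)⁻¹) =
            (nWordGL D hF.xadd e.v * g) * (t * t) * (nWordGL D hF.xadd e.v * g)⁻¹ := by group
          _ = 1 := by rw [htt]; group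
      obtain ⟨c', hc', hc'H⟩ := ih _ hS'mem hlen' h' hh' htt'
      refine ⟨c' * (nWordGL D hF.xadd e.v * g),
        mul_mem hc' (mul_mem (nWordGL_mem_group D hF.xadd e.v) hg), ?_⟩
      have e4 : c' * (nWordGL D hF.xadd e.v * g) * t * (c' * (nWordGL D hF.xadd e.v * g))⁻¹ =
          c' * (h' * nWordGL D hF.xadd (frameWord (Fr.getD e.tgt []))) * c'⁻¹ := by
        rw [e3]; group
      rw [e4]
      exact hc'H

/-- MAIN (2) with NCALC (5) and MAIN (1) as hypotheses -/
theorem conj_into_H_core (hS : CorSize D) (hI : CorInj D) (T : Table) (hT : tableChk D T = true)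
    (hcongr : ∀ (t : GL D.Idx F) (w w' : List ℕ), WOK D w → WOK D w' → InN hF t w →
      (∀ r < D.nroots, reflWord D w r = reflWord D w' r) → InN hF t w')
    (hframes : ∀ S ∈ T.frames, ∀ h ∈ D.diagonalSubgroup F,
      (h * nWordGL D hF.xadd (frameWord S)) * (h * nWordGL D hF.xadd (frameWord S)) = 1 →
      ∃ c ∈ D.group F, c * (h * nWordGL D hF.xadd (frameWord S)) * c⁻¹ ∈ D.diagonalSubgroup F)
    (g : GL D.Idx F) (hg : g ∈ D.group F) (hgg : g * g = 1) :
    ∃ c ∈ D.group F, c * g * c⁻¹ ∈ D.diagonalSubgroup F := by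
  obtain ⟨c, hc, w, hw, hinv, hM, h, hh, e⟩ := conj_into_N hF hS hI g hg hgg
  obtain ⟨S, hSmem, hSok, hact⟩ := table_frame_h13 hF hS hI T hT w hw hinv hM
  have hwS := bmain_frameWord_ok hF hS hI S hSok
  have hN : InN hF (c * g * c⁻¹) w := ⟨h, hh, e⟩
  obtain ⟨h', hh', e'⟩ := hcongr _ w (frameWord S) hw hwS hN hact
  have htt : (h' * nWordGL D hF.xadd (frameWord S)) * (h' * nWordGL D hF.xadd (frameWord S)) = 1 := by
    rw [← e']
    calc c * g * c⁻¹ * (c * g * c⁻¹) = c * (g * g) * c⁻¹ := by group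
      _ = 1 := by rw [hgg]; group
  obtain ⟨c', hc', hc'H⟩ := hframes S hSmem h' hh' htt
  refine ⟨c' * c, mul_mem hc' hc, ?_⟩
  have e4 : c' * c * g * (c' * c)⁻¹ = c' * (c * g * c⁻¹) * c'⁻¹ := by group
  rw [e4, e']
  exact hc'H

end Cfsg.Agent.Helper25.OInv
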