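import Mathlib
import Cfsg.Agent.Lib.Helper25.OInvDefs
import Cfsg.Agent.Lib.Helper13.InvNAsmA
import Cfsg.Agent.Lib.Helper13.InvNTableH
import Cfsg.Agent.Lib.Helper6.ChevLSL2
import Cfsg.Agent.Lib.Helper15.InvNNACT

/-!
# OINV-S1 piece STEP1, core (helper19): the rank-one reduction step; the statements of the pieces
SL2CHEV, SWAPN, SQB are hypotheses here.
-/

set_option autoImplicit false
set_option linter.unusedSectionVars false
set_option linter.unusedVariables false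
set_option linter.style.haveILetI false

namespace Cfsg.Agent.Helper25.OInv

open Cfsg Cfsg.Lie Cfsg.Agent.Lead.Chev Cfsg.Agent.Helper13.InvN Cfsg.Agent.Helper6.ChevL
  Cfsg.Agent.Helper6.SL2Hom Matrix

/-- `2 ≠ 0` in a finite field of odd order -/
theorem step1_two_ne_zero {F : Type*} [Field F] [Fintype F] (hodd : Odd (Fintype.card F)) :
    (2 : F) ≠ 0 := by
  apply Ring.two_ne_zero
  intro h
  have h1 := FiniteField.even_card_iff_char_two.1 h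
  have h2 := Nat.odd_iff.1 hodd
  omega

/-- an odd power times the element is a square -/
theorem step1_isSquare_zpow {F : Type*} [Field F] (γ : F) (hγ : γ ≠ 0) (n : ℤ) (hn : n % 2 ≠ 0) :
    IsSquare (γ ^ n * γ) := by
  obtain ⟨m, hm⟩ : ∃ m : ℤ, n + 1 = m + m := ⟨(n + 1) / 2, by omega⟩
  refine ⟨γ ^ m, ?_⟩
  rw [← zpow_add_one₀ hγ, hm, zpow_add₀ hγ]

variable {F : Type*} [Field F] {D : ChevalleyDatum} (hF : ChevFacts D F)
include hF

/-- STEP1 with the other pieces as hypotheses -/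
theorem step_reduce_core [Fintype F] (hodd : Odd (Fintype.card F)) (hxi : XInj D F)
    (hd : ∀ j < D.rank, D.cartan j (D.simple j) = 2)
    (h_swap_reduce : ∀ (β : ℕ), β < D.nroots → ∀ (t : GL D.Idx F) (γ : F), γ ≠ 0 → Swap hF t β γ →
      (2 : F) ≠ 0 → IsSquare γ →
      ∃ g ∈ D.group F, ∃ a : F, a ≠ 0 ∧ g * t * g⁻¹ = hGLt D hF.xadd β a * nGL D hF.xadd β * t)
    (h_swap_move : ∀ (β : ℕ), β < D.nroots → ∀ (t : GL D.Idx F) (γ : F), γ ≠ 0 → Swap hF t β γ →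
      ∀ v : F, v ≠ 0 → ∃ g ∈ D.group F, g * t * g⁻¹ = hGLt D hF.xadd β v * t)
    (h_swap_of_N : ∀ (c : ℕ → F), (∀ i < D.rank, c i ≠ 0) → ∀ (h : GL D.Idx F),
      (h : Matrix D.Idx D.Idx F) = Tmat D c → ∀ (y : List ℕ), WOK D y → ∀ (β : ℕ), β < D.nroots →
      reflWord D y β = D.neg β →
      Swap hF (h * nWordGL D hF.xadd y) β (chi D c (D.neg β) * ((signWord D (etaOf D) y β : ℤ) : F)) ∧
        chi D c (D.neg β) * ((signWord D (etaOf D) y β : ℤ) : F) ≠ 0)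
    (h_swap_hGLt : ∀ (t : GL D.Idx F) (β : ℕ), β < D.nroots → ∀ (γ : F), Swap hF t β γ → ∀ (r : ℕ),
      r < D.nroots → ∀ (v : F), v ≠ 0 →
      Swap hF (hGLt D hF.xadd r v * t) β (v ^ corSum D r (D.neg β) * γ))
    (h_typeB : ∀ (c : ℕ → F), (∀ i < D.rank, c i ≠ 0) → ∀ (h : GL D.Idx F),
      (h : Matrix D.Idx D.Idx F) = Tmat D c → ∀ (y : List ℕ), WOK D y →
      (h * nWordGL D hF.xadd y) * (h * nWordGL D hF.xadd y) = 1 →
      ∀ (β : ℕ), β < D.nroots → ∀ (s : ℕ), s < D.nroots → reflWord D y (reflWord D y s) = s →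
      (∀ i < D.rank, (D.cartan i s + D.cartan i (reflWord D y s) - D.cartan i (D.neg β)) % 2 = 0) →
      signWord D (etaOf D) y s * signWord D (etaOf D) y (reflWord D y s) *
        signWord D (etaOf D) y β = 1 →
      IsSquare (chi D c (D.neg β) * ((signWord D (etaOf D) y β : ℤ) : F)))
    (Fr : List Frame) (S : Frame) (e : OEntry)
    (hE : EntryOK D Fr S e) (h : GL D.Idx F) (hh : h ∈ D.diagonalSubgroup F)
    (htt : (h * nWordGL D hF.xadd (frameWord S)) * (h * nWordGL D hF.xadd (frameWord S)) = 1) :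
    ∃ g ∈ D.group F, ∃ k₁ ∈ D.diagonalSubgroup F, ∃ k₂ ∈ D.diagonalSubgroup F,
      g * (h * nWordGL D hF.xadd (frameWord S)) * g⁻¹ =
        k₁ * nGL D hF.xadd (froot D (e.c, e.i)) * k₂ * (h * nWordGL D hF.xadd (frameWord S)) := by
  have h2 : (2 : F) ≠ 0 := step1_two_ne_zero hodd
  obtain ⟨c, hc, hhc⟩ := exists_Tmat_of_mem D hF.hall h hh
  have hβ : froot D (e.c, e.i) < D.nroots := hF.rlt e.c hE.hc _ (hF.simple_lt e.i hE.hi)
  obtain ⟨hsw, hγ⟩ := h_swap_of_N c hc h hhc (frameWord S) hE.hy _ hβ hE.hneg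
  obtain ⟨β, hβdef⟩ : ∃ β, β = froot D (e.c, e.i) := ⟨_, rfl⟩
  obtain ⟨t, ht⟩ : ∃ t, t = h * nWordGL D hF.xadd (frameWord S) := ⟨_, rfl⟩
  obtain ⟨γ, hγdef⟩ : ∃ γ, γ = chi D c (D.neg (froot D (e.c, e.i))) *
      ((signWord D (etaOf D) (frameWord S) (froot D (e.c, e.i)) : ℤ) : F) := ⟨_, rfl⟩
  rw [← hγdef] at hsw hγ
  rw [← ht] at hsw
  rw [← ht]
  -- the square case
  have hfin : IsSquare γ → ∃ g ∈ D.group F, ∃ k₁ ∈ D.diagonalSubgroup F, ∃ k₂ ∈ D.diagonalSubgroup F,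
      g * t * g⁻¹ = k₁ * nGL D hF.xadd (froot D (e.c, e.i)) * k₂ * t := by
    intro hsq
    obtain ⟨g, hg, a, ha, hga⟩ := h_swap_reduce _ hβ t γ hγ hsw h2 hsq
    refine ⟨g, hg, hGLt D hF.xadd _ a, hGLt_mem_diagonal D hF.xadd _ hβ a ha, 1, one_mem _, ?_⟩
    rw [hga, mul_one]
  rcases hE.hkind with ⟨-, hrneg, hpar⟩ | ⟨-, hyy, hpar, hsign⟩
  · -- kind A
    by_cases hsq : IsSquare γ
    · exact hfin hsq
    · obtain ⟨hswr, hγr⟩ := h_swap_of_N c hc h hhc (frameWord S) hE.hy e.aux hE.haux hrneg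
      rw [← ht] at hswr
      obtain ⟨g₁, hg₁, e₁⟩ := h_swap_move e.aux hE.haux t _ hγr hswr γ hγ
      have hsw' := h_swap_hGLt t _ hβ γ hsw e.aux hE.haux γ hγ
      have hγ' : γ ^ corSum D e.aux (D.neg (froot D (e.c, e.i))) * γ ≠ 0 :=
        mul_ne_zero (zpow_ne_zero _ hγ) hγ
      have hsq' := step1_isSquare_zpow γ hγ _ hpar
      obtain ⟨g₂, hg₂, a, ha, e₂⟩ := h_swap_reduce _ hβ (hGLt D hF.xadd e.aux γ * t) _ hγ' hsw' h2 hsq'
      refine ⟨g₂ * g₁, mul_mem hg₂ hg₁, hGLt D hF.xadd _ a, hGLt_mem_diagonal D hF.xadd _ hβ a ha,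
        hGLt D hF.xadd e.aux γ, hGLt_mem_diagonal D hF.xadd _ hE.haux γ hγ, ?_⟩
      calc g₂ * g₁ * t * (g₂ * g₁)⁻¹ = g₂ * (g₁ * t * g₁⁻¹) * g₂⁻¹ := by group
        _ = g₂ * (hGLt D hF.xadd e.aux γ * t) * g₂⁻¹ := by rw [e₁]
        _ = hGLt D hF.xadd (froot D (e.c, e.i)) a * nGL D hF.xadd (froot D (e.c, e.i)) *
            (hGLt D hF.xadd e.aux γ * t) := e₂
        _ = hGLt D hF.xadd (froot D (e.c, e.i)) a * nGL D hF.xadd (froot D (e.c, e.i)) *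
            hGLt D hF.xadd e.aux γ * t := by rw [mul_assoc _ _ t]
  · -- kind B
    apply hfin
    rw [hγdef]
    exact h_typeB c hc h hhc (frameWord S) hE.hy htt _ hβ e.aux hE.haux hyy hpar hsign

end Cfsg.Agent.Helper25.OInv
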