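import Mathlib
import Cfsg.Agent.Lib.Helper19.OInvSTEP1Core
import Cfsg.Agent.Lib.Helper23.OInvSL2CHEV
import Cfsg.Agent.Lib.Helper15.OInvSWAPN
import Cfsg.Agent.Lib.Helper15.OInvSQB

/-!
# OINV-S1 piece STEP1 (helper19): the rank-one reduction step.
-/

set_option autoImplicit false
set_option linter.unusedSectionVars false
set_option linter.unusedVariables false

namespace Cfsg.Agent.Helper25.OInv

open Cfsg Cfsg.Lie Cfsg.Agent.Lead.Chev Cfsg.Agent.Helper13.InvN Cfsg.Agent.Helper6.ChevL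
  Cfsg.Agent.Helper6.SL2Hom Matrix

variable {F : Type*} [Field F] {D : ChevalleyDatum} (hF : ChevFacts D F)
include hF

/-- STEP1: the rank-one reduction at `β = froot (e.c, e.i)` (after a move at `e.aux` if `e.kindA`) -/
theorem step_reduce [Fintype F] (hodd : Odd (Fintype.card F)) (hxi : XInj D F)
    (hd : ∀ j < D.rank, D.cartan j (D.simple j) = 2) (Fr : List Frame) (S : Frame) (e : OEntry)
    (hE : EntryOK D Fr S e) (h : GL D.Idx F) (hh : h ∈ D.diagonalSubgroup F)
    (htt : (h * nWordGL D hF.xadd (frameWord S)) * (h * nWordGL D hF.xadd (frameWord S)) = 1) :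
    ∃ g ∈ D.group F, ∃ k₁ ∈ D.diagonalSubgroup F, ∃ k₂ ∈ D.diagonalSubgroup F,
      g * (h * nWordGL D hF.xadd (frameWord S)) * g⁻¹ =
        k₁ * nGL D hF.xadd (froot D (e.c, e.i)) * k₂ * (h * nWordGL D hF.xadd (frameWord S)) :=
  step_reduce_core hF hodd hxi hd
    (fun β hβ t γ hγ hsw h2 hsq => swap_reduce hF hd β hβ t γ hγ hsw h2 hsq)
    (fun β hβ t γ hγ hsw v hv => swap_move hF hodd hd β hβ t γ hγ hsw v hv)
    (fun c hc h hhc y hy β hβ hneg => swap_of_N hF c hc h hhc y hy β hβ hneg)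
    (fun t β hβ γ hsw r hr v hv => swap_hGLt hF t β hβ γ hsw r hr v hv)
    (fun c hc h hhc y hy htt β hβ s hs hyy hpar hsign =>
      typeB_square hF hxi c hc h hhc y hy htt β hβ s hs hyy hpar hsign)
    Fr S e hE h hh htt

end Cfsg.Agent.Helper25.OInv
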