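import Mathlib
import Cfsg.Agent.Lib.Helper19.OInvMAINCore
import Cfsg.Agent.Lib.Helper19.OInvSTEP1
import Cfsg.Agent.Lib.Helper7.OInvNCALC
import Cfsg.Agent.Lib.Helper9.OInvSTEP2

/-!
# OINV-S1 piece MAIN (helper19): the induction on the frames, and the result of OINV-S1.
-/

set_option autoImplicit false
set_option linter.unusedSectionVars false
set_option linter.unusedVariables false

namespace Cfsg.Agent.Helper25.OInv

open Cfsg Cfsg.Lie Cfsg.Agent.Lead.Chev Cfsg.Agent.Helper13.InvN Cfsg.Agent.Helper6.ChevL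
  Cfsg.Agent.Helper6.SL2Hom Matrix

variable {F : Type*} [Field F] {D : ChevalleyDatum} (hF : ChevFacts D F)
include hF

/-- MAIN (1): induction on the length of the frame -/
theorem conj_frames [Fintype F] (hodd : Odd (Fintype.card F)) (hxi : XInj D F) (hS : CorSize D) (hI : CorInj D)
    (hd : ∀ j < D.rank, D.cartan j (D.simple j) = 2) (Fr : List Frame) (E : List OEntry) (hE : OddOK D Fr E) :
    ∀ n : ℕ, ∀ S ∈ Fr, S.length ≤ n → ∀ h ∈ D.diagonalSubgroup F,
      (h * nWordGL D hF.xadd (frameWord S)) * (h * nWordGL D hF.xadd (frameWord S)) = 1 →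
      ∃ c ∈ D.group F, c * (h * nWordGL D hF.xadd (frameWord S)) * c⁻¹ ∈ D.diagonalSubgroup F :=
  conj_frames_core hF Fr E hE
    (fun S e hok h hh htt => step_reduce hF hodd hxi hd Fr S e hok h hh htt)
    (fun S e hok h hh k₁ hk₁ k₂ hk₂ => step_N hF hS hI Fr S e hok h hh k₁ hk₁ k₂ hk₂)

/-- MAIN (2) = THE RESULT OF OINV-S1: every element of square 1 is conjugate into `H` -/
theorem conj_into_H [Fintype F] (hodd : Odd (Fintype.card F)) (hxi : XInj D F) (hS : CorSize D) (hI : CorInj D)
    (hd : ∀ j < D.rank, D.cartan j (D.simple j) = 2) (T : Table) (hT : tableChk D T = true)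
    (E : List OEntry) (hE : OddOK D T.frames E) (g : GL D.Idx F) (hg : g ∈ D.group F) (hgg : g * g = 1) :
    ∃ c ∈ D.group F, c * g * c⁻¹ ∈ D.diagonalSubgroup F :=
  conj_into_H_core hF hS hI T hT
    (fun t w w' hw hw' h hact => InN.congr hF hw hw' h hact)
    (fun S hSm h hh htt =>
      conj_frames hF hodd hxi hS hI hd T.frames E hE S.length S hSm le_rfl h hh htt)
    g hg hgg

end Cfsg.Agent.Helper25.OInv
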