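import Mathlib
import Cfsg.Agent.Lib.Lead.SylowTools
import Cfsg.Agent.Lib.Lead.SimpleTools
import Cfsg.Agent.Lib.Lead.PermTools
import Cfsg.Agent.Lib.Helper16.PGroup2
import Cfsg.Agent.Lib.Helper19.Ord720Aux

set_option autoImplicit false
set_option linter.unusedSectionVars false
set_option linter.unusedVariables false
set_option linter.style.haveILetI false
set_option linter.unusedSimpArgs false

/-!
# Order 459648: the final 2-group argument (piece FIN of S1022)
-/

namespace Cfsg.Agent.Helper19.Ord459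

open Cfsg.Agent.Helper19.Ord720

variable {G : Type*} [Group G] [Finite G]

/-- Product inequality for two subgroups inside a third. -/
theorem card_mul_card_le (A B R : Subgroup G) (hA : A ≤ R) (hB : B ≤ R) :
    Nat.card A * Nat.card B ≤ Nat.card (A ⊓ B : Subgroup G) * Nat.card R := by
  have h1 : Nat.card (A ⊓ B : Subgroup G) * A.relIndex B = Nat.card B := by
    have := Subgroup.relIndex_inf_mul_relIndex (⊥ : Subgroup G) A B
    rwa [Subgroup.relIndex_bot_left, bot_inf_eq, Subgroup.relIndex_bot_left] at this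
  have h2 : A.relIndex B ≤ A.relIndex R :=
    Subgroup.relIndex_le_of_le_right hB (by
      show (A.subgroupOf R).index ≠ 0
      exact Subgroup.index_ne_zero_of_finite)
  have h3 : Nat.card A * A.relIndex R = Nat.card R := by
    have := Subgroup.relIndex_mul_relIndex (⊥ : Subgroup G) A R bot_le hA
    rwa [Subgroup.relIndex_bot_left, Subgroup.relIndex_bot_left] at this
  calc Nat.card A * Nat.card B = Nat.card A * (Nat.card (A ⊓ B : Subgroup G) * A.relIndex B) := by
        rw [h1]
    _ ≤ Nat.card A * (Nat.card (A ⊓ B : Subgroup G) * A.relIndex R) := by gcongr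
    _ = Nat.card (A ⊓ B : Subgroup G) * (Nat.card A * A.relIndex R) := by ring
    _ = Nat.card (A ⊓ B : Subgroup G) * Nat.card R := by rw [h3]

/-- In a simple group having a nontrivial proper subgroup `T` (hence nonabelian), the centralizer of
a nonidentity element is proper. -/
theorem centralizer_singleton_ne_top [IsSimpleGroup G] (T : Subgroup G) (hTb : T ≠ ⊥)
    (hTt : T ≠ ⊤) (u : G) (hu : u ≠ 1) : Subgroup.centralizer ({u} : Set G) ≠ ⊤ := by
  intro htop
  have hucen : u ∈ Subgroup.center G := by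
    rw [Subgroup.mem_center_iff]
    intro g
    have hg : g ∈ Subgroup.centralizer ({u} : Set G) := by rw [htop]; trivial
    rw [Subgroup.mem_centralizer_iff] at hg
    exact (hg u (Set.mem_singleton u)).symm
  rcases (inferInstance : (Subgroup.center G).Normal).eq_bot_or_eq_top with hc | hc
  · rw [hc, Subgroup.mem_bot] at hucen
    exact hu hucen
  · have hTn : T.Normal := by
      refine ⟨fun t ht g => ?_⟩
      have hg : g ∈ Subgroup.center G := by rw [hc]; trivial
      rw [Subgroup.mem_center_iff] at hg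
      have : g * t * g⁻¹ = t := by rw [← hg t]; group
      rw [this]; exact ht
    rcases hTn.eq_bot_or_eq_top with h1 | h1
    · exact hTb h1
    · exact hTt h1

/-- FIN core. -/
theorem final_core [IsSimpleGroup G] (h : Nat.card G = 459648) (P : Sylow 19 G)
    (hN : Nat.card (Subgroup.normalizer ((P : Subgroup G) : Set G)) = 456)
    (hC : Nat.card (Subgroup.centralizer ((P : Subgroup G) : Set G)) = 76 ∨
      Nat.card (Subgroup.centralizer ((P : Subgroup G) : Set G)) = 152 ∨
      Nat.card (Subgroup.centralizer ((P : Subgroup G) : Set G)) = 228)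
    (hkey : ∀ H : Subgroup G, H ≠ ⊤ → (P : Subgroup G) ≤ H → ∀ T : Subgroup G, Nat.card T = 4 →
      T ≤ H → T ≤ Subgroup.centralizer ((P : Subgroup G) : Set G) →
      H ≤ Subgroup.normalizer ((P : Subgroup G) : Set G)) :
    False := by
  haveI : Fact (Nat.Prime 2) := ⟨by norm_num⟩
  haveI : Fact (Nat.Prime 19) := ⟨by norm_num⟩
  have hP19 : Nat.card (P : Subgroup G) = 19 := by
    have := (Cfsg.Agent.Lead.sylow_facts (G := G) (p := 19) (k := 1) (m := 24192)
      (by rw [h]; norm_num) (by norm_num)).1 P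
    simpa using this
  have hS128 : ∀ S : Sylow 2 G, Nat.card (S : Subgroup G) = 128 := by
    intro S
    have := (Cfsg.Agent.Lead.sylow_facts (G := G) (p := 2) (k := 7) (m := 3591)
      (by rw [h]; norm_num) (by norm_num)).1 S
    simpa using this
  -- 2-subgroups of `N(P)` have order dividing 8
  have h2N : ∀ Q : Subgroup G, Q ≤ Subgroup.normalizer ((P : Subgroup G) : Set G) →
      IsPGroup 2 Q → Nat.card Q ∣ 8 := by
    intro Q hQN hQ
    obtain ⟨k, hk⟩ := hQ.exists_card_eq
    have hdvd : Nat.card Q ∣ 456 := by rw [← hN]; exact Subgroup.card_dvd_of_le hQN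
    rw [hk] at hdvd ⊢
    have hk3 : k ≤ 3 := by
      by_contra hcon
      push Not at hcon
      have h16 : 2 ^ 4 ∣ 2 ^ k := pow_dvd_pow 2 hcon
      have := dvd_trans h16 hdvd
      norm_num at this
    have : (2 : ℕ) ^ k ∣ 2 ^ 3 := pow_dvd_pow 2 hk3
    simpa using this
  -- the subgroup `T` of order 4 in `C(P)`
  have h4C : 2 ^ 2 ∣ Nat.card (Subgroup.centralizer ((P : Subgroup G) : Set G)) := by
    rcases hC with h1 | h1 | h1 <;> rw [h1] <;> norm_num
  obtain ⟨K, hK⟩ := Sylow.exists_subgroup_card_pow_prime 2 h4C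
  obtain ⟨T, hTdef⟩ : ∃ T : Subgroup G,
      T = K.map (Subgroup.centralizer ((P : Subgroup G) : Set G)).subtype := ⟨_, rfl⟩
  have hT4 : Nat.card T = 4 := by
    rw [hTdef, Subgroup.card_map_of_injective (Subgroup.subtype_injective _), hK]; norm_num
  have hTC : T ≤ Subgroup.centralizer ((P : Subgroup G) : Set G) := by
    rw [hTdef]; exact Subgroup.map_subtype_le K
  have hcomm : ∀ t ∈ T, ∀ x ∈ (P : Subgroup G), x * t = t * x := by
    intro t ht x hx
    exact (Subgroup.mem_centralizer_iff.mp (hTC ht)) x hx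
  have hTp : IsPGroup 2 T := IsPGroup.of_card (n := 2) (by rw [hT4]; norm_num)
  have hTab : ∀ a b : T, a * b = b * a := by
    have hcm : IsMulCommutative T :=
      IsPGroup.isMulCommutative_of_card_eq_prime_sq (p := 2) (by rw [hT4]; norm_num)
    exact fun a b => hcm.is_comm.comm a b
  obtain ⟨S, hTS⟩ := hTp.exists_le_sylow
  have hTbot : T ≠ ⊥ := by
    intro hb; rw [hb, Subgroup.card_bot] at hT4; omega
  have hTtop : T ≠ ⊤ := by
    intro hb; rw [hb, Subgroup.card_top, h] at hT4; omega
  -- `N(T) ≤ N(P)`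
  have hNTtop := Cfsg.Agent.Lead.normalizer_ne_top_of_simple T hTbot hTtop
  have hPNT : (P : Subgroup G) ≤ Subgroup.normalizer (T : Set G) := by
    intro x hx
    apply mem_normalizer_of_conj_mem
    intro t ht
    have : x * t * x⁻¹ = t := by rw [hcomm t ht x hx]; group
    rw [this]; exact ht
  have hNTN := hkey _ hNTtop hPNT T hT4 Subgroup.le_normalizer hTC
  -- `T1 = N_S(T)` has order 8
  obtain ⟨T1, hT1def⟩ : ∃ T1 : Subgroup G,
      T1 = (S : Subgroup G) ⊓ Subgroup.normalizer (T : Set G) := ⟨_, rfl⟩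
  have hTT1 : T ≤ T1 := by rw [hT1def]; exact le_inf hTS Subgroup.le_normalizer
  have hT1S : T1 ≤ (S : Subgroup G) := by rw [hT1def]; exact inf_le_left
  have hT1N : T1 ≤ Subgroup.normalizer ((P : Subgroup G) : Set G) := by
    rw [hT1def]; exact inf_le_right.trans hNTN
  have hT1p : IsPGroup 2 T1 := S.isPGroup'.to_le hT1S
  have hT1dvd := h2N T1 hT1N hT1p
  have hTneS : T ≠ (S : Subgroup G) := by
    intro he; have := hS128 S; rw [← he, hT4] at this; omega
  obtain ⟨x, hxS, hxT, hxn, -⟩ := Cfsg.Agent.Helper16.exists_normalizing_not_mem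
    (S : Subgroup G) T S.isPGroup' hTS hTneS
  have hxT1 : x ∈ T1 := by
    rw [hT1def]; exact ⟨hxS, mem_normalizer_of_conj_mem T x hxn⟩
  have hT18 : Nat.card T1 = 8 := by
    have hlt : Nat.card T < Nat.card T1 := by
      by_contra hcon
      push Not at hcon
      have := Subgroup.eq_of_le_of_card_ge hTT1 hcon
      exact hxT (this ▸ hxT1)
    rw [hT4] at hlt
    have hle := Nat.le_of_dvd (by norm_num) hT1dvd
    obtain ⟨c, hc⟩ := hT1dvd
    obtain ⟨m, hm⟩ : ∃ m, m = Nat.card T1 := ⟨_, rfl⟩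
    rw [← hm] at hlt hle hc ⊢
    interval_cases m <;> omega
  have hSN : (S : Subgroup G) ⊓ Subgroup.normalizer ((P : Subgroup G) : Set G) = T1 := by
    symm
    apply Subgroup.eq_of_le_of_card_ge (le_inf hT1S hT1N)
    have hp : IsPGroup 2 ((S : Subgroup G) ⊓ Subgroup.normalizer ((P : Subgroup G) : Set G) :
        Subgroup G) := S.isPGroup'.to_le inf_le_left
    have := Nat.le_of_dvd (by norm_num) (h2N _ inf_le_right hp)
    rw [hT18]; exact this
  -- `s ∈ N_S(T1) \ T1`
  have hT1neS : T1 ≠ (S : Subgroup G) := by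
    intro he; have := hS128 S; rw [← he, hT18] at this; omega
  obtain ⟨s, hsS, hsT1, hsn, -⟩ := Cfsg.Agent.Helper16.exists_normalizing_not_mem
    (S : Subgroup G) T1 S.isPGroup' hT1S hT1neS
  obtain ⟨T', hT'def⟩ : ∃ T' : Subgroup G, T' = T.map (MulAut.conj s).toMonoidHom := ⟨_, rfl⟩
  have hT'4 : Nat.card T' = 4 := by rw [hT'def, card_map_conj, hT4]
  have hT'T1 : T' ≤ T1 := by
    intro y hy
    rw [hT'def] at hy
    obtain ⟨t, ht, rfl⟩ := mem_map_conj.mp hy
    exact hsn t (hTT1 ht)
  have hcnt := card_mul_card_le T T' T1 hTT1 hT'T1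
  rw [hT4, hT'4, hT18] at hcnt
  have hinf2 : 2 ≤ Nat.card (T ⊓ T' : Subgroup G) := by omega
  obtain ⟨u, huI, hu1⟩ : ∃ u ∈ T ⊓ T', u ≠ 1 := by
    by_contra hcon
    push Not at hcon
    have : T ⊓ T' = ⊥ := (Subgroup.eq_bot_iff_forall _).mpr hcon
    rw [this, Subgroup.card_bot] at hinf2; omega
  obtain ⟨huT, huT'⟩ := Subgroup.mem_inf.mp huI
  rw [hT'def] at huT'
  obtain ⟨t0, ht0, hu_eq⟩ := mem_map_conj.mp huT'
  -- `C(u) ≤ N(P)`
  have hCUtop := centralizer_singleton_ne_top T hTbot hTtop u hu1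
  have hPCU : (P : Subgroup G) ≤ Subgroup.centralizer ({u} : Set G) := by
    intro x hx
    rw [Subgroup.mem_centralizer_iff]
    intro y hy
    rw [Set.mem_singleton_iff] at hy
    subst hy
    exact (hcomm y huT x hx).symm
  have hTCU : T ≤ Subgroup.centralizer ({u} : Set G) := by
    intro t ht
    rw [Subgroup.mem_centralizer_iff]
    intro y hy
    rw [Set.mem_singleton_iff] at hy
    subst hy
    exact congrArg Subtype.val (hTab ⟨y, huT⟩ ⟨t, ht⟩)
  have hCUN := hkey _ hCUtop hPCU T hT4 hTCU hTC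
  -- `s` normalizes `P`
  have hsN : s ∈ Subgroup.normalizer ((P : Subgroup G) : Set G) := by
    apply mem_normalizer_of_conj_mem
    intro x hx
    have hmemCU : s * x * s⁻¹ ∈ Subgroup.centralizer ({u} : Set G) := by
      rw [Subgroup.mem_centralizer_iff]
      intro y hy
      rw [Set.mem_singleton_iff] at hy
      subst hy
      rw [← hu_eq]
      have e := hcomm t0 ht0 x hx
      calc s * t0 * s⁻¹ * (s * x * s⁻¹) = s * (t0 * x) * s⁻¹ := by group
        _ = s * (x * t0) * s⁻¹ := by rw [e]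
        _ = s * x * s⁻¹ * (s * t0 * s⁻¹) := by group
    have hmemN := hCUN hmemCU
    have hx19 : x ^ 19 = 1 := by
      have h1 : (⟨x, hx⟩ : (P : Subgroup G)) ^ Nat.card (P : Subgroup G) = 1 := pow_card_eq_one'
      rw [hP19] at h1
      exact congrArg Subtype.val h1
    have hpow : (s * x * s⁻¹) ^ 19 ^ 1 = 1 := by
      rw [pow_one, conj_pow, hx19]; group
    exact Cfsg.Agent.Lead.mem_sylow_of_mem_normalizer_of_pow P hmemN hpow
  apply hsT1
  rw [← hSN]
  exact ⟨hsS, hsN⟩

end Cfsg.Agent.Helper19.Ord459
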