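import Mathlib
import Cfsg.Agent.Lib.Helper19.Ord459FINCore

set_option autoImplicit false
set_option linter.unusedSectionVars false
set_option linter.unusedVariables false

namespace Cfsg.Agent.Helper3.Ord459

variable {G : Type*} [Group G] [Finite G] [IsSimpleGroup G]

/-- FIN: the final 2-group argument (`key` and `data` enter as hypotheses). -/
theorem final (h : Nat.card G = 459648) (P : Sylow 19 G)
    (hN : Nat.card (Subgroup.normalizer ((P : Subgroup G) : Set G)) = 456)
    (hC : Nat.card (Subgroup.centralizer ((P : Subgroup G) : Set G)) = 76 ∨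
      Nat.card (Subgroup.centralizer ((P : Subgroup G) : Set G)) = 152 ∨
      Nat.card (Subgroup.centralizer ((P : Subgroup G) : Set G)) = 228)
    (hkey : ∀ H : Subgroup G, H ≠ ⊤ → (P : Subgroup G) ≤ H → ∀ T : Subgroup G, Nat.card T = 4 →
      T ≤ H → T ≤ Subgroup.centralizer ((P : Subgroup G) : Set G) →
      H ≤ Subgroup.normalizer ((P : Subgroup G) : Set G)) :
    False :=
  Cfsg.Agent.Helper19.Ord459.final_core h P hN hC hkey

end Cfsg.Agent.Helper3.Ord459
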