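import Mathlib
import Cfsg.Agent.Lib.Lead.SimpleTools
import Cfsg.Agent.Lib.Helper27.FixTools

set_option autoImplicit false
set_option linter.unusedSectionVars false
set_option linter.unusedVariables false
set_option linter.style.haveILetI false
set_option linter.unusedSimpArgs false

/-!
# Order 459648: the case of a subgroup of index 21 (piece K4 of S1022)
-/

namespace Cfsg.Agent.Helper19.Ord459

open MulAction

section Fix

variable {G : Type*} [Group G] {X : Type*} [MulAction G X] [Finite X]

/-- If `y` has `p`-power order and commutes with `t`, then the number of fixed points of `t` is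
congruent mod `p` to the number of common fixed points of `t` and `y`. -/
theorem card_fixedBy_modEq_inter {p k : ℕ} [Fact p.Prime] (t y : G) (hc : Commute t y)
    (hy : y ^ p ^ k = 1) :
    Nat.card (fixedBy X t) ≡ Nat.card ↥(fixedBy X t ∩ fixedBy X y) [MOD p] := by
  let S : SubMulAction (Subgroup.zpowers y) X :=
    { carrier := fixedBy X t
      smul_mem' := by
        rintro ⟨c, hc'⟩ x hx
        obtain ⟨n, rfl⟩ := Subgroup.mem_zpowers_iff.1 hc'
        show t • (y ^ n • x) = y ^ n • x
        rw [smul_smul, ((hc.zpow_right n).eq), ← smul_smul]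
        congr 1 }
  have h1 := (Cfsg.Agent.Helper27.FixT.isPGroup_zpowers y hy).card_modEq_card_fixedPoints S
  have h3 : Nat.card S = Nat.card (fixedBy X t) := rfl
  have h4 : Nat.card (fixedPoints (Subgroup.zpowers y) S) =
      Nat.card ↥(fixedBy X t ∩ fixedBy X y) := by
    apply Nat.card_congr
    exact
      { toFun := fun q => ⟨q.1.1, q.1.2, by
            have := q.2 ⟨y, Subgroup.mem_zpowers y⟩
            exact congrArg Subtype.val this⟩
        invFun := fun q => ⟨⟨q.1, q.2.1⟩, by
            rintro ⟨g, hg⟩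
            obtain ⟨n, rfl⟩ := Subgroup.mem_zpowers_iff.1 hg
            apply Subtype.ext
            exact mem_fixedBy_zpow q.2.2 n⟩
        left_inv := fun q => rfl
        right_inv := fun q => rfl }
  rw [h3, h4] at h1
  exact h1

end Fix

variable {G : Type*} [Group G] [Finite G]

/-- K4 core: the case of index 21. -/
theorem key_21_core [IsSimpleGroup G] (h : Nat.card G = 459648) (P : Sylow 19 G) (H : Subgroup G)
    (hPH : (P : Subgroup G) ≤ H) (hidx : H.index = 21) (T : Subgroup G) (hT : Nat.card T = 4)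
    (hTC : T ≤ Subgroup.centralizer ((P : Subgroup G) : Set G)) : False := by
  haveI : Fact (Nat.Prime 2) := ⟨by norm_num⟩
  haveI : Fact (Nat.Prime 19) := ⟨by norm_num⟩
  have hP19 : Nat.card (P : Subgroup G) = 19 := by
    have := (Cfsg.Agent.Lead.sylow_facts (G := G) (p := 19) (k := 1) (m := 24192)
      (by rw [h]; norm_num) (by norm_num)).1 P
    simpa using this
  have hX21 : Nat.card (G ⧸ H) = 21 := hidx
  -- the action is nontrivial
  have hHtop : H ≠ ⊤ := by
    intro he; rw [he, Subgroup.index_top] at hidx; omega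
  obtain ⟨g0, hg0⟩ : ∃ g : G, g ∉ H := by
    by_contra hcon
    push Not at hcon
    exact hHtop (eq_top_iff.mpr (fun g _ => hcon g))
  have hnt : ∃ (g : G) (x : G ⧸ H), g • x ≠ x := by
    refine ⟨g0, ((1 : G) : G ⧸ H), fun he => hg0 ?_⟩
    have h1 : g0 • (((1 : G) : G ⧸ H)) = ((g0 * 1 : G) : G ⧸ H) := rfl
    rw [h1, QuotientGroup.eq] at he
    have : (g0 * 1)⁻¹ * 1 = g0⁻¹ := by group
    rw [this] at he
    simpa using H.inv_mem he
  -- an element `x` of order 19
  obtain ⟨x, hxP, hx1⟩ : ∃ x ∈ (P : Subgroup G), x ≠ 1 := by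
    by_contra hcon
    push Not at hcon
    have : (P : Subgroup G) = ⊥ := (Subgroup.eq_bot_iff_forall _).mpr hcon
    rw [this, Subgroup.card_bot] at hP19; omega
  have hx19 : x ^ 19 ^ 1 = 1 := by
    have h1 : (⟨x, hxP⟩ : (P : Subgroup G)) ^ Nat.card (P : Subgroup G) = 1 := pow_card_eq_one'
    rw [hP19] at h1
    rw [pow_one]
    exact congrArg Subtype.val h1
  have hcomm : ∀ t ∈ T, Commute t x := by
    intro t ht
    exact ((Subgroup.mem_centralizer_iff.mp (hTC ht)) x hxP).symm
  have hfixle : ∀ g : G, Nat.card (fixedBy (G ⧸ H) g) ≤ 21 := by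
    intro g
    rw [← hX21]
    exact Nat.card_le_card_of_injective (fun q : fixedBy (G ⧸ H) g => (q : G ⧸ H))
      Subtype.val_injective
  have hall : ∀ g : G, Nat.card (fixedBy (G ⧸ H) g) = 21 → g = 1 := by
    intro g hg
    apply Cfsg.Agent.Helper27.FixT.eq_one_of_forall_smul_eq hnt
    have hset : fixedBy (G ⧸ H) g = Set.univ := by
      apply Set.eq_of_subset_of_ncard_le (Set.subset_univ _) _ (Set.toFinite _)
      rw [Set.ncard_univ, ← Nat.card_coe_set_eq, hX21, hg]
    intro q
    have : q ∈ fixedBy (G ⧸ H) g := by rw [hset]; exact Set.mem_univ _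
    exact this
  -- `x` has exactly two fixed points
  have hF2 : Nat.card (fixedBy (G ⧸ H) x) = 2 := by
    have h1 := Cfsg.Agent.Helper27.FixT.card_modEq_card_fixedBy (X := G ⧸ H) x hx19
    rw [hX21] at h1
    have h2 := hfixle x
    have h3 : Nat.card (fixedBy (G ⧸ H) x) ≠ 21 := fun he => hx1 (hall x he)
    unfold Nat.ModEq at h1
    omega
  obtain ⟨a, b, hab, huniv⟩ := Nat.card_eq_two_iff.mp hF2
  have hmemF : ∀ q : fixedBy (G ⧸ H) x, q = a ∨ q = b := by
    intro q
    have : q ∈ ({a, b} : Set _) := by rw [huniv]; exact Set.mem_univ _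
    simpa using this
  -- `T` acts on the fixed points of `x`
  have hTF : ∀ t ∈ T, ∀ q : G ⧸ H, q ∈ fixedBy (G ⧸ H) x → t • q ∈ fixedBy (G ⧸ H) x := by
    intro t ht q hq
    rw [mem_fixedBy] at hq ⊢
    rw [smul_smul, ← (hcomm t ht).eq, ← smul_smul, hq]
  -- pigeonhole
  let f : T → fixedBy (G ⧸ H) x := fun t => ⟨(t : G) • (a : G ⧸ H), hTF t t.2 a a.2⟩
  obtain ⟨t1, t2, ht12, hft⟩ : ∃ t1 t2 : T, t1 ≠ t2 ∧ f t1 = f t2 := by
    by_contra hcon
    push Not at hcon
    have hinj : Function.Injective f := by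
      intro t1 t2 he
      by_contra hne
      exact hcon t1 t2 hne he
    have := Nat.card_le_card_of_injective f hinj
    rw [hF2, hT] at this
    omega
  have hft' : (t1 : G) • (a : G ⧸ H) = (t2 : G) • (a : G ⧸ H) := congrArg Subtype.val hft
  obtain ⟨t, htdef⟩ : ∃ t : G, t = (t2 : G)⁻¹ * (t1 : G) := ⟨_, rfl⟩
  have htT : t ∈ T := by rw [htdef]; exact T.mul_mem (T.inv_mem t2.2) t1.2
  have ht1 : t ≠ 1 := by
    intro he
    apply ht12
    apply Subtype.ext
    rw [htdef] at he
    have : (t1 : G) = (t2 : G) * ((t2 : G)⁻¹ * (t1 : G)) := by group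
    rw [this, he, mul_one]
  have hta : t • (a : G ⧸ H) = a := by
    rw [htdef, mul_smul, hft', smul_smul, inv_mul_cancel, one_smul]
  have htb : t • (b : G ⧸ H) = b := by
    have hmem := hTF t htT b b.2
    rcases hmemF ⟨t • (b : G ⧸ H), hmem⟩ with h1 | h1
    · exfalso
      have h2 : t • (b : G ⧸ H) = a := congrArg Subtype.val h1
      have h3 : t • (b : G ⧸ H) = t • (a : G ⧸ H) := by rw [h2, hta]
      exact hab (Subtype.ext (smul_left_cancel t h3).symm)
    · exact congrArg Subtype.val h1
  have hFsub : fixedBy (G ⧸ H) x ⊆ fixedBy (G ⧸ H) t := by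
    intro q hq
    rcases hmemF ⟨q, hq⟩ with h1 | h1
    · have : q = a := congrArg Subtype.val h1
      rw [this]; exact hta
    · have : q = b := congrArg Subtype.val h1
      rw [this]; exact htb
  -- count the fixed points of `t`
  have ht4 : t ^ 2 ^ 2 = 1 := by
    have h1 : (⟨t, htT⟩ : T) ^ Nat.card T = 1 := pow_card_eq_one'
    rw [hT] at h1
    have : t ^ 4 = 1 := congrArg Subtype.val h1
    simpa using this
  have hm2 := Cfsg.Agent.Helper27.FixT.card_modEq_card_fixedBy (X := G ⧸ H) t ht4
  rw [hX21] at hm2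
  have hm19 := card_fixedBy_modEq_inter (X := G ⧸ H) t x (hcomm t htT) hx19
  rw [Set.inter_eq_right.mpr hFsub, hF2] at hm19
  have hle := hfixle t
  have h21 : Nat.card (fixedBy (G ⧸ H) t) = 21 := by
    unfold Nat.ModEq at hm2 hm19
    omega
  exact ht1 (hall t h21)

end Cfsg.Agent.Helper19.Ord459
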