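import Mathlib
import Cfsg.Agent.Lib.Helper19.Ord459K4Core

set_option autoImplicit false
set_option linter.unusedSectionVars false
set_option linter.unusedVariables false

namespace Cfsg.Agent.Helper3.Ord459

variable {G : Type*} [Group G] [Finite G] [IsSimpleGroup G]

/-- K4: the case of index 21. -/
theorem key_21 (h : Nat.card G = 459648) (P : Sylow 19 G) (H : Subgroup G)
    (hPH : (P : Subgroup G) ≤ H) (hidx : H.index = 21) (T : Subgroup G) (hT : Nat.card T = 4)
    (hTC : T ≤ Subgroup.centralizer ((P : Subgroup G) : Set G)) : False :=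
  Cfsg.Agent.Helper19.Ord459.key_21_core h P H hPH hidx T hT hTC

end Cfsg.Agent.Helper3.Ord459
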