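import Mathlib
import Cfsg.Agent.Lib.Helper1.Ord720F
import Cfsg.Agent.Lib.Helper19.Ord720A1Core

set_option linter.unusedSectionVars false
set_option linter.unusedVariables false

namespace Cfsg.Agent.Helper3.SmallOrd

variable {G : Type*} [Group G] [Finite G] [IsSimpleGroup G]

/-- A1 (exact skeleton signature). -/
theorem c720_A1 (h : Nat.card G = 720) (P R : Sylow 3 G) (hPR : P ≠ R)
    (hne : (P : Subgroup G) ⊓ (R : Subgroup G) ≠ ⊥) :
    Nat.card ((P : Subgroup G) ⊓ (R : Subgroup G) : Subgroup G) = 3 ∧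
    (P : Subgroup G) ≤ Subgroup.centralizer (((P : Subgroup G) ⊓ (R : Subgroup G) : Subgroup G) : Set G) ∧
    (R : Subgroup G) ≤ Subgroup.centralizer (((P : Subgroup G) ⊓ (R : Subgroup G) : Subgroup G) : Set G) ∧
    (Nat.card (Subgroup.centralizer (((P : Subgroup G) ⊓ (R : Subgroup G) : Subgroup G) : Set G)) = 36 ∨
      Nat.card (Subgroup.centralizer (((P : Subgroup G) ⊓ (R : Subgroup G) : Subgroup G) : Set G)) = 72) ∧
    (Nat.card (Subgroup.normalizer (((P : Subgroup G) ⊓ (R : Subgroup G) : Subgroup G) : Set G)) = 36 ∨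
      Nat.card (Subgroup.normalizer (((P : Subgroup G) ⊓ (R : Subgroup G) : Subgroup G) : Set G)) = 72) :=
  Cfsg.Agent.Helper19.Ord720.c720_A1_core (fun H hH => c720_card_le h H hH)
    (fun X hX => c720_not_five_dvd h X (Or.inr (Or.inl hX))) h P R hPR hne

end Cfsg.Agent.Helper3.SmallOrd
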