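import Mathlib
import Cfsg.Prelude.Def_LieTypeChar
import Cfsg.Agent.Lib.Helper28.PAQuot
import Cfsg.Agent.Lib.Helper28.PAGen
import Cfsg.Agent.Lib.Helper2.SzAut5
import Cfsg.Agent.Lib.Helper2.SzBridge

/-!
# S4613 family piece PA-SZ (helper19): the Suzuki groups.

Model `Cfsg.Sz F m` (helper2's library): every Sylow `2`-subgroup is conjugate to the unipotent subgroup
`Q`; `C(Q) ≤ Q`; so an automorphism of odd order fixing `Q` pointwise fixes `N(Q) = B` pointwise
(`fix_normalizer_self`), and is trivial by `SzData.eq_one_of_fix_borel`.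
-/

set_option autoImplicit false
set_option linter.unusedSectionVars false
set_option linter.unusedVariables false
set_option linter.style.haveILetI false

namespace Cfsg.Agent.Helper28.PA

open Cfsg Cfsg.Lie
open Cfsg.Agent.Helper2.Sz

/-- the matrix model of the Suzuki group -/
theorem sz_noPAut_model (F : Type*) [Field F] [Fintype F] (m : ℕ) (hm : 1 ≤ m)
    (hF : Fintype.card F = 2 ^ (2 * m + 1)) :
    haveI : Fact (Nat.Prime 2) := ⟨Nat.prime_two⟩
    NoPAut 2 (Cfsg.Sz F m) := by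
  haveI : Fact (Nat.Prime 2) := ⟨Nat.prime_two⟩
  obtain ⟨S⟩ := nonempty_szData (m := m) hF
  intro α hα U hfix
  obtain ⟨g, hg⟩ := S.exists_conj_QSz hm hF U
  -- conjugate `α` so that it fixes `Q` pointwise
  obtain ⟨c, hc⟩ : ∃ c : MulAut (Cfsg.Sz F m), c = MulAut.conj g := ⟨_, rfl⟩
  obtain ⟨β, hβ⟩ : ∃ β : MulAut (Cfsg.Sz F m), β = c⁻¹ * α * c := ⟨_, rfl⟩
  have hβo : orderOf β = orderOf α := by
    have e : β = MulAut.conj c⁻¹ α := by
      rw [hβ, MulAut.conj_apply, inv_inv]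
    rw [e, MulEquiv.orderOf_eq]
  have hβ2 : ¬ 2 ∣ orderOf β := by rw [hβo]; exact hα
  have hfixβ : ∀ x ∈ S.QSz, β x = x := by
    intro x hx
    have hcx : c x ∈ (U : Subgroup (Cfsg.Sz F m)) := by
      rw [hg, hc]
      exact Subgroup.smul_mem_pointwise_smul x (MulAut.conj g) S.QSz hx
    have h1 := hfix (c x) hcx
    rw [hβ, MulAut.mul_apply, MulAut.mul_apply, h1]
    exact MulEquiv.symm_apply_apply c x
  -- `C(Q) ≤ Q`
  have ht : S.TgSz 0 1 ∈ S.ZSz := S.mem_ZSz.2 ⟨1, rfl⟩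
  have ht1 : S.TgSz 0 1 ≠ 1 := fun h => one_ne_zero (S.TgSz_eq_one_iff.1 h).2
  have hC : Subgroup.centralizer (S.QSz : Set (Cfsg.Sz F m)) ≤ S.QSz := by
    intro x hx
    have hsub : ({S.TgSz 0 1} : Set (Cfsg.Sz F m)) ⊆ (S.QSz : Set (Cfsg.Sz F m)) := by
      intro y hy
      rw [Set.mem_singleton_iff] at hy
      rw [hy]
      exact S.TgSz_mem 0 1
    have h1 := Subgroup.centralizer_le hsub hx
    rwa [S.centralizer_eq_QSz hm hF ht ht1] at h1
  have hN := fix_normalizer_self 2 β hβ2 S.QSz (S.isPGroup_QSz hF) hfixβ hC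
  rw [S.normalizer_QSz hm hF] at hN
  have hβ1 : β = 1 := by
    apply S.eq_one_of_fix_borel hm hF β
    · intro u
      apply hN
      rw [S.mem_stabilizer_pInf_iff hm hF]
      exact ⟨0, 0, u, by rw [S.TgSz_zero, one_mul]⟩
    · intro a b
      exact hfixβ _ (S.TgSz_mem a b)
  -- back to `α`
  have hα' : α = c * β * c⁻¹ := by
    rw [hβ]; group
  rw [hα', hβ1]
  group

section char23
variable {F : Type*} [Field F] [Fintype F]

/-- FAMILY PA-SZ (`Lie.Sz` is the `Sz` of the skeleton: there `Cfsg.Sz` of `Def_LieExceptional` is not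
imported, here it is, hence the explicit namespace) -/
theorem noPAut_Sz (m : ℕ) (hm : 1 ≤ m) (hF : Fintype.card F = 2 ^ (2 * m + 1)) :
    haveI : Fact (Nat.Prime 2) := ⟨Nat.prime_two⟩
    NoPAut 2 (Cfsg.Lie.Sz F (2 ^ (m + 1))) := by
  haveI : Fact (Nat.Prime 2) := ⟨Nat.prime_two⟩
  obtain ⟨e⟩ := nonempty_bridge (F := F) hm hF
  exact NoPAut.of_equiv 2 e (sz_noPAut_model F m hm hF)

end char23

end Cfsg.Agent.Helper28.PA
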