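import Mathlib
import Cfsg.Agent.Lib.Helper19.Conj

set_option autoImplicit false

namespace Cfsg.Agent.Helper19

variable {G : Type*} [Group G]

theorem map_subtype_map_conj' (A : Subgroup G) (L : Subgroup ↥A) (a : ↥A) :
    (L.map (MulAut.conj a).toMonoidHom).map A.subtype =
      (L.map A.subtype).map (MulAut.conj (a : G)).toMonoidHom := by
  rw [Subgroup.map_map, Subgroup.map_map]
  congr 1

/-- A `p`-subgroup meets a subgroup of order prime to `p` trivially. -/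
theorem inf_eq_bot_of_isPGroup_of_coprime [Finite G] {p : ℕ} [Fact p.Prime] (Q N : Subgroup G)
    (hQ : IsPGroup p Q) (hN : (Nat.card N).Coprime p) : Q ⊓ N = ⊥ := by
  obtain ⟨n, hn⟩ := hQ.exists_card_eq
  apply disjoint_iff.mp
  apply Subgroup.disjoint_of_coprime_natCard
  rw [hn]
  exact (Nat.Coprime.pow_left n hN.symm)

/-- If `P ≤ Q ≤ P ⊔ N` with `Q` a `p`-group and `N` a normal `p'`-subgroup then `Q = P`. -/
theorem eq_of_le_sup_of_coprime [Finite G] {p : ℕ} [Fact p.Prime] (P Q N : Subgroup G) [N.Normal]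
    (hQ : IsPGroup p Q) (hN : (Nat.card N).Coprime p) (hPQ : P ≤ Q) (hQPN : Q ≤ P ⊔ N) : Q = P := by
  apply le_antisymm _ hPQ
  intro q hq
  have := hQPN hq
  rw [Subgroup.mem_sup_of_normal_right] at this
  obtain ⟨y, hy, n, hn, rfl⟩ := this
  have hnQ : n ∈ Q := by
    have := Q.mul_mem (Q.inv_mem (hPQ hy)) hq
    simpa using this
  have hn1 : n ∈ Q ⊓ N := ⟨hnQ, hn⟩
  rw [inf_eq_bot_of_isPGroup_of_coprime Q N hQ hN, Subgroup.mem_bot] at hn1
  rw [hn1, mul_one]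
  exact hy

/-- A `p`-subgroup `P` is a Sylow `p`-subgroup of any `K` with `P ≤ K ≤ P ⊔ N`,
`N` a normal `p'`-subgroup. -/
theorem exists_sylow_eq_subgroupOf [Finite G] {p : ℕ} [Fact p.Prime] (P N K : Subgroup G) [N.Normal]
    (hP : IsPGroup p P) (hN : (Nat.card N).Coprime p) (hPK : P ≤ K) (hK : K ≤ P ⊔ N) :
    ∃ S : Sylow p K, (S : Subgroup K) = P.subgroupOf K := by
  refine ⟨⟨P.subgroupOf K, hP.comap_subtype, ?_⟩, rfl⟩
  intro Q hQ hle
  have h1 : IsPGroup p (Q.map K.subtype) := hQ.map _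
  have h2 : P ≤ Q.map K.subtype := by
    intro y hy
    exact ⟨⟨y, hPK hy⟩, hle (by rw [Subgroup.mem_subgroupOf]; exact hy), rfl⟩
  have h3 : Q.map K.subtype ≤ P ⊔ N := le_trans (Subgroup.map_subtype_le Q) hK
  have h4 := eq_of_le_sup_of_coprime P (Q.map K.subtype) N h1 hN h2 h3
  apply le_antisymm _ hle
  intro q hq
  rw [Subgroup.mem_subgroupOf, ← h4]
  exact ⟨q, hq, rfl⟩

/-- Conjugacy of `p`-subgroups with the same product with a normal `p'`-subgroup. -/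
theorem exists_conj_of_sup_eq [Finite G] {p : ℕ} [Fact p.Prime] (P₁ P₂ N : Subgroup G) [N.Normal]
    (h₁ : IsPGroup p P₁) (h₂ : IsPGroup p P₂) (hN : (Nat.card N).Coprime p)
    (h12 : P₁ ≤ P₂ ⊔ N) (h21 : P₂ ≤ P₁ ⊔ N) :
    ∃ n ∈ N, P₁.map (MulAut.conj n).toMonoidHom = P₂ := by
  set K := P₁ ⊔ N with hK
  have hP₁K : P₁ ≤ K := le_sup_left
  have hP₂K : P₂ ≤ K := h21
  have hK₂ : K ≤ P₂ ⊔ N := sup_le h12 le_sup_right
  obtain ⟨S₁, hS₁⟩ := exists_sylow_eq_subgroupOf P₁ N K h₁ hN hP₁K le_rfl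
  obtain ⟨S₂, hS₂⟩ := exists_sylow_eq_subgroupOf P₂ N K h₂ hN hP₂K hK₂
  obtain ⟨k, hk⟩ := MulAction.exists_smul_eq K S₁ S₂
  have hk' : (S₁ : Subgroup K).map (MulAut.conj k).toMonoidHom = (S₂ : Subgroup K) := by
    rw [← hk]; rfl
  have h5 := congrArg (Subgroup.map K.subtype) hk'
  rw [map_subtype_map_conj', hS₁, hS₂, Subgroup.map_subgroupOf_eq_of_le hP₁K,
    Subgroup.map_subgroupOf_eq_of_le hP₂K] at h5
  -- decompose k = n * y
  have hkK : (k : G) ∈ P₁ ⊔ N := k.2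
  rw [sup_comm, Subgroup.mem_sup_of_normal_left] at hkK
  obtain ⟨n, hn, y, hy, hny⟩ := hkK
  refine ⟨n, hn, ?_⟩
  rw [← h5, ← hny, map_conj_mul, map_conj_eq_self_of_mem P₁ y hy]

end Cfsg.Agent.Helper19
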