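import Mathlib
import Cfsg.Agent.Lib.Helper19.ClassSize
import Cfsg.Agent.Lib.Helper21.ClassSize
import Cfsg.Agent.Lib.Helper20.ConjUnion
import Cfsg.Agent.Lib.Helper1.Coprime

/-!
# Class sizes of `p`-singular elements, part A (helper19's shared library)

If `p ∤ |Z(G)|`, it is impossible that some `p`-singular element has class size divisible by `p`
while all such class sizes are powers of `p`.
-/

set_option autoImplicit false
set_option linter.unusedSectionVars false
set_option linter.unusedVariables false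
set_option linter.style.haveILetI false

namespace Cfsg.Agent.Helper19.PSing

open Cfsg.Agent.Helper19.ClassSize

variable {G : Type*} [Group G]

/-- class size -/
noncomputable abbrev cs (x : G) : ℕ := (Cz x).index

theorem cs_dvd_of_le {x y : G} (h : Cz x ≤ Cz y) : cs y ∣ cs x := Subgroup.index_dvd_of_le h

theorem cs_pow_dvd (x : G) (k : ℕ) : cs (x ^ k) ∣ cs x := cs_dvd_of_le (Cz_pow_le x k)

theorem cs_conj (g a : G) : cs (a * g * a⁻¹) = cs g :=
  Cfsg.Agent.Helper21.ClassSize.idx_conj g a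

theorem cs_eq_one_iff {g : G} : cs g = 1 ↔ g ∈ Subgroup.center G :=
  Cfsg.Agent.Helper21.ClassSize.idx_eq_one_iff

theorem orderOf_conj' (g a : G) : orderOf (a * g * a⁻¹) = orderOf g := by
  have := orderOf_injective (MulAut.conj a).toMonoidHom (MulAut.conj a).injective g
  simpa [MulAut.conj_apply] using this

theorem not_mem_center_of_dvd [Finite G] {p : ℕ}
    (hZ : ¬ p ∣ Nat.card (Subgroup.center G)) {x : G} (hx : p ∣ orderOf x) :
    x ∉ Subgroup.center G := by
  intro hc
  apply hZ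
  have h1 : orderOf (⟨x, hc⟩ : Subgroup.center G) ∣ Nat.card (Subgroup.center G) :=
    orderOf_dvd_natCard _
  rw [Subgroup.orderOf_mk] at h1
  exact dvd_trans hx h1

theorem cs_ne_one_of_dvd [Finite G] {p : ℕ}
    (hZ : ¬ p ∣ Nat.card (Subgroup.center G)) {x : G} (hx : p ∣ orderOf x) : cs x ≠ 1 := by
  intro h
  exact not_mem_center_of_dvd hZ hx (cs_eq_one_iff.mp h)

theorem mem_smul_sylow_iff {p : ℕ} (P : Sylow p G) (h g : G) :
    g ∈ ((h • P : Sylow p G) : Subgroup G) ↔ h⁻¹ * g * h ∈ (P : Subgroup G) := by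
  rw [Sylow.coe_subgroup_smul, Subgroup.mem_pointwise_smul_iff_inv_smul_mem]
  have : (MulAut.conj h)⁻¹ • g = h⁻¹ * g * h := by
    rw [← map_inv]
    simp [MulAut.smul_def, MulAut.conj_apply]
  rw [this]

/-- a `p`-element whose class size is a power of `p` lies in every Sylow `p`-subgroup -/
theorem mem_sylow_of_cs_pow [Finite G] {p : ℕ} [hp : Fact p.Prime] {g : G} {i j : ℕ}
    (hg : orderOf g = p ^ i) (hcs : cs g = p ^ j) (P : Sylow p G) : g ∈ (P : Subgroup G) := by
  have hgp : IsPGroup p (Subgroup.zpowers g) := by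
    apply IsPGroup.of_card (n := i)
    rw [Nat.card_zpowers, hg]
  obtain ⟨P₁, hP₁⟩ := hgp.exists_le_sylow
  have hg1 : g ∈ (P₁ : Subgroup G) := hP₁ (Subgroup.mem_zpowers g)
  obtain ⟨h, rfl⟩ := MulAction.exists_smul_eq G P₁ P
  have hcop : Nat.Coprime (P₁ : Subgroup G).index (Cz g).index := by
    have h1 : (Cz g).index = p ^ j := hcs
    rw [h1]
    apply Nat.Coprime.pow_right
    apply Nat.Coprime.symm
    rw [Nat.Prime.coprime_iff_not_dvd hp.out]
    exact P₁.not_dvd_index
  obtain ⟨u, hu, c, hc, hcu⟩ :=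
    Cfsg.Agent.Helper21.ClassSize.exists_mul_of_coprime_index (P₁ : Subgroup G) (Cz g) hcop h⁻¹
  rw [mem_smul_sylow_iff]
  have hcg : g * c = c * g := mem_Cz.mp hc
  have e : h⁻¹ * g * h = u * g * u⁻¹ := by
    have hh : h = (u * c)⁻¹ := by rw [← hcu, inv_inv]
    rw [hcu]
    rw [hh]
    calc u * c * g * (u * c)⁻¹ = u * (c * g) * c⁻¹ * u⁻¹ := by group
      _ = u * (g * c) * c⁻¹ * u⁻¹ := by rw [hcg]
      _ = u * g * u⁻¹ := by group
  rw [e]
  exact (P₁ : Subgroup G).mul_mem ((P₁ : Subgroup G).mul_mem hu hg1) ((P₁ : Subgroup G).inv_mem hu)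

theorem orderOf_of_mem_sylow {p : ℕ} [hp : Fact p.Prime] (P : Sylow p G) {y : G}
    (hy : y ∈ (P : Subgroup G)) : ∃ i, orderOf y = p ^ i := by
  obtain ⟨i, hi⟩ := (IsPGroup.iff_orderOf.mp P.2) ⟨y, hy⟩
  rw [Subgroup.orderOf_mk] at hi
  exact ⟨i, hi⟩

/-- a finite group covered by its centre and the conjugates of a subgroup -/
theorem center_or_top {P : Type*} [Group P] [Finite P] (D : Subgroup P)
    (h : ∀ x : P, x ∉ Subgroup.center P → ∃ n : P, n * x * n⁻¹ ∈ D) :
    Subgroup.center P = ⊤ ∨ D = ⊤ := by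
  have hcov : ∀ x : P, ∃ g : P, g⁻¹ * x * g ∈ D ⊔ Subgroup.center P := by
    intro x
    by_cases hx : x ∈ Subgroup.center P
    · refine ⟨1, ?_⟩
      simp only [inv_one, one_mul, mul_one]
      exact (le_sup_right : Subgroup.center P ≤ D ⊔ Subgroup.center P) hx
    · obtain ⟨n, hn⟩ := h x hx
      refine ⟨n⁻¹, ?_⟩
      rw [inv_inv]
      exact (le_sup_left : D ≤ D ⊔ Subgroup.center P) hn
  have htop := Cfsg.Agent.Helper20.eq_top_of_forall_conj_mem _ hcov
  have hdec : ∀ x : P, ∃ d ∈ D, ∃ z ∈ Subgroup.center P, x = d * z := by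
    intro x
    have hx : x ∈ ((D ⊔ Subgroup.center P : Subgroup P) : Set P) := by
      rw [htop]; trivial
    rw [Subgroup.mul_normal] at hx
    obtain ⟨d, hd, z, hz, hdz⟩ := Set.mem_mul.mp hx
    exact ⟨d, hd, z, hz, hdz.symm⟩
  have hmem : ∀ x : P, x ∈ Subgroup.center P ∨ x ∈ D := by
    intro x
    by_cases hx : x ∈ Subgroup.center P
    · exact Or.inl hx
    · right
      obtain ⟨n, hn⟩ := h x hx
      obtain ⟨d, hd, z, hz, hndz⟩ := hdec n
      have hzc : ∀ y : P, z * y = y * z := fun y => ((Subgroup.mem_center_iff.mp hz) y).symm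
      have e : n * x * n⁻¹ = d * x * d⁻¹ := by
        rw [hndz]
        calc d * z * x * (d * z)⁻¹ = d * (z * x) * z⁻¹ * d⁻¹ := by group
          _ = d * (x * z) * z⁻¹ * d⁻¹ := by rw [hzc x]
          _ = d * x * d⁻¹ := by group
      rw [e] at hn
      have e2 : x = d⁻¹ * (d * x * d⁻¹) * d := by group
      rw [e2]
      exact D.mul_mem (D.mul_mem (D.inv_mem hd) hn) hd
  by_contra hcon
  rw [not_or] at hcon
  obtain ⟨h1, h2⟩ := hcon
  have hx : ∃ x : P, x ∉ Subgroup.center P := by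
    by_contra hne
    push Not at hne
    exact h1 (eq_top_iff.mpr fun x _ => hne x)
  have hy : ∃ y : P, y ∉ D := by
    by_contra hne
    push Not at hne
    exact h2 (eq_top_iff.mpr fun x _ => hne x)
  obtain ⟨x, hx⟩ := hx
  obtain ⟨y, hy⟩ := hy
  have hxD : x ∈ D := (hmem x).resolve_left hx
  have hyZ : y ∈ Subgroup.center P := (hmem y).resolve_right hy
  rcases hmem (x * y) with h3 | h3
  · apply hx
    have e : x = (x * y) * y⁻¹ := by group
    rw [e]
    exact (Subgroup.center P).mul_mem h3 ((Subgroup.center P).inv_mem hyZ)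
  · apply hy
    have e : y = x⁻¹ * (x * y) := by group
    rw [e]
    exact D.mul_mem (D.inv_mem hxD) h3

end Cfsg.Agent.Helper19.PSing
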