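import Mathlib
import Cfsg.Agent.Lib.Helper19.PSingA

/-!
# Class sizes of `p`-singular elements, part B (helper19's shared library)

`core_false`: if `p ∤ |Z(G)|`, it is impossible that some `p`-singular element has class size
divisible by `p` while all such class sizes are powers of `p`.
-/

set_option autoImplicit false
set_option linter.unusedSectionVars false
set_option linter.unusedVariables false
set_option linter.style.haveILetI false

namespace Cfsg.Agent.Helper19.PSing

open Cfsg.Agent.Helper19.ClassSize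
open scoped Pointwise

variable {G : Type*} [Group G]

/-- under (H1), (H2) the Sylow `p`-subgroup is normal and non-abelian -/
theorem exists_normal_sylow [Finite G] {p : ℕ} [hp : Fact p.Prime]
    (hZ : ¬ p ∣ Nat.card (Subgroup.center G))
    (H1 : ∀ x : G, p ∣ orderOf x → p ∣ cs x → ∃ k, cs x = p ^ k)
    (H2 : ∃ x : G, p ∣ orderOf x ∧ p ∣ cs x) :
    ∃ P : Sylow p G, (P : Subgroup G).Normal ∧
      ∃ v ∈ (P : Subgroup G), ∃ u ∈ (P : Subgroup G), u * v ≠ v * u := by
  obtain ⟨x, hxo, hxc⟩ := H2
  obtain ⟨k, hk⟩ := H1 x hxo hxc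
  obtain ⟨a, b, hab, ⟨i, hi⟩, hbc, _⟩ := exists_pow_decomp x p hp.out
  set v := x ^ a with hv
  have hi0 : i ≠ 0 := by
    intro h0
    rw [h0, pow_zero, orderOf_eq_one_iff] at hi
    rw [hi, one_mul] at hab
    rw [← hab] at hbc
    exact hp.out.ne_one (Nat.Coprime.eq_one_of_dvd hbc.symm hxo)
  have hvo : p ∣ orderOf v := by rw [hi]; exact dvd_pow_self p hi0
  have hv1 : cs v ≠ 1 := cs_ne_one_of_dvd hZ hvo
  have hvd : cs v ∣ p ^ k := by rw [← hk]; exact cs_pow_dvd x a
  obtain ⟨j, _, hj⟩ := (Nat.dvd_prime_pow hp.out).mp hvd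
  have hj0 : j ≠ 0 := by
    intro h0; rw [h0, pow_zero] at hj; exact hv1 hj
  have hvc : p ∣ cs v := by rw [hj]; exact dvd_pow_self p hj0
  -- the set of "bad" `p`-elements
  set 𝒩 : Set G := {g | (∃ i, orderOf g = p ^ i) ∧ p ∣ cs g} with h𝒩
  have hv𝒩 : v ∈ 𝒩 := ⟨⟨i, hi⟩, hvc⟩
  have hall : ∀ g ∈ 𝒩, ∀ P : Sylow p G, g ∈ (P : Subgroup G) := by
    rintro g ⟨⟨i', hi'⟩, hgc⟩ P
    have hi'0 : i' ≠ 0 := by
      intro h0
      rw [h0, pow_zero, orderOf_eq_one_iff] at hi'
      have : cs g = 1 := by rw [hi']; exact cs_eq_one_iff.mpr (Subgroup.one_mem _)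
      rw [this] at hgc
      exact hp.out.ne_one (Nat.dvd_one.mp hgc)
    have hgo : p ∣ orderOf g := by rw [hi']; exact dvd_pow_self p hi'0
    obtain ⟨j', hj'⟩ := H1 g hgo hgc
    exact mem_sylow_of_cs_pow hi' hj' P
  have hconj : ∀ g ∈ 𝒩, ∀ c : G, c * g * c⁻¹ ∈ 𝒩 := by
    rintro g ⟨⟨i', hi'⟩, hgc⟩ c
    refine ⟨⟨i', ?_⟩, ?_⟩
    · rw [orderOf_conj']; exact hi'
    · rw [cs_conj]; exact hgc
  obtain ⟨P⟩ := (inferInstance : Nonempty (Sylow p G))
  have hPidx : ¬ p ∣ (P : Subgroup G).index := P.not_dvd_index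
  -- `v` is not central in `P`
  have hvP : v ∈ (P : Subgroup G) := hall v hv𝒩 P
  have hnc : ¬ ∀ u ∈ (P : Subgroup G), v * u = u * v := by
    intro hcom
    have hle : (P : Subgroup G) ≤ Cz v := fun u hu => mem_Cz.mpr (hcom u hu)
    have : cs v ∣ (P : Subgroup G).index := Subgroup.index_dvd_of_le hle
    exact hPidx (dvd_trans hvc this)
  -- `P` is generated by `𝒩`
  have hcl : Subgroup.closure 𝒩 ≤ (P : Subgroup G) := by
    rw [Subgroup.closure_le]
    intro g hg
    exact hall g hg P
  have hPle : (P : Subgroup G) ≤ Subgroup.closure 𝒩 := by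
    by_contra hnot
    obtain ⟨y₀, hy₀P, hy₀⟩ := SetLike.not_le_iff_exists.mp hnot
    have key : ∀ y ∈ (P : Subgroup G), y ∉ Subgroup.closure 𝒩 → ∀ n ∈ 𝒩, n * y = y * n := by
      intro y hyP hy n hn
      have hy𝒩 : y ∉ 𝒩 := fun h => hy (Subgroup.subset_closure h)
      have hyo : ∃ i, orderOf y = p ^ i := orderOf_of_mem_sylow P hyP
      have hyc : ¬ p ∣ cs y := fun h => hy𝒩 ⟨hyo, h⟩
      obtain ⟨g₀, hg₀⟩ := Cfsg.Agent.Helper21.ClassSize.exists_conj_mem_of_not_dvd_index
        (P : Subgroup G) P.2 (Cz y) hyc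
      have h1 : g₀ * n * g₀⁻¹ ∈ (P : Subgroup G) := hall _ (hconj n hn g₀) P
      have h2 := hg₀ _ h1
      have e : g₀⁻¹ * (g₀ * n * g₀⁻¹) * g₀ = n := by group
      rw [e] at h2
      exact (mem_Cz.mp h2).symm
    apply hnc
    intro u hu
    by_cases huc : u ∈ Subgroup.closure 𝒩
    · have h1 : u * y₀ ∉ Subgroup.closure 𝒩 := by
        intro h
        apply hy₀
        have e : y₀ = u⁻¹ * (u * y₀) := by group
        rw [e]
        exact (Subgroup.closure 𝒩).mul_mem ((Subgroup.closure 𝒩).inv_mem huc) h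
      have h2 := key (u * y₀) ((P : Subgroup G).mul_mem hu hy₀P) h1 v hv𝒩
      have h3 := key y₀ hy₀P hy₀ v hv𝒩
      have h4 : v * u * y₀ = u * v * y₀ := by
        calc v * u * y₀ = v * (u * y₀) := by group
          _ = u * y₀ * v := h2
          _ = u * (y₀ * v) := by group
          _ = u * (v * y₀) := by rw [h3]
          _ = u * v * y₀ := by group
      exact mul_right_cancel h4
    · exact key u hu huc v hv𝒩
  have hPeq : (P : Subgroup G) = Subgroup.closure 𝒩 := le_antisymm hPle hcl
  refine ⟨P, ?_, v, hvP, ?_⟩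
  · constructor
    intro n hn g
    have h1 : n ∈ (((g⁻¹ : G) • P : Sylow p G) : Subgroup G) := by
      have h2 : Subgroup.closure 𝒩 ≤ (((g⁻¹ : G) • P : Sylow p G) : Subgroup G) := by
        rw [Subgroup.closure_le]
        intro g' hg'
        exact hall g' hg' _
      apply h2
      rw [← hPeq]; exact hn
    rw [mem_smul_sylow_iff, inv_inv] at h1
    exact h1
  · by_contra hcon
    push Not at hcon
    exact hnc fun u hu => (hcon u hu).symm

/-- the contradiction -/
theorem core_false [Finite G] {p : ℕ} [hp : Fact p.Prime]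
    (hZ : ¬ p ∣ Nat.card (Subgroup.center G))
    (H1 : ∀ x : G, p ∣ orderOf x → p ∣ cs x → ∃ k, cs x = p ^ k)
    (H2 : ∃ x : G, p ∣ orderOf x ∧ p ∣ cs x) : False := by
  obtain ⟨P, hPn, v, hvP, u, huP, huv⟩ := exists_normal_sylow hZ H1 H2
  haveI := hPn
  have hPidx : ¬ p ∣ (P : Subgroup G).index := P.not_dvd_index
  have hcop : Nat.Coprime (Nat.card (P : Subgroup G)) (P : Subgroup G).index :=
    P.card_coprime_index
  obtain ⟨K, hK⟩ := Subgroup.exists_right_complement'_of_coprime hcop
  have hKcard : Nat.card K = (P : Subgroup G).index := by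
    have h1 := hK.card_mul_card
    have h2 := (P : Subgroup G).card_mul_index
    have hpos : 0 < Nat.card (P : Subgroup G) := Nat.card_pos
    exact Nat.eq_of_mul_eq_mul_left hpos (by rw [h1, h2])
  obtain ⟨m, hm⟩ := P.2.exists_card_eq
  have hcopKP : (Nat.card K).Coprime (Nat.card (P : Subgroup G)) := by
    rw [hKcard]; exact hcop.symm
  set Dp : Subgroup (P : Subgroup G) :=
    (Subgroup.centralizer (K : Set G)).subgroupOf (P : Subgroup G) with hDp
  have hcover : ∀ x : (P : Subgroup G), x ∉ Subgroup.center (P : Subgroup G) →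
      ∃ n : (P : Subgroup G), n * x * n⁻¹ ∈ Dp := by
    intro x hx
    rw [Subgroup.mem_center_iff] at hx
    push Not at hx
    obtain ⟨u', hu'⟩ := hx
    set g : G := (x : G) with hg
    have hgP : g ∈ (P : Subgroup G) := x.2
    obtain ⟨i, hi⟩ := orderOf_of_mem_sylow P hgP
    have hg1 : g ≠ 1 := by
      intro h1
      apply hu'
      have : x = 1 := Subtype.ext h1
      rw [this, mul_one, one_mul]
    have hi0 : i ≠ 0 := by
      intro h0
      rw [h0, pow_zero, orderOf_eq_one_iff] at hi
      exact hg1 hi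
    have hgo : p ∣ orderOf g := by rw [hi]; exact dvd_pow_self p hi0
    have hgc : p ∣ cs g := by
      by_contra hnot
      obtain ⟨g₀, hg₀⟩ := Cfsg.Agent.Helper21.ClassSize.exists_conj_mem_of_not_dvd_index
        (P : Subgroup G) P.2 (Cz g) hnot
      apply hu'
      have h1 : g₀ * (u' : G) * g₀⁻¹ ∈ (P : Subgroup G) := hPn.conj_mem _ u'.2 g₀
      have h2 := hg₀ _ h1
      have e : g₀⁻¹ * (g₀ * (u' : G) * g₀⁻¹) * g₀ = (u' : G) := by group
      rw [e] at h2
      have h3 : g * (u' : G) = (u' : G) * g := mem_Cz.mp h2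
      apply Subtype.ext
      show (u' : G) * (x : G) = (x : G) * (u' : G)
      exact h3.symm
    obtain ⟨j, hj⟩ := H1 g hgo hgc
    -- a Hall `p'`-subgroup of the centralizer
    set C : Subgroup G := Cz g with hC
    set N : Subgroup C := (P : Subgroup G).subgroupOf C with hN
    haveI hNn : N.Normal := hPn.subgroupOf C
    have hNp : IsPGroup p N := P.2.comap_subtype
    obtain ⟨m', hm'⟩ := hNp.exists_card_eq
    have hNidx : N.index = (P : Subgroup G).relIndex C := rfl
    have hNdvd : N.index ∣ (P : Subgroup G).index := by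
      rw [hNidx]; exact Subgroup.relIndex_dvd_index_of_normal _ _
    have hNnd : ¬ p ∣ N.index := fun h => hPidx (dvd_trans h hNdvd)
    have hcopN : Nat.Coprime (Nat.card N) N.index := by
      rw [hm']
      apply Nat.Coprime.pow_left
      rw [Nat.Prime.coprime_iff_not_dvd hp.out]
      exact hNnd
    obtain ⟨K₁, hK₁⟩ := Subgroup.exists_right_complement'_of_coprime hcopN
    have hK₁card : Nat.card K₁ = N.index := by
      have h1 := hK₁.card_mul_card
      have h2 := N.card_mul_index
      have hpos : 0 < Nat.card N := Nat.card_pos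
      exact Nat.eq_of_mul_eq_mul_left hpos (by rw [h1, h2])
    set B : Subgroup G := K₁.map C.subtype with hB
    have hBC : B ≤ C := Subgroup.map_subtype_le K₁
    have hBcard : Nat.card B = Nat.card K₁ :=
      Subgroup.card_map_of_injective (Subgroup.subtype_injective C)
    -- `|C : C ∩ P| = |G : P|`
    have hrel : (P : Subgroup G).relIndex C = (P : Subgroup G).index := by
      have e1 : ((P : Subgroup G) ⊓ C).relIndex C * C.index = ((P : Subgroup G) ⊓ C).index :=
        Subgroup.relIndex_mul_index inf_le_right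
      have e2 : ((P : Subgroup G) ⊓ C).relIndex (P : Subgroup G) * (P : Subgroup G).index
          = ((P : Subgroup G) ⊓ C).index := Subgroup.relIndex_mul_index inf_le_left
      rw [Subgroup.inf_relIndex_right] at e1
      rw [Subgroup.inf_relIndex_left] at e2
      have e3 : C.relIndex (P : Subgroup G) ∣ Nat.card (P : Subgroup G) :=
        Subgroup.index_dvd_card _
      rw [hm] at e3
      obtain ⟨l, _, hl⟩ := (Nat.dvd_prime_pow hp.out).mp e3
      have hCi : C.index = p ^ j := hj
      have e4 : (P : Subgroup G).relIndex C * p ^ j = p ^ l * (P : Subgroup G).index := by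
        rw [← hCi, e1, ← hl, e2]
      have e5 : (P : Subgroup G).index ∣ (P : Subgroup G).relIndex C * p ^ j :=
        ⟨p ^ l, by rw [e4, mul_comm]⟩
      have e6 : Nat.Coprime (P : Subgroup G).index (p ^ j) := by
        apply Nat.Coprime.pow_right
        apply Nat.Coprime.symm
        rw [Nat.Prime.coprime_iff_not_dvd hp.out]
        exact hPidx
      have e7 : (P : Subgroup G).index ∣ (P : Subgroup G).relIndex C :=
        Nat.Coprime.dvd_of_dvd_mul_right e6 e5
      exact Nat.dvd_antisymm (Subgroup.relIndex_dvd_index_of_normal _ _) e7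
    have hBK : Nat.card B = Nat.card K := by
      rw [hBcard, hK₁card, hNidx, hrel, hKcard]
    have hsolv : Group.IsSolvable K ∨ Group.IsSolvable (P : Subgroup G) := by
      right
      haveI : Group.IsNilpotent (P : Subgroup G) := P.2.isNilpotent
      infer_instance
    have hKN : K ≤ Subgroup.normalizer ((P : Subgroup G) : Set G) := by
      rw [Subgroup.normalizer_eq_top]; exact le_top
    have hBle : B ≤ (P : Subgroup G) ⊔ K := by
      rw [hK.sup_eq_top]; exact le_top
    obtain ⟨n, hn, hnB⟩ := Cfsg.Agent.Helper1.sz_internal (P : Subgroup G) K B hKN hcopKP hsolv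
      hBle hBK
    refine ⟨⟨n, hn⟩, ?_⟩
    rw [hDp, Subgroup.mem_subgroupOf, Subgroup.mem_centralizer_iff]
    intro k hk
    have hk' : k ∈ MulAut.conj n • B := by rw [hnB]; exact hk
    rw [Subgroup.mem_smul_pointwise_iff_exists] at hk'
    obtain ⟨b, hb, hbk⟩ := hk'
    have hbk' : n * b * n⁻¹ = k := by
      rw [← hbk]; simp [MulAut.smul_def, MulAut.conj_apply]
    have hbg : g * b = b * g := mem_Cz.mp (hBC hb)
    show k * ((n : G) * (x : G) * (n : G)⁻¹) = (n : G) * (x : G) * (n : G)⁻¹ * k
    rw [← hbk']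
    show n * b * n⁻¹ * (n * g * n⁻¹) = n * g * n⁻¹ * (n * b * n⁻¹)
    calc n * b * n⁻¹ * (n * g * n⁻¹) = n * (b * g) * n⁻¹ := by group
      _ = n * (g * b) * n⁻¹ := by rw [hbg]
      _ = n * g * n⁻¹ * (n * b * n⁻¹) := by group
  rcases center_or_top Dp hcover with hc | hc
  · -- `P` abelian: contradiction
    have h1 : (⟨v, hvP⟩ : (P : Subgroup G)) ∈ Subgroup.center (P : Subgroup G) := by
      rw [hc]; trivial
    rw [Subgroup.mem_center_iff] at h1
    have h2 := h1 ⟨u, huP⟩
    apply huv
    have := congrArg (fun y : (P : Subgroup G) => (y : G)) h2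
    simpa using this
  · -- `K` centralizes `P`
    have hKc : ∀ y ∈ (P : Subgroup G), ∀ k ∈ K, k * y = y * k := by
      intro y hy k hk
      have h1 : (⟨y, hy⟩ : (P : Subgroup G)) ∈ Dp := by rw [hc]; trivial
      rw [hDp, Subgroup.mem_subgroupOf, Subgroup.mem_centralizer_iff] at h1
      exact h1 k hk
    -- the centre of `P` is central in `G`
    haveI : Nontrivial (P : Subgroup G) := by
      refine ⟨⟨⟨v, hvP⟩, 1, ?_⟩⟩
      intro h
      apply huv
      have hv1 : v = 1 := by
        have := congrArg (fun y : (P : Subgroup G) => (y : G)) h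
        simpa using this
      rw [hv1, mul_one, one_mul]
    haveI : Finite (P : Subgroup G) := inferInstance
    have hcn : Nontrivial (Subgroup.center (P : Subgroup G)) := P.2.center_nontrivial
    obtain ⟨⟨z, hz⟩, hz1⟩ := exists_ne (1 : Subgroup.center (P : Subgroup G))
    have hz1' : (z : G) ≠ 1 := by
      intro h
      apply hz1
      apply Subtype.ext
      apply Subtype.ext
      exact h
    rw [Subgroup.mem_center_iff] at hz
    have hzG : (z : G) ∈ Subgroup.center G := by
      rw [Subgroup.mem_center_iff]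
      intro g
      have hg : g ∈ ((P : Subgroup G) ⊔ K : Subgroup G) := by rw [hK.sup_eq_top]; trivial
      have hg' : g ∈ (((P : Subgroup G) ⊔ K : Subgroup G) : Set G) := hg
      rw [Subgroup.normal_mul] at hg'
      obtain ⟨y, hy, k, hk, hyk⟩ := Set.mem_mul.mp hg'
      have h1 : y * (z : G) = (z : G) * y := by
        have := hz ⟨y, hy⟩
        have := congrArg (fun w : (P : Subgroup G) => (w : G)) this
        simpa using this
      have h2 : k * (z : G) = (z : G) * k := hKc z z.2 k hk
      rw [← hyk]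
      calc y * k * (z : G) = y * (k * (z : G)) := by group
        _ = y * ((z : G) * k) := by rw [h2]
        _ = (y * (z : G)) * k := by group
        _ = ((z : G) * y) * k := by rw [h1]
        _ = (z : G) * (y * k) := by group
    obtain ⟨i, hi⟩ := orderOf_of_mem_sylow P z.2
    have hi0 : i ≠ 0 := by
      intro h0
      rw [h0, pow_zero, orderOf_eq_one_iff] at hi
      exact hz1' hi
    have hzo : p ∣ orderOf (z : G) := by rw [hi]; exact dvd_pow_self p hi0
    exact not_mem_center_of_dvd hZ hzo hzG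

end Cfsg.Agent.Helper19.PSing
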