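import Mathlib
import Cfsg.Agent.Lib.Helper19.PSingB

/-!
# Class sizes of `p`-singular elements, part C (helper19's shared library)

The prime graph on the class sizes of `p`-singular elements has diameter at most `3`
when `p ∤ |Z(G)|`.
-/

set_option autoImplicit false
set_option linter.unusedSectionVars false
set_option linter.unusedVariables false
set_option linter.style.haveILetI false

namespace Cfsg.Agent.Helper19.PSing

open Cfsg.Agent.Helper19.ClassSize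

variable {G : Type*} [Group G]

theorem mul_dvd_of_primes {a b n : ℕ} (ha : a.Prime) (hb : b.Prime) (hab : a ≠ b)
    (h1 : a ∣ n) (h2 : b ∣ n) : a * b ∣ n :=
  Nat.Coprime.mul_dvd_of_dvd_of_dvd ((Nat.coprime_primes ha hb).mpr hab) h1 h2

/-- a link between the neighbourhoods of `r` and `s` gives a path of length at most `3` -/
theorem path_of_link {p : ℕ} {r s : ℕ} (hrp : r.Prime) (hsp : s.Prime) (hrs : r ≠ s)
    {x y : G} (hx : p ∣ orderOf x) (hy : p ∣ orderOf y) (hrx : r ∣ cs x) (hsy : s ∣ cs y)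
    {t u : ℕ} (ht : t.Prime) (hu : u.Prime) (htx : t ∣ cs x) (huy : u ∣ cs y)
    (hlink : t = u ∨ ∃ w : G, p ∣ orderOf w ∧ t * u ∣ cs w) :
    (∃ x : G, p ∣ orderOf x ∧ r * s ∣ cs x) ∨
    (∃ t : ℕ, (t.Prime ∧ ∃ x : G, p ∣ orderOf x ∧ t ∣ cs x) ∧ t ≠ r ∧ t ≠ s ∧
      (∃ x : G, p ∣ orderOf x ∧ r * t ∣ cs x) ∧ (∃ x : G, p ∣ orderOf x ∧ t * s ∣ cs x)) ∨
    (∃ t u : ℕ, (t.Prime ∧ ∃ x : G, p ∣ orderOf x ∧ t ∣ cs x) ∧
      (u.Prime ∧ ∃ x : G, p ∣ orderOf x ∧ u ∣ cs x) ∧ t ≠ r ∧ u ≠ s ∧ t ≠ u ∧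
      (∃ x : G, p ∣ orderOf x ∧ r * t ∣ cs x) ∧ (∃ x : G, p ∣ orderOf x ∧ t * u ∣ cs x) ∧
      (∃ x : G, p ∣ orderOf x ∧ u * s ∣ cs x)) := by
  by_cases htr : t = r
  · by_cases hus : u = s
    · rcases hlink with h | ⟨w, hw, hwd⟩
      · exact absurd (htr ▸ hus ▸ h) hrs
      · left
        exact ⟨w, hw, by rw [← htr, ← hus]; exact hwd⟩
    · by_cases hur : u = r
      · left
        exact ⟨y, hy, mul_dvd_of_primes hrp hsp hrs (hur ▸ huy) hsy⟩
      · rcases hlink with h | ⟨w, hw, hwd⟩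
        · exact absurd (h.symm.trans htr) hur
        · right; left
          refine ⟨u, ⟨hu, y, hy, huy⟩, hur, hus, ⟨w, hw, by rw [← htr]; exact hwd⟩,
            ⟨y, hy, mul_dvd_of_primes hu hsp hus huy hsy⟩⟩
  · by_cases hus : u = s
    · by_cases hts : t = s
      · left
        exact ⟨x, hx, mul_dvd_of_primes hrp hsp hrs hrx (hts ▸ htx)⟩
      · rcases hlink with h | ⟨w, hw, hwd⟩
        · exact absurd (h.trans hus) hts
        · right; left
          refine ⟨t, ⟨ht, x, hx, htx⟩, htr, hts,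
            ⟨x, hx, mul_dvd_of_primes hrp ht (Ne.symm htr) hrx htx⟩,
            ⟨w, hw, by rw [← hus]; exact hwd⟩⟩
    · by_cases htu : t = u
      · right; left
        refine ⟨t, ⟨ht, x, hx, htx⟩, htr, by rw [htu]; exact hus,
          ⟨x, hx, mul_dvd_of_primes hrp ht (Ne.symm htr) hrx htx⟩,
          ⟨y, hy, mul_dvd_of_primes ht hsp (by rw [htu]; exact hus) (htu ▸ huy) hsy⟩⟩
      · rcases hlink with h | ⟨w, hw, hwd⟩
        · exact absurd h htu
        · right; right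
          refine ⟨t, u, ⟨ht, x, hx, htx⟩, ⟨hu, y, hy, huy⟩, htr, hus, htu,
            ⟨x, hx, mul_dvd_of_primes hrp ht (Ne.symm htr) hrx htx⟩, ⟨w, hw, hwd⟩,
            ⟨y, hy, mul_dvd_of_primes hu hsp hus huy hsy⟩⟩

theorem exists_ppart [Finite G] {p : ℕ} (hp : p.Prime) {x : G} (hx : p ∣ orderOf x) :
    ∃ a b : ℕ, x = x ^ a * x ^ b ∧ (∃ i, i ≠ 0 ∧ orderOf (x ^ a) = p ^ i) ∧
      (orderOf (x ^ b)).Coprime p := by
  obtain ⟨a, b, hab, ⟨i, hi⟩, hbc, _⟩ := exists_pow_decomp x p hp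
  refine ⟨a, b, hab, ⟨i, ?_, hi⟩, hbc⟩
  intro h0
  rw [h0, pow_zero, orderOf_eq_one_iff] at hi
  rw [hi, one_mul] at hab
  rw [← hab] at hbc
  exact hp.ne_one (Nat.Coprime.eq_one_of_dvd hbc.symm hx)

/-- the one-sided contradiction -/
theorem side_false [Finite G] {p : ℕ} [hp : Fact p.Prime]
    (hZ : ¬ p ∣ Nat.card (Subgroup.center G)) {r s : ℕ} (hrp : r.Prime) (hsp : s.Prime)
    {xr ys : G} (hxr : p ∣ orderOf xr) (hrxr : r ∣ cs xr) (hys : p ∣ orderOf ys)
    (hsys : s ∣ cs ys)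
    (S1 : ∀ x y : G, p ∣ orderOf x → p ∣ orderOf y → r ∣ cs x → s ∣ cs y →
      ∀ t u : ℕ, t.Prime → u.Prime → t ∣ cs x → u ∣ cs y →
        t ≠ u ∧ ¬ ∃ w : G, p ∣ orderOf w ∧ t * u ∣ cs w)
    (dag : ∀ y : G, p ∣ orderOf y → s ∣ cs y → ¬ p ∣ cs y) : False := by
  -- the `p`-part of `xr`
  obtain ⟨a, b, hab, ⟨i, hi0, hi⟩, hbc⟩ := exists_ppart hp.out hxr
  set v := xr ^ a with hv
  have hvo : p ∣ orderOf v := by rw [hi]; exact dvd_pow_self p hi0
  have hvp : IsPGroup p (Subgroup.zpowers v) := by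
    apply IsPGroup.of_card (n := i)
    rw [Nat.card_zpowers, hi]
  have hv1 : cs v ≠ 1 := cs_ne_one_of_dvd hZ hvo
  obtain ⟨t, ht, htv⟩ := Nat.exists_prime_and_dvd hv1
  have htxr : t ∣ cs xr := dvd_trans htv (cs_pow_dvd xr a)
  -- Lemma 4a'
  have L4 : ∀ v₀ c : G, (∃ i, i ≠ 0 ∧ orderOf v₀ = p ^ i) → (orderOf c).Coprime p →
      Commute v₀ c → s ∣ cs (v₀ * c) → c ∈ Subgroup.center G := by
    rintro v₀ c ⟨i₀, hi₀0, hi₀⟩ hcp hcom hsd
    set y := v₀ * c with hy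
    have hcop : (orderOf v₀).Coprime (orderOf c) := by
      rw [hi₀]; exact Nat.Coprime.pow_left _ hcp.symm
    have hyo : p ∣ orderOf y := by
      rw [hy, hcom.orderOf_mul_eq_mul_orderOf_of_coprime hcop, hi₀]
      exact dvd_mul_of_dvd_left (dvd_pow_self p hi₀0) _
    have hyc : ¬ p ∣ cs y := dag y hyo hsd
    obtain ⟨g₀, hg₀⟩ := Cfsg.Agent.Helper21.ClassSize.exists_conj_mem_of_not_dvd_index
      (Subgroup.zpowers v) hvp (Cz y) hyc
    set v' := g₀⁻¹ * v * g₀ with hv'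
    have hv'y : v' ∈ Cz y := hg₀ v (Subgroup.mem_zpowers v)
    have hv'conj : v' = g₀⁻¹ * v * (g₀⁻¹)⁻¹ := by rw [inv_inv]
    have hv'o : orderOf v' = p ^ i := by rw [hv'conj, orderOf_conj']; exact hi
    have hv'cs : cs v' = cs v := by rw [hv'conj, cs_conj]
    -- `c` is a power of `y`
    obtain ⟨k, hk⟩ := exists_pow_eq_left hcom.symm hcop.symm
    rw [← hcom.eq] at hk
    have hv'c : v' ∈ Cz c := by
      have h1 : y ∈ Cz v' := by
        rw [mem_Cz]; exact (mem_Cz.mp hv'y).symm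
      have h2 := Cz_pow_le y k
      have h3 : v' ∈ Cz (y ^ k) := h2 hv'y
      rw [hy, hk] at h3
      exact h3
    have hcomw : Commute v' c := by
      have := mem_Cz.mp hv'c
      exact this.symm
    have hcopw : (orderOf v').Coprime (orderOf c) := by
      rw [hv'o]; exact Nat.Coprime.pow_left _ hcp.symm
    set w := v' * c with hw
    have hwo : p ∣ orderOf w := by
      rw [hw, hcomw.orderOf_mul_eq_mul_orderOf_of_coprime hcopw, hv'o]
      exact dvd_mul_of_dvd_left (dvd_pow_self p hi0) _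
    have hCw : Cz w = Cz v' ⊓ Cz c := Cz_mul_of_coprime hcomw hcopw
    have htw : t ∣ cs w := by
      have h1 : cs v' ∣ cs w := cs_dvd_of_le (by rw [hCw]; exact inf_le_left)
      rw [hv'cs] at h1
      exact dvd_trans htv h1
    by_contra hcc
    have hc1 : cs c ≠ 1 := fun h => hcc (cs_eq_one_iff.mp h)
    obtain ⟨u, hu, huc⟩ := Nat.exists_prime_and_dvd hc1
    have huy : u ∣ cs y := by
      have h1 : cs (y ^ k) ∣ cs y := cs_pow_dvd y k
      rw [hy, hk] at h1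
      exact dvd_trans huc h1
    have huw : u ∣ cs w := by
      have h1 : cs c ∣ cs w := cs_dvd_of_le (by rw [hCw]; exact inf_le_right)
      exact dvd_trans huc h1
    obtain ⟨hne, hno⟩ := S1 xr y hxr hyo hrxr hsd t u ht hu htxr huy
    exact hno ⟨w, hwo, mul_dvd_of_primes ht hu hne htw huw⟩
  -- the `p`-part of `ys`
  obtain ⟨a', b', hab', ⟨i', hi'0, hi'⟩, hbc'⟩ := exists_ppart hp.out hys
  set v₀ := ys ^ a' with hv₀
  set c₀ := ys ^ b' with hc₀
  have hcom₀ : Commute v₀ c₀ := (Commute.refl ys).pow_pow a' b'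
  have hc₀Z : c₀ ∈ Subgroup.center G := by
    apply L4 v₀ c₀ ⟨i', hi'0, hi'⟩ hbc' hcom₀
    rw [← hab']; exact hsys
  have hsv₀ : s ∣ cs v₀ := by
    have h1 : Cz (v₀ * c₀) = Cz v₀ := Cz_mul_central hc₀Z
    have h2 : cs ys = cs v₀ := by
      show (Cz ys).index = (Cz v₀).index
      rw [← h1, ← hab']
    rw [← h2]; exact hsys
  have hv₀o : p ∣ orderOf v₀ := by rw [hi']; exact dvd_pow_self p hi'0
  -- 4b
  have L4b : ∀ c : G, (orderOf c).Coprime p → Commute v₀ c → c ∈ Subgroup.center G := by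
    intro c hcp hcom
    apply L4 v₀ c ⟨i', hi'0, hi'⟩ hcp hcom
    have hcop : (orderOf v₀).Coprime (orderOf c) := by
      rw [hi']; exact Nat.Coprime.pow_left _ hcp.symm
    have h1 : Cz (v₀ * c) = Cz v₀ ⊓ Cz c := Cz_mul_of_coprime hcom hcop
    have h2 : cs v₀ ∣ cs (v₀ * c) := cs_dvd_of_le (by rw [h1]; exact inf_le_left)
    exact dvd_trans hsv₀ h2
  -- 4c
  have L4c : ∀ x : G, p ∣ orderOf x → r ∣ cs x → ∀ t' : ℕ, t'.Prime → t' ∣ cs x → t' = p := by
    intro x hx hrx t' ht' ht'x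
    by_contra htp
    by_cases hd : t' ∣ cs v₀
    · exact (S1 x v₀ hx hv₀o hrx hsv₀ t' t' ht' ht' ht'x hd).1 rfl
    · haveI : Fact t'.Prime := ⟨ht'⟩
      obtain ⟨T⟩ := (inferInstance : Nonempty (Sylow t' G))
      obtain ⟨g₀, hg₀⟩ := Cfsg.Agent.Helper21.ClassSize.exists_conj_mem_of_not_dvd_index
        (T : Subgroup G) T.2 (Cz v₀) hd
      have hTZ : (T : Subgroup G) ≤ Subgroup.center G := by
        intro y hy
        have h1 := hg₀ y hy
        obtain ⟨k, hk⟩ := orderOf_of_mem_sylow T hy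
        have hconj : g₀⁻¹ * y * g₀ = g₀⁻¹ * y * (g₀⁻¹)⁻¹ := by rw [inv_inv]
        have ho : orderOf (g₀⁻¹ * y * g₀) = t' ^ k := by rw [hconj, orderOf_conj']; exact hk
        have hcp : (orderOf (g₀⁻¹ * y * g₀)).Coprime p := by
          rw [ho]
          apply Nat.Coprime.pow_left
          exact (Nat.coprime_primes ht' hp.out).mpr htp
        have hcm : Commute v₀ (g₀⁻¹ * y * g₀) := mem_Cz.mp h1
        have h2 := L4b _ hcp hcm
        have e : y = g₀ * (g₀⁻¹ * y * g₀) * g₀⁻¹ := by group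
        rw [e]
        exact (inferInstance : (Subgroup.center G).Normal).conj_mem _ h2 g₀
      have hle : (T : Subgroup G) ≤ Cz x := le_trans hTZ (center_le_Cz x)
      have h3 : cs x ∣ (T : Subgroup G).index := Subgroup.index_dvd_of_le hle
      exact T.not_dvd_index (dvd_trans ht'x h3)
  have hrp' : r = p := L4c xr hxr hrxr r hrp hrxr
  apply core_false hZ
  · intro x hx hpx
    have hrx : r ∣ cs x := by rw [hrp']; exact hpx
    have hne : cs x ≠ 0 := Subgroup.index_ne_zero_of_finite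
    exact ⟨_, Nat.eq_prime_pow_of_unique_prime_dvd hne
      (fun {d} hd hdx => L4c x hx hrx d hd hdx)⟩
  · exact ⟨xr, hxr, by rw [← hrp']; exact hrxr⟩

end Cfsg.Agent.Helper19.PSing
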