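import Mathlib
import Cfsg.Agent.Lib.Helper10.PUDefs

/-!
# S2263 piece PU-NUMG2 (helper19): the numeric bound for a big unipotent multiplicity.
-/

set_option autoImplicit false
set_option linter.unusedSectionVars false
set_option linter.unusedVariables false

namespace Cfsg.Agent.Helper10.PU

open Polynomial Matrix
open Cfsg.Agent.Helper10.EO (star)

theorem pu_numg2_two_pow (k : ℕ) : k + 4 ≤ 2 ^ (k + 2) := by
  induction k with
  | zero => norm_num
  | succ k ih =>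
    rw [pow_succ]
    omega

theorem pu_numg2_Efun_le (q n : ℕ) : Efun q n ≤ q ^ n + 1 := by
  unfold Efun
  split_ifs <;> omega

theorem num_multi_big (p f d t c : ℕ) (hp : p.Prime) (hf : 1 ≤ f) (ht : 1 ≤ t)
    (hc : c = p ^ (t - 1)) (hc3 : 3 ≤ c) (hcd : c + 2 ≤ d) :
    p ^ t * Efun (p ^ f) (d - 1 - c) ≤ (p ^ f) ^ (d - 1) - 1 := by
  have hp2 : 2 ≤ p := hp.two_le
  set q := p ^ f with hq
  have hpq : p ≤ q := by
    calc p = p ^ 1 := (pow_one p).symm
      _ ≤ p ^ f := Nat.pow_le_pow_right hp.pos hf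
  have hq2 : 2 ≤ q := le_trans hp2 hpq
  obtain ⟨k, rfl⟩ : ∃ k, c = k + 3 := ⟨c - 3, by omega⟩
  obtain ⟨e, rfl⟩ : ∃ e, d = k + 3 + 2 + e := ⟨d - (k + 3 + 2), by omega⟩
  have hn : k + 3 + 2 + e - 1 - (k + 3) = e + 1 := by omega
  have hd1 : k + 3 + 2 + e - 1 = k + 4 + e := by omega
  rw [hn, hd1]
  -- `c ≤ p^(c-2)`
  have hB : k + 3 ≤ p ^ (k + 1) := by
    rcases Nat.eq_zero_or_pos k with hk | hk
    · subst hk
      have ht1 : t - 1 ≠ 0 := by
        intro h0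
        rw [h0, pow_zero] at hc
        omega
      have hdvd : p ∣ 3 := by
        have : p ∣ p ^ (t - 1) := dvd_pow_self p ht1
        rw [← hc] at this
        exact this
      have hp3 : p = 3 := (Nat.prime_dvd_prime_iff_eq hp Nat.prime_three).1 hdvd
      rw [hp3]
      norm_num
    · obtain ⟨j, rfl⟩ : ∃ j, k = j + 1 := ⟨k - 1, by omega⟩
      calc j + 1 + 3 = j + 4 := by ring
        _ ≤ 2 ^ (j + 2) := pu_numg2_two_pow j
        _ ≤ p ^ (j + 2) := Nat.pow_le_pow_left hp2 _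
        _ = p ^ (j + 1 + 1) := by ring_nf
  have hpt : p ^ t = p * (k + 3) := by
    have : t = (t - 1) + 1 := by omega
    rw [this, pow_succ, ← hc, mul_comm]
  have hkey : p ^ t ≤ q ^ (k + 2) := by
    rw [hpt]
    calc p * (k + 3) ≤ p * p ^ (k + 1) := Nat.mul_le_mul_left _ hB
      _ = p ^ (k + 2) := by ring
      _ ≤ q ^ (k + 2) := Nat.pow_le_pow_left hpq _
  have hE := pu_numg2_Efun_le q (e + 1)
  have h1 : p ^ t * Efun q (e + 1) ≤ q ^ (k + 2) * (q ^ (e + 1) + 1) := Nat.mul_le_mul hkey hE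
  have h2 : q ^ (k + 2) * (q ^ (e + 1) + 1) = q ^ (k + 3 + e) + q ^ (k + 2) := by ring
  have h3 : q ^ (k + 2) + 1 ≤ q ^ (k + 3 + e) := by
    have h4 : q ^ (k + 3) ≤ q ^ (k + 3 + e) := Nat.pow_le_pow_right (by omega) (by omega)
    have h5 : q ^ (k + 3) = q * q ^ (k + 2) := by ring
    have h6 : 1 ≤ q ^ (k + 2) := Nat.one_le_pow _ _ (by omega)
    nlinarith
  have h7 : q ^ (k + 4 + e) = q * q ^ (k + 3 + e) := by ring
  have h8 : 1 ≤ q ^ (k + 3 + e) := Nat.one_le_pow _ _ (by omega)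
  have h9 : q ^ (k + 3 + e) + q ^ (k + 2) + 1 ≤ q ^ (k + 4 + e) := by
    rw [h7]
    nlinarith
  omega

end Cfsg.Agent.Helper10.PU
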