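import Mathlib

/-!
# S4427 piece A (helper19): CRT idempotent polynomial over a commutative local ring
-/

set_option autoImplicit false
set_option linter.unusedSectionVars false
set_option linter.unusedVariables false
set_option linter.style.haveILetI false
set_option linter.unusedSimpArgs false

namespace Cfsg.Agent.Helper5.Pim

open Polynomial

/-- `X - C l` and `X - C m` are coprime when `m - l` is a unit. -/
theorem isCoprime_X_sub_C_of_isUnit_sub {O : Type*} [CommRing O] {l m : O} (h : IsUnit (m - l)) :
    IsCoprime (X - C l : O[X]) (X - C m) := by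
  obtain ⟨u, hu⟩ := h
  refine ⟨C (↑u⁻¹ : O), -C (↑u⁻¹ : O), ?_⟩
  have h1 : (C (↑u⁻¹ : O) : O[X]) * (X - C l) + -C (↑u⁻¹ : O) * (X - C m)
      = C ((↑u⁻¹ : O) * (m - l)) := by
    rw [C_mul, C_sub]; ring
  rw [h1, ← hu, Units.inv_mul, C_1]

theorem isCoprime_multiset_prod_left {R : Type*} [CommSemiring R] (s : Multiset R) (x : R)
    (h : ∀ a ∈ s, IsCoprime a x) : IsCoprime s.prod x := by
  induction s using Multiset.induction_on with
  | empty => simpa using isCoprime_one_left
  | cons a s ih =>
    rw [Multiset.prod_cons]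
    exact IsCoprime.mul_left (h a (Multiset.mem_cons_self a s))
      (ih fun b hb => h b (Multiset.mem_cons_of_mem hb))

theorem isCoprime_multiset_prod_right {R : Type*} [CommSemiring R] (s : Multiset R) (x : R)
    (h : ∀ a ∈ s, IsCoprime x a) : IsCoprime x s.prod :=
  (isCoprime_multiset_prod_left s x fun a ha => (h a ha).symm).symm

theorem exists_poly_idem {O : Type*} [CommRing O] [IsLocalRing O] (s : Multiset O) :
    ∃ P W : O[X], (s.map fun a => (X - C a : O[X])).prod ∣ P * P - P ∧
      (s.map fun a => (X - C a : O[X])).prod ∣ X * W - P ∧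
      ∀ a ∈ s, IsUnit a → P.eval a = 1 := by
  classical
  set su : Multiset O := s.filter (fun a => IsUnit a) with hsu
  set sn : Multiset O := s.filter (fun a => ¬ IsUnit a) with hsn
  set a : O[X] := (sn.map fun a => (X - C a : O[X])).prod with ha
  set b : O[X] := (su.map fun a => (X - C a : O[X])).prod with hb
  have hs : s = su + sn := (Multiset.filter_add_not _ s).symm
  have hprod : (s.map fun a => (X - C a : O[X])).prod = a * b := by
    conv_lhs => rw [hs]
    rw [Multiset.map_add, Multiset.prod_add, mul_comm]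
  -- coprimality
  have hcop : IsCoprime a b := by
    apply isCoprime_multiset_prod_left
    intro x hx
    rw [Multiset.mem_map] at hx
    obtain ⟨l, hl, rfl⟩ := hx
    apply isCoprime_multiset_prod_right
    intro y hy
    rw [Multiset.mem_map] at hy
    obtain ⟨m, hm, rfl⟩ := hy
    have hl' : ¬ IsUnit l := (Multiset.mem_filter.mp hl).2
    have hm' : IsUnit m := (Multiset.mem_filter.mp hm).2
    apply isCoprime_X_sub_C_of_isUnit_sub
    by_contra hnu
    have h1 : m - l ∈ IsLocalRing.maximalIdeal O := (IsLocalRing.mem_maximalIdeal _).mpr hnu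
    have h2 : l ∈ IsLocalRing.maximalIdeal O := (IsLocalRing.mem_maximalIdeal _).mpr hl'
    have h3 : m ∈ IsLocalRing.maximalIdeal O := by
      have := Ideal.add_mem _ h1 h2
      simpa using this
    exact ((IsLocalRing.mem_maximalIdeal _).mp h3) hm'
  obtain ⟨r, t, hrt⟩ := hcop
  -- the constant coefficient of b is a unit
  have hb0 : IsUnit (b.coeff 0) := by
    have h1 : b.coeff 0 = (su.map fun m => -m).prod := by
      rw [coeff_zero_eq_eval_zero, hb]
      rw [← coe_evalRingHom, map_multiset_prod, Multiset.map_map]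
      congr 1
      apply Multiset.map_congr rfl
      intro x hx
      simp
    rw [h1]
    have : ∀ (v : Multiset O), (∀ m ∈ v, IsUnit m) → IsUnit (v.map fun m => -m).prod := by
      intro v
      induction v using Multiset.induction_on with
      | empty => intro _; simp
      | cons m v ih =>
        intro h
        rw [Multiset.map_cons, Multiset.prod_cons]
        exact (h m (Multiset.mem_cons_self m v)).neg.mul
          (ih fun x hx => h x (Multiset.mem_cons_of_mem hx))
    exact this su fun m hm => (Multiset.mem_filter.mp hm).2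
  obtain ⟨u, hu⟩ := hb0
  have hbdiv : b = X * divX b + C (↑u : O) := by
    rw [hu, mul_comm]; exact (divX_mul_X_add b).symm
  refine ⟨r * a, r * a * (-C (↑u⁻¹ : O) * divX b), ?_, ?_, ?_⟩
  · rw [hprod]
    refine ⟨-(r * t), ?_⟩
    have h1 : r * a - 1 = -(t * b) := by rw [← hrt]; ring
    calc r * a * (r * a) - r * a = r * a * (r * a - 1) := by ring
      _ = r * a * (-(t * b)) := by rw [h1]
      _ = a * b * -(r * t) := by ring
  · rw [hprod]
    refine ⟨-(r * C (↑u⁻¹ : O)), ?_⟩
    have h2 : X * divX b = b - C (↑u : O) := by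
      rw [eq_sub_iff_add_eq]; exact hbdiv.symm
    have h3 : (C (↑u⁻¹ : O) : O[X]) * C (↑u : O) = 1 := by
      rw [← C_mul, Units.inv_mul, C_1]
    calc X * (r * a * (-C (↑u⁻¹ : O) * divX b)) - r * a
        = r * a * (-C (↑u⁻¹ : O) * (X * divX b)) - r * a := by ring
      _ = r * a * (-C (↑u⁻¹ : O) * (b - C (↑u : O))) - r * a := by rw [h2]
      _ = -(r * a * C (↑u⁻¹ : O) * b) + r * a * (C (↑u⁻¹ : O) * C (↑u : O)) - r * a := by ring
      _ = -(r * a * C (↑u⁻¹ : O) * b) := by rw [h3]; ring
      _ = a * b * -(r * C (↑u⁻¹ : O)) := by ring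
  · intro l hl hlu
    have hlb : b.eval l = 0 := by
      have hmem : l ∈ su := Multiset.mem_filter.mpr ⟨hl, hlu⟩
      have hdvd : (X - C l : O[X]) ∣ b :=
        Multiset.dvd_prod (Multiset.mem_map.mpr ⟨l, hmem, rfl⟩)
      obtain ⟨c, hc⟩ := hdvd
      rw [hc, eval_mul]
      simp
    have h1 := congrArg (eval l) hrt
    rw [eval_add, eval_mul (p := t) (q := b), hlb, mul_zero, add_zero, eval_one] at h1
    exact h1

end Cfsg.Agent.Helper5.Pim
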