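import Mathlib

/-!
# Class-two bookkeeping relative to a central subgroup (helper19)

`C2 X V`: `V ≤ X`, all commutators of `X` lie in `V`, and `V` is centralised by `X`.
Bilinearity of the commutator, the subgroup `C2.S C y = {x ∈ X | x y x⁻¹ y⁻¹ ∈ C}`, the identity
`(y z)² = [z, y] y² z²`, a coset-cover cardinality bound and the doubling lemma for a proper
subgroup.
-/

set_option autoImplicit false

namespace Cfsg.Agent.Helper19.QuadComm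

variable {G : Type*} [Group G]

/-- class two relative to the central subgroup `V` -/
structure C2 (X V : Subgroup G) : Prop where
  le : V ≤ X
  comm : ∀ x ∈ X, ∀ y ∈ X, x * y * x⁻¹ * y⁻¹ ∈ V
  cen : ∀ v ∈ V, ∀ x ∈ X, v * x = x * v

theorem comm_swap (x y : G) : y * x * y⁻¹ * x⁻¹ = (x * y * x⁻¹ * y⁻¹)⁻¹ := by group

theorem C2.comm_mul_left {X V : Subgroup G} (h : C2 X V) {x x' y : G} (hx : x ∈ X) (hx' : x' ∈ X)
    (hy : y ∈ X) :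
    (x * x') * y * (x * x')⁻¹ * y⁻¹ = (x' * y * x'⁻¹ * y⁻¹) * (x * y * x⁻¹ * y⁻¹) := by
  have hd : (x' * y * x'⁻¹ * y⁻¹) * x = x * (x' * y * x'⁻¹ * y⁻¹) := h.cen _ (h.comm x' hx' y hy) x hx
  calc (x * x') * y * (x * x')⁻¹ * y⁻¹ = (x * (x' * y * x'⁻¹ * y⁻¹)) * (y * x⁻¹ * y⁻¹) := by group
    _ = ((x' * y * x'⁻¹ * y⁻¹) * x) * (y * x⁻¹ * y⁻¹) := by rw [hd]
    _ = (x' * y * x'⁻¹ * y⁻¹) * (x * y * x⁻¹ * y⁻¹) := by group

theorem C2.comm_inv_left {X V : Subgroup G} (h : C2 X V) {x y : G} (hx : x ∈ X) (hy : y ∈ X) :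
    x⁻¹ * y * x⁻¹⁻¹ * y⁻¹ = (x * y * x⁻¹ * y⁻¹)⁻¹ := by
  have hd : (x * y * x⁻¹ * y⁻¹)⁻¹ * x = x * (x * y * x⁻¹ * y⁻¹)⁻¹ :=
    h.cen _ (V.inv_mem (h.comm x hx y hy)) x hx
  calc x⁻¹ * y * x⁻¹⁻¹ * y⁻¹ = x⁻¹ * ((x * y * x⁻¹ * y⁻¹)⁻¹ * x) := by group
    _ = x⁻¹ * (x * (x * y * x⁻¹ * y⁻¹)⁻¹) := by rw [hd]
    _ = (x * y * x⁻¹ * y⁻¹)⁻¹ := by group

theorem C2.comm_of_mem {X V : Subgroup G} (h : C2 X V) {v y : G} (hv : v ∈ V) (hy : y ∈ X) :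
    v * y * v⁻¹ * y⁻¹ = 1 := by
  rw [h.cen v hv y hy]
  group

/-- `{x ∈ X | x y x⁻¹ y⁻¹ ∈ C}` as a subgroup -/
def C2.S {X V : Subgroup G} (h : C2 X V) (C : Subgroup G) (y : G) (hy : y ∈ X) : Subgroup G where
  carrier := {x | x ∈ X ∧ x * y * x⁻¹ * y⁻¹ ∈ C}
  mul_mem' := by
    rintro x x' ⟨hx, hxc⟩ ⟨hx', hxc'⟩
    refine ⟨X.mul_mem hx hx', ?_⟩
    rw [h.comm_mul_left hx hx' hy]
    exact C.mul_mem hxc' hxc
  one_mem' := by
    refine ⟨X.one_mem, ?_⟩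
    have e : (1 : G) * y * 1⁻¹ * y⁻¹ = 1 := by group
    rw [e]
    exact C.one_mem
  inv_mem' := by
    rintro x ⟨hx, hxc⟩
    refine ⟨X.inv_mem hx, ?_⟩
    rw [h.comm_inv_left hx hy]
    exact C.inv_mem hxc

theorem C2.mem_S {X V : Subgroup G} (h : C2 X V) (C : Subgroup G) (y : G) (hy : y ∈ X) (x : G) :
    x ∈ h.S C y hy ↔ x ∈ X ∧ x * y * x⁻¹ * y⁻¹ ∈ C := Iff.rfl

theorem C2.V_le_S {X V : Subgroup G} (h : C2 X V) (C : Subgroup G) (y : G) (hy : y ∈ X) :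
    V ≤ h.S C y hy := by
  intro v hv
  refine ⟨h.le hv, ?_⟩
  rw [h.comm_of_mem hv hy]
  exact C.one_mem

/-- `(y z)² = [z, y] y² z²` -/
theorem C2.sq_mul {X V : Subgroup G} (h : C2 X V) {y z : G} (hy : y ∈ X) (hz : z ∈ X) :
    (y * z) ^ 2 = (z * y * z⁻¹ * y⁻¹) * (y ^ 2 * z ^ 2) := by
  have hd : (z * y * z⁻¹ * y⁻¹) * y = y * (z * y * z⁻¹ * y⁻¹) := h.cen _ (h.comm z hz y hy) y hy
  calc (y * z) ^ 2 = (y * (z * y * z⁻¹ * y⁻¹)) * (y * (z * z)) := by rw [pow_two]; group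
    _ = ((z * y * z⁻¹ * y⁻¹) * y) * (y * (z * z)) := by rw [hd]
    _ = (z * y * z⁻¹ * y⁻¹) * (y ^ 2 * z ^ 2) := by rw [pow_two, pow_two]; group

/-- coset cover: `K ⊆ ⋃ᵢ tᵢ H` gives `|K| ≤ n |H|` -/
theorem card_le_of_cover [Finite G] (n : ℕ) (t : Fin n → G) (K H : Subgroup G)
    (hc : ∀ z ∈ K, ∃ i : Fin n, (t i)⁻¹ * z ∈ H) : Nat.card ↥K ≤ n * Nat.card ↥H := by
  choose i hi using fun z : ↥K => hc z.1 z.2
  have hinj : Function.Injective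
      (fun z : ↥K => ((i z, ⟨(t (i z))⁻¹ * (z : G), hi z⟩) : Fin n × ↥H)) := by
    intro z z' hzz
    have h1 : i z = i z' := congrArg Prod.fst hzz
    have h2 : (t (i z))⁻¹ * (z : G) = (t (i z'))⁻¹ * (z' : G) :=
      congrArg (fun p : Fin n × ↥H => ((p.2 : ↥H) : G)) hzz
    rw [h1] at h2
    exact Subtype.ext (mul_left_cancel h2)
  have h3 := Nat.card_le_card_of_injective _ hinj
  rwa [Nat.card_prod, Nat.card_fin] at h3

/-- a proper subgroup has at most half the order -/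
theorem two_mul_card_le [Finite G] {H K : Subgroup G} (hHK : H ≤ K) (hne : H ≠ K) :
    2 * Nat.card ↥H ≤ Nat.card ↥K := by
  obtain ⟨m, hm⟩ := Subgroup.card_dvd_of_le hHK
  have hKpos : 0 < Nat.card ↥K := Nat.card_pos
  have hHpos : 0 < Nat.card ↥H := Nat.card_pos
  rcases m with _ | _ | m
  · rw [hm] at hKpos
    simp at hKpos
  · exfalso
    apply hne
    apply Subgroup.eq_of_le_of_card_ge hHK
    rw [hm]
    simp
  · rw [hm]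
    nlinarith

end Cfsg.Agent.Helper19.QuadComm
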