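import Mathlib
import Cfsg.Agent.Lib.Helper11.S11Defs

/-!
# S3211 farm-out, piece S11-CNT (helper11's skeleton): the counting inequality.  Typed by helper19.
-/

set_option autoImplicit false
set_option linter.unusedVariables false

namespace Cfsg.Agent.Helper11.S11

/-- PIECE S11-CNT -/
theorem count_lt {G : Type*} [Group G] [Finite G] {L : Subgroup G} {n z a : G}
    (h : Hyp L n z a)
    (hin : Set.ncard {y : G | (∃ p ∈ L, ∃ r ∈ L, y = p * sg n r) ∧ y * y = a * sg n a} ≤ 4)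
    (hout : ∀ y : G, (∃ p ∈ L, ∃ r ∈ L, y = p * sg n r * n) → y * y = a * sg n a →
      (a * y) * (a * y) = z ∧ (a * y) * (a * sg n a) = (a * sg n a) * (a * y) ∧
        (a * y) * sg n a * (a * y)⁻¹ = a⁻¹)
    (hq : ∃ s : Finset G, s.card = 5 ∧ ∀ y ∈ s, y * y = z ∧
      y * (a * sg n a) = (a * sg n a) * y ∧ y * sg n a * y⁻¹ ≠ a⁻¹) :
    Set.ncard {y : G | y * z = z * y ∧ y * y = a * sg n a} <
      Set.ncard {y : G | y * y = z ∧ y * (a * sg n a) = (a * sg n a) * y} := by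
  classical
  obtain ⟨s, hs5, hs⟩ := hq
  have hR : {y : G | y * z = z * y ∧ y * y = a * sg n a} ⊆
      {y : G | (∃ p ∈ L, ∃ r ∈ L, y = p * sg n r) ∧ y * y = a * sg n a} ∪
      {y : G | (∃ p ∈ L, ∃ r ∈ L, y = p * sg n r * n) ∧ y * y = a * sg n a} := by
    rintro y ⟨hyz, hy2⟩
    obtain ⟨p, hp, r, hr, h1 | h1⟩ := h.cent y hyz
    · left; exact ⟨⟨p, hp, r, hr, h1⟩, hy2⟩
    · right; exact ⟨⟨p, hp, r, hr, h1⟩, hy2⟩
  have hRout : (fun y => a * y) ''
      {y : G | (∃ p ∈ L, ∃ r ∈ L, y = p * sg n r * n) ∧ y * y = a * sg n a} ⊆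
      {y : G | (y * y = z ∧ y * (a * sg n a) = (a * sg n a) * y) ∧
        y * sg n a * y⁻¹ = a⁻¹} := by
    rintro _ ⟨y, ⟨hy, hy2⟩, rfl⟩
    obtain ⟨h1, h2, h3⟩ := hout y hy hy2
    exact ⟨⟨h1, h2⟩, h3⟩
  have hRoutcard :
      Set.ncard {y : G | (∃ p ∈ L, ∃ r ∈ L, y = p * sg n r * n) ∧ y * y = a * sg n a} ≤
      Set.ncard {y : G | (y * y = z ∧ y * (a * sg n a) = (a * sg n a) * y) ∧
        y * sg n a * y⁻¹ = a⁻¹} := by
    rw [← Set.ncard_image_of_injective _ (mul_right_injective a)]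
    exact Set.ncard_le_ncard hRout (Set.toFinite _)
  have hQ : {y : G | (y * y = z ∧ y * (a * sg n a) = (a * sg n a) * y) ∧
        y * sg n a * y⁻¹ = a⁻¹} ∪ (s : Set G) ⊆
      {y : G | y * y = z ∧ y * (a * sg n a) = (a * sg n a) * y} := by
    rintro y (hy | hy)
    · exact hy.1
    · exact ⟨(hs y hy).1, (hs y hy).2.1⟩
  have hdisj : Disjoint {y : G | (y * y = z ∧ y * (a * sg n a) = (a * sg n a) * y) ∧
        y * sg n a * y⁻¹ = a⁻¹} (s : Set G) := by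
    rw [Set.disjoint_left]
    intro y hy hys
    exact (hs y hys).2.2 hy.2
  have hQcard : Set.ncard {y : G | (y * y = z ∧ y * (a * sg n a) = (a * sg n a) * y) ∧
        y * sg n a * y⁻¹ = a⁻¹} + 5 ≤
      Set.ncard {y : G | y * y = z ∧ y * (a * sg n a) = (a * sg n a) * y} := by
    rw [← hs5, ← Set.ncard_coe_finset s,
      ← Set.ncard_union_eq hdisj (Set.toFinite _) (Set.toFinite _)]
    exact Set.ncard_le_ncard hQ (Set.toFinite _)
  have h1 := Set.ncard_le_ncard hR (Set.toFinite _)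
  have h2 := Set.ncard_union_le
    {y : G | (∃ p ∈ L, ∃ r ∈ L, y = p * sg n r) ∧ y * y = a * sg n a}
    {y : G | (∃ p ∈ L, ∃ r ∈ L, y = p * sg n r * n) ∧ y * y = a * sg n a}
  omega

end Cfsg.Agent.Helper11.S11
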