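import Mathlib
import Cfsg.Agent.Lib.Helper8.RegOrbDefs

set_option autoImplicit false
set_option linter.unusedSectionVars false
set_option linter.unusedVariables false
set_option linter.style.haveILetI false

namespace Cfsg.Agent.Helper19.S4330P1

open Cfsg.Agent.Helper8.RegOrb Finset

variable {N : Type*} [CommGroup N]

/-! ### Elementary facts on `fixOf` -/

theorem fixOf_anti {K L : Subgroup (MulAut N)} (h : K ≤ L) : fixOf L ≤ fixOf K :=
  fun v hv k hk => hv k (h hk)

theorem fixOf_bot : fixOf (⊥ : Subgroup (MulAut N)) = ⊤ := by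
  ext v
  simp only [mem_fixOf, Subgroup.mem_bot, Subgroup.mem_top, iff_true]
  rintro k rfl
  rfl

theorem fixOf_sup (K L : Subgroup (MulAut N)) : fixOf (K ⊔ L) = fixOf K ⊓ fixOf L := by
  apply le_antisymm
  · exact le_inf (fixOf_anti le_sup_left) (fixOf_anti le_sup_right)
  · rintro v ⟨hK, hL⟩ g hg
    rw [Subgroup.sup_eq_closure] at hg
    induction hg using Subgroup.closure_induction with
    | mem x hx =>
      rcases hx with hx | hx
      · exact hK x hx
      · exact hL x hx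
    | one => rfl
    | mul x y _ _ hx hy =>
      rw [MulAut.mul_apply, hy, hx]
    | inv x _ hx =>
      calc x⁻¹ v = x⁻¹ (x v) := by rw [hx]
        _ = v := MulAut.inv_apply_self _ _ _

theorem mem_fixOf_zpowers {g : MulAut N} {v : N} :
    v ∈ fixOf (Subgroup.zpowers g) ↔ g v = v := by
  constructor
  · intro h
    exact h g (Subgroup.mem_zpowers g)
  · intro h k hk
    obtain ⟨n, rfl⟩ := Subgroup.mem_zpowers_iff.mp hk
    have hpow : ∀ m : ℕ, (g ^ m) v = v := by
      intro m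
      induction m with
      | zero => rfl
      | succ m ih => rw [pow_succ, MulAut.mul_apply, h, ih]
    rcases Int.eq_nat_or_neg n with ⟨m, rfl | rfl⟩
    · rw [zpow_natCast]; exact hpow m
    · rw [zpow_neg, zpow_natCast]
      calc (g ^ m)⁻¹ v = (g ^ m)⁻¹ ((g ^ m) v) := by rw [hpow m]
        _ = v := MulAut.inv_apply_self _ _ _

/-! ### The norm map of a single automorphism -/

/-- `Tg p g v = ∏_{i<p} g^i v`. -/
noncomputable def Tg (p : ℕ) (g : MulAut N) (v : N) : N := ∏ i ∈ range p, (g ^ i) v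

theorem Tg_fixed {p : ℕ} {g : MulAut N} (hg : g ^ p = 1) (v : N) : g (Tg p g v) = Tg p g v := by
  unfold Tg
  rw [map_prod]
  have h1 : ∀ i ∈ range p, g ((g ^ i) v) = (g ^ (i + 1)) v := by
    intro i _
    rw [pow_succ', MulAut.mul_apply]
  rw [Finset.prod_congr rfl h1]
  have h2 := Finset.prod_range_succ' (fun i => (g ^ i) v) p
  have h3 := Finset.prod_range_succ (fun i => (g ^ i) v) p
  rw [h3] at h2
  simp only [hg, pow_zero, MulAut.one_apply] at h2
  exact (mul_right_cancel h2).symm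

theorem Tg_mem {p : ℕ} {g : MulAut N} {S : Subgroup N} (hS : ∀ v ∈ S, g v ∈ S) {v : N}
    (hv : v ∈ S) : Tg p g v ∈ S := by
  unfold Tg
  have hpow : ∀ i : ℕ, (g ^ i) v ∈ S := by
    intro i
    induction i with
    | zero => simpa using hv
    | succ i ih => rw [pow_succ', MulAut.mul_apply]; exact hS _ ih
  exact Subgroup.prod_mem _ (fun i _ => hpow i)

theorem Tg_comm {p : ℕ} {g h : MulAut N} (hc : h * g = g * h) (v : N) :
    h (Tg p g v) = Tg p g (h v) := by
  unfold Tg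
  rw [map_prod]
  apply Finset.prod_congr rfl
  intro i _
  have hci : h * g ^ i = g ^ i * h := by
    have : Commute h g := hc
    exact (this.pow_right i)
  calc h ((g ^ i) v) = (h * g ^ i) v := rfl
    _ = (g ^ i * h) v := by rw [hci]
    _ = (g ^ i) (h v) := rfl

/-- `Tg g v` lies in `fixOf K` whenever `v` does and `g` commutes with `K`. -/
theorem Tg_mem_fixOf {p : ℕ} {g : MulAut N} {K : Subgroup (MulAut N)}
    (hc : ∀ k ∈ K, k * g = g * k) {v : N} (hv : v ∈ fixOf K) : Tg p g v ∈ fixOf K := by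
  intro k hk
  rw [Tg_comm (hc k hk), hv k hk]

/-! ### The rank-2 identity -/

theorem prod_range_mul_mod {M : Type*} [CommMonoid M] {p i : ℕ} (hp : p.Prime) (hi : ¬ p ∣ i)
    (G : ℕ → M) : ∏ j ∈ range p, G ((i * j) % p) = ∏ k ∈ range p, G k := by
  have hcop : Nat.Coprime p i := (Nat.Prime.coprime_iff_not_dvd hp).mpr hi
  have hmaps : ∀ j ∈ range p, (i * j) % p ∈ range p := by
    intro j _
    exact Finset.mem_range.mpr (Nat.mod_lt _ hp.pos)
  have hinj : Set.InjOn (fun j => (i * j) % p) (range p : Set ℕ) := by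
    intro a ha b hb hab
    have ha' : a < p := Finset.mem_range.mp ha
    have hb' : b < p := Finset.mem_range.mp hb
    have h1 : i * a ≡ i * b [MOD p] := hab
    have h2 : a ≡ b [MOD p] := Nat.ModEq.cancel_left_of_coprime hcop h1
    have h3 : a % p = b % p := h2
    rwa [Nat.mod_eq_of_lt ha', Nat.mod_eq_of_lt hb'] at h3
  have hsurj : Set.SurjOn (fun j => (i * j) % p) (range p : Set ℕ) (range p : Set ℕ) := by
    apply Finset.surjOn_of_injOn_of_card_le _ hmaps hinj le_rfl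
  exact Finset.prod_nbij (fun j => (i * j) % p) hmaps hinj hsurj (fun _ _ => rfl)

theorem pow_mod_of_pow_eq_one {G : Type*} [Monoid G] {y : G} {p : ℕ} (hy : y ^ p = 1) (n : ℕ) :
    y ^ n = y ^ (n % p) := by
  conv_lhs => rw [← Nat.div_add_mod n p]
  rw [pow_add, pow_mul, hy, one_pow, one_mul]

/-- The rank-2 identity. -/
theorem rank_two_identity {p : ℕ} (hp : p.Prime) {x y : MulAut N} (hc : x * y = y * x)
    (hx : x ^ p = 1) (hy : y ^ p = 1) (v : N) :
    v ^ p * Tg p x (Tg p y v) = (∏ j ∈ range p, Tg p (x * y ^ j) v) * Tg p y v := by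
  have hcomm : Commute x y := hc
  -- left side as a double product
  have hL : Tg p x (Tg p y v) = ∏ i ∈ range p, ∏ k ∈ range p, (x ^ i * y ^ k) v := by
    unfold Tg
    apply Finset.prod_congr rfl
    intro i _
    rw [map_prod]
    rfl
  -- right side: swap the order of the products
  have hR : ∏ j ∈ range p, Tg p (x * y ^ j) v
      = ∏ i ∈ range p, ∏ j ∈ range p, (x ^ i * y ^ ((i * j) % p)) v := by
    unfold Tg
    rw [Finset.prod_comm]
    apply Finset.prod_congr rfl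
    intro i _
    apply Finset.prod_congr rfl
    intro j _
    have h1 : (x * y ^ j) ^ i = x ^ i * y ^ (j * i) := by
      rw [(hcomm.pow_right j).mul_pow, ← pow_mul]
    rw [h1, mul_comm j i, pow_mod_of_pow_eq_one hy (i * j)]
  -- the inner products for i ≠ 0
  have hinner : ∀ i ∈ range p, i ≠ 0 →
      ∏ j ∈ range p, (x ^ i * y ^ ((i * j) % p)) v = ∏ k ∈ range p, (x ^ i * y ^ k) v := by
    intro i hi hi0
    have hndvd : ¬ p ∣ i := by
      intro hd
      have := Nat.le_of_dvd (Nat.pos_of_ne_zero hi0) hd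
      have := Finset.mem_range.mp hi
      omega
    exact prod_range_mul_mod hp hndvd (fun k => (x ^ i * y ^ k) v)
  have hp0 : 0 ∈ range p := Finset.mem_range.mpr hp.pos
  have hsplitL : ∏ i ∈ range p, ∏ k ∈ range p, (x ^ i * y ^ k) v
      = (∏ k ∈ range p, (x ^ 0 * y ^ k) v) *
        ∏ i ∈ (range p).erase 0, ∏ k ∈ range p, (x ^ i * y ^ k) v :=
    (Finset.mul_prod_erase (range p) (fun i => ∏ k ∈ range p, (x ^ i * y ^ k) v) hp0).symm
  have hsplitR : ∏ i ∈ range p, ∏ j ∈ range p, (x ^ i * y ^ ((i * j) % p)) v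
      = (∏ j ∈ range p, (x ^ 0 * y ^ ((0 * j) % p)) v) *
        ∏ i ∈ (range p).erase 0, ∏ j ∈ range p, (x ^ i * y ^ ((i * j) % p)) v :=
    (Finset.mul_prod_erase (range p)
      (fun i => ∏ j ∈ range p, (x ^ i * y ^ ((i * j) % p)) v) hp0).symm
  have hE : ∏ i ∈ (range p).erase 0, ∏ j ∈ range p, (x ^ i * y ^ ((i * j) % p)) v
      = ∏ i ∈ (range p).erase 0, ∏ k ∈ range p, (x ^ i * y ^ k) v := by
    apply Finset.prod_congr rfl
    intro i hi
    exact hinner i (Finset.mem_of_mem_erase hi) (Finset.ne_of_mem_erase hi)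
  have h0a : ∏ j ∈ range p, (x ^ 0 * y ^ ((0 * j) % p)) v = v ^ p := by
    simp
  have h0b : ∏ k ∈ range p, (x ^ 0 * y ^ k) v = Tg p y v := by
    unfold Tg
    simp
  rw [hL, hR, hsplitL, hsplitR, hE, h0a, h0b]
  set P := ∏ i ∈ (range p).erase 0, ∏ k ∈ range p, (x ^ i * y ^ k) v
  rw [mul_assoc, mul_comm (Tg p y v) P]

/-! ### Cardinalities -/

theorem card_sup_of_commute {G : Type*} [Group G] [Finite G] (A B : Subgroup G)
    (hc : ∀ a ∈ A, ∀ b ∈ B, a * b = b * a) (hd : A ⊓ B = ⊥) :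
    Nat.card ↥(A ⊔ B) = Nat.card A * Nat.card B := by
  have hcomm : ∀ (a : A) (b : B), Commute (A.subtype a) (B.subtype b) := fun a b => hc a a.2 b b.2
  have h := MonoidHom.noncommCoprod_range A.subtype B.subtype hcomm
  rw [Subgroup.range_subtype, Subgroup.range_subtype] at h
  have hinj : Function.Injective (MonoidHom.noncommCoprod A.subtype B.subtype hcomm) := by
    rw [MonoidHom.noncommCoprod_injective]
    refine ⟨A.subtype_injective, B.subtype_injective, ?_⟩
    rw [Subgroup.range_subtype, Subgroup.range_subtype, disjoint_iff, hd]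
  rw [← h, ← Nat.card_prod]
  exact (Nat.card_congr (MonoidHom.ofInjective hinj).toEquiv).symm

theorem card_sup_zpowers {G : Type*} [Group G] [Finite G] {p : ℕ} [hp : Fact p.Prime]
    (K : Subgroup G) {g : G} (hc : ∀ k ∈ K, k * g = g * k) (hgK : g ∉ K) (hgp : g ^ p = 1) :
    Nat.card ↥(K ⊔ Subgroup.zpowers g) = Nat.card K * p := by
  have hg1 : g ≠ 1 := fun h => hgK (h ▸ K.one_mem)
  have hord : orderOf g = p := orderOf_eq_prime hgp hg1
  have hcardz : Nat.card (Subgroup.zpowers g) = p := by rw [Nat.card_zpowers, hord]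
  have hd : K ⊓ Subgroup.zpowers g = ⊥ := by
    haveI : Fact (Nat.card (Subgroup.zpowers g)).Prime := ⟨by rw [hcardz]; exact hp.out⟩
    rcases Subgroup.eq_bot_or_eq_top_of_prime_card ((K ⊓ Subgroup.zpowers g).subgroupOf
      (Subgroup.zpowers g)) with h | h
    · rw [Subgroup.subgroupOf_eq_bot] at h
      rw [disjoint_iff, inf_assoc, inf_idem] at h
      exact h
    · exfalso
      rw [Subgroup.subgroupOf_eq_top] at h
      exact hgK ((h (Subgroup.mem_zpowers g)).1)
  rw [card_sup_of_commute K (Subgroup.zpowers g) ?_ hd, hcardz]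
  intro a ha b hb
  obtain ⟨n, rfl⟩ := Subgroup.mem_zpowers_iff.mp hb
  have : Commute a g := hc a ha
  exact (this.zpow_right n)

theorem isPGroup_of_exp {p : ℕ} (E : Subgroup (MulAut N)) (hEp : ∀ x ∈ E, x ^ p = 1) :
    IsPGroup p E := by
  intro g
  refine ⟨1, ?_⟩
  apply Subtype.ext
  simpa using hEp g.1 g.2

/-- A nontrivial subgroup of exponent `p` has a subgroup of index `p`. -/
theorem exists_hyp [Finite N] {p : ℕ} [Fact p.Prime] {E : Subgroup (MulAut N)} (hE : E ≠ ⊥)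
    (hEp : ∀ x ∈ E, x ^ p = 1) : ∃ E₁ : Subgroup (MulAut N), IsHyp p E₁ E := by
  obtain ⟨m, hm⟩ := IsPGroup.iff_card.mp (isPGroup_of_exp E hEp)
  have hm0 : m ≠ 0 := by
    rintro rfl
    apply hE
    rw [← Subgroup.card_eq_one]
    simpa using hm
  obtain ⟨m', rfl⟩ := Nat.exists_eq_succ_of_ne_zero hm0
  have hdvd : p ^ m' ∣ Nat.card ↥E := by
    rw [hm]; exact pow_dvd_pow p (Nat.le_succ m')
  obtain ⟨K', hK'⟩ := Sylow.exists_subgroup_card_pow_prime p hdvd
  refine ⟨K'.map E.subtype, Subgroup.map_subtype_le K', ?_⟩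
  rw [Subgroup.card_map_of_injective E.subtype_injective, hK', hm, pow_succ]

theorem pow_mem_imp_mem [Finite N] {p : ℕ} (hcop : (Nat.card N).Coprime p) (S : Subgroup N)
    {v : N} (h : v ^ p ∈ S) : v ∈ S := by
  have hc : Nat.Coprime p (orderOf v) :=
    (Nat.Coprime.coprime_dvd_left (orderOf_dvd_natCard v) hcop).symm
  obtain ⟨m, hm⟩ := exists_pow_eq_self_of_coprime hc
  rw [← hm]
  exact S.pow_mem h m

theorem Tg_mem_hyp {p : ℕ} {g : MulAut N} {K : Subgroup (MulAut N)} {N' : Subgroup N}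
    (hgp : g ^ p = 1) (hc : ∀ k ∈ K, k * g = g * k) (hinv : ∀ v ∈ N', g v ∈ N') {v : N}
    (hvK : v ∈ fixOf K) (hvN : v ∈ N') :
    Tg p g v ∈ fixOf (K ⊔ Subgroup.zpowers g) ⊓ N' := by
  refine ⟨?_, Tg_mem hinv hvN⟩
  rw [fixOf_sup]
  exact ⟨Tg_mem_fixOf hc hvK, mem_fixOf_zpowers.mpr (Tg_fixed hgp v)⟩

/-! ### The hyperplane decomposition -/

theorem main_aux [Finite N] {p : ℕ} [hp : Fact p.Prime] (hcop : (Nat.card N).Coprime p) :
    ∀ n : ℕ, ∀ E : Subgroup (MulAut N), Nat.card E = n →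
      (∀ x ∈ E, ∀ y ∈ E, x * y = y * x) → (∀ x ∈ E, x ^ p = 1) →
      ∀ N' : Subgroup N, (∀ e ∈ E, ∀ v ∈ N', e v ∈ N') →
        N' ≤ (fixOf E ⊓ N') ⊔
          ⨆ K : {K : Subgroup (MulAut N) // IsHyp p K E}, (fixOf K.1 ⊓ N') := by
  intro n
  induction n using Nat.strong_induction_on with
  | _ n ih =>
  intro E hn hEc hEp N' hinv
  by_cases hE : E = ⊥
  · subst hE
    intro v hv
    apply Subgroup.mem_sup_left
    exact ⟨by rw [fixOf_bot]; trivial, hv⟩
  -- a hyperplane `E₁` of `E` and `x ∈ E \ E₁`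
  obtain ⟨E₁, hE₁le, hE₁card⟩ := exists_hyp hE hEp
  have hp2 : 2 ≤ p := hp.out.two_le
  have hE₁pos : 0 < Nat.card E₁ := Nat.card_pos
  have hlt : Nat.card E₁ < n := by
    rw [← hn, ← hE₁card]
    nlinarith
  have hxex : ∃ x ∈ E, x ∉ E₁ := by
    by_contra hcon
    push Not at hcon
    have hle : E ≤ E₁ := fun x hx => hcon x hx
    have := Subgroup.card_le_of_le hle
    rw [hn] at this
    omega
  obtain ⟨x, hxE, hxE₁⟩ := hxex
  have hRHS : ∀ K : Subgroup (MulAut N), IsHyp p K E → fixOf K ⊓ N' ≤ (fixOf E ⊓ N') ⊔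
      ⨆ K : {K : Subgroup (MulAut N) // IsHyp p K E}, (fixOf K.1 ⊓ N') := by
    intro K hK
    exact le_sup_of_le_right
      (le_iSup (fun K : {K : Subgroup (MulAut N) // IsHyp p K E} => fixOf K.1 ⊓ N') ⟨K, hK⟩)
  have hIH := ih (Nat.card E₁) hlt E₁ rfl (fun a ha b hb => hEc a (hE₁le ha) b (hE₁le hb))
    (fun a ha => hEp a (hE₁le ha)) N' (fun e he => hinv e (hE₁le he))
  refine le_trans hIH (sup_le ?_ (iSup_le ?_))
  · exact hRHS E₁ ⟨hE₁le, hE₁card⟩
  · rintro ⟨K', hK'le, hK'card⟩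
    intro v hv
    obtain ⟨hvK, hvN⟩ := hv
    set R := (fixOf E ⊓ N') ⊔
      ⨆ K : {K : Subgroup (MulAut N) // IsHyp p K E}, (fixOf K.1 ⊓ N') with hR
    -- pick `y ∈ E₁ \ K'`
    have hK'pos : 0 < Nat.card K' := Nat.card_pos
    have hyex : ∃ y ∈ E₁, y ∉ K' := by
      by_contra hcon
      push Not at hcon
      have hle : E₁ ≤ K' := fun x hx => hcon x hx
      have := Subgroup.card_le_of_le hle
      rw [← hK'card] at this
      nlinarith
    obtain ⟨y, hyE₁, hyK'⟩ := hyex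
    have hyE : y ∈ E := hE₁le hyE₁
    have hxy : x * y = y * x := hEc x hxE y hyE
    have hxp : x ^ p = 1 := hEp x hxE
    have hyp : y ^ p = 1 := hEp y hyE
    have hid := rank_two_identity hp.out hxy hxp hyp v
    -- commutation with `K'` for elements of `E`
    have hcK' : ∀ g ∈ E, ∀ k ∈ K', k * g = g * k :=
      fun g hg k hk => hEc k (hE₁le (hK'le hk)) g hg
    have hcE₁ : ∀ g ∈ E, ∀ k ∈ E₁, k * g = g * k :=
      fun g hg k hk => hEc k (hE₁le hk) g hg
    -- `K' ⊔ ⟨y⟩ = E₁`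
    have hKy : K' ⊔ Subgroup.zpowers y = E₁ := by
      apply Subgroup.eq_of_le_of_card_ge
      · exact sup_le hK'le ((Subgroup.zpowers_le).mpr hyE₁)
      · rw [card_sup_zpowers K' (hcK' y hyE) hyK' hyp, hK'card]
    -- `E₁ ⊔ ⟨x⟩ = E`
    have hEx : E₁ ⊔ Subgroup.zpowers x = E := by
      apply Subgroup.eq_of_le_of_card_ge
      · exact sup_le hE₁le ((Subgroup.zpowers_le).mpr hxE)
      · rw [card_sup_zpowers E₁ (hcE₁ x hxE) hxE₁ hxp, hE₁card]
    -- the term `B = Tg y v`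
    have hB : Tg p y v ∈ fixOf E₁ ⊓ N' := by
      have := Tg_mem_hyp (p := p) hyp (hcK' y hyE) (hinv y hyE) hvK hvN
      rwa [hKy] at this
    have hBR : Tg p y v ∈ R := hRHS E₁ ⟨hE₁le, hE₁card⟩ hB
    -- the term `C = Tg x (Tg y v)`
    have hC : Tg p x (Tg p y v) ∈ fixOf E ⊓ N' := by
      have := Tg_mem_hyp (p := p) hxp (hcE₁ x hxE) (hinv x hxE) hB.1 hB.2
      rwa [hEx] at this
    have hCR : Tg p x (Tg p y v) ∈ R := Subgroup.mem_sup_left hC
    -- the terms `Tg (x y^j) v`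
    have hA : ∏ j ∈ range p, Tg p (x * y ^ j) v ∈ R := by
      apply Subgroup.prod_mem
      intro j _
      have hgE : x * y ^ j ∈ E := E.mul_mem hxE (E.pow_mem hyE j)
      have hgE₁ : x * y ^ j ∉ E₁ := by
        intro hcon
        apply hxE₁
        have : x = (x * y ^ j) * (y ^ j)⁻¹ := by group
        rw [this]
        exact E₁.mul_mem hcon (E₁.inv_mem (E₁.pow_mem hyE₁ j))
      have hgK' : x * y ^ j ∉ K' := fun h => hgE₁ (hK'le h)
      have hgp : (x * y ^ j) ^ p = 1 := hEp _ hgE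
      have hmem := Tg_mem_hyp (p := p) hgp (hcK' _ hgE) (hinv _ hgE) hvK hvN
      have hhyp : IsHyp p (K' ⊔ Subgroup.zpowers (x * y ^ j)) E := by
        refine ⟨sup_le (hK'le.trans hE₁le) ((Subgroup.zpowers_le).mpr hgE), ?_⟩
        rw [card_sup_zpowers K' (hcK' _ hgE) hgK' hgp, hK'card, hE₁card]
      exact hRHS _ hhyp hmem
    -- conclusion
    have hvp : v ^ p ∈ R := by
      have : v ^ p = (∏ j ∈ range p, Tg p (x * y ^ j) v) * Tg p y v *
          (Tg p x (Tg p y v))⁻¹ := by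
        rw [← hid]; group
      rw [this]
      exact R.mul_mem (R.mul_mem hA hBR) (R.inv_mem hCR)
    exact pow_mem_imp_mem hcop R hvp

/-- PIECE 1a for helper8 (S4330): hyperplane decomposition. -/
theorem gen_hyp {N : Type*} [CommGroup N] [Finite N] {p : ℕ} [Fact p.Prime]
    (hcop : (Nat.card N).Coprime p) (E : Subgroup (MulAut N))
    (hEc : ∀ x ∈ E, ∀ y ∈ E, x * y = y * x) (hEp : ∀ x ∈ E, x ^ p = 1) (hfix : fixOf E = ⊥) :
    (⨆ K : {K : Subgroup (MulAut N) // IsHyp p K E}, fixOf K.1) = ⊤ := by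
  rw [eq_top_iff]
  have h := main_aux hcop (Nat.card E) E rfl hEc hEp ⊤ (fun _ _ _ _ => Subgroup.mem_top _)
  rw [hfix] at h
  simpa using h

/-! ### Independence of the hyperplane fixed spaces -/

/-- the norm map of a (finite) subgroup of automorphisms -/
noncomputable def TK [Finite N] (K : Subgroup (MulAut N)) (v : N) : N :=
  ∏ᶠ k : ↥K, (k : MulAut N) v

theorem TK_eq [Finite N] (K : Subgroup (MulAut N)) [Fintype ↥K] (v : N) :
    TK K v = ∏ k : ↥K, (k : MulAut N) v := by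
  unfold TK
  exact finprod_eq_prod_of_fintype _

theorem TK_mem_fixOf [Finite N] (K : Subgroup (MulAut N)) (v : N) : TK K v ∈ fixOf K := by
  classical
  haveI : Fintype ↥K := Fintype.ofFinite _
  intro h hh
  rw [TK_eq, map_prod]
  exact Fintype.prod_equiv (Equiv.mulLeft (⟨h, hh⟩ : ↥K)) _ _ (fun k => rfl)

theorem TK_of_mem [Finite N] (K : Subgroup (MulAut N)) {v : N} (hv : v ∈ fixOf K) :
    TK K v = v ^ Nat.card K := by
  classical
  haveI : Fintype ↥K := Fintype.ofFinite _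
  rw [TK_eq, Finset.prod_congr rfl (fun k _ => hv k.1 k.2)]
  simp [Nat.card_eq_fintype_card]

theorem TK_mul [Finite N] (K : Subgroup (MulAut N)) (v w : N) :
    TK K (v * w) = TK K v * TK K w := by
  classical
  haveI : Fintype ↥K := Fintype.ofFinite _
  simp only [TK_eq, map_mul, Finset.prod_mul_distrib]

theorem TK_one [Finite N] (K : Subgroup (MulAut N)) : TK K (1 : N) = 1 := by
  classical
  haveI : Fintype ↥K := Fintype.ofFinite _
  simp [TK_eq]

theorem TK_prod [Finite N] (K : Subgroup (MulAut N)) {ι : Type*} (S : Finset ι) (f : ι → N) :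
    TK K (∏ i ∈ S, f i) = ∏ i ∈ S, TK K (f i) := by
  classical
  induction S using Finset.induction_on with
  | empty => simp [TK_one]
  | insert a S ha ih => rw [Finset.prod_insert ha, Finset.prod_insert ha, TK_mul, ih]

theorem TK_mem_fixOf_of_comm [Finite N] (K L : Subgroup (MulAut N))
    (hc : ∀ k ∈ K, ∀ l ∈ L, l * k = k * l) {v : N} (hv : v ∈ fixOf L) : TK K v ∈ fixOf L := by
  classical
  haveI : Fintype ↥K := Fintype.ofFinite _
  intro l hl
  rw [TK_eq, map_prod]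
  apply Finset.prod_congr rfl
  intro k _
  calc l ((k : MulAut N) v) = (l * (k : MulAut N)) v := rfl
    _ = ((k : MulAut N) * l) v := by rw [hc k.1 k.2 l hl]
    _ = (k : MulAut N) (l v) := rfl
    _ = (k : MulAut N) v := by rw [hv l hl]

/-- two distinct hyperplanes generate `E` -/
theorem sup_hyp_eq [Finite N] {p : ℕ} [hp : Fact p.Prime] {E K₀ K : Subgroup (MulAut N)}
    (h₀ : IsHyp p K₀ E) (h : IsHyp p K E) (hne : K ≠ K₀) : K₀ ⊔ K = E := by
  have hle : K₀ ⊔ K ≤ E := sup_le h₀.1 h.1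
  have hd1 : Nat.card K₀ ∣ Nat.card ↥(K₀ ⊔ K) := Subgroup.card_dvd_of_le le_sup_left
  have hd2 : Nat.card ↥(K₀ ⊔ K) ∣ Nat.card E := Subgroup.card_dvd_of_le hle
  obtain ⟨d, hd⟩ := hd1
  rw [hd, ← h₀.2] at hd2
  have hK₀pos : 0 < Nat.card K₀ := Nat.card_pos
  have hdp : d ∣ p := (Nat.mul_dvd_mul_iff_left hK₀pos).mp hd2
  rcases (Nat.dvd_prime hp.out).mp hdp with rfl | rfl
  · exfalso
    have hEq : K₀ ⊔ K = K₀ := by
      symm
      apply Subgroup.eq_of_le_of_card_ge le_sup_left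
      rw [hd, mul_one]
    have hKle : K ≤ K₀ := by
      rw [← hEq]; exact le_sup_right
    apply hne
    apply Subgroup.eq_of_le_of_card_ge hKle
    have h1 := h₀.2
    have h2 := h.2
    have hp0 : 0 < p := hp.out.pos
    have : Nat.card K₀ * p = Nat.card K * p := by rw [h1, h2]
    exact (Nat.eq_of_mul_eq_mul_right hp0 this).le
  · apply Subgroup.eq_of_le_of_card_ge hle
    rw [hd, h₀.2]

/-- PIECE 1b for helper8 (S4330): independence of the hyperplane fixed spaces. -/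
theorem indep_hyp {N : Type*} [CommGroup N] [Finite N] {p : ℕ} [Fact p.Prime]
    (hcop : (Nat.card N).Coprime p) (E : Subgroup (MulAut N))
    (hEc : ∀ x ∈ E, ∀ y ∈ E, x * y = y * x) (hEp : ∀ x ∈ E, x ^ p = 1) (hfix : fixOf E = ⊥)
    (S : Finset (Subgroup (MulAut N))) (hS : ∀ K ∈ S, IsHyp p K E)
    (f : Subgroup (MulAut N) → N) (hf : ∀ K ∈ S, f K ∈ fixOf K)
    (hprod : ∏ K ∈ S, f K = 1) : ∀ K ∈ S, f K = 1 := by
  classical
  intro K₀ hK₀
  have h₀ := hS K₀ hK₀
  have h1 : TK K₀ (∏ K ∈ S, f K) = 1 := by rw [hprod, TK_one]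
  rw [TK_prod] at h1
  have h2 : ∀ K ∈ S, K ≠ K₀ → TK K₀ (f K) = 1 := by
    intro K hK hne
    have hmem : TK K₀ (f K) ∈ fixOf (K₀ ⊔ K) := by
      rw [fixOf_sup]
      refine ⟨TK_mem_fixOf K₀ _, ?_⟩
      apply TK_mem_fixOf_of_comm K₀ K _ (hf K hK)
      intro k hk l hl
      exact hEc l ((hS K hK).1 hl) k (h₀.1 hk)
    rw [sup_hyp_eq h₀ (hS K hK) hne, hfix, Subgroup.mem_bot] at hmem
    exact hmem
  rw [Finset.prod_eq_single_of_mem K₀ hK₀ h2, TK_of_mem K₀ (hf K₀ hK₀)] at h1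
  -- `card K₀` is a power of `p`, hence prime to `card N`
  obtain ⟨m, hm⟩ := IsPGroup.iff_card.mp (isPGroup_of_exp E hEp)
  have hdvd : Nat.card K₀ ∣ p ^ m := by
    rw [← hm, ← h₀.2]; exact dvd_mul_right _ _
  have hc1 : Nat.Coprime (Nat.card N) (Nat.card K₀) :=
    Nat.Coprime.coprime_dvd_right hdvd (Nat.Coprime.pow_right m hcop)
  have hord : orderOf (f K₀) ∣ Nat.card K₀ := orderOf_dvd_of_pow_eq_one h1
  have hord2 : orderOf (f K₀) ∣ Nat.card N := orderOf_dvd_natCard _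
  have : orderOf (f K₀) = 1 := Nat.eq_one_of_dvd_coprimes hc1 hord2 hord
  exact orderOf_eq_one_iff.mp this

end Cfsg.Agent.Helper19.S4330P1
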