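import Mathlib
import Cfsg.Agent.Lib.Helper15.S74Defs
import Cfsg.Agent.Lib.Helper19.S74NXB2Core
import Cfsg.Agent.Lib.Helper25.S74EVENGEN

/-!
# S2474 piece S74-NXB2 (helper19): the exact-signature wrapper of the core.
-/

set_option autoImplicit false
set_option linter.unusedSectionVars false
set_option linter.unusedVariables false

open Cfsg.Agent.Helper15.S62

namespace Cfsg.Agent.Helper15.S74

universe u

variable {F : Type u} [Field F]

theorem nxB2 [Fintype F] {W : Type u} [AddCommGroup W] [Module F W] [FiniteDimensional F W]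
    (p : ℕ) [Fact p.Prime] [CharP F p] (B : LinearMap.BilinForm F W) (hnd : LND B)
    (y u : Module.End F W) (hy : Isom B y) (hu : Isom B u) (hcomm : Commute y u) (t : ℕ)
    (ht : t.Prime) (ht2 : t ≠ 2) (htF : (t : F) ≠ 0)
    (hsum : ∑ i ∈ Finset.range t, y ^ i = 0) (hup : u ^ p = 1) (hu1 : u ≠ 1) :
    ∃ d : ℕ, 1 ≤ d ∧ 4 * d ≤ Module.finrank F W ∧ t ∣ Fintype.card F ^ (2 * d) - 1 :=
  s74_nxb2_core
    (fun U _ _ _ _ y t ht ht2 htF hsum β hnd hinv =>
      exists_small_of_form y t ht ht2 htF hsum β hnd hinv)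
    p B hnd y u hy hu hcomm t ht ht2 htF hsum hup hu1

end Cfsg.Agent.Helper15.S74
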