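import Mathlib
import Cfsg.Agent.Lib.Helper23.SlhDefs

/-!
S3050 farm-out (helper23), piece SLH-B1: the block form of the images of the root elements.
-/

set_option autoImplicit false
set_option linter.unusedSectionVars false
set_option linter.unusedVariables false

namespace Cfsg.Agent.Helper23.Slh

open Cfsg.Agent.Helper12.NatMod

local notation "SL2" => Matrix.SpecialLinearGroup (Fin 2)

section Blocks

variable {F : Type*} [Field F] [CharP F 2] {R : Type*} [Ring R]

/-- in characteristic 2, `w = uu 1 * ll 1 * uu 1` is the permutation matrix and conjugates `uu c` to `ll c` -/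
theorem slh_b1_ll_eq (c : F) :
    ll c = (uu 1 * ll 1 * uu 1) * uu c * (uu 1 * ll 1 * uu 1) := by
  have h11 : (1 : F) + 1 = 0 := CharTwo.add_self_eq_zero 1
  apply sl2_ext
  simp only [Matrix.SpecialLinearGroup.coe_mul, uu_coe, ll_coe, Matrix.mul_fin_two]
  simp [h11]

theorem slh_b1_Pw (h2 : (2 : R) = 0) (P : SL2 F →* Matrix (Fin 2) (Fin 2) R)
    (hT : P (uu 1) = !![1, 1; 0, 1]) (hT' : P (ll 1) = !![1, 0; 1, 1]) :
    P (uu 1 * ll 1 * uu 1) = !![0, 1; 1, 0] := by
  have h11 : (1 : R) + 1 = 0 := by rw [one_add_one_eq_two, h2]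
  rw [map_mul, map_mul, hT, hT']
  simp only [Matrix.mul_fin_two]
  simp [h11]

/-- a matrix commuting with `[[1,1],[0,1]]` has the form `[[a,b],[0,a]]` -/
theorem slh_b1_comm (M : Matrix (Fin 2) (Fin 2) R)
    (h : M * !![1, 1; 0, 1] = !![1, 1; 0, 1] * M) : M = !![M 0 0, M 0 1; 0, M 0 0] := by
  have hM : M = !![M 0 0, M 0 1; M 1 0, M 1 1] := Matrix.eta_fin_two M
  rw [hM] at h
  simp only [Matrix.mul_fin_two] at h
  have h00 := congrFun (congrFun h 0) 0
  have h01 := congrFun (congrFun h 0) 1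
  simp at h00 h01
  have h11' : M 1 1 = M 0 0 := by
    have h3 : M 0 1 + M 0 0 = M 0 1 + M 1 1 := by
      rw [add_comm]; exact h01
    exact (add_left_cancel h3).symm
  conv_lhs => rw [hM]
  rw [h00, h11']

/-- PIECE SLH-B1. -/
theorem exists_blockData (h2 : (2 : R) = 0) (P : SL2 F →* Matrix (Fin 2) (Fin 2) R)
    (hT : P (uu 1) = !![1, 1; 0, 1]) (hT' : P (ll 1) = !![1, 0; 1, 1]) :
    ∃ α β : F → R, BlockData P α β := by
  have hu : ∀ c : F, P (uu c) = !![P (uu c) 0 0, P (uu c) 0 1; 0, P (uu c) 0 0] := by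
    intro c
    apply slh_b1_comm
    rw [← hT, ← map_mul, ← map_mul, ← uu_add, ← uu_add, add_comm]
  refine ⟨fun c => P (uu c) 0 0, fun c => P (uu c) 0 1, hu, ?_⟩
  intro c
  have hw := slh_b1_Pw h2 P hT hT'
  show P (ll c) = !![P (uu c) 0 0, 0; P (uu c) 0 1, P (uu c) 0 0]
  rw [slh_b1_ll_eq c, map_mul, map_mul, hw, hu c]
  simp only [Matrix.mul_fin_two]
  simp

end Blocks

end Cfsg.Agent.Helper23.Slh
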