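import Mathlib
import Cfsg.Agent.Lib.Helper23.SlhDefs

/-!
S3050 farm-out (helper23), piece SLH-B1R: the basic relations between the blocks.
-/

set_option autoImplicit false
set_option linter.unusedSectionVars false
set_option linter.unusedVariables false

namespace Cfsg.Agent.Helper23.Slh

open Cfsg.Agent.Helper12.NatMod

local notation "SL2" => Matrix.SpecialLinearGroup (Fin 2)

section Blocks

variable {F : Type*} [Field F] [CharP F 2] {R : Type*} [Ring R]

/-- entries of an explicit 2x2 matrix equation -/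
theorem slh_b1r_entries {a b c d a' b' c' d' : R} (h : !![a, b; c, d] = !![a', b'; c', d']) :
    a = a' ∧ b = b' ∧ c = c' ∧ d = d' := by
  have h00 := congrFun (congrFun h 0) 0
  have h01 := congrFun (congrFun h 0) 1
  have h10 := congrFun (congrFun h 1) 0
  have h11 := congrFun (congrFun h 1) 1
  simp at h00 h01 h10 h11
  exact ⟨h00, h01, h10, h11⟩

/-- the product formula for the blocks -/
theorem slh_b1r_mul (P : SL2 F →* Matrix (Fin 2) (Fin 2) R) (α β : F → R) (hD : BlockData P α β)
    (c d : F) : α (c + d) = α c * α d ∧ β (c + d) = α c * β d + β c * α d := by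
  have h := hD.uu_eq (c + d)
  rw [uu_add, map_mul, hD.uu_eq c, hD.uu_eq d] at h
  simp only [Matrix.mul_fin_two] at h
  obtain ⟨h00, h01, -, -⟩ := slh_b1r_entries h
  simp at h00 h01
  exact ⟨h00.symm, h01.symm⟩

/-- PIECE SLH-B1R. -/
theorem blockRel1 (h2 : (2 : R) = 0) (P : SL2 F →* Matrix (Fin 2) (Fin 2) R)
    (hT : P (uu 1) = !![1, 1; 0, 1]) (α β : F → R) (hD : BlockData P α β) : BlockRel1 α β := by
  have hzero : α 0 = 1 ∧ β 0 = 0 := by
    have h := hD.uu_eq 0
    rw [uu_zero, map_one, Matrix.one_fin_two] at h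
    obtain ⟨h00, h01, -, -⟩ := slh_b1r_entries h
    exact ⟨h00.symm, h01.symm⟩
  have hone : α 1 = 1 ∧ β 1 = 1 := by
    have h := hD.uu_eq 1
    rw [hT] at h
    obtain ⟨h00, h01, -, -⟩ := slh_b1r_entries h
    exact ⟨h00.symm, h01.symm⟩
  have hadd := slh_b1r_mul P α β hD
  have hneg : ∀ x : R, -x = x := by
    intro x
    have hx : x + x = 0 := by
      have : x + x = 2 * x := by rw [two_mul]
      rw [this, h2, zero_mul]
    exact neg_eq_of_add_eq_zero_left hx
  refine ⟨hzero.1, hzero.2, hone.1, hone.2, fun c d => (hadd c d).1, fun c d => (hadd c d).2, ?_, ?_⟩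
  · intro c d
    rw [← (hadd c d).1, ← (hadd d c).1, add_comm]
  · intro c
    have h := (hadd c c).2
    rw [CharTwo.add_self_eq_zero, hzero.2] at h
    have h3 : α c * β c = -(β c * α c) := eq_neg_of_add_eq_zero_left h.symm
    rw [h3, hneg]

end Blocks

end Cfsg.Agent.Helper23.Slh
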