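import Mathlib
import Cfsg.Agent.Lib.Helper23.SlhDefs

/-!
S3050 farm-out (helper23), piece SLH-GSYS: the `Γ`-group attached to `(G, Q, e, x)`.
-/

set_option autoImplicit false
set_option linter.unusedSectionVars false
set_option linter.unusedVariables false

namespace Cfsg.Agent.Helper23.Slh

open Cfsg.Agent.Helper12.NatMod

local notation "SL2" => Matrix.SpecialLinearGroup (Fin 2)

section PartF

variable {G : Type*} [Group G] {K : Type*} [Field K]

/-- PIECE SLH-GSYS.  The `Γ`-group attached to `(G, Q, e, x)`: `π = e ∘ mk`, `φ = MulAut.conjNormal`. -/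
theorem exists_sys (Q : Subgroup G) [Q.Normal] (e : G ⧸ Q ≃* SL2 K)
    (x : G) (hx : orderOf x = 3) (hfpf : ∀ q ∈ Q, x * q * x⁻¹ = q → q = 1) :
    ∃ (S : Sys G K) (A : GGrp S ↥Q), (∀ g : G, S.π g = e (QuotientGroup.mk g)) ∧
      ∀ (g : G) (y : ↥Q), ((A.φ g y : ↥Q) : G) = g * (y : G) * g⁻¹ := by
  have hx3 : x ^ 3 = 1 := by
    rw [← hx]
    exact pow_orderOf_eq_one x
  have hker : ∀ g : G, e (QuotientGroup.mk g) = 1 → g ∈ Q := by
    intro g hg
    have h1 : (QuotientGroup.mk g : G ⧸ Q) = 1 := by
      apply e.injective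
      rw [hg, map_one]
    exact (QuotientGroup.eq_one_iff g).1 h1
  let S : Sys G K :=
    { π := e.toMonoidHom.comp (QuotientGroup.mk' Q)
      surj := e.surjective.comp (QuotientGroup.mk'_surjective Q)
      x := x
      hx3 := by
        rw [← map_pow, hx3, map_one]
      hx1 := by
        intro h1
        have hxQ : x ∈ Q := hker x h1
        have hx1 : x = 1 := hfpf x hxQ (by group)
        rw [hx1, orderOf_one] at hx
        omega }
  have hSπ : ∀ g : G, S.π g = e (QuotientGroup.mk g) := fun g => rfl
  let A : GGrp S ↥Q :=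
    { φ := MulAut.conjNormal
      inner := by
        intro g hg
        have hgQ : g ∈ Q := hker g hg
        refine ⟨⟨g, hgQ⟩, fun y => ?_⟩
        apply Subtype.ext
        rw [MulAut.conjNormal_apply]
        rfl
      fpf := by
        intro y hy
        have h1 : x * (y : G) * x⁻¹ = (y : G) := by
          have h2 := congrArg (fun z : ↥Q => (z : G)) hy
          simp only [MulAut.conjNormal_apply] at h2
          exact h2
        apply Subtype.ext
        exact hfpf y y.2 h1 }
  refine ⟨S, A, hSπ, fun g y => ?_⟩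
  exact MulAut.conjNormal_apply g y

end PartF

end Cfsg.Agent.Helper23.Slh
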