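import Mathlib
import Cfsg.Prelude.Def_Transfer
import Cfsg.Agent.Lib.Helper20.SchDefs
import Cfsg.Agent.Lib.Helper22.SchPLDefs
import Cfsg.Agent.Lib.Helper9.SchSTRUCT
import Cfsg.Agent.Lib.Helper20.SchG0LIFT

/-!
S4395 farm-out (helper20), piece SCH-COVER (assembly), core version: the pieces SCH-DER and
SCH-THETA enter as hypotheses (in the skeleton's form, for the fixed `X` and `F`).
-/

set_option autoImplicit false
set_option linter.unusedSectionVars false
set_option linter.unusedVariables false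

namespace Cfsg.Agent.Helper20.Sch

open Cfsg.Agent.Helper22.SchPL (SchAct)

universe u

variable {p q : ℕ} [Fact p.Prime] [Fact q.Prime]

section universal

/-- the order of the image of `z` modulo `N` when `⟨z⟩` meets `N` trivially -/
theorem sch_cover_orderOf_mk {X : Type*} [Group X] (N : Subgroup X) [N.Normal] (z : X)
    (hdisj : ∀ k : ℕ, z ^ k ∈ N → z ^ k = 1) :
    orderOf (QuotientGroup.mk' N z) = orderOf z := by
  apply Nat.dvd_antisymm
  · exact orderOf_map_dvd _ z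
  · apply orderOf_dvd_of_pow_eq_one
    apply hdisj
    have h1 : (QuotientGroup.mk' N z) ^ orderOf (QuotientGroup.mk' N z) = 1 :=
      pow_orderOf_eq_one _
    rw [← map_pow] at h1
    exact (QuotientGroup.eq_one_iff _).1 h1

theorem sch_cover_zpowers_pow {X : Type*} [Group X] (y : X) (j : ℕ)
    (hj : Nat.Coprime j (orderOf y)) : Subgroup.zpowers (y ^ j) = Subgroup.zpowers y := by
  apply le_antisymm
  · rw [Subgroup.zpowers_le]
    exact Subgroup.pow_mem _ (Subgroup.mem_zpowers y) j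
  · rw [Subgroup.zpowers_le]
    obtain ⟨m, hm⟩ := exists_pow_eq_self_of_coprime hj
    have h1 : (y ^ j) ^ m ∈ Subgroup.zpowers (y ^ j) :=
      Subgroup.pow_mem _ (Subgroup.mem_zpowers _) m
    rw [hm] at h1
    exact h1

/-- SCH-COVER, core. -/
theorem exists_cover_core {X : Type*} [Group X] [Finite X] (hpq : p ≠ q) {a r t : ℕ} (hr : 1 ≤ r)
    (ha : a = orderOf (p : ZMod q))
    (hX : MinNonPNilp p X) (hcard : Nat.card X = p ^ t * q ^ r)
    {F : Type*} [Field F] [Finite F] (hF : Nat.card F = p ^ a) (μ : F) (hμ : orderOf μ = q)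
    (hμ0 : μ ≠ 0) {C : Type*} [AddCommGroup C] [Finite C] (β : F →+ F →+ C)
    (hm : ∀ x x', β (mulAddEquiv μ hμ0 x) (mulAddEquiv μ hμ0 x') = β x x')
    (hn : Heis.aut β (mulAddEquiv μ hμ0) hm ^ (q ^ r) = 1)
    (hder : ∀ (P : Subgroup X) [P.Normal] (y : X), IsPGroup p P →
      P ⊔ Subgroup.zpowers y = ⊤ → SchAct p q ↥P (MulAut.conjNormal y) →
      (derSub P).Normal ∧ derSub P ≤ Subgroup.center X ∧ derSub P ≤ P ∧
      (∀ u ∈ P, u ^ p ∈ derSub P) ∧
      (∀ u ∈ P, ∀ v ∈ P, u * v * u⁻¹ * v⁻¹ ∈ derSub P) ∧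
      (∀ H : Subgroup X, derSub P ≤ H → H ≤ P → H ≠ P → (∀ x ∈ H, y * x * y⁻¹ ∈ H) →
        H = derSub P) ∧
      (∃ u ∈ P, u⁻¹ * (y * u * y⁻¹) ∉ derSub P) ∧
      (∀ H : Subgroup X, H ⊔ derSub P = ⊤ → H = ⊤))
    (htheta : ∀ (P : Subgroup X) [P.Normal] (y : X), IsPGroup p P →
      P ⊔ Subgroup.zpowers y = ⊤ → y ^ q ∈ Subgroup.center X →
      SchAct p q ↥P (MulAut.conjNormal y) → ∀ (N : Subgroup X) [N.Normal], N = derSub P →
      ∃ j : ℕ, j.Coprime q ∧ ∃ θ : Multiplicative F →* X ⧸ N, Function.Injective θ ∧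
        θ.range = P.map (QuotientGroup.mk' N) ∧
        ∀ x : F, θ (Multiplicative.ofAdd (μ * x)) =
          (QuotientGroup.mk' N (y ^ j)) * θ (Multiplicative.ofAdd x) *
            (QuotientGroup.mk' N (y ^ j))⁻¹) :
    ∃ (N : Subgroup X) (_ : N.Normal), N ≤ Subgroup.center X ∧ IsPGroup p N ∧
      (∀ H : Subgroup X, H ⊔ N = ⊤ → H = ⊤) ∧
      ∃ π₀ : G0 β (mulAddEquiv μ hμ0) hm (q ^ r) hn →* X ⧸ N, Function.Surjective π₀ ∧
        π₀.ker ≤ Subgroup.center (G0 β (mulAddEquiv μ hμ0) hm (q ^ r) hn) := by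
  have hp : p.Prime := Fact.out
  have hq : q.Prime := Fact.out
  obtain ⟨P, hP, y, hPcard, hy, hyq, hsup, hact⟩ := exists_struct hpq hX hcard
  have : P.Normal := hP
  have hPp : IsPGroup p P := IsPGroup.of_card hPcard
  obtain ⟨hNn, hNc, hNP, -, -, -, -, hfrat⟩ := hder P y hPp hsup hact
  have : (derSub P).Normal := hNn
  have hNp : IsPGroup p (derSub P) := hPp.to_le hNP
  obtain ⟨j, hj, θ, hθinj, hθr, hθy⟩ := htheta P y hPp hsup hyq hact (derSub P) rfl
  refine ⟨derSub P, hNn, hNc, hNp, hfrat, ?_⟩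
  have : NeZero (q ^ r) := ⟨pow_ne_zero r hq.ne_zero⟩
  have hjy : Nat.Coprime j (orderOf y) := by
    rw [hy]
    exact Nat.Coprime.pow_right r hj
  have hyj : orderOf (y ^ j) = q ^ r := by
    rw [Nat.Coprime.orderOf_pow hjy.symm, hy]
  -- `⟨y⟩` meets `N` trivially
  have hyN : ∀ k : ℕ, (y ^ j) ^ k ∈ derSub P → (y ^ j) ^ k = 1 := by
    intro k hk
    have hqg : IsPGroup q (Subgroup.zpowers (y ^ j)) :=
      IsPGroup.of_card (n := r) (by rw [Nat.card_zpowers, hyj])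
    have hdisj : Disjoint (derSub P) (Subgroup.zpowers (y ^ j)) :=
      IsPGroup.disjoint_of_ne p q hpq _ _ hNp hqg
    have h1 : (y ^ j) ^ k ∈ derSub P ⊓ Subgroup.zpowers (y ^ j) :=
      ⟨hk, Subgroup.pow_mem _ (Subgroup.mem_zpowers _) k⟩
    rw [disjoint_iff.1 hdisj] at h1
    exact Subgroup.mem_bot.1 h1
  have how : orderOf (QuotientGroup.mk' (derSub P) (y ^ j)) = q ^ r := by
    rw [sch_cover_orderOf_mk (derSub P) (y ^ j) hyN, hyj]
  have hθ : ∀ x, θ (Multiplicative.ofAdd (mulAddEquiv μ hμ0 x)) =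
      QuotientGroup.mk' (derSub P) (y ^ j) * θ (Multiplicative.ofAdd x) *
        (QuotientGroup.mk' (derSub P) (y ^ j))⁻¹ := fun x => hθy x
  have hdisj : θ.range ⊓ Subgroup.zpowers (QuotientGroup.mk' (derSub P) (y ^ j)) = ⊥ := by
    have h1 : IsPGroup p (θ.range) := by
      rw [hθr]
      exact hPp.map _
    have h2 : IsPGroup q (Subgroup.zpowers (QuotientGroup.mk' (derSub P) (y ^ j))) :=
      IsPGroup.of_card (n := r) (by rw [Nat.card_zpowers, how])
    exact disjoint_iff.1 (IsPGroup.disjoint_of_ne p q hpq _ _ h1 h2)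
  have hsup' : θ.range ⊔ Subgroup.zpowers (QuotientGroup.mk' (derSub P) (y ^ j)) = ⊤ := by
    rw [hθr, ← MonoidHom.map_zpowers, ← Subgroup.map_sup, sch_cover_zpowers_pow y j hjy, hsup]
    exact Subgroup.map_top_of_surjective _ (QuotientGroup.mk'_surjective _)
  exact exists_G0_hom β (mulAddEquiv μ hμ0) hm (q ^ r) hn θ _ hθ hθinj how hdisj hsup'

end universal

end Cfsg.Agent.Helper20.Sch
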