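import Mathlib
import Cfsg.Prelude.Def_Transfer
import Cfsg.Agent.Lib.Helper20.SchDefs
import Cfsg.Agent.Lib.Helper22.SchPLDefs
import Cfsg.Agent.Lib.Helper4.SchDER
import Cfsg.Agent.Lib.Helper7.SchTHETA
import Cfsg.Agent.Lib.Helper19.SchCOVERCore

/-!
S4395 farm-out (helper20), piece SCH-COVER (assembly: STRUCT, DER, THETA, G0LIFT).
-/

set_option autoImplicit false
set_option linter.unusedSectionVars false
set_option linter.unusedVariables false

namespace Cfsg.Agent.Helper20.Sch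

open Cfsg.Agent.Helper22.SchPL (SchAct)

universe u

variable {p q : ℕ} [Fact p.Prime] [Fact q.Prime]

section universal

/-- SCH-COVER (assembly: STRUCT, DER, THETA, G0LIFT). -/
theorem exists_cover {X : Type*} [Group X] [Finite X] (hpq : p ≠ q) {a r t : ℕ} (hr : 1 ≤ r)
    (ha : a = orderOf (p : ZMod q))
    (hX : MinNonPNilp p X) (hcard : Nat.card X = p ^ t * q ^ r)
    {F : Type*} [Field F] [Finite F] (hF : Nat.card F = p ^ a) (μ : F) (hμ : orderOf μ = q)
    (hμ0 : μ ≠ 0) {C : Type*} [AddCommGroup C] [Finite C] (β : F →+ F →+ C)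
    (hm : ∀ x x', β (mulAddEquiv μ hμ0 x) (mulAddEquiv μ hμ0 x') = β x x')
    (hn : Heis.aut β (mulAddEquiv μ hμ0) hm ^ (q ^ r) = 1) :
    ∃ (N : Subgroup X) (_ : N.Normal), N ≤ Subgroup.center X ∧ IsPGroup p N ∧
      (∀ H : Subgroup X, H ⊔ N = ⊤ → H = ⊤) ∧
      ∃ π₀ : G0 β (mulAddEquiv μ hμ0) hm (q ^ r) hn →* X ⧸ N, Function.Surjective π₀ ∧
        π₀.ker ≤ Subgroup.center (G0 β (mulAddEquiv μ hμ0) hm (q ^ r) hn) :=
  exists_cover_core hpq hr ha hX hcard hF μ hμ hμ0 β hm hn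
    (fun P _ y h1 h2 h3 => derSub_facts P y h1 h2 h3)
    (fun P _ y h1 h2 h3 h4 N _ hN => exists_theta hpq ha P y h1 h2 h3 h4 N hN F hF μ hμ)

end universal

end Cfsg.Agent.Helper20.Sch
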