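import Mathlib
import Cfsg.Prelude.Def_Transfer
import Cfsg.Agent.Lib.Helper20.SchDefs

/-!
S4395 farm-out (helper20), piece SCH-CRIT: the converse of the structure theorem.
-/

set_option autoImplicit false
set_option linter.unusedSectionVars false
set_option linter.unusedVariables false

namespace Cfsg.Agent.Helper20.Sch

universe u

variable {p q : ℕ} [Fact p.Prime] [Fact q.Prime]

section G0

open scoped Pointwise

theorem sch_crit_zpowers_pgroup {G : Type*} [Group G] (y : G) {r : ℕ} (hy : orderOf y = q ^ r) :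
    IsPGroup q (Subgroup.zpowers y) :=
  IsPGroup.of_card (n := r) (by rw [Nat.card_zpowers, hy])

/-- `P` and `⟨y⟩` are complements -/
theorem sch_crit_compl {G : Type*} [Group G] [Finite G] (hpq : p ≠ q)
    (P : Subgroup G) [P.Normal] (hPp : IsPGroup p P) (y : G) {r : ℕ}
    (hy : orderOf y = q ^ r) (hsup : P ⊔ Subgroup.zpowers y = ⊤) :
    Subgroup.IsComplement' P (Subgroup.zpowers y) := by
  have hyq : IsPGroup q (Subgroup.zpowers y) := sch_crit_zpowers_pgroup y hy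
  have hdisj : Disjoint P (Subgroup.zpowers y) := IsPGroup.disjoint_of_ne p q hpq P _ hPp hyq
  apply Subgroup.isComplement'_of_disjoint_and_mul_eq_univ hdisj
  rw [← Subgroup.normal_mul, hsup, Subgroup.coe_top]

theorem sch_crit_not_dvd' (p' q' : ℕ) (hp : p'.Prime) (hq : q'.Prime) (t : ℕ) (hpq : p' ≠ q') :
    ¬ q' ∣ p' ^ t := by
  intro hdvd
  have h1 := (Nat.prime_dvd_prime_iff_eq hq hp).1 (hq.dvd_of_dvd_pow hdvd)
  exact hpq h1.symm

theorem sch_crit_not_dvd {t : ℕ} (hpq : p ≠ q) : ¬ q ∣ p ^ t :=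
  sch_crit_not_dvd' p q Fact.out Fact.out t hpq

/-- every `q`-element is conjugate to a power of `y` -/
theorem sch_crit_conj {G : Type*} [Group G] [Finite G] (hpq : p ≠ q)
    (P : Subgroup G) [P.Normal] (hPp : IsPGroup p P) (y : G) {r : ℕ}
    (hy : orderOf y = q ^ r) (hsup : P ⊔ Subgroup.zpowers y = ⊤)
    (s : G) (n : ℕ) (hs : s ^ (q ^ n) = 1) : ∃ g : G, ∃ j : ℤ, s = g * y ^ j * g⁻¹ := by
  have hc := sch_crit_compl hpq P hPp y hy hsup
  have hyq : IsPGroup q (Subgroup.zpowers y) := sch_crit_zpowers_pgroup y hy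
  have hidx : ¬ q ∣ (Subgroup.zpowers y).index := by
    rw [hc.index_eq_card]
    obtain ⟨t, ht⟩ := IsPGroup.iff_card.1 hPp
    rw [ht]
    exact sch_crit_not_dvd hpq
  have hsq : IsPGroup q (Subgroup.zpowers s) := by
    rintro ⟨z, hz⟩
    obtain ⟨i, rfl⟩ := Subgroup.mem_zpowers_iff.1 hz
    refine ⟨n, Subtype.ext ?_⟩
    show (s ^ i) ^ (q ^ n) = 1
    rw [← zpow_natCast, ← zpow_mul, mul_comm, zpow_mul, zpow_natCast, hs, one_zpow]
  obtain ⟨Q, hQ⟩ := hsq.exists_le_sylow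
  obtain ⟨g, hg⟩ := MulAction.exists_smul_eq G (hyq.toSylow hidx) Q
  have hsQ : s ∈ (Q : Subgroup G) := hQ (Subgroup.mem_zpowers s)
  rw [← hg, Sylow.coe_subgroup_smul, Subgroup.mem_smul_pointwise_iff_exists] at hsQ
  obtain ⟨z, hz, hzs⟩ := hsQ
  rw [IsPGroup.toSylow_coe] at hz
  obtain ⟨j, rfl⟩ := Subgroup.mem_zpowers_iff.1 hz
  refine ⟨g, j, ?_⟩
  rw [← hzs]
  rfl

/-- every `q`-element of a proper subgroup `K` centralizes `K ⊓ P` -/
theorem sch_crit_central {G : Type*} [Group G] [Finite G] (hpq : p ≠ q)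
    (P : Subgroup G) [hPn : P.Normal] (hPp : IsPGroup p P) (y : G) {r : ℕ}
    (hy : orderOf y = q ^ r) (hyq : y ^ q ∈ Subgroup.center G)
    (hsup : P ⊔ Subgroup.zpowers y = ⊤)
    (hfix : ∀ H : Subgroup G, H ≤ P → H ≠ P → (∀ x ∈ H, y * x * y⁻¹ ∈ H) →
      ∀ x ∈ H, y * x * y⁻¹ = x)
    (K : Subgroup G) (hK : K ≠ ⊤) (s : G) (hsK : s ∈ K) (n : ℕ) (hs : s ^ (q ^ n) = 1)
    (x : G) (hxK : x ∈ K) (hxP : x ∈ P) : s * x = x * s := by
  have hq : q.Prime := Fact.out
  obtain ⟨g, j, hsg⟩ := sch_crit_conj hpq P hPp y hy hsup s n hs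
  by_cases hj : (q : ℤ) ∣ j
  · obtain ⟨k, rfl⟩ := hj
    have hz : y ^ ((q : ℤ) * k) ∈ Subgroup.center G := by
      rw [zpow_mul, zpow_natCast]
      exact Subgroup.zpow_mem _ hyq k
    have hsz : s = y ^ ((q : ℤ) * k) := by
      rw [hsg, (Subgroup.mem_center_iff.1 hz g), mul_assoc, mul_inv_cancel, mul_one]
    rw [hsz]
    exact (Subgroup.mem_center_iff.1 hz x).symm
  · -- `y` is a power of `y ^ j`
    have hcop : IsCoprime ((q : ℤ) ^ r) j :=
      (((Nat.prime_iff_prime_int.1 hq).irreducible.coprime_iff_not_dvd).2 hj).pow_left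
    obtain ⟨a, b, hab⟩ := hcop
    have hyr : y ^ ((q : ℤ) ^ r) = 1 := by
      have h1 : y ^ (q ^ r) = 1 := by rw [← hy]; exact pow_orderOf_eq_one y
      have h2 : ((q : ℤ) ^ r) = ((q ^ r : ℕ) : ℤ) := by norm_cast
      rw [h2, zpow_natCast]
      exact h1
    have hyj : (y ^ j) ^ b = y := by
      have h1 : y ^ (a * (q : ℤ) ^ r + b * j) = y := by rw [hab, zpow_one]
      rw [zpow_add, mul_comm a, zpow_mul, hyr, one_zpow, one_mul, mul_comm b, zpow_mul] at h1
      exact h1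
    -- `y' = g y g⁻¹ ∈ K`
    have hy'K : g * y * g⁻¹ ∈ K := by
      have h1 : s ^ b = g * y * g⁻¹ := by
        rw [hsg, conj_zpow, hyj]
      rw [← h1]
      exact Subgroup.zpow_mem _ hsK b
    -- the conjugate of `K ⊓ P`
    set Q' : Subgroup G := (K ⊓ P).comap (MulAut.conj g).toMonoidHom with hQ'
    have hmemQ' : ∀ z : G, z ∈ Q' ↔ g * z * g⁻¹ ∈ K ∧ g * z * g⁻¹ ∈ P := by
      intro z
      rw [hQ', Subgroup.mem_comap, Subgroup.mem_inf]
      rfl
    have hQ'P : Q' ≤ P := by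
      intro z hz
      have h1 := ((hmemQ' z).1 hz).2
      have h2 := hPn.conj_mem _ h1 g⁻¹
      have h3 : g⁻¹ * (g * z * g⁻¹) * g⁻¹⁻¹ = z := by group
      rw [h3] at h2
      exact h2
    have hconj : ∀ z : G, g * (y * z * y⁻¹) * g⁻¹ = (g * y * g⁻¹) * (g * z * g⁻¹) * (g * y * g⁻¹)⁻¹ := by
      intro z
      group
    have hQ'inv : ∀ z ∈ Q', y * z * y⁻¹ ∈ Q' := by
      intro z hz
      obtain ⟨h1, h2⟩ := (hmemQ' z).1 hz
      rw [hmemQ', hconj]
      exact ⟨K.mul_mem (K.mul_mem hy'K h1) (K.inv_mem hy'K), hPn.conj_mem _ h2 _⟩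
    have hQ'ne : Q' ≠ P := by
      intro hQP
      apply hK
      have hPK : P ≤ K := by
        intro u hu
        have h1 : g⁻¹ * u * g⁻¹⁻¹ ∈ Q' := by
          rw [hQP]
          exact hPn.conj_mem _ hu _
        have h2 := ((hmemQ' _).1 h1).1
        have h3 : g * (g⁻¹ * u * g⁻¹⁻¹) * g⁻¹ = u := by group
        rw [h3] at h2
        exact h2
      rw [eq_top_iff]
      intro w _
      have h1 : g⁻¹ * w * g ∈ (P : Set G) * (Subgroup.zpowers y : Set G) := by
        rw [← Subgroup.normal_mul, hsup]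
        exact Set.mem_univ _
      obtain ⟨u, hu, v, hv, huv⟩ := Set.mem_mul.1 h1
      obtain ⟨i, rfl⟩ := Subgroup.mem_zpowers_iff.1 hv
      have h2 : w = (g * u * g⁻¹) * (g * y * g⁻¹) ^ i := by
        rw [conj_zpow]
        have h3 : w = g * (g⁻¹ * w * g) * g⁻¹ := by group
        rw [h3, ← huv]
        group
      rw [h2]
      exact K.mul_mem (hPK (hPn.conj_mem _ hu _)) (K.zpow_mem hy'K i)
    have hcent := hfix Q' hQ'P hQ'ne hQ'inv
    -- `y'` centralizes `x`
    have hxQ' : g⁻¹ * x * g ∈ Q' := by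
      rw [hmemQ']
      have h3 : g * (g⁻¹ * x * g) * g⁻¹ = x := by group
      rw [h3]
      exact ⟨hxK, hxP⟩
    have h4 := hcent _ hxQ'
    have h5 : (g * y * g⁻¹) * x * (g * y * g⁻¹)⁻¹ = x := by
      have h6 : g * (y * (g⁻¹ * x * g) * y⁻¹) * g⁻¹ = g * (g⁻¹ * x * g) * g⁻¹ := by rw [h4]
      rw [hconj] at h6
      have h3 : g * (g⁻¹ * x * g) * g⁻¹ = x := by group
      rw [h3] at h6
      exact h6
    have hcomm : Commute (g * y * g⁻¹) x := by
      show (g * y * g⁻¹) * x = x * (g * y * g⁻¹)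
      calc (g * y * g⁻¹) * x = ((g * y * g⁻¹) * x * (g * y * g⁻¹)⁻¹) * (g * y * g⁻¹) := by group
        _ = x * (g * y * g⁻¹) := by rw [h5]
    have hsj : s = (g * y * g⁻¹) ^ j := by rw [hsg, conj_zpow]
    rw [hsj]
    exact (hcomm.zpow_left j).eq

/-- PIECE SCH-CRIT : converse of SCH-STRUCT. -/
theorem minNonPNilp_of_struct {G : Type*} [Group G] [Finite G] (hpq : p ≠ q)
    (P : Subgroup G) [P.Normal] (hPp : IsPGroup p P) (y : G) {r : ℕ}
    (hy : orderOf y = q ^ r) (hyq : y ^ q ∈ Subgroup.center G)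
    (hsup : P ⊔ Subgroup.zpowers y = ⊤)
    (hfix : ∀ H : Subgroup G, H ≤ P → H ≠ P → (∀ x ∈ H, y * x * y⁻¹ ∈ H) →
      ∀ x ∈ H, y * x * y⁻¹ = x)
    (hne : ∃ u ∈ P, y * u * y⁻¹ ≠ u) : MinNonPNilp p G := by
  have hp : p.Prime := Fact.out
  have hq : q.Prime := Fact.out
  have hPn : P.Normal := inferInstance
  have hc := sch_crit_compl hpq P hPp y hy hsup
  have hPidx : P.index = q ^ r := by
    rw [hc.symm.index_eq_card, Nat.card_zpowers, hy]
  constructor
  · -- no normal `p`-complement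
    rintro ⟨S, N, hN, hNS⟩
    obtain ⟨u, hu, huy⟩ := hne
    apply huy
    -- `y ∈ N`
    obtain ⟨t, ht⟩ := IsPGroup.iff_card.1 S.2
    have hNidx : N.index = p ^ t := by rw [hNS.symm.index_eq_card, ht]
    have hyN : y ∈ N := by
      rw [← QuotientGroup.eq_one_iff (N := N)]
      have h1 : ((y : G) : G ⧸ N) ^ (q ^ r) = 1 := by
        rw [← QuotientGroup.mk_pow, ← hy, pow_orderOf_eq_one]
        rfl
      have h2 : ((y : G) : G ⧸ N) ^ (p ^ t) = 1 := by
        rw [← hNidx, Subgroup.index_eq_card]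
        exact pow_card_eq_one'
      have h3 : orderOf ((y : G) : G ⧸ N) ∣ Nat.gcd (q ^ r) (p ^ t) :=
        Nat.dvd_gcd (orderOf_dvd_of_pow_eq_one h1) (orderOf_dvd_of_pow_eq_one h2)
      have h4 : Nat.gcd (q ^ r) (p ^ t) = 1 :=
        Nat.Coprime.pow _ _ ((Nat.coprime_primes hq hp).2 hpq.symm)
      rw [h4, Nat.dvd_one, orderOf_eq_one_iff] at h3
      exact h3
    -- the commutator lies in `P ⊓ N = ⊥`
    have hcP : y * u * y⁻¹ * u⁻¹ ∈ P := P.mul_mem (hPn.conj_mem _ hu _) (P.inv_mem hu)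
    have hcN : y * u * y⁻¹ * u⁻¹ ∈ N := by
      have h1 : y * u * y⁻¹ * u⁻¹ = y * (u * y⁻¹ * u⁻¹) := by group
      rw [h1]
      exact N.mul_mem hyN (hN.conj_mem _ (N.inv_mem hyN) _)
    have hNcard : ¬ p ∣ Nat.card N := by
      rw [← hNS.index_eq_card]
      exact S.not_dvd_index
    have hone : y * u * y⁻¹ * u⁻¹ = 1 := by
      obtain ⟨k, hk⟩ := hPp ⟨_, hcP⟩
      have hk' : (y * u * y⁻¹ * u⁻¹) ^ (p ^ k) = 1 := by
        have := congrArg Subtype.val hk
        simpa using this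
      have hN' : (y * u * y⁻¹ * u⁻¹) ^ (Nat.card N) = 1 := by
        have h1 : (⟨_, hcN⟩ : N) ^ (Nat.card N) = 1 := pow_card_eq_one'
        have h2 := congrArg Subtype.val h1
        rw [Subgroup.coe_pow, Subgroup.coe_one] at h2
        exact h2
      have h3 : orderOf (y * u * y⁻¹ * u⁻¹) ∣ Nat.gcd (p ^ k) (Nat.card N) :=
        Nat.dvd_gcd (orderOf_dvd_of_pow_eq_one hk') (orderOf_dvd_of_pow_eq_one hN')
      have h4 : Nat.gcd (p ^ k) (Nat.card N) = 1 :=
        Nat.Coprime.pow_left _ ((Nat.Prime.coprime_iff_not_dvd hp).2 hNcard)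
      rw [h4, Nat.dvd_one, orderOf_eq_one_iff] at h3
      exact h3
    calc y * u * y⁻¹ = (y * u * y⁻¹ * u⁻¹) * u := by group
      _ = u := by rw [hone, one_mul]
  · -- proper subgroups
    intro K hK
    have hQp : IsPGroup p (P.subgroupOf K) := hPp.comap_subtype
    have hQidx : (P.subgroupOf K).index ∣ q ^ r := by
      rw [← hPidx]
      exact Subgroup.relIndex_dvd_index_of_normal P K
    obtain ⟨b, hb, hQb⟩ := (Nat.dvd_prime_pow hq).1 hQidx
    obtain ⟨t, ht⟩ := IsPGroup.iff_card.1 hQp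
    have hcop : Nat.Coprime (Nat.card (P.subgroupOf K)) (P.subgroupOf K).index := by
      rw [ht, hQb]
      exact Nat.Coprime.pow _ _ ((Nat.coprime_primes hp hq).2 hpq)
    obtain ⟨H, hH⟩ := Subgroup.exists_right_complement'_of_coprime hcop
    have hHcard : Nat.card H = q ^ b := by
      rw [← hH.symm.index_eq_card, hQb]
    -- `H` centralizes `Q`
    have hcent : ∀ h ∈ H, ∀ x ∈ P.subgroupOf K, h * x = x * h := by
      intro h hh x hx
      have h1 : (⟨h, hh⟩ : H) ^ (q ^ b) = 1 := by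
        rw [← hHcard]
        exact pow_card_eq_one'
      have h2 : ((h : K) : G) ^ (q ^ b) = 1 := by
        have := congrArg (fun z : H => ((z : K) : G)) h1
        simpa using this
      apply Subtype.ext
      show ((h : K) : G) * ((x : K) : G) = ((x : K) : G) * ((h : K) : G)
      exact sch_crit_central hpq P hPp y hy hyq hsup hfix K hK _ h.2 b h2 _ x.2
        (Subgroup.mem_subgroupOf.1 hx)
    -- `H` is normal in `K`
    have hHn : H.Normal := by
      constructor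
      intro h hh k
      obtain ⟨⟨x, h'⟩, hxk, -⟩ := (Subgroup.isComplement_iff_existsUnique.1 hH) k
      simp only at hxk
      rw [← hxk]
      have h1 : (x : K) * (h' : K) * h * ((x : K) * (h' : K))⁻¹ =
          (x : K) * ((h' : K) * h * (h' : K)⁻¹) * (x : K)⁻¹ := by group
      have h2 : (h' : K) * h * (h' : K)⁻¹ ∈ H := H.mul_mem (H.mul_mem h'.2 hh) (H.inv_mem h'.2)
      have h3 := hcent _ h2 _ x.2
      rw [h1, ← h3, mul_assoc, mul_inv_cancel, mul_one]
      exact h2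
    have hnd : ¬ p ∣ (P.subgroupOf K).index := by
      rw [hQb]
      exact sch_crit_not_dvd' q p hq hp b hpq.symm
    refine ⟨hQp.toSylow hnd, H, hHn, ?_⟩
    rw [IsPGroup.toSylow_coe]
    exact hH.symm

end G0

end Cfsg.Agent.Helper20.Sch
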