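import Mathlib

set_option autoImplicit false
set_option linter.unusedSectionVars false
set_option linter.unusedVariables false

namespace Cfsg.Agent.Helper19.SchurRing

/-- A group `G` acting on the underlying set of a commutative group `H`, the action
containing the left regular representation of `H` (through `ι`). -/
structure Setting (G H : Type*) [Group G] [CommGroup H] where
  φ : G →* Equiv.Perm H
  ι : H →* G
  hι : ∀ x a, φ (ι x) a = x * a

variable {G H : Type*} [Group G] [CommGroup H] (S : Setting G H)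

namespace Setting

/-- membership in the point stabiliser of `1` -/
def Fix (k : G) : Prop := S.φ k 1 = 1

theorem fix_one : S.Fix 1 := by simp [Fix]

variable {S} in
theorem Fix.mul {k k' : G} (h : S.Fix k) (h' : S.Fix k') : S.Fix (k * k') := by
  unfold Fix at *
  rw [map_mul, Equiv.Perm.mul_apply, h', h]

variable {S} in
theorem Fix.inv {k : G} (h : S.Fix k) : S.Fix k⁻¹ := by
  unfold Fix at *
  rw [map_inv, Equiv.Perm.inv_eq_iff_eq]
  exact h.symm

theorem φ_inv_apply (k : G) (a : H) : S.φ k⁻¹ (S.φ k a) = a := by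
  rw [map_inv]; simp

theorem φ_apply_inv (k : G) (a : H) : S.φ k (S.φ k⁻¹ a) = a := by
  rw [map_inv]; simp

theorem hι_inv (x a : H) : S.φ (S.ι x)⁻¹ a = x⁻¹ * a := by
  rw [← map_inv S.ι, S.hι]

/-- the twisted element -/
def tw (k : G) (s : H) : G := (S.ι (S.φ k s))⁻¹ * k * S.ι s

theorem tw_apply (k : G) (s c : H) : S.φ (S.tw k s) c = (S.φ k s)⁻¹ * S.φ k (s * c) := by
  unfold tw
  rw [map_mul, map_mul, Equiv.Perm.mul_apply, Equiv.Perm.mul_apply, S.hι, S.hι_inv]

theorem tw_fix (k : G) (s : H) : S.Fix (S.tw k s) := by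
  unfold Fix
  rw [tw_apply, mul_one, inv_mul_cancel]

theorem act_mul (k : G) (s c : H) : S.φ k (s * c) = S.φ k s * S.φ (S.tw k s) c := by
  rw [tw_apply, mul_inv_cancel_left]

/-- invariant sets -/
def InvSet (T : Set H) : Prop := ∀ k, S.Fix k → ∀ a ∈ T, S.φ k a ∈ T

theorem InvSet.mem_iff {T : Set H} (hT : S.InvSet T) {k : G} (hk : S.Fix k) (a : H) :
    S.φ k a ∈ T ↔ a ∈ T := by
  constructor
  · intro h
    have := hT k⁻¹ hk.inv _ h
    rwa [S.φ_inv_apply] at this
  · exact hT k hk a

/-- the orbit relation -/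
def Rel (a b : H) : Prop := ∃ k, S.Fix k ∧ S.φ k a = b

theorem Rel.refl (a : H) : S.Rel a a := ⟨1, S.fix_one, by simp⟩

theorem Rel.symm {a b : H} (h : S.Rel a b) : S.Rel b a := by
  obtain ⟨k, hk, rfl⟩ := h
  exact ⟨k⁻¹, hk.inv, S.φ_inv_apply k a⟩

theorem Rel.trans {a b c : H} (h : S.Rel a b) (h' : S.Rel b c) : S.Rel a c := by
  obtain ⟨k, hk, rfl⟩ := h
  obtain ⟨k', hk', rfl⟩ := h'
  exact ⟨k' * k, hk'.mul hk, by rw [map_mul, Equiv.Perm.mul_apply]⟩

theorem Rel.inv {a b : H} (h : S.Rel a b) : S.Rel a⁻¹ b⁻¹ := by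
  obtain ⟨k, hk, rfl⟩ := h
  refine ⟨S.tw k a, S.tw_fix k a, ?_⟩
  rw [tw_apply, mul_inv_cancel, hk, mul_one]

theorem rel_one_iff {b : H} : S.Rel 1 b ↔ b = 1 := by
  constructor
  · rintro ⟨k, hk, rfl⟩; exact hk
  · rintro rfl; exact Rel.refl S 1

theorem Rel.ne_one {a b : H} (h : S.Rel a b) (ha : a ≠ 1) : b ≠ 1 := by
  rintro rfl
  exact ha ((S.rel_one_iff).1 h.symm)

/-- the orbit of `a` -/
def orb (a : H) : Set H := {b | S.Rel a b}

theorem invSet_orb (a : H) : S.InvSet (S.orb a) := by
  intro k hk b hb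
  exact Rel.trans S hb ⟨k, hk, rfl⟩

theorem InvSet.rel {T : Set H} (hT : S.InvSet T) {a b : H} (h : S.Rel a b) (ha : a ∈ T) :
    b ∈ T := by
  obtain ⟨k, hk, rfl⟩ := h
  exact hT k hk a ha

/-- the closure of an invariant set is invariant -/
theorem invSet_closure {T : Set H} (hT : S.InvSet T) :
    S.InvSet (Subgroup.closure T : Set H) := by
  intro k hk a ha
  have key : ∀ a ∈ Subgroup.closure T, ∀ k, S.Fix k → S.φ k a ∈ Subgroup.closure T := by
    intro a ha
    induction ha using Subgroup.closure_induction with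
    | mem x hx => intro k hk; exact Subgroup.subset_closure (hT k hk x hx)
    | one => intro k hk; rw [show S.φ k 1 = 1 from hk]; exact one_mem _
    | mul x y _ _ hx hy =>
      intro k hk
      rw [S.act_mul]
      exact mul_mem (hx k hk) (hy _ (S.tw_fix k x))
    | inv x _ hx =>
      intro k hk
      obtain ⟨k', hk', h⟩ := Rel.inv S (a := x⁻¹) ⟨k, hk, rfl⟩
      rw [inv_inv] at h
      have h3 := hx k' hk'
      rw [h] at h3
      simpa using inv_mem h3
  exact key a ha k hk

/-- the (left) stabiliser of a set, as a subgroup -/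
def stab (T : Set H) : Subgroup H where
  carrier := {h | ∀ t, h * t ∈ T ↔ t ∈ T}
  one_mem' := by intro t; simp
  mul_mem' := by
    intro a b ha hb t
    rw [mul_assoc, ha, hb]
  inv_mem' := by
    intro a ha t
    have := ha (a⁻¹ * t)
    rw [mul_inv_cancel_left] at this
    exact this.symm

theorem mem_stab {T : Set H} {h : H} : h ∈ stab T ↔ ∀ t, h * t ∈ T ↔ t ∈ T := Iff.rfl

theorem invSet_stab {T : Set H} (hT : S.InvSet T) : S.InvSet (stab T : Set H) := by
  intro k hk h hh t
  -- h' = φ k h; want h' * t ∈ T ↔ t ∈ T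
  have hk' := S.tw_fix k h
  set s := S.φ (S.tw k h)⁻¹ t with hs
  have h1 : S.φ (S.tw k h) s = t := S.φ_apply_inv _ _
  have h2 : S.φ k (h * s) = S.φ k h * t := by rw [S.act_mul, h1]
  rw [← h2, hT.mem_iff S hk, mem_stab.1 hh s, ← h1, hT.mem_iff S hk']


section Algebra

variable {R : Type*} [CommSemiring R] [Fintype H] [DecidableEq H]

/-- invariant functions -/
def InvFun {β : Type*} (f : H → β) : Prop := ∀ k, S.Fix k → ∀ a, f (S.φ k a) = f a

theorem InvFun.rel {β : Type*} {f : H → β} (hf : S.InvFun f) {a b : H} (h : S.Rel a b) :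
    f a = f b := by
  obtain ⟨k, hk, rfl⟩ := h
  exact (hf k hk a).symm

theorem InvFun.invSet {β : Type*} {f : H → β} (hf : S.InvFun f) (P : β → Prop) :
    S.InvSet {a | P (f a)} := by
  intro k hk a ha
  simp only [Set.mem_ofPred_eq] at ha ⊢
  rwa [hf k hk a]

theorem coeff_mul_eq (x y : MonoidAlgebra R H) (g : H) :
    (x * y).coeff g = ∑ h, x.coeff h * y.coeff (h⁻¹ * g) := by
  rw [MonoidAlgebra.coeff_mul_apply_left, Finsupp.sum_fintype]
  simp

theorem invFun_mul {x y : MonoidAlgebra R H} (hx : S.InvFun (fun a => x.coeff a))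
    (hy : S.InvFun (fun a => y.coeff a)) : S.InvFun (fun a => (x * y).coeff a) := by
  intro k hk a
  simp only
  rw [coeff_mul_eq, coeff_mul_eq, ← Equiv.sum_comp (S.φ k)]
  apply Finset.sum_congr rfl
  intro s _
  have h1 : x.coeff (S.φ k s) = x.coeff s := hx k hk s
  rw [h1]
  congr 1
  have := S.tw_apply k s (s⁻¹ * a)
  rw [mul_inv_cancel_left] at this
  rw [← this]
  exact hy _ (S.tw_fix k s) _

theorem invFun_one : S.InvFun (fun a => (1 : MonoidAlgebra R H).coeff a) := by
  intro k hk a
  simp only [MonoidAlgebra.one_def, MonoidAlgebra.coeff_single, Finsupp.single_apply]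
  have : (1 = S.φ k a) ↔ (1 = a) := by
    constructor
    · intro h
      have h2 : S.φ k 1 = S.φ k a := by rw [← h]; exact hk
      exact (S.φ k).injective h2
    · rintro rfl; exact hk.symm
  simp only [this]

theorem invFun_pow {x : MonoidAlgebra R H} (hx : S.InvFun (fun a => x.coeff a)) (n : ℕ) :
    S.InvFun (fun a => (x ^ n).coeff a) := by
  induction n with
  | zero => rw [pow_zero]; exact S.invFun_one
  | succ n ih => rw [pow_succ]; exact S.invFun_mul ih hx

/-- the indicator element of a finite set -/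
noncomputable def ind (R : Type*) [CommSemiring R] (T : Finset H) : MonoidAlgebra R H :=
  ∑ t ∈ T, MonoidAlgebra.single t 1

theorem ind_coeff (T : Finset H) (a : H) : (ind R T).coeff a = if a ∈ T then 1 else 0 := by
  rw [ind, MonoidAlgebra.coeff_sum, Finsupp.finsetSum_apply]
  simp only [MonoidAlgebra.coeff_single, Finsupp.single_apply]
  rw [Finset.sum_ite_eq']

theorem invFun_ind {T : Finset H} (hT : S.InvSet (T : Set H)) :
    S.InvFun (fun a => (ind R T).coeff a) := by
  intro k hk a
  simp only [ind_coeff]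
  have := hT.mem_iff S hk a
  simp only [Finset.mem_coe] at this
  simp only [this]

theorem ind_mul_coeff (T T' : Finset H) (h : H) :
    (ind R T * ind R T').coeff h = ((T.filter fun t => t⁻¹ * h ∈ T').card : R) := by
  rw [coeff_mul_eq]
  simp only [ind_coeff]
  rw [Finset.card_filter, Nat.cast_sum]
  rw [← Finset.sum_subset (Finset.subset_univ T)]
  · apply Finset.sum_congr rfl
    intro t ht
    simp [ht]
  · intro t _ ht
    simp [ht]

/-- the counting function is invariant -/
theorem invFun_count {T T' : Finset H} (hT : S.InvSet (T : Set H)) (hT' : S.InvSet (T' : Set H)) :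
    S.InvFun (fun h => (T.filter fun t => t⁻¹ * h ∈ T').card) := by
  have := S.invFun_mul (S.invFun_ind (R := ℕ) hT) (S.invFun_ind (R := ℕ) hT')
  intro k hk a
  have h1 := this k hk a
  simp only [ind_mul_coeff, Nat.cast_id] at h1
  exact h1

theorem ind_pow_coeff (p : ℕ) [Fact p.Prime] (T : Finset H) (c : H) :
    ((ind (ZMod p) T) ^ p).coeff c = ((T.filter fun t => t ^ p = c).card : ZMod p) := by
  have : CharP (MonoidAlgebra (ZMod p) H) p := charP_of_injective_algebraMap' (ZMod p) p
  rw [ind, sum_pow_char]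
  simp only [MonoidAlgebra.single_pow, one_pow]
  rw [MonoidAlgebra.coeff_sum, Finsupp.finsetSum_apply]
  simp only [MonoidAlgebra.coeff_single, Finsupp.single_apply]
  rw [Finset.card_filter, Nat.cast_sum]
  apply Finset.sum_congr rfl
  intro t _
  simp

/-- Schur: the `p`-th power map fibre counts of an invariant set are invariant mod `p`. -/
theorem invFun_frob (p : ℕ) [Fact p.Prime] {T : Finset H} (hT : S.InvSet (T : Set H)) :
    S.InvFun (fun c => ((T.filter fun t => t ^ p = c).card : ZMod p)) := by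
  have := S.invFun_pow (S.invFun_ind (R := ZMod p) hT) p
  intro k hk a
  have h1 := this k hk a
  simp only [ind_pow_coeff] at h1
  exact h1

end Algebra


section Main

variable [Fintype H] [DecidableEq H] [IsCyclic H] {p m : ℕ} [hp : Fact p.Prime]

/-- the elements of order dividing `p` -/
def P1 (H : Type*) [CommGroup H] [Fintype H] [DecidableEq H] (p : ℕ) : Finset H :=
  Finset.univ.filter fun u : H => u ^ p = 1

omit [IsCyclic H] hp in
theorem mem_P1 {u : H} : u ∈ P1 H p ↔ u ^ p = 1 := by simp [P1]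

theorem card_P1_le : (P1 H p).card ≤ p := by
  have := IsCyclic.card_pow_eq_one_le (α := H) (n := p) hp.out.pos
  unfold P1
  convert this

omit [IsCyclic H] in
theorem exists_P1_ne_one (hm : 2 ≤ m) (hcard : Nat.card H = p ^ m) :
    ∃ v : H, v ≠ 1 ∧ v ^ p = 1 := by
  have hdvd : p ∣ Fintype.card H := by
    rw [← Nat.card_eq_fintype_card, hcard]
    exact dvd_pow_self p (by omega)
  obtain ⟨x, hx⟩ := exists_prime_orderOf_dvd_card p hdvd
  refine ⟨x, ?_, ?_⟩
  · rintro rfl
    rw [orderOf_one] at hx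
    exact hp.out.one_lt.ne hx
  · rw [← hx, pow_orderOf_eq_one]

omit [IsCyclic H] in
theorem range_pow_ne_top (hm : 2 ≤ m) (hcard : Nat.card H = p ^ m) :
    (powMonoidHom p : H →* H).range ≠ ⊤ := by
  intro h
  obtain ⟨v, hv1, hvp⟩ := exists_P1_ne_one (H := H) hm hcard
  have hsurj : Function.Surjective (powMonoidHom p : H →* H) := MonoidHom.range_eq_top.1 h
  have hinj : Function.Injective (powMonoidHom p : H →* H) :=
    Finite.injective_iff_surjective.2 hsurj
  apply hv1
  apply hinj
  simp [hvp]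

variable (hm : 2 ≤ m) (hcard : Nat.card H = p ^ m)
  (hprim : ∀ L : Subgroup H, S.InvSet (L : Set H) → L = ⊥ ∨ L = ⊤)

include hm hcard hprim

/-- cosets of `P1` off `P1` are inside or outside an invariant set -/
theorem coset_mem {T : Finset H} (hT : S.InvSet (T : Set H)) {x : H} (hx : x ∈ T)
    (hxp : x ^ p ≠ 1) {u : H} (hu : u ^ p = 1) : x * u ∈ T := by
  -- the set of c with nonzero fibre count mod p
  set ST : Set H := {c | ((T.filter fun t => t ^ p = c).card : ZMod p) ≠ 0} with hST
  have hSTinv : S.InvSet ST := (S.invFun_frob p hT).invSet S (fun z => z ≠ 0)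
  have hle : Subgroup.closure ST ≤ (powMonoidHom p : H →* H).range := by
    rw [Subgroup.closure_le]
    intro c hc
    rw [hST, Set.mem_ofPred_eq] at hc
    have hne : (T.filter fun t => t ^ p = c).Nonempty := by
      rw [Finset.nonempty_iff_ne_empty]
      intro h0
      rw [h0] at hc
      simp at hc
    obtain ⟨t, ht⟩ := hne
    rw [Finset.mem_filter] at ht
    exact ⟨t, ht.2⟩
  have hbot : Subgroup.closure ST = ⊥ := by
    rcases hprim _ (S.invSet_closure hSTinv) with h | h
    · exact h
    · exfalso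
      rw [h] at hle
      exact range_pow_ne_top (H := H) hm hcard (top_le_iff.1 hle)
  have hnot : x ^ p ∉ ST := by
    intro h
    have : x ^ p ∈ Subgroup.closure ST := Subgroup.subset_closure h
    rw [hbot, Subgroup.mem_bot] at this
    exact hxp this
  rw [hST, Set.mem_ofPred_eq, not_not, ZMod.natCast_eq_zero_iff] at hnot
  -- the fibre
  set F := T.filter fun t => t ^ p = x ^ p with hF
  have hxF : x ∈ F := by rw [hF, Finset.mem_filter]; exact ⟨hx, rfl⟩
  have hFpos : 0 < F.card := Finset.card_pos.2 ⟨x, hxF⟩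
  have hFge : p ≤ F.card := Nat.le_of_dvd hFpos hnot
  set I := (P1 H p).image (fun u => x * u) with hI
  have hFI : F ⊆ I := by
    intro t ht
    rw [hF, Finset.mem_filter] at ht
    rw [hI, Finset.mem_image]
    refine ⟨x⁻¹ * t, ?_, by rw [mul_inv_cancel_left]⟩
    rw [mem_P1, mul_pow, ht.2, inv_pow, inv_mul_cancel]
  have hIle : I.card ≤ p := le_trans Finset.card_image_le (card_P1_le (H := H))
  have hFI' : F = I := Finset.eq_of_subset_of_card_le hFI (le_trans hIle hFge)
  have : x * u ∈ I := by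
    rw [hI, Finset.mem_image]
    exact ⟨u, mem_P1.2 hu, rfl⟩
  rw [← hFI', hF, Finset.mem_filter] at this
  exact this.1

theorem exists_pow_ne_one {T : Finset H} (hT : S.InvSet (T : Set H)) (hne : T.Nonempty)
    (h1 : (1 : H) ∉ T) : ∃ x ∈ T, x ^ p ≠ 1 := by
  by_contra hcon
  push Not at hcon
  obtain ⟨t, ht⟩ := hne
  have htop : Subgroup.closure (T : Set H) = ⊤ := by
    rcases hprim _ (S.invSet_closure hT) with h | h
    · exfalso
      have : t ∈ Subgroup.closure (T : Set H) := Subgroup.subset_closure ht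
      rw [h, Subgroup.mem_bot] at this
      exact h1 (this ▸ ht)
    · exact h
  have hle : Subgroup.closure (T : Set H) ≤ (powMonoidHom p : H →* H).ker := by
    rw [Subgroup.closure_le]
    intro c hc
    rw [SetLike.mem_coe, MonoidHom.mem_ker]
    exact hcon c hc
  rw [htop] at hle
  have hall : ∀ h : H, h ^ p = 1 := by
    intro h
    have : h ∈ (powMonoidHom p : H →* H).ker := hle (Subgroup.mem_top h)
    exact MonoidHom.mem_ker.1 this
  have h2 : P1 H p = Finset.univ := by
    ext u; simp [mem_P1, hall u]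
  have h3 := card_P1_le (H := H) (p := p)
  rw [h2, Finset.card_univ, ← Nat.card_eq_fintype_card, hcard] at h3
  have : p ^ 1 < p ^ m := Nat.pow_lt_pow_right hp.out.one_lt (by omega)
  rw [pow_one] at this
  omega

theorem exists_pow_eq_one {T : Finset H} (hT : S.InvSet (T : Set H)) (hne : T.Nonempty)
    (h1 : (1 : H) ∉ T) : ∃ y ∈ T, y ^ p = 1 := by
  by_contra hcon
  push Not at hcon
  obtain ⟨v, hv1, hvp⟩ := exists_P1_ne_one (H := H) hm hcard
  have hmem : ∀ w : H, w ^ p = 1 → w ∈ stab (T : Set H) := by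
    intro w hw
    rw [mem_stab]
    intro t
    constructor
    · intro h
      have h2 := S.coset_mem hm hcard hprim hT h (hcon _ h) (u := w⁻¹) (by rw [inv_pow, hw, inv_one])
      rwa [mul_comm w t, mul_inv_cancel_right] at h2
    · intro h
      have h2 := S.coset_mem hm hcard hprim hT h (hcon _ h) hw
      rwa [mul_comm] at h2
  have htop : stab (T : Set H) = ⊤ := by
    rcases hprim _ (S.invSet_stab hT) with h | h
    · exfalso
      have := hmem v hvp
      rw [h, Subgroup.mem_bot] at this
      exact hv1 this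
    · exact h
  obtain ⟨t, ht⟩ := hne
  have : t⁻¹ ∈ stab (T : Set H) := by rw [htop]; exact Subgroup.mem_top _
  have h2 := (mem_stab.1 this t).2 ht
  rw [inv_mul_cancel] at h2
  exact h1 h2

/-- the main counting argument -/
theorem main_aux {T T' : Finset H} (hT : S.InvSet (T : Set H)) (hne : T.Nonempty)
    (h1 : (1 : H) ∉ T) (hrel : ∀ a ∈ T, ∀ b ∈ T, S.Rel a b)
    (hT' : S.InvSet (T' : Set H)) (hne' : T'.Nonempty) (h1' : (1 : H) ∉ T')
    (hdisj : ∀ t ∈ T, t⁻¹ ∉ T') : False := by
  obtain ⟨x, hxT, hxp⟩ := S.exists_pow_ne_one hm hcard hprim hT hne h1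
  obtain ⟨y, hyT, hyp⟩ := S.exists_pow_eq_one hm hcard hprim hT hne h1
  obtain ⟨a', ha'T, ha'p⟩ := S.exists_pow_eq_one hm hcard hprim hT' hne' h1'
  set A' := T'.filter fun t => t ^ p = 1 with hA'
  -- N x ≥ |A'|
  have hNx : A'.card ≤ (T.filter fun t => t⁻¹ * x ∈ T').card := by
    apply Finset.card_le_card_of_injOn (fun u => x * u⁻¹)
    · intro u hu
      rw [Finset.mem_coe, hA', Finset.mem_filter] at hu
      rw [Finset.mem_coe, Finset.mem_filter]
      refine ⟨S.coset_mem hm hcard hprim hT hxT hxp (by rw [inv_pow, hu.2, inv_one]), ?_⟩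
      rw [mul_inv_rev, inv_inv, mul_assoc, inv_mul_cancel, mul_one]
      exact hu.1
    · intro u _ u' _ h
      simpa using h
  -- N y ≤ |A'| with equality analysis
  have key : ∀ y ∈ T, y ^ p = 1 → ∀ a' ∈ A', y * a'⁻¹ ∈ T := by
    intro y hyT hyp
    have hNeq : (T.filter fun t => t⁻¹ * x ∈ T').card = (T.filter fun t => t⁻¹ * y ∈ T').card :=
      (S.invFun_count hT hT').rel S (hrel x hxT y hyT)
    set Fy := T.filter fun t => t⁻¹ * y ∈ T' with hFy
    have hsub : Fy.image (fun t => t⁻¹ * y) ⊆ A' := by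
      intro w hw
      rw [Finset.mem_image] at hw
      obtain ⟨t, ht, rfl⟩ := hw
      rw [hFy, Finset.mem_filter] at ht
      rw [hA', Finset.mem_filter]
      refine ⟨ht.2, ?_⟩
      by_contra hwp
      have htp : t ^ p ≠ 1 := by
        intro h
        apply hwp
        rw [mul_pow, inv_pow, h, hyp, inv_one, one_mul]
      have h3 := S.coset_mem hm hcard hprim hT' ht.2 hwp (u := y⁻¹) (by rw [inv_pow, hyp, inv_one])
      rw [mul_inv_cancel_right] at h3
      exact hdisj t ht.1 h3
    have hcardimg : (Fy.image (fun t => t⁻¹ * y)).card = Fy.card := by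
      apply Finset.card_image_of_injective
      intro t t' h
      simpa using h
    have heq : Fy.image (fun t => t⁻¹ * y) = A' := by
      apply Finset.eq_of_subset_of_card_le hsub
      rw [hcardimg, ← hNeq]
      exact hNx
    intro a' ha'
    rw [← heq, Finset.mem_image] at ha'
    obtain ⟨t, ht, rfl⟩ := ha'
    rw [hFy, Finset.mem_filter] at ht
    rw [mul_inv_rev, inv_inv, mul_comm y⁻¹ t, mul_comm, mul_assoc, inv_mul_cancel, mul_one]
    exact ht.1
  -- now A is closed under multiplication by v = a'⁻¹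
  have ha'A : a' ∈ A' := by rw [hA', Finset.mem_filter]; exact ⟨ha'T, ha'p⟩
  set v := a'⁻¹ with hv
  have hvp : v ^ p = 1 := by rw [hv, inv_pow, ha'p, inv_one]
  have hv1 : v ≠ 1 := by
    intro h
    rw [hv, inv_eq_one] at h
    exact h1' (h ▸ ha'T)
  have hord : orderOf v = p := orderOf_eq_prime hvp hv1
  have hpow : ∀ j : ℕ, y * v ^ j ∈ T ∧ (y * v ^ j) ^ p = 1 := by
    intro j
    induction j with
    | zero => simpa using ⟨hyT, hyp⟩
    | succ j ih =>
      rw [pow_succ, ← mul_assoc]
      refine ⟨key _ ih.1 ih.2 a' ha'A, ?_⟩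
      rw [mul_pow, ih.2, hvp, one_mul]
  set V := (Finset.range p).image (fun j => y * v ^ j) with hV
  have hVsub : V ⊆ P1 H p := by
    intro w hw
    rw [hV, Finset.mem_image] at hw
    obtain ⟨j, _, rfl⟩ := hw
    exact mem_P1.2 (hpow j).2
  have hVcard : V.card = p := by
    rw [hV, Finset.card_image_of_injOn, Finset.card_range]
    intro i hi j hj h
    have h2 : v ^ i = v ^ j := mul_left_cancel h
    rw [Finset.coe_range] at hi hj
    exact pow_injOn_Iio_orderOf (by rw [hord]; exact hi) (by rw [hord]; exact hj) h2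
  have hVeq : V = P1 H p :=
    Finset.eq_of_subset_of_card_le hVsub (by rw [hVcard]; exact card_P1_le (H := H))
  have : (1 : H) ∈ V := by rw [hVeq, mem_P1, one_pow]
  rw [hV, Finset.mem_image] at this
  obtain ⟨j, _, hj⟩ := this
  exact h1 (hj ▸ (hpow j).1)

open scoped Classical in
/-- **Schur's theorem (abstract form).** If no proper nontrivial subgroup of the cyclic group `H`
of order `p ^ m`, `m ≥ 2`, is invariant, then the stabiliser of `1` is transitive on `H \ {1}`. -/
theorem core {a b : H} (ha : a ≠ 1) (hb : b ≠ 1) : S.Rel a b := by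
  have key : ∀ a b : H, a ≠ 1 → b ≠ 1 → S.Rel a⁻¹ b := by
    intro a b ha hb
    by_contra hcon
    set T : Finset H := Finset.univ.filter fun c => S.Rel a c with hT
    set T' : Finset H := Finset.univ.filter fun c => S.Rel b c with hT'
    have hTinv : S.InvSet (T : Set H) := by
      intro k hk c hc
      rw [Finset.mem_coe, hT, Finset.mem_filter] at hc ⊢
      exact ⟨Finset.mem_univ _, Rel.trans S hc.2 ⟨k, hk, rfl⟩⟩
    have hT'inv : S.InvSet (T' : Set H) := by
      intro k hk c hc
      rw [Finset.mem_coe, hT', Finset.mem_filter] at hc ⊢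
      exact ⟨Finset.mem_univ _, Rel.trans S hc.2 ⟨k, hk, rfl⟩⟩
    refine S.main_aux hm hcard hprim hTinv ⟨a, ?_⟩ ?_ ?_ hT'inv ⟨b, ?_⟩ ?_ ?_
    · rw [hT, Finset.mem_filter]; exact ⟨Finset.mem_univ _, Rel.refl S a⟩
    · intro h
      rw [hT, Finset.mem_filter] at h
      exact (Rel.ne_one S h.2 ha) rfl
    · intro c hc d hd
      rw [hT, Finset.mem_filter] at hc hd
      exact Rel.trans S (Rel.symm S hc.2) hd.2
    · rw [hT', Finset.mem_filter]; exact ⟨Finset.mem_univ _, Rel.refl S b⟩
    · intro h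
      rw [hT', Finset.mem_filter] at h
      exact (Rel.ne_one S h.2 hb) rfl
    · intro t ht ht'
      rw [hT, Finset.mem_filter] at ht
      rw [hT', Finset.mem_filter] at ht'
      apply hcon
      exact Rel.trans S (Rel.inv S ht.2) (Rel.symm S ht'.2)
  have := key a⁻¹ b (by simpa using ha) hb
  rwa [inv_inv] at this

end Main


section Blocks

variable {L : Subgroup H}

theorem coset_iff (hL : S.InvSet (L : Set H)) (γ : G) (a b : H) :
    (S.φ γ a)⁻¹ * S.φ γ b ∈ L ↔ a⁻¹ * b ∈ L := by
  have h1 := S.tw_apply γ a (a⁻¹ * b)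
  rw [mul_inv_cancel_left] at h1
  rw [← h1]
  exact hL.mem_iff S (S.tw_fix γ a) (a⁻¹ * b)

/-- the kernel of the action on the cosets of an invariant subgroup -/
def cosetKer (hL : S.InvSet (L : Set H)) : Subgroup G where
  carrier := {n | ∀ a, a⁻¹ * S.φ n a ∈ L}
  one_mem' := by intro a; simp
  mul_mem' := by
    intro n n' hn hn' a
    rw [map_mul, Equiv.Perm.mul_apply]
    have h1 := hn' a
    have h2 := hn (S.φ n' a)
    have := mul_mem h1 h2
    rwa [mul_assoc, mul_inv_cancel_left] at this
  inv_mem' := by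
    intro n hn a
    have h1 := hn (S.φ n⁻¹ a)
    rw [S.φ_apply_inv] at h1
    have := inv_mem h1
    rwa [mul_inv_rev, inv_inv] at this

theorem mem_cosetKer (hL : S.InvSet (L : Set H)) {n : G} :
    n ∈ S.cosetKer hL ↔ ∀ a, a⁻¹ * S.φ n a ∈ L := Iff.rfl

instance cosetKer_normal (hL : S.InvSet (L : Set H)) : (S.cosetKer hL).Normal := by
  constructor
  intro n hn c a
  rw [map_mul, map_mul, Equiv.Perm.mul_apply, Equiv.Perm.mul_apply]
  set b := S.φ c⁻¹ a with hb
  have hcb : S.φ c b = a := S.φ_apply_inv c a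
  have h1 := hn b
  have h2 := (S.coset_iff hL c b (S.φ n b)).2 h1
  rwa [hcb] at h2

theorem ι_mem_cosetKer (hL : S.InvSet (L : Set H)) {z : H} (hz : z ∈ L) :
    S.ι z ∈ S.cosetKer hL := by
  intro a
  rw [S.hι, mul_comm z a, inv_mul_cancel_left]
  exact hz

theorem normalClosure_le (hL : S.InvSet (L : Set H)) {z : H} (hz : z ∈ L) :
    Subgroup.normalClosure ({S.ι z} : Set G) ≤ S.cosetKer hL := by
  apply Subgroup.normalClosure_le_normal
  intro x hx
  rw [Set.mem_singleton_iff] at hx
  rw [hx]
  exact S.ι_mem_cosetKer hL hz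

theorem block_iff (hL : S.InvSet (L : Set H)) (γ : G) {l : H} (hl : l ∈ L) (hl' : S.φ γ l ∈ L)
    (a : H) : S.φ γ a ∈ L ↔ a ∈ L := by
  have h1 := (S.coset_iff hL γ l a)
  constructor
  · intro h
    have : l⁻¹ * a ∈ L := h1.1 (mul_mem (inv_mem hl') h)
    have := mul_mem hl this
    rwa [mul_inv_cancel_left] at this
  · intro h
    have : (S.φ γ l)⁻¹ * S.φ γ a ∈ L := h1.2 (mul_mem (inv_mem hl) h)
    have := mul_mem hl' this
    rwa [mul_inv_cancel_left] at this

end Blocks

section Cyc

variable [Fintype H] [DecidableEq H] [IsCyclic H] {p m : ℕ} [hp : Fact p.Prime]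

/-- a nontrivial subgroup of a cyclic `p`-group contains all elements of order dividing `p` -/
theorem mem_of_pow_eq_one (hcard : Nat.card H = p ^ m) {L : Subgroup H} (hL : L ≠ ⊥) {z : H}
    (hz : z ^ p = 1) : z ∈ L := by
  have hdvd : Nat.card L ∣ p ^ m := hcard ▸ Subgroup.card_subgroup_dvd_card L
  obtain ⟨k, hk, hkc⟩ := (Nat.dvd_prime_pow hp.out).1 hdvd
  have hk0 : k ≠ 0 := by
    rintro rfl
    rw [pow_zero] at hkc
    exact hL (Subgroup.card_eq_one.1 hkc)
  have hpd : p ∣ Nat.card L := by
    rw [hkc]; exact dvd_pow_self p hk0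
  obtain ⟨u, hu⟩ := exists_prime_orderOf_dvd_card' p hpd
  have hu' : orderOf (u : H) = p := by rw [Subgroup.orderOf_coe, hu]
  set V := (Finset.range p).image (fun j => (u : H) ^ j) with hV
  have hVsub : V ⊆ P1 H p := by
    intro w hw
    rw [hV, Finset.mem_image] at hw
    obtain ⟨j, _, rfl⟩ := hw
    rw [mem_P1, ← pow_mul, mul_comm, pow_mul, ← hu', pow_orderOf_eq_one, one_pow]
  have hVcard : V.card = p := by
    rw [hV, Finset.card_image_of_injOn, Finset.card_range]
    intro i hi j hj h
    rw [Finset.coe_range] at hi hj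
    exact pow_injOn_Iio_orderOf (by rw [hu']; exact hi) (by rw [hu']; exact hj) h
  have hVeq : V = P1 H p :=
    Finset.eq_of_subset_of_card_le hVsub (by rw [hVcard]; exact card_P1_le (H := H))
  have : z ∈ V := by rw [hVeq, mem_P1]; exact hz
  rw [hV, Finset.mem_image] at this
  obtain ⟨j, _, rfl⟩ := this
  exact pow_mem u.2 j

end Cyc

end Setting

section Glue

variable {Ω G H : Type*} [Group G] [MulAction G Ω] [CommGroup H]
  (ι : H →* G) (ω0 : Ω) (hreg : Function.Bijective fun h : H => ι h • ω0)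

/-- the identification of `H` with `Ω` -/
noncomputable def eqv : H ≃ Ω := Equiv.ofBijective _ hreg

theorem eqv_apply (a : H) : eqv ι ω0 hreg a = ι a • ω0 := rfl

theorem eqv_one : eqv ι ω0 hreg 1 = ω0 := by rw [eqv_apply, map_one, one_smul]

/-- the transported setting -/
noncomputable def mkSetting : Setting G H where
  φ :=
    { toFun := fun γ =>
        { toFun := fun a => (eqv ι ω0 hreg).symm (γ • eqv ι ω0 hreg a)
          invFun := fun a => (eqv ι ω0 hreg).symm (γ⁻¹ • eqv ι ω0 hreg a)
          left_inv := by intro a; simp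
          right_inv := by intro a; simp }
      map_one' := by ext a; simp
      map_mul' := by intro γ γ'; ext a; simp [mul_smul] }
  ι := ι
  hι := by
    intro x a
    show (eqv ι ω0 hreg).symm (ι x • eqv ι ω0 hreg a) = x * a
    rw [Equiv.symm_apply_eq, eqv_apply, eqv_apply, map_mul, mul_smul]

theorem mkSetting_φ (γ : G) (a : H) :
    (mkSetting ι ω0 hreg).φ γ a = (eqv ι ω0 hreg).symm (γ • eqv ι ω0 hreg a) := rfl

theorem smul_eqv (γ : G) (a : H) :
    γ • eqv ι ω0 hreg a = eqv ι ω0 hreg ((mkSetting ι ω0 hreg).φ γ a) := by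
  rw [mkSetting_φ, Equiv.apply_symm_apply]

theorem fix_iff (k : G) : (mkSetting ι ω0 hreg).Fix k ↔ k • ω0 = ω0 := by
  unfold Setting.Fix
  rw [mkSetting_φ, Equiv.symm_apply_eq, eqv_one]

variable [Fintype H] [DecidableEq H] [IsCyclic H] {p m : ℕ} [hp : Fact p.Prime]

include hreg in
/-- **Schur's theorem on cyclic B-groups of prime power order** (and a bit more). -/
theorem schur (hm : 2 ≤ m) (hcard : Nat.card H = p ^ m)
    (h2 : ¬ MulAction.IsMultiplyPretransitive G Ω 2) (z : H) (hz : z ^ p = 1) :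
    ¬ MulAction.IsPreprimitive G Ω ∧
      ¬ MulAction.IsPretransitive (Subgroup.normalClosure ({ι z} : Set G)) Ω := by
  set S := mkSetting ι ω0 hreg with hS
  set e := eqv ι ω0 hreg with he
  -- an invariant proper nontrivial subgroup
  have hex : ∃ L : Subgroup H, S.InvSet (L : Set H) ∧ L ≠ ⊥ ∧ L ≠ ⊤ := by
    by_contra hcon
    push Not at hcon
    have hprim : ∀ L : Subgroup H, S.InvSet (L : Set H) → L = ⊥ ∨ L = ⊤ := by
      intro L hL
      by_cases h : L = ⊥
      · exact Or.inl h
      · exact Or.inr (hcon L hL h)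
    apply h2
    rw [MulAction.is_two_pretransitive_iff]
    intro α β γ δ hαβ hγδ
    obtain ⟨a, rfl⟩ := e.surjective α
    obtain ⟨c, rfl⟩ := e.surjective γ
    obtain ⟨b, hb⟩ := e.surjective ((ι a)⁻¹ • β)
    obtain ⟨d, hd⟩ := e.surjective ((ι c)⁻¹ • δ)
    have hb1 : b ≠ 1 := by
      rintro rfl
      apply hαβ
      rw [he, eqv_one] at hb
      rw [he, eqv_apply, hb, smul_inv_smul]
    have hd1 : d ≠ 1 := by
      rintro rfl
      apply hγδ
      rw [he, eqv_one] at hd
      rw [he, eqv_apply, hd, smul_inv_smul]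
    obtain ⟨k, hk, hkb⟩ := S.core hm hcard hprim hb1 hd1
    rw [hS, fix_iff] at hk
    refine ⟨ι c * k * (ι a)⁻¹, ?_, ?_⟩
    · rw [he, eqv_apply, eqv_apply, mul_smul, mul_smul, inv_smul_smul, hk]
    · rw [mul_smul, mul_smul, ← hb, smul_eqv, ← hS, hkb, hd, smul_inv_smul]
  obtain ⟨L, hL, hLbot, hLtop⟩ := hex
  have hzL : z ∈ L := Setting.mem_of_pow_eq_one hcard hLbot hz
  constructor
  · intro hprim
    set B : Set Ω := e '' (L : Set H) with hB
    have hblock : MulAction.IsBlock G B := by
      rw [MulAction.isBlock_iff_smul_eq_of_mem]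
      intro γ ω hω hγω
      rw [hB, Set.mem_image] at hω hγω
      obtain ⟨l, hl, rfl⟩ := hω
      obtain ⟨l', hl', hll'⟩ := hγω
      rw [he, smul_eqv, ← hS] at hll'
      have hl'' : S.φ γ l ∈ L := by
        have := e.injective hll'
        rw [← this]; exact hl'
      ext ω
      obtain ⟨a, rfl⟩ := e.surjective ω
      rw [Set.mem_smul_set]
      constructor
      · rintro ⟨ω', hω', h⟩
        rw [hB, Set.mem_image] at hω'
        obtain ⟨b, hb, rfl⟩ := hω'
        rw [he, smul_eqv, ← hS] at h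
        have := e.injective h
        rw [hB, Set.mem_image]
        refine ⟨a, ?_, rfl⟩
        rw [← this]
        exact (S.block_iff hL γ hl hl'' b).2 hb
      · intro h
        rw [hB, Set.mem_image] at h
        obtain ⟨a', ha', haa'⟩ := h
        have := e.injective haa'
        subst this
        refine ⟨e ((S.φ γ).symm a'), ?_, ?_⟩
        · rw [hB, Set.mem_image]
          refine ⟨_, ?_, rfl⟩
          have := (S.block_iff hL γ hl hl'' ((S.φ γ).symm a'))
          rw [Equiv.apply_symm_apply] at this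
          exact this.1 ha'
        · rw [he, smul_eqv, ← hS, Equiv.apply_symm_apply]
    rcases hprim.isTrivialBlock_of_isBlock hblock with h | h
    · apply hLbot
      rw [Subgroup.eq_bot_iff_forall]
      intro l hl
      have h1 : e l ∈ B := ⟨l, hl, rfl⟩
      have h2 : e 1 ∈ B := ⟨1, one_mem L, rfl⟩
      exact e.injective (h h1 h2)
    · apply hLtop
      rw [Subgroup.eq_top_iff']
      intro a
      have : e a ∈ B := by rw [h]; exact Set.mem_univ _
      rw [hB, Set.mem_image] at this
      obtain ⟨a', ha', haa'⟩ := this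
      rw [← e.injective haa']; exact ha'
  · intro htr
    apply hLtop
    rw [Subgroup.eq_top_iff']
    intro a
    obtain ⟨n, hn⟩ := htr.exists_smul_eq ω0 (e a)
    have hn' : (n : G) • e 1 = e a := by
      rw [he, eqv_one]; exact hn
    rw [he, smul_eqv, ← hS] at hn'
    have h1 := e.injective hn'
    have h2 := S.normalClosure_le hL hzL n.2
    have h3 := (S.mem_cosetKer hL).1 h2 1
    rw [h1, inv_one, one_mul] at h3
    exact h3

end Glue

end Cfsg.Agent.Helper19.SchurRing
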