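import Mathlib
import Cfsg.Agent.Lib.Helper19.SchurRing

/-!
# Schur's theorem for cyclic regular subgroups of composite order

The argument of `SchurRing` (prime power order) only uses a prime `p` dividing the order of the
cyclic group `H` with `p < |H|`; this file records the general version.
-/

set_option autoImplicit false

namespace Cfsg.Agent.Helper19.SchurRing

namespace Setting

variable {G H : Type*} [Group G] [CommGroup H] (S : Setting G H)

section MainGen

variable [Fintype H] [DecidableEq H] [IsCyclic H] {p : ℕ} [hp : Fact p.Prime]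

omit [IsCyclic H] in
theorem exists_P1_ne_one_gen (hdvd : p ∣ Nat.card H) :
    ∃ v : H, v ≠ 1 ∧ v ^ p = 1 := by
  have hdvd' : p ∣ Fintype.card H := by
    rw [← Nat.card_eq_fintype_card]; exact hdvd
  obtain ⟨x, hx⟩ := exists_prime_orderOf_dvd_card p hdvd'
  refine ⟨x, ?_, ?_⟩
  · rintro rfl
    rw [orderOf_one] at hx
    exact hp.out.one_lt.ne hx
  · rw [← hx, pow_orderOf_eq_one]

omit [IsCyclic H] in
theorem range_pow_ne_top_gen (hdvd : p ∣ Nat.card H) :
    (powMonoidHom p : H →* H).range ≠ ⊤ := by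
  intro h
  obtain ⟨v, hv1, hvp⟩ := exists_P1_ne_one_gen (H := H) hdvd
  have hsurj : Function.Surjective (powMonoidHom p : H →* H) := MonoidHom.range_eq_top.1 h
  have hinj : Function.Injective (powMonoidHom p : H →* H) :=
    Finite.injective_iff_surjective.2 hsurj
  apply hv1
  apply hinj
  simp [hvp]

variable (hdvd : p ∣ Nat.card H) (hlt : p < Nat.card H)
  (hprim : ∀ L : Subgroup H, S.InvSet (L : Set H) → L = ⊥ ∨ L = ⊤)

include hdvd hlt hprim

/-- cosets of `P1` off `P1` are inside or outside an invariant set -/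
theorem coset_mem_gen {T : Finset H} (hT : S.InvSet (T : Set H)) {x : H} (hx : x ∈ T)
    (hxp : x ^ p ≠ 1) {u : H} (hu : u ^ p = 1) : x * u ∈ T := by
  -- the set of c with nonzero fibre count mod p
  set ST : Set H := {c | ((T.filter fun t => t ^ p = c).card : ZMod p) ≠ 0} with hST
  have hSTinv : S.InvSet ST := (S.invFun_frob p hT).invSet S (fun z => z ≠ 0)
  have hle : Subgroup.closure ST ≤ (powMonoidHom p : H →* H).range := by
    rw [Subgroup.closure_le]
    intro c hc
    rw [hST, Set.mem_ofPred_eq] at hc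
    have hne : (T.filter fun t => t ^ p = c).Nonempty := by
      rw [Finset.nonempty_iff_ne_empty]
      intro h0
      rw [h0] at hc
      simp at hc
    obtain ⟨t, ht⟩ := hne
    rw [Finset.mem_filter] at ht
    exact ⟨t, ht.2⟩
  have hbot : Subgroup.closure ST = ⊥ := by
    rcases hprim _ (S.invSet_closure hSTinv) with h | h
    · exact h
    · exfalso
      rw [h] at hle
      exact range_pow_ne_top_gen (H := H) hdvd (top_le_iff.1 hle)
  have hnot : x ^ p ∉ ST := by
    intro h
    have : x ^ p ∈ Subgroup.closure ST := Subgroup.subset_closure h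
    rw [hbot, Subgroup.mem_bot] at this
    exact hxp this
  rw [hST, Set.mem_ofPred_eq, not_not, ZMod.natCast_eq_zero_iff] at hnot
  -- the fibre
  set F := T.filter fun t => t ^ p = x ^ p with hF
  have hxF : x ∈ F := by rw [hF, Finset.mem_filter]; exact ⟨hx, rfl⟩
  have hFpos : 0 < F.card := Finset.card_pos.2 ⟨x, hxF⟩
  have hFge : p ≤ F.card := Nat.le_of_dvd hFpos hnot
  set I := (P1 H p).image (fun u => x * u) with hI
  have hFI : F ⊆ I := by
    intro t ht
    rw [hF, Finset.mem_filter] at ht
    rw [hI, Finset.mem_image]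
    refine ⟨x⁻¹ * t, ?_, by rw [mul_inv_cancel_left]⟩
    rw [mem_P1, mul_pow, ht.2, inv_pow, inv_mul_cancel]
  have hIle : I.card ≤ p := le_trans Finset.card_image_le (card_P1_le (H := H))
  have hFI' : F = I := Finset.eq_of_subset_of_card_le hFI (le_trans hIle hFge)
  have : x * u ∈ I := by
    rw [hI, Finset.mem_image]
    exact ⟨u, mem_P1.2 hu, rfl⟩
  rw [← hFI', hF, Finset.mem_filter] at this
  exact this.1

theorem exists_pow_ne_one_gen {T : Finset H} (hT : S.InvSet (T : Set H)) (hne : T.Nonempty)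
    (h1 : (1 : H) ∉ T) : ∃ x ∈ T, x ^ p ≠ 1 := by
  by_contra hcon
  push Not at hcon
  obtain ⟨t, ht⟩ := hne
  have htop : Subgroup.closure (T : Set H) = ⊤ := by
    rcases hprim _ (S.invSet_closure hT) with h | h
    · exfalso
      have : t ∈ Subgroup.closure (T : Set H) := Subgroup.subset_closure ht
      rw [h, Subgroup.mem_bot] at this
      exact h1 (this ▸ ht)
    · exact h
  have hle : Subgroup.closure (T : Set H) ≤ (powMonoidHom p : H →* H).ker := by
    rw [Subgroup.closure_le]
    intro c hc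
    rw [SetLike.mem_coe, MonoidHom.mem_ker]
    exact hcon c hc
  rw [htop] at hle
  have hall : ∀ h : H, h ^ p = 1 := by
    intro h
    have : h ∈ (powMonoidHom p : H →* H).ker := hle (Subgroup.mem_top h)
    exact MonoidHom.mem_ker.1 this
  have h2 : P1 H p = Finset.univ := by
    ext u; simp [mem_P1, hall u]
  have h3 := card_P1_le (H := H) (p := p)
  rw [h2, Finset.card_univ, ← Nat.card_eq_fintype_card] at h3
  omega

theorem exists_pow_eq_one_gen {T : Finset H} (hT : S.InvSet (T : Set H)) (hne : T.Nonempty)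
    (h1 : (1 : H) ∉ T) : ∃ y ∈ T, y ^ p = 1 := by
  by_contra hcon
  push Not at hcon
  obtain ⟨v, hv1, hvp⟩ := exists_P1_ne_one_gen (H := H) hdvd
  have hmem : ∀ w : H, w ^ p = 1 → w ∈ stab (T : Set H) := by
    intro w hw
    rw [mem_stab]
    intro t
    constructor
    · intro h
      have h2 := S.coset_mem_gen hdvd hlt hprim hT h (hcon _ h) (u := w⁻¹) (by rw [inv_pow, hw, inv_one])
      rwa [mul_comm w t, mul_inv_cancel_right] at h2
    · intro h
      have h2 := S.coset_mem_gen hdvd hlt hprim hT h (hcon _ h) hw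
      rwa [mul_comm] at h2
  have htop : stab (T : Set H) = ⊤ := by
    rcases hprim _ (S.invSet_stab hT) with h | h
    · exfalso
      have := hmem v hvp
      rw [h, Subgroup.mem_bot] at this
      exact hv1 this
    · exact h
  obtain ⟨t, ht⟩ := hne
  have : t⁻¹ ∈ stab (T : Set H) := by rw [htop]; exact Subgroup.mem_top _
  have h2 := (mem_stab.1 this t).2 ht
  rw [inv_mul_cancel] at h2
  exact h1 h2

/-- the main counting argument -/
theorem main_aux_gen {T T' : Finset H} (hT : S.InvSet (T : Set H)) (hne : T.Nonempty)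
    (h1 : (1 : H) ∉ T) (hrel : ∀ a ∈ T, ∀ b ∈ T, S.Rel a b)
    (hT' : S.InvSet (T' : Set H)) (hne' : T'.Nonempty) (h1' : (1 : H) ∉ T')
    (hdisj : ∀ t ∈ T, t⁻¹ ∉ T') : False := by
  obtain ⟨x, hxT, hxp⟩ := S.exists_pow_ne_one_gen hdvd hlt hprim hT hne h1
  obtain ⟨y, hyT, hyp⟩ := S.exists_pow_eq_one_gen hdvd hlt hprim hT hne h1
  obtain ⟨a', ha'T, ha'p⟩ := S.exists_pow_eq_one_gen hdvd hlt hprim hT' hne' h1'
  set A' := T'.filter fun t => t ^ p = 1 with hA'
  -- N x ≥ |A'|
  have hNx : A'.card ≤ (T.filter fun t => t⁻¹ * x ∈ T').card := by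
    apply Finset.card_le_card_of_injOn (fun u => x * u⁻¹)
    · intro u hu
      rw [Finset.mem_coe, hA', Finset.mem_filter] at hu
      rw [Finset.mem_coe, Finset.mem_filter]
      refine ⟨S.coset_mem_gen hdvd hlt hprim hT hxT hxp (by rw [inv_pow, hu.2, inv_one]), ?_⟩
      rw [mul_inv_rev, inv_inv, mul_assoc, inv_mul_cancel, mul_one]
      exact hu.1
    · intro u _ u' _ h
      simpa using h
  -- N y ≤ |A'| with equality analysis
  have key : ∀ y ∈ T, y ^ p = 1 → ∀ a' ∈ A', y * a'⁻¹ ∈ T := by
    intro y hyT hyp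
    have hNeq : (T.filter fun t => t⁻¹ * x ∈ T').card = (T.filter fun t => t⁻¹ * y ∈ T').card :=
      (S.invFun_count hT hT').rel S (hrel x hxT y hyT)
    set Fy := T.filter fun t => t⁻¹ * y ∈ T' with hFy
    have hsub : Fy.image (fun t => t⁻¹ * y) ⊆ A' := by
      intro w hw
      rw [Finset.mem_image] at hw
      obtain ⟨t, ht, rfl⟩ := hw
      rw [hFy, Finset.mem_filter] at ht
      rw [hA', Finset.mem_filter]
      refine ⟨ht.2, ?_⟩
      by_contra hwp
      have htp : t ^ p ≠ 1 := by
        intro h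
        apply hwp
        rw [mul_pow, inv_pow, h, hyp, inv_one, one_mul]
      have h3 := S.coset_mem_gen hdvd hlt hprim hT' ht.2 hwp (u := y⁻¹) (by rw [inv_pow, hyp, inv_one])
      rw [mul_inv_cancel_right] at h3
      exact hdisj t ht.1 h3
    have hcardimg : (Fy.image (fun t => t⁻¹ * y)).card = Fy.card := by
      apply Finset.card_image_of_injective
      intro t t' h
      simpa using h
    have heq : Fy.image (fun t => t⁻¹ * y) = A' := by
      apply Finset.eq_of_subset_of_card_le hsub
      rw [hcardimg, ← hNeq]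
      exact hNx
    intro a' ha'
    rw [← heq, Finset.mem_image] at ha'
    obtain ⟨t, ht, rfl⟩ := ha'
    rw [hFy, Finset.mem_filter] at ht
    rw [mul_inv_rev, inv_inv, mul_comm y⁻¹ t, mul_comm, mul_assoc, inv_mul_cancel, mul_one]
    exact ht.1
  -- now A is closed under multiplication by v = a'⁻¹
  have ha'A : a' ∈ A' := by rw [hA', Finset.mem_filter]; exact ⟨ha'T, ha'p⟩
  set v := a'⁻¹ with hv
  have hvp : v ^ p = 1 := by rw [hv, inv_pow, ha'p, inv_one]
  have hv1 : v ≠ 1 := by
    intro h
    rw [hv, inv_eq_one] at h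
    exact h1' (h ▸ ha'T)
  have hord : orderOf v = p := orderOf_eq_prime hvp hv1
  have hpow : ∀ j : ℕ, y * v ^ j ∈ T ∧ (y * v ^ j) ^ p = 1 := by
    intro j
    induction j with
    | zero => simpa using ⟨hyT, hyp⟩
    | succ j ih =>
      rw [pow_succ, ← mul_assoc]
      refine ⟨key _ ih.1 ih.2 a' ha'A, ?_⟩
      rw [mul_pow, ih.2, hvp, one_mul]
  set V := (Finset.range p).image (fun j => y * v ^ j) with hV
  have hVsub : V ⊆ P1 H p := by
    intro w hw
    rw [hV, Finset.mem_image] at hw
    obtain ⟨j, _, rfl⟩ := hw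
    exact mem_P1.2 (hpow j).2
  have hVcard : V.card = p := by
    rw [hV, Finset.card_image_of_injOn, Finset.card_range]
    intro i hi j hj h
    have h2 : v ^ i = v ^ j := mul_left_cancel h
    rw [Finset.coe_range] at hi hj
    exact pow_injOn_Iio_orderOf (by rw [hord]; exact hi) (by rw [hord]; exact hj) h2
  have hVeq : V = P1 H p :=
    Finset.eq_of_subset_of_card_le hVsub (by rw [hVcard]; exact card_P1_le (H := H))
  have : (1 : H) ∈ V := by rw [hVeq, mem_P1, one_pow]
  rw [hV, Finset.mem_image] at this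
  obtain ⟨j, _, hj⟩ := this
  exact h1 (hj ▸ (hpow j).1)

open scoped Classical in
/-- **Schur's theorem (abstract form).** If no proper nontrivial subgroup of the cyclic group `H`
of composite order divisible by `p`, is invariant, then the stabiliser of `1` is transitive on `H \ {1}`. -/
theorem core_gen {a b : H} (ha : a ≠ 1) (hb : b ≠ 1) : S.Rel a b := by
  have key : ∀ a b : H, a ≠ 1 → b ≠ 1 → S.Rel a⁻¹ b := by
    intro a b ha hb
    by_contra hcon
    set T : Finset H := Finset.univ.filter fun c => S.Rel a c with hT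
    set T' : Finset H := Finset.univ.filter fun c => S.Rel b c with hT'
    have hTinv : S.InvSet (T : Set H) := by
      intro k hk c hc
      rw [Finset.mem_coe, hT, Finset.mem_filter] at hc ⊢
      exact ⟨Finset.mem_univ _, Rel.trans S hc.2 ⟨k, hk, rfl⟩⟩
    have hT'inv : S.InvSet (T' : Set H) := by
      intro k hk c hc
      rw [Finset.mem_coe, hT', Finset.mem_filter] at hc ⊢
      exact ⟨Finset.mem_univ _, Rel.trans S hc.2 ⟨k, hk, rfl⟩⟩
    refine S.main_aux_gen hdvd hlt hprim hTinv ⟨a, ?_⟩ ?_ ?_ hT'inv ⟨b, ?_⟩ ?_ ?_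
    · rw [hT, Finset.mem_filter]; exact ⟨Finset.mem_univ _, Rel.refl S a⟩
    · intro h
      rw [hT, Finset.mem_filter] at h
      exact (Rel.ne_one S h.2 ha) rfl
    · intro c hc d hd
      rw [hT, Finset.mem_filter] at hc hd
      exact Rel.trans S (Rel.symm S hc.2) hd.2
    · rw [hT', Finset.mem_filter]; exact ⟨Finset.mem_univ _, Rel.refl S b⟩
    · intro h
      rw [hT', Finset.mem_filter] at h
      exact (Rel.ne_one S h.2 hb) rfl
    · intro t ht ht'
      rw [hT, Finset.mem_filter] at ht
      rw [hT', Finset.mem_filter] at ht'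
      apply hcon
      exact Rel.trans S (Rel.inv S ht.2) (Rel.symm S ht'.2)
  have := key a⁻¹ b (by simpa using ha) hb
  rwa [inv_inv] at this

end MainGen

end Setting

section GlueGen

variable {Ω G H : Type*} [Group G] [MulAction G Ω] [CommGroup H]
  (ι : H →* G) (ω0 : Ω) (hreg : Function.Bijective fun h : H => ι h • ω0)

variable [Fintype H] [DecidableEq H] [IsCyclic H] {p : ℕ} [hp : Fact p.Prime]

include hreg in
/-- **Schur's theorem**: a group containing a regular cyclic subgroup of composite order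
(`p ∣ |H|`, `p < |H|`) is imprimitive or doubly transitive. -/
theorem schur_gen (hdvd : p ∣ Nat.card H) (hlt : p < Nat.card H)
    (h2 : ¬ MulAction.IsMultiplyPretransitive G Ω 2) :
    ¬ MulAction.IsPreprimitive G Ω := by
  set S := mkSetting ι ω0 hreg with hS
  set e := eqv ι ω0 hreg with he
  -- an invariant proper nontrivial subgroup
  have hex : ∃ L : Subgroup H, S.InvSet (L : Set H) ∧ L ≠ ⊥ ∧ L ≠ ⊤ := by
    by_contra hcon
    push Not at hcon
    have hprim : ∀ L : Subgroup H, S.InvSet (L : Set H) → L = ⊥ ∨ L = ⊤ := by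
      intro L hL
      by_cases h : L = ⊥
      · exact Or.inl h
      · exact Or.inr (hcon L hL h)
    apply h2
    rw [MulAction.is_two_pretransitive_iff]
    intro α β γ δ hαβ hγδ
    obtain ⟨a, rfl⟩ := e.surjective α
    obtain ⟨c, rfl⟩ := e.surjective γ
    obtain ⟨b, hb⟩ := e.surjective ((ι a)⁻¹ • β)
    obtain ⟨d, hd⟩ := e.surjective ((ι c)⁻¹ • δ)
    have hb1 : b ≠ 1 := by
      rintro rfl
      apply hαβ
      rw [he, eqv_one] at hb
      rw [he, eqv_apply, hb, smul_inv_smul]
    have hd1 : d ≠ 1 := by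
      rintro rfl
      apply hγδ
      rw [he, eqv_one] at hd
      rw [he, eqv_apply, hd, smul_inv_smul]
    obtain ⟨k, hk, hkb⟩ := S.core_gen hdvd hlt hprim hb1 hd1
    rw [hS, fix_iff] at hk
    refine ⟨ι c * k * (ι a)⁻¹, ?_, ?_⟩
    · rw [he, eqv_apply, eqv_apply, mul_smul, mul_smul, inv_smul_smul, hk]
    · rw [mul_smul, mul_smul, ← hb, smul_eqv, ← hS, hkb, hd, smul_inv_smul]
  obtain ⟨L, hL, hLbot, hLtop⟩ := hex
  intro hprim
  set B : Set Ω := e '' (L : Set H) with hB
  have hblock : MulAction.IsBlock G B := by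
    rw [MulAction.isBlock_iff_smul_eq_of_mem]
    intro γ ω hω hγω
    rw [hB, Set.mem_image] at hω hγω
    obtain ⟨l, hl, rfl⟩ := hω
    obtain ⟨l', hl', hll'⟩ := hγω
    rw [he, smul_eqv, ← hS] at hll'
    have hl'' : S.φ γ l ∈ L := by
      have := e.injective hll'
      rw [← this]; exact hl'
    ext ω
    obtain ⟨a, rfl⟩ := e.surjective ω
    rw [Set.mem_smul_set]
    constructor
    · rintro ⟨ω', hω', h⟩
      rw [hB, Set.mem_image] at hω'
      obtain ⟨b, hb, rfl⟩ := hω'
      rw [he, smul_eqv, ← hS] at h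
      have := e.injective h
      rw [hB, Set.mem_image]
      refine ⟨a, ?_, rfl⟩
      rw [← this]
      exact (S.block_iff hL γ hl hl'' b).2 hb
    · intro h
      rw [hB, Set.mem_image] at h
      obtain ⟨a', ha', haa'⟩ := h
      have := e.injective haa'
      subst this
      refine ⟨e ((S.φ γ).symm a'), ?_, ?_⟩
      · rw [hB, Set.mem_image]
        refine ⟨_, ?_, rfl⟩
        have := (S.block_iff hL γ hl hl'' ((S.φ γ).symm a'))
        rw [Equiv.apply_symm_apply] at this
        exact this.1 ha'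
      · rw [he, smul_eqv, ← hS, Equiv.apply_symm_apply]
  rcases hprim.isTrivialBlock_of_isBlock hblock with h | h
  · apply hLbot
    rw [Subgroup.eq_bot_iff_forall]
    intro l hl
    have h1 : e l ∈ B := ⟨l, hl, rfl⟩
    have h2 : e 1 ∈ B := ⟨1, one_mem L, rfl⟩
    exact e.injective (h h1 h2)
  · apply hLtop
    rw [Subgroup.eq_top_iff']
    intro a
    have : e a ∈ B := by rw [h]; exact Set.mem_univ _
    rw [hB, Set.mem_image] at this
    obtain ⟨a', ha', haa'⟩ := this
    rw [← e.injective haa']; exact ha'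

end GlueGen

end Cfsg.Agent.Helper19.SchurRing
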