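import Mathlib
import Cfsg.Agent.Lib.Helper23.Sp4Defs

/-!
# S6002 piece G: the Clifford 5-cycle (helper19)

Five pairwise anticommuting involutions `t i` of a subgroup `R ≤ Sp₄(F)` whose elements commute
up to sign give an element of order five of `Sp₄(F)` normalising `R`.
-/

set_option autoImplicit false
set_option linter.unusedSectionVars false
set_option linter.unusedVariables false
set_option linter.style.haveILetI false
set_option linter.unusedSimpArgs false

namespace Cfsg.Agent.Helper19.Sp4G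

open Matrix Cfsg.Agent.Helper23.Sp4

/-! ### ring identities -/

section RingLemmas

variable {A : Type*} [Ring A] {a b c x : A}

theorem U_sq (ha : a * a = 1) (hb : b * b = 1) (hab : a * b = -(b * a)) :
    (a - b) * (a - b) = 1 + 1 := by
  have h : (a - b) * (a - b) = a * a - a * b - b * a + b * b := by noncomm_ring
  rw [h, ha, hb, hab]; abel

theorem U_mul_a (ha : a * a = 1) (hb : b * b = 1) : (a - b) * a = (-b) * (a - b) := by
  have h1 : (a - b) * a = a * a - b * a := by noncomm_ring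
  have h2 : (-b) * (a - b) = b * b - b * a := by noncomm_ring
  rw [h1, h2, ha, hb]

theorem U_mul_b (ha : a * a = 1) (hb : b * b = 1) : (a - b) * b = (-a) * (a - b) := by
  have h1 : (a - b) * b = a * b - b * b := by noncomm_ring
  have h2 : (-a) * (a - b) = a * b - a * a := by noncomm_ring
  rw [h1, h2, ha, hb]

theorem U_mul_c (hac : a * c = -(c * a)) (hbc : b * c = -(c * b)) :
    (a - b) * c = (-c) * (a - b) := by
  have h1 : (a - b) * c = a * c - b * c := by noncomm_ring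
  have h2 : (-c) * (a - b) = -(c * a) - -(c * b) := by noncomm_ring
  rw [h1, h2, hac, hbc]

theorem U_pp (hax : a * x = x * a) (hbx : b * x = x * b) : (a - b) * x = x * (a - b) := by
  rw [sub_mul, mul_sub, hax, hbx]

theorem U_mm (hax : a * x = -(x * a)) (hbx : b * x = -(x * b)) :
    (a - b) * x = (-x) * (a - b) := U_mul_c hax hbx

theorem U_pm (ha : a * a = 1) (hb : b * b = 1) (hab : a * b = -(b * a))
    (hax : a * x = x * a) (hbx : b * x = -(x * b)) :
    (a - b) * x = (-(x * a * b)) * (a - b) := by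
  have hba : b * a = -(a * b) := by rw [hab, neg_neg]
  have h1 : (a - b) * x = a * x - b * x := by noncomm_ring
  have h2 : (-(x * a * b)) * (a - b) = -(x * (a * (b * a))) + x * (a * (b * b)) := by noncomm_ring
  rw [h1, h2, hax, hbx, hba, hb, mul_one, mul_neg, ← mul_assoc a a b, ha, one_mul]
  simp only [mul_neg, neg_neg]
  abel

theorem U_mp (ha : a * a = 1) (hb : b * b = 1) (hab : a * b = -(b * a))
    (hax : a * x = -(x * a)) (hbx : b * x = x * b) :
    (a - b) * x = (x * a * b) * (a - b) := by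
  have hba : b * a = -(a * b) := by rw [hab, neg_neg]
  have h1 : (a - b) * x = a * x - b * x := by noncomm_ring
  have h2 : (x * a * b) * (a - b) = x * (a * (b * a)) - x * (a * (b * b)) := by noncomm_ring
  rw [h1, h2, hax, hbx, hba, hb, mul_one, mul_neg, ← mul_assoc a a b, ha, one_mul]
  simp only [mul_neg, neg_neg]
  abel

end RingLemmas

/-! ### the matrix form of membership in `spGL` -/

section Form

variable {F : Type*} [Field F] {m : ℕ}

theorem form_mulVec (A : Matrix (Fin m ⊕ Fin m) (Fin m ⊕ Fin m) F) (u v : Fin m ⊕ Fin m → F) :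
    Cfsg.sympForm m F (A *ᵥ u) (A *ᵥ v) = u ⬝ᵥ ((Aᵀ * Matrix.J (Fin m) F * A) *ᵥ v) := by
  unfold Cfsg.sympForm
  rw [← Matrix.mulVec_mulVec, ← Matrix.mulVec_mulVec, Matrix.dotProduct_mulVec u Aᵀ,
    Matrix.vecMul_transpose]

/-- `A` is a similitude of the symplectic form with multiplier `c`. -/
def IsSim (c : F) (A : Matrix (Fin m ⊕ Fin m) (Fin m ⊕ Fin m) F) : Prop :=
  Aᵀ * Matrix.J (Fin m) F * A = c • Matrix.J (Fin m) F

theorem mem_spGL_iff_isSim (g : GL (Fin m ⊕ Fin m) F) :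
    g ∈ Cfsg.spGL m F ↔ IsSim 1 (g : Matrix (Fin m ⊕ Fin m) (Fin m ⊕ Fin m) F) := by
  unfold IsSim
  rw [one_smul]
  constructor
  · intro hg
    have hg' : ∀ u v, Cfsg.sympForm m F ((g : Matrix _ _ F) *ᵥ u) ((g : Matrix _ _ F) *ᵥ v)
        = Cfsg.sympForm m F u v := hg
    ext i j
    have h := hg' (Pi.single i 1) (Pi.single j 1)
    rw [form_mulVec] at h
    simpa [Cfsg.sympForm] using h
  · intro h u v
    show Cfsg.sympForm m F ((g : Matrix _ _ F) *ᵥ u) ((g : Matrix _ _ F) *ᵥ v)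
        = Cfsg.sympForm m F u v
    rw [form_mulVec, h]
    rfl

theorem IsSim.mul {c d : F} {A B : Matrix (Fin m ⊕ Fin m) (Fin m ⊕ Fin m) F}
    (hA : IsSim c A) (hB : IsSim d B) : IsSim (c * d) (A * B) := by
  unfold IsSim at *
  calc (A * B)ᵀ * Matrix.J (Fin m) F * (A * B)
      = Bᵀ * (Aᵀ * Matrix.J (Fin m) F * A) * B := by
        rw [Matrix.transpose_mul]; simp only [Matrix.mul_assoc]
    _ = c • (Bᵀ * Matrix.J (Fin m) F * B) := by
        rw [hA, Matrix.mul_smul, Matrix.smul_mul]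
    _ = (c * d) • Matrix.J (Fin m) F := by rw [hB, smul_smul]

theorem IsSim.smul {c : F} {A : Matrix (Fin m ⊕ Fin m) (Fin m ⊕ Fin m) F}
    (hA : IsSim c A) (r : F) : IsSim (r * r * c) (r • A) := by
  unfold IsSim at *
  rw [Matrix.transpose_smul, Matrix.smul_mul, Matrix.smul_mul, Matrix.mul_smul, hA, smul_smul,
    smul_smul]

end Form

/-! ### the units `a - b` -/

section GLpart

variable {F : Type*} [Field F] {n : Type} [Fintype n] [DecidableEq n]

theorem val_sq {a : GL n F} (ha : a * a = 1) : (a : Matrix n n F) * (a : Matrix n n F) = 1 := by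
  have h := congrArg Units.val ha
  simpa only [Units.val_mul, Units.val_one] using h

theorem val_comm {a b : GL n F} (hab : a * b = b * a) :
    (a : Matrix n n F) * (b : Matrix n n F) = (b : Matrix n n F) * (a : Matrix n n F) := by
  have h := congrArg Units.val hab
  simpa only [Units.val_mul] using h

theorem val_anti {a b : GL n F} (hab : a * b = -(b * a)) :
    (a : Matrix n n F) * (b : Matrix n n F) = -((b : Matrix n n F) * (a : Matrix n n F)) := by
  have h := congrArg Units.val hab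
  simpa only [Units.val_mul, Units.val_neg] using h

theorem exists_unit (h2 : (2 : F) ≠ 0) {a b : GL n F} (ha : a * a = 1) (hb : b * b = 1)
    (hab : a * b = -(b * a)) :
    ∃ u : GL n F, (u : Matrix n n F) = (a : Matrix n n F) - (b : Matrix n n F) := by
  have hU := U_sq (val_sq ha) (val_sq hb) (val_anti hab)
  have h11 : (2 : F)⁻¹ • ((1 : Matrix n n F) + 1) = 1 := by
    rw [← two_smul F (1 : Matrix n n F), smul_smul, inv_mul_cancel₀ h2, one_smul]
  refine ⟨⟨(a : Matrix n n F) - (b : Matrix n n F),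
    (2 : F)⁻¹ • ((a : Matrix n n F) - (b : Matrix n n F)), ?_, ?_⟩, rfl⟩
  · rw [Matrix.mul_smul, hU, h11]
  · rw [Matrix.smul_mul, hU, h11]

variable {u a b c x : GL n F}

theorem u_inv_val (h2 : (2 : F) ≠ 0) (hu : (u : Matrix n n F) = (a : Matrix n n F) - b)
    (ha : a * a = 1) (hb : b * b = 1) (hab : a * b = -(b * a)) :
    ((u⁻¹ : GL n F) : Matrix n n F) = (2 : F)⁻¹ • (u : Matrix n n F) := by
  have hU := U_sq (val_sq ha) (val_sq hb) (val_anti hab)
  have h11 : (2 : F)⁻¹ • ((1 : Matrix n n F) + 1) = 1 := by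
    rw [← two_smul F (1 : Matrix n n F), smul_smul, inv_mul_cancel₀ h2, one_smul]
  apply Units.inv_eq_of_mul_eq_one_right
  rw [Matrix.mul_smul, hu, hU, h11]

theorem u_mul_a (hu : (u : Matrix n n F) = (a : Matrix n n F) - b)
    (ha : a * a = 1) (hb : b * b = 1) : u * a = (-b) * u := by
  apply Units.ext
  simp only [Units.val_mul, Units.val_neg, hu]
  exact U_mul_a (val_sq ha) (val_sq hb)

theorem u_mul_b (hu : (u : Matrix n n F) = (a : Matrix n n F) - b)
    (ha : a * a = 1) (hb : b * b = 1) : u * b = (-a) * u := by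
  apply Units.ext
  simp only [Units.val_mul, Units.val_neg, hu]
  exact U_mul_b (val_sq ha) (val_sq hb)

theorem u_mul_c (hu : (u : Matrix n n F) = (a : Matrix n n F) - b)
    (hac : a * c = -(c * a)) (hbc : b * c = -(c * b)) : u * c = (-c) * u := by
  apply Units.ext
  simp only [Units.val_mul, Units.val_neg, hu]
  exact U_mul_c (val_anti hac) (val_anti hbc)

theorem u_sq_comm (hu : (u : Matrix n n F) = (a : Matrix n n F) - b)
    (ha : a * a = 1) (hb : b * b = 1) (hab : a * b = -(b * a)) (x : GL n F) :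
    (u * u) * x = x * (u * u) := by
  apply Units.ext
  simp only [Units.val_mul, hu]
  rw [U_sq (val_sq ha) (val_sq hb) (val_anti hab), add_mul, mul_add, one_mul, mul_one]

theorem u_conj_mem (R : Subgroup (GL n F))
    (hu : (u : Matrix n n F) = (a : Matrix n n F) - b)
    (ha : a * a = 1) (hb : b * b = 1) (hab : a * b = -(b * a))
    (haR : a ∈ R) (hbR : b ∈ R) (hneg : (-1 : GL n F) ∈ R)
    (hcomm : ∀ x ∈ R, ∀ y ∈ R, x * y = y * x ∨ x * y = -(y * x))
    (hx : x ∈ R) : u * x * u⁻¹ ∈ R := by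
  have hnegmem : ∀ z ∈ R, -z ∈ R := by
    intro z hz
    have := R.mul_mem hneg hz
    rwa [neg_one_mul] at this
  rcases hcomm a haR x hx with hax | hax <;> rcases hcomm b hbR x hx with hbx | hbx
  · have h : u * x = x * u := by
      apply Units.ext
      simp only [Units.val_mul, hu]
      exact U_pp (val_comm hax) (val_comm hbx)
    rw [h, mul_inv_cancel_right]; exact hx
  · have h : u * x = (-(x * a * b)) * u := by
      apply Units.ext
      simp only [Units.val_mul, Units.val_neg, hu]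
      exact U_pm (val_sq ha) (val_sq hb) (val_anti hab) (val_comm hax) (val_anti hbx)
    rw [h, mul_inv_cancel_right]
    exact hnegmem _ (R.mul_mem (R.mul_mem hx haR) hbR)
  · have h : u * x = (x * a * b) * u := by
      apply Units.ext
      simp only [Units.val_mul, Units.val_neg, hu]
      exact U_mp (val_sq ha) (val_sq hb) (val_anti hab) (val_anti hax) (val_comm hbx)
    rw [h, mul_inv_cancel_right]
    exact R.mul_mem (R.mul_mem hx haR) hbR
  · have h : u * x = (-x) * u := by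
      apply Units.ext
      simp only [Units.val_mul, Units.val_neg, hu]
      exact U_mm (val_anti hax) (val_anti hbx)
    rw [h, mul_inv_cancel_right]
    exact hnegmem _ hx

theorem u_mem_normalizer (R : Subgroup (GL n F))
    (hu : (u : Matrix n n F) = (a : Matrix n n F) - b)
    (ha : a * a = 1) (hb : b * b = 1) (hab : a * b = -(b * a))
    (haR : a ∈ R) (hbR : b ∈ R) (hneg : (-1 : GL n F) ∈ R)
    (hcomm : ∀ x ∈ R, ∀ y ∈ R, x * y = y * x ∨ x * y = -(y * x)) :
    u ∈ Cfsg.Geo.subgroupNormalizer R := by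
  unfold Cfsg.Geo.subgroupNormalizer
  rw [Subgroup.mem_normalizer_iff]
  intro h
  constructor
  · intro hh
    exact u_conj_mem R hu ha hb hab haR hbR hneg hcomm hh
  · intro hh
    have h1 := u_conj_mem R hu ha hb hab haR hbR hneg hcomm hh
    have h2 : u * (u * h * u⁻¹) * u⁻¹ = h := by
      have e : u * (u * h * u⁻¹) * u⁻¹ = (u * u) * h * (u * u)⁻¹ := by group
      rw [e, u_sq_comm hu ha hb hab h, mul_inv_cancel_right]
    rwa [h2] at h1

theorem neg_one_eq (ha : a * a = 1) (hb : b * b = 1) (hab : a * b = -(b * a)) :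
    (a * b) * (a * b) = -1 := by
  have hba : b * a = -(a * b) := by rw [hab, neg_neg]
  calc (a * b) * (a * b) = a * (b * a) * b := by simp only [mul_assoc]
    _ = -((a * a) * (b * b)) := by rw [hba]; simp only [mul_neg, neg_mul, mul_assoc]
    _ = -1 := by rw [ha, hb, one_mul]

theorem inv_rel {G : Type*} [Group G] {u a b : G} (h : u * a = b * u) : u⁻¹ * b = a * u⁻¹ := by
  rw [inv_mul_eq_iff_eq_mul, ← mul_assoc, h, mul_inv_cancel_right]

end GLpart

/-! ### the symplectic part -/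

section Symp

variable {F : Type*} [Field F] {m : ℕ}

theorem u_isSim {u a b : GL (Fin m ⊕ Fin m) F}
    (hu : (u : Matrix (Fin m ⊕ Fin m) (Fin m ⊕ Fin m) F)
      = (a : Matrix (Fin m ⊕ Fin m) (Fin m ⊕ Fin m) F) - (b : Matrix (Fin m ⊕ Fin m) (Fin m ⊕ Fin m) F))
    (ha : a * a = 1) (hb : b * b = 1) (hab : a * b = -(b * a))
    (haS : a ∈ Cfsg.spGL m F) (hbS : b ∈ Cfsg.spGL m F) :
    IsSim (2 : F) (u : Matrix (Fin m ⊕ Fin m) (Fin m ⊕ Fin m) F) := by
  have key : ∀ g : GL (Fin m ⊕ Fin m) F, g * g = 1 → g ∈ Cfsg.spGL m F →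
      (g : Matrix (Fin m ⊕ Fin m) (Fin m ⊕ Fin m) F)ᵀ * Matrix.J (Fin m) F
        = Matrix.J (Fin m) F * (g : Matrix _ _ F) := by
    intro g hg hgS
    have h1 := (mem_spGL_iff_isSim g).1 hgS
    unfold IsSim at h1
    rw [one_smul] at h1
    calc (g : Matrix (Fin m ⊕ Fin m) (Fin m ⊕ Fin m) F)ᵀ * Matrix.J (Fin m) F
        = (g : Matrix _ _ F)ᵀ * Matrix.J (Fin m) F * ((g : Matrix _ _ F) * (g : Matrix _ _ F)) := by
          rw [val_sq hg, Matrix.mul_one]
      _ = ((g : Matrix _ _ F)ᵀ * Matrix.J (Fin m) F * (g : Matrix _ _ F)) * (g : Matrix _ _ F) := by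
          simp only [Matrix.mul_assoc]
      _ = Matrix.J (Fin m) F * (g : Matrix _ _ F) := by rw [h1]
  unfold IsSim
  rw [hu, Matrix.transpose_sub, Matrix.sub_mul, key a ha haS, key b hb hbS, ← Matrix.mul_sub,
    Matrix.mul_assoc, U_sq (val_sq ha) (val_sq hb) (val_anti hab), Matrix.mul_add, Matrix.mul_one,
    two_smul]

end Symp

/-! ### the main statement -/

section Main

variable {F : Type*} [Field F] [Fintype F]

theorem exists_order_five (h2 : (2 : F) ≠ 0) (R : Subgroup (GL I4 F)) (hRf : R ≤ Cfsg.spGL 2 F)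
    (hcomm : ∀ x ∈ R, ∀ y ∈ R, x * y = y * x ∨ x * y = -(y * x)) (t : Fin 5 → GL I4 F)
    (htR : ∀ i, t i ∈ R) (ht2 : ∀ i, t i * t i = 1)
    (hanti : ∀ i j, i ≠ j → t i * t j = -(t j * t i)) :
    ∃ y ∈ Cfsg.spGL 2 F, y ∈ Cfsg.Geo.subgroupNormalizer R ∧ y ^ 5 = 1 ∧ y ≠ 1 := by
  have hneg : (-1 : GL I4 F) ∈ R := by
    have h01 : (0 : Fin 5) ≠ 1 := by decide
    rw [← neg_one_eq (ht2 0) (ht2 1) (hanti 0 1 h01)]
    exact R.mul_mem (R.mul_mem (htR 0) (htR 1)) (R.mul_mem (htR 0) (htR 1))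
  have hpair : ∀ i j : Fin 5, i ≠ j → ∃ u : GL I4 F, u ∈ Cfsg.Geo.subgroupNormalizer R ∧
      IsSim (2 : F) (u : Matrix I4 I4 F) ∧
      ((u⁻¹ : GL I4 F) : Matrix I4 I4 F) = (2 : F)⁻¹ • (u : Matrix I4 I4 F) ∧
      (∀ k, u * t k = (-(t (Equiv.swap i j k))) * u) := by
    intro i j hij
    obtain ⟨u, hu⟩ := exists_unit h2 (ht2 i) (ht2 j) (hanti i j hij)
    refine ⟨u, u_mem_normalizer R hu (ht2 i) (ht2 j) (hanti i j hij) (htR i) (htR j) hneg hcomm,
      u_isSim hu (ht2 i) (ht2 j) (hanti i j hij) (hRf (htR i)) (hRf (htR j)),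
      u_inv_val h2 hu (ht2 i) (ht2 j) (hanti i j hij), ?_⟩
    intro k
    by_cases hki : k = i
    · subst hki
      rw [Equiv.swap_apply_left]
      exact u_mul_a hu (ht2 k) (ht2 j)
    · by_cases hkj : k = j
      · subst hkj
        rw [Equiv.swap_apply_right]
        exact u_mul_b hu (ht2 i) (ht2 k)
      · rw [Equiv.swap_apply_of_ne_of_ne hki hkj]
        exact u_mul_c hu (hanti i k (Ne.symm hki)) (hanti j k (Ne.symm hkj))
  have hinv : ∀ (u : GL I4 F) (σ : Equiv.Perm (Fin 5)), (∀ k, σ (σ k) = k) →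
      (∀ k, u * t k = (-(t (σ k))) * u) → ∀ k, u⁻¹ * t k = (-(t (σ k))) * u⁻¹ := by
    intro u σ hσ h k
    have h1 := inv_rel (h (σ k))
    rw [hσ k] at h1
    calc u⁻¹ * t k = -(u⁻¹ * (-(t k))) := by rw [mul_neg, neg_neg]
      _ = -(t (σ k) * u⁻¹) := by rw [h1]
      _ = (-(t (σ k))) * u⁻¹ := by rw [neg_mul]
  have hcomp : ∀ (u v : GL I4 F) (σ τ : Equiv.Perm (Fin 5)),
      (∀ k, u * t k = (-(t (σ k))) * u) → (∀ k, v * t k = (-(t (τ k))) * v) →
      ∀ k, (u * v) * t k = t (σ (τ k)) * (u * v) := by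
    intro u v σ τ hu hv k
    rw [mul_assoc, hv k, neg_mul, mul_neg, ← mul_assoc, hu (τ k), neg_mul, neg_mul, neg_neg,
      mul_assoc]
  have hcomp2 : ∀ (w w' : GL I4 F) (π π' : Fin 5 → Fin 5),
      (∀ k, w * t k = t (π k) * w) → (∀ k, w' * t k = t (π' k) * w') →
      ∀ k, (w * w') * t k = t (π (π' k)) * (w * w') := by
    intro w w' π π' hw hw' k
    rw [mul_assoc, hw' k, ← mul_assoc, hw (π' k), mul_assoc]
  obtain ⟨u01, n01, s01, i01, a01⟩ := hpair 0 1 (by decide)
  obtain ⟨u12, n12, s12, i12, a12⟩ := hpair 1 2 (by decide)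
  obtain ⟨u23, n23, s23, i23, a23⟩ := hpair 2 3 (by decide)
  obtain ⟨u34, n34, s34, i34, a34⟩ := hpair 3 4 (by decide)
  have b12 := hinv u12 (Equiv.swap 1 2) (Equiv.swap_apply_self 1 2) a12
  have b34 := hinv u34 (Equiv.swap 3 4) (Equiv.swap_apply_self 3 4) a34
  have c1 := hcomp u01 u12⁻¹ _ _ a01 b12
  have c2 := hcomp u23 u34⁻¹ _ _ a23 b34
  have c := hcomp2 (u01 * u12⁻¹) (u23 * u34⁻¹) _ _ c1 c2
  have hperm : ∀ k : Fin 5, Equiv.swap (0 : Fin 5) 1 (Equiv.swap 1 2 (Equiv.swap 2 3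
      (Equiv.swap 3 4 k))) = k + 1 := by decide
  obtain ⟨Y, hY⟩ : ∃ Y : GL I4 F, Y = (u01 * u12⁻¹) * (u23 * u34⁻¹) := ⟨_, rfl⟩
  have hYt : ∀ k, Y * t k = t (k + 1) * Y := by
    intro k
    rw [hY, c k, hperm k]
  have hpow : ∀ (n : ℕ) (k : Fin 5), ∃ k' : Fin 5, k'.val = (k.val + n) % 5 ∧
      Y ^ n * t k = t k' * Y ^ n := by
    intro n
    induction n with
    | zero =>
      intro k
      refine ⟨k, ?_, by simp⟩
      have := k.2
      omega
    | succ n ih =>
      intro k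
      obtain ⟨k', hk', hk'e⟩ := ih (k + 1)
      refine ⟨k', ?_, ?_⟩
      · rw [hk', Fin.val_add]
        have h1 : ((1 : Fin 5) : ℕ) = 1 := rfl
        rw [h1]
        omega
      · rw [pow_succ, mul_assoc, hYt k, ← mul_assoc, hk'e, mul_assoc]
  have hYn : Y ∈ Cfsg.Geo.subgroupNormalizer R := by
    rw [hY]
    exact Subgroup.mul_mem _ (Subgroup.mul_mem _ n01 (Subgroup.inv_mem _ n12))
      (Subgroup.mul_mem _ n23 (Subgroup.inv_mem _ n34))
  have hYs : Y ∈ Cfsg.spGL 2 F := by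
    rw [mem_spGL_iff_isSim]
    have e : (Y : Matrix I4 I4 F) = ((u01 : Matrix I4 I4 F) * ((2 : F)⁻¹ • (u12 : Matrix I4 I4 F)))
        * ((u23 : Matrix I4 I4 F) * ((2 : F)⁻¹ • (u34 : Matrix I4 I4 F))) := by
      rw [hY]; simp only [Units.val_mul, i12, i34]
    rw [e]
    have h := (s01.mul (s12.smul (2 : F)⁻¹)).mul (s23.mul (s34.smul (2 : F)⁻¹))
    have e2 : (2 : F) * ((2 : F)⁻¹ * (2 : F)⁻¹ * 2) * (2 * ((2 : F)⁻¹ * (2 : F)⁻¹ * 2)) = 1 := by
      field_simp
    rwa [e2] at h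
  have hm0 : orderOf Y ≠ 0 := (isOfFinOrder_of_finite Y).orderOf_pos.ne'
  have hinj : ∀ i j : Fin 5, t i = t j → i = j := by
    intro i j hij
    by_contra hne
    have h := hanti i j hne
    rw [← hij, ht2 i] at h
    have h' := congrArg (fun g : GL I4 F => (g : Matrix I4 I4 F) (Sum.inl 0) (Sum.inl 0)) h
    simp at h'
    apply h2
    linear_combination h'
  have h5 : 5 ∣ orderOf Y := by
    obtain ⟨k', hk', h⟩ := hpow (orderOf Y) 0
    rw [pow_orderOf_eq_one, one_mul, mul_one] at h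
    have h' := hinj _ _ h
    rw [← h'] at hk'
    have h0 : ((0 : Fin 5) : ℕ) = 0 := rfl
    rw [h0, zero_add] at hk'
    exact Nat.dvd_of_mod_eq_zero hk'.symm
  have ho := orderOf_pow_orderOf_div hm0 h5
  refine ⟨Y ^ (orderOf Y / 5), Subgroup.pow_mem _ hYs _, Subgroup.pow_mem _ hYn _, ?_, ?_⟩
  · have h := pow_orderOf_eq_one (Y ^ (orderOf Y / 5))
    rwa [ho] at h
  · intro h1
    rw [h1, orderOf_one] at ho
    omega

end Main

end Cfsg.Agent.Helper19.Sp4G
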