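import Mathlib
import Cfsg.Agent.Lib.Helper20.SylTO3

/-!
# Twenty-two Sylow 3-subgroups: basic facts (helper19)

General lemmas on the conjugation action of a finite group on its Sylow `3`-subgroups.
-/

set_option autoImplicit false
set_option linter.unusedSectionVars false
set_option linter.style.haveILetI false

namespace Cfsg.Agent.Helper19.SylTT

open Subgroup MulAction Cfsg.Agent.Helper20.SylFifteen

universe u

variable {G : Type u} [Group G] [Finite G]

/-- the kernel of the action on the Sylow `3`-subgroups is trivial -/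
def Faithful (G : Type u) [Group G] : Prop :=
  ∀ g : G, (∀ P : Sylow 3 G, g • P = P) → g = 1

/-- a normal subgroup containing all Sylow `3`-subgroups is everything -/
def Gen3 (G : Type u) [Group G] : Prop :=
  ∀ M : Subgroup G, M.Normal → (∀ P : Sylow 3 G, (P : Subgroup G) ≤ M) → M = ⊤

omit [Finite G] in
theorem fixedPoints_sylow (P : Sylow 3 G) :
    fixedPoints ↥(P : Subgroup G) (Sylow 3 G) = {P} := by
  ext Q
  rw [P.isPGroup'.sylow_mem_fixedPoints_iff, Set.mem_singleton_iff]
  constructor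
  · intro h
    exact Sylow.ext (P.3 Q.2 h)
  · rintro rfl
    exact le_rfl

omit [Finite G] in
/-- an element of a Sylow subgroup normalizing another one lies in it -/
theorem mem_of_mem_of_smul_eq (P Q : Sylow 3 G) {x : G} (hx : x ∈ (P : Subgroup G))
    (h : x • Q = Q) : x ∈ (Q : Subgroup G) := by
  rw [Sylow.smul_eq_iff_mem_normalizer] at h
  have h3 : x ∈ (P : Subgroup G) ⊓ normalizer (Q : Set G) := ⟨hx, h⟩
  rw [P.isPGroup'.inf_normalizer_sylow Q] at h3
  exact h3.2

omit [Finite G] in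
/-- the stabilizer of `Q` in a `3`-subgroup `D` is `D ⊓ Q` -/
theorem stabilizer_card (D : Subgroup G) (hD : IsPGroup 3 D) (Q : Sylow 3 G) :
    Nat.card (stabilizer ↥D Q) = Nat.card ↥(D ⊓ Q) := by
  refine Nat.card_congr ⟨fun y => ⟨y.1.1, y.1.2, ?_⟩, fun y => ⟨⟨y.1, y.2.1⟩, ?_⟩, ?_, ?_⟩
  · have h1 : (y.1 : ↥D) • Q = Q := y.2
    have h2 : ((y.1 : ↥D) : G) • Q = Q := h1
    rw [Sylow.smul_eq_iff_mem_normalizer] at h2
    have h3 : ((y.1 : ↥D) : G) ∈ D ⊓ normalizer (Q : Set G) :=
      ⟨y.1.2, h2⟩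
    rw [hD.inf_normalizer_sylow Q] at h3
    exact h3.2
  · show (⟨y.1, y.2.1⟩ : ↥D) • Q = Q
    show (y.1 : G) • Q = Q
    rw [Sylow.smul_eq_iff_mem_normalizer]
    exact le_normalizer y.2.2
  · intro y; rfl
  · intro y; rfl

omit [Finite G] in
/-- orbit-stabilizer for a `3`-subgroup acting on the Sylow subgroups -/
theorem card_orbit_mul (D : Subgroup G) (hD : IsPGroup 3 D) (Q : Sylow 3 G) :
    Nat.card (orbit ↥D Q) * Nat.card ↥(D ⊓ Q) = Nat.card D := by
  rw [← stabilizer_card D hD Q, ← Nat.card_prod]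
  exact Nat.card_congr (orbitProdStabilizerEquivGroup ↥D Q)

theorem card_eq_of_sylow (P Q : Sylow 3 G) :
    Nat.card (P : Subgroup G) = Nat.card (Q : Subgroup G) := by
  rw [Sylow.card_eq_multiplicity, Sylow.card_eq_multiplicity]

omit [Finite G] in
theorem eq_bot_of_le_all (hf : Faithful G) (A : Subgroup G)
    (hA : ∀ P : Sylow 3 G, A ≤ P) : A = ⊥ := by
  rw [eq_bot_iff]
  intro a ha
  rw [Subgroup.mem_bot]
  apply hf
  intro P
  rw [Sylow.smul_eq_iff_mem_normalizer]
  exact le_normalizer (hA P ha)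

omit [Finite G] in
theorem centralizer_smul (P : Sylow 3 G) {g : G}
    (hg : g ∈ centralizer ((P : Subgroup G) : Set G)) : g • P = P := by
  rw [Sylow.smul_eq_iff_mem_normalizer]
  exact Subgroup.centralizer_le_normalizer _ hg

omit [Finite G] in
/-- a minimal example has no odd permutations -/
theorem sign_trivial (hnorm : Gen3 G)
    [Fintype (Sylow 3 G)] [DecidableEq (Sylow 3 G)] (g : G) :
    Equiv.Perm.sign (MulAction.toPermHom G (Sylow 3 G) g) = 1 := by
  set sgn : G →* ℤˣ := Equiv.Perm.sign.comp (MulAction.toPermHom G (Sylow 3 G)) with hsgn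
  have h1 : sgn.ker = ⊤ := by
    apply hnorm _ inferInstance
    intro P x hx
    rw [MonoidHom.mem_ker]
    obtain ⟨k, hk⟩ := P.isPGroup' ⟨x, hx⟩
    have hk' : x ^ 3 ^ k = 1 := by
      have := congrArg Subtype.val hk
      simpa using this
    have h2 : sgn x ^ 3 ^ k = 1 := by rw [← map_pow, hk', map_one]
    rcases Int.units_eq_one_or (sgn x) with h | h
    · exact h
    · exfalso
      rw [h] at h2
      have hodd : Odd (3 ^ k) := Odd.pow (by decide)
      rw [hodd.neg_one_pow] at h2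
      exact absurd h2 (by decide)
  have h2 : g ∈ sgn.ker := by rw [h1]; trivial
  exact MonoidHom.mem_ker.1 h2

omit [Finite G] in
/-- a nontrivial element does not fix all Sylow subgroups -/
theorem fixedBy_ncard_lt (h22 : Nat.card (Sylow 3 G) = 22) (hf : Faithful G) {g : G}
    (hg : g ≠ 1) : (fixedBy (Sylow 3 G) g).ncard < 22 := by
  have : Finite (Sylow 3 G) := Nat.finite_of_card_ne_zero (by rw [h22]; norm_num)
  have h3 : (fixedBy (Sylow 3 G) g).ncard ≤ 22 := by
    rw [← h22, ← Set.ncard_univ]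
    exact Set.ncard_le_ncard (Set.subset_univ _) (Set.toFinite _)
  rcases h3.lt_or_eq with h | h
  · exact h
  · exfalso
    have h9 : fixedBy (Sylow 3 G) g = Set.univ := by
      apply Set.eq_of_subset_of_ncard_le (Set.subset_univ _) _ (Set.toFinite _)
      rw [Set.ncard_univ, h22, h]
    apply hg
    apply hf
    intro Q
    have : Q ∈ fixedBy (Sylow 3 G) g := by rw [h9]; trivial
    exact this

/-- the number of fixed points of an element of prime power order -/
theorem fixedBy_modEq (h22 : Nat.card (Sylow 3 G) = 22) {q : ℕ} [Fact q.Prime] {g : G}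
    {k : ℕ} (hg : orderOf g = q ^ k) : 22 ≡ (fixedBy (Sylow 3 G) g).ncard [MOD q] := by
  have : Finite (Sylow 3 G) := Nat.finite_of_card_ne_zero (by rw [h22]; norm_num)
  have hZ : IsPGroup q ↥(zpowers g) := by
    apply IsPGroup.of_card (n := k)
    rw [Nat.card_zpowers, hg]
  have h1 := hZ.card_modEq_card_fixedPoints (α := Sylow 3 G)
  rw [fixedPoints_zpowers, h22, Nat.card_coe_set_eq] at h1
  exact h1

/-- an involution of a minimal example: the number of fixed points is `2` modulo `4` -/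
theorem involution_fixed (h22 : Nat.card (Sylow 3 G) = 22) (hnorm : Gen3 G) {g : G}
    (hg : orderOf g = 2) : (fixedBy (Sylow 3 G) g).ncard % 4 = 2 := by
  classical
  have : Finite (Sylow 3 G) := Nat.finite_of_card_ne_zero (by rw [h22]; norm_num)
  letI : Fintype (Sylow 3 G) := Fintype.ofFinite _
  set F := fixedBy (Sylow 3 G) g with hF
  have h3 : F.ncard ≤ 22 := by
    rw [← h22, ← Set.ncard_univ]
    exact Set.ncard_le_ncard (Set.subset_univ _) (Set.toFinite _)
  have : Fact (Nat.Prime 2) := ⟨Nat.prime_two⟩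
  have hmod : 22 ≡ F.ncard [MOD 2] := fixedBy_modEq h22 (k := 1) (by rw [hg, pow_one])
  set σ : Equiv.Perm (Sylow 3 G) := MulAction.toPermHom G (Sylow 3 G) g with hσ
  have hσ2 : σ ^ 2 = 1 := by
    rw [hσ, ← map_pow, ← hg, pow_orderOf_eq_one, map_one]
  have hsupp : σ.support = F.toFinsetᶜ := by
    ext Q
    rw [Equiv.Perm.mem_support, Finset.mem_compl, Set.mem_toFinset]
    rfl
  have hcard : σ.support.card = 22 - F.ncard := by
    rw [hsupp, Finset.card_compl, ← Nat.card_eq_fintype_card, h22,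
      ← Set.ncard_eq_toFinset_card']
  have h4 := Cfsg.Agent.Helper20.SylTwentyOne.sign_of_sq_eq_one σ hσ2
  rw [hcard, sign_trivial hnorm g] at h4
  have h5 : Even ((22 - F.ncard) / 2) := by
    by_contra hodd
    rw [Nat.not_even_iff_odd] at hodd
    rw [hodd.neg_one_pow] at h4
    exact absurd h4 (by decide)
  have h6 : 22 % 2 = F.ncard % 2 := hmod
  obtain ⟨j, hj⟩ := h5
  omega

omit [Finite G] in
/-- an element normalizing `P` and `Q` maps the `P`-orbit of `Q` into itself -/
theorem smul_orbit_mem (P Q : Sylow 3 G) {n : G} (hn : n • P = P) (hnQ : n • Q = Q) :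
    ∀ a ∈ orbit ↥(P : Subgroup G) Q, n • a ∈ orbit ↥(P : Subgroup G) Q := by
  rintro _ ⟨y, rfl⟩
  rw [Sylow.smul_eq_iff_mem_normalizer] at hn
  have h1 : n * (y : G) * n⁻¹ ∈ (P : Subgroup G) := (Subgroup.mem_normalizer_iff.1 hn _).1 y.2
  refine ⟨⟨n * (y : G) * n⁻¹, h1⟩, ?_⟩
  show (n * (y : G) * n⁻¹) • Q = n • ((y : G) • Q)
  rw [mul_smul, mul_smul]
  congr 2
  rw [inv_smul_eq_iff, hnQ]

/-- the sizes of the orbits of a Sylow subgroup -/
theorem card_orbit_cases (h22 : Nat.card (Sylow 3 G) = 22) (P Q : Sylow 3 G) :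
    (orbit ↥(P : Subgroup G) Q).ncard = 1 ∨ (orbit ↥(P : Subgroup G) Q).ncard = 3 ∨
      (orbit ↥(P : Subgroup G) Q).ncard = 9 := by
  have : Finite (Sylow 3 G) := Nat.finite_of_card_ne_zero (by rw [h22]; norm_num)
  obtain ⟨n, hn⟩ := (P.isPGroup').card_orbit (α := Sylow 3 G) Q
  rw [Nat.card_coe_set_eq] at hn
  have h3 : (orbit ↥(P : Subgroup G) Q).ncard ≤ 22 := by
    rw [← h22, ← Set.ncard_univ]
    exact Set.ncard_le_ncard (Set.subset_univ _) (Set.toFinite _)
  rw [hn] at h3 ⊢
  rcases Nat.lt_or_ge n 3 with h | h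
  · interval_cases n <;> simp
  · exfalso
    have : 3 ^ 3 ≤ 3 ^ n := Nat.pow_le_pow_right (by norm_num) h
    omega

end Cfsg.Agent.Helper19.SylTT
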