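import Mathlib
import Cfsg.Agent.Lib.Helper19.Syl22A

/-!
# Twenty-two Sylow 3-subgroups: elements of order eleven (helper19)
-/

set_option autoImplicit false
set_option linter.unusedSectionVars false
set_option linter.style.haveILetI false

namespace Cfsg.Agent.Helper19.SylTT

open Subgroup MulAction Cfsg.Agent.Helper20.SylFifteen

universe u

variable {G : Type u} [Group G] [Finite G]

instance fact11 : Fact (Nat.Prime 11) := ⟨by norm_num⟩

/-- an element of order `11` fixes no Sylow `3`-subgroup -/
theorem eleven_fpf (h22 : Nat.card (Sylow 3 G) = 22) (hf : Faithful G) {r : G}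
    (hr : orderOf r = 11) (P : Sylow 3 G) : r • P ≠ P := by
  intro hP
  have : Finite (Sylow 3 G) := Nat.finite_of_card_ne_zero (by rw [h22]; norm_num)
  set F := fixedBy (Sylow 3 G) r with hF
  have hPF : P ∈ F := hP
  have hZ : IsPGroup 11 ↥(zpowers r) := by
    apply IsPGroup.of_card (n := 1)
    rw [Nat.card_zpowers, hr, pow_one]
  have hinv : ∀ y : ↥(P : Subgroup G), ∀ a ∈ F, y • a ∈ F := by
    intro y Q hQ
    have hQ' : r • Q = Q := hQ
    set O := orbit ↥(P : Subgroup G) Q with hO
    have hOinv : ∀ z : ↥(zpowers r), ∀ a ∈ O, z • a ∈ O := by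
      intro z a ha
      have hz1 : (z : G) • P = P := by
        have h1 : zpowers r ≤ stabilizer G P := by
          rw [Subgroup.zpowers_le]; exact hP
        exact h1 z.2
      have hz2 : (z : G) • Q = Q := by
        have h1 : zpowers r ≤ stabilizer G Q := by
          rw [Subgroup.zpowers_le]; exact hQ'
        exact h1 z.2
      exact smul_orbit_mem P Q hz1 hz2 a ha
    have h1 := ncard_invariant_modEq hZ O hOinv
    rw [fixedPoints_zpowers, ← hF] at h1
    have h2 := card_orbit_cases h22 P Q
    have h3 : (O ∩ F).ncard ≤ O.ncard :=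
      Set.ncard_le_ncard Set.inter_subset_left (Set.toFinite _)
    have h4 : O.ncard ≤ (O ∩ F).ncard := by
      have h5 : O.ncard % 11 = (O ∩ F).ncard % 11 := h1
      rw [← hO] at h2
      omega
    have h5 : O ∩ F = O :=
      Set.eq_of_subset_of_ncard_le Set.inter_subset_left h4 (Set.toFinite _)
    have h6 : y • Q ∈ O := ⟨y, rfl⟩
    rw [← h5] at h6
    exact h6.2
  have h1 := ncard_invariant_modEq P.isPGroup' F hinv
  rw [fixedPoints_sylow P] at h1
  have h2 : F ∩ {P} = {P} := by
    ext Q
    simp only [Set.mem_inter_iff, Set.mem_singleton_iff]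
    constructor
    · exact fun h => h.2
    · rintro rfl; exact ⟨hPF, rfl⟩
  rw [h2, Set.ncard_singleton] at h1
  have h3 : 22 ≡ F.ncard [MOD 11] := fixedBy_modEq h22 (k := 1) (by rw [hr, pow_one])
  have hr1 : r ≠ 1 := by
    rintro rfl
    rw [orderOf_one] at hr
    norm_num at hr
  have h4 : F.ncard < 22 := fixedBy_ncard_lt h22 hf hr1
  have h5 : F.ncard % 3 = 1 % 3 := h1
  have h6 : 22 % 11 = F.ncard % 11 := h3
  omega

/-- a Sylow `11`-subgroup acts freely on the Sylow `3`-subgroups -/
theorem sylow11_free (h22 : Nat.card (Sylow 3 G) = 22) (hf : Faithful G) (R : Sylow 11 G)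
    {s : G} (hs : s ∈ (R : Subgroup G)) (Q : Sylow 3 G) (hsQ : s • Q = Q) : s = 1 := by
  by_contra hs1
  obtain ⟨k, hk⟩ := (IsPGroup.iff_orderOf.1 R.isPGroup') ⟨s, hs⟩
  rw [Subgroup.orderOf_mk] at hk
  have hk0 : k ≠ 0 := by
    rintro rfl
    rw [pow_zero, orderOf_eq_one_iff] at hk
    exact hs1 hk
  have h11 : 11 ∣ orderOf s := by
    rw [hk]; exact dvd_pow_self 11 hk0
  have hord := orderOf_pow_orderOf_div (orderOf_pos s).ne' h11
  refine eleven_fpf h22 hf hord Q ?_
  exact (stabilizer G Q).pow_mem hsQ _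

/-- `22` divides the order of the group -/
theorem dvd_card (h22 : Nat.card (Sylow 3 G) = 22) : 22 ∣ Nat.card G := by
  have : Finite (Sylow 3 G) := Nat.finite_of_card_ne_zero (by rw [h22]; norm_num)
  obtain ⟨P⟩ : Nonempty (Sylow 3 G) := inferInstance
  have h1 := Sylow.card_eq_index_normalizer P
  rw [h22] at h1
  rw [h1]
  exact Subgroup.index_dvd_card _

/-- the order of the group in terms of the normalizer of a Sylow `3`-subgroup -/
theorem card_group (h22 : Nat.card (Sylow 3 G) = 22) (P : Sylow 3 G) :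
    Nat.card G = 22 * Nat.card (normalizer ((P : Subgroup G) : Set G)) := by
  have : Finite (Sylow 3 G) := Nat.finite_of_card_ne_zero (by rw [h22]; norm_num)
  have h1 := Sylow.card_eq_index_normalizer P
  rw [h22] at h1
  have h2 := Subgroup.card_mul_index (normalizer ((P : Subgroup G) : Set G))
  have h1' : (normalizer ((P : Subgroup G) : Set G)).index = 22 := h1.symm
  rw [← h2, h1']; ring

/-- a Sylow `11`-subgroup has order `11` -/
theorem card_sylow11 (h22 : Nat.card (Sylow 3 G) = 22) (hf : Faithful G) (R : Sylow 11 G) :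
    Nat.card (R : Subgroup G) = 11 := by
  have : Finite (Sylow 3 G) := Nat.finite_of_card_ne_zero (by rw [h22]; norm_num)
  have h1 : Nat.card (R : Subgroup G) ∣ (Set.univ : Set (Sylow 3 G)).ncard := by
    apply card_dvd_ncard_of_free (H := ↥(R : Subgroup G)) (X := Sylow 3 G) Set.univ
    · intro y a _; trivial
    · intro y a _ hya
      have h2 : (y : G) • a = a := hya
      have h3 := sylow11_free h22 hf R y.2 a h2
      exact Subtype.ext h3
  rw [Set.ncard_univ, h22] at h1
  have h2 := R.card_eq_multiplicity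
  have h3 : 11 ∣ Nat.card G := Dvd.dvd.trans (by norm_num) (dvd_card h22)
  have h4 : 0 < (Nat.card G).factorization 11 :=
    (by norm_num : Nat.Prime 11).factorization_pos_of_dvd (Nat.card_pos (α := G)).ne' h3
  set k := (Nat.card G).factorization 11 with hk
  rw [h2] at h1 ⊢
  rcases Nat.lt_or_ge k 2 with h | h
  · have : k = 1 := by omega
    rw [this, pow_one]
  · exfalso
    have h5 : 11 ^ 2 ∣ 11 ^ k := pow_dvd_pow 11 h
    have h6 := Nat.le_of_dvd (by norm_num) (h5.trans h1)
    norm_num at h6

/-- a Sylow `11`-subgroup is its own centralizer -/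
theorem centralizer_sylow11 (h22 : Nat.card (Sylow 3 G) = 22) (hf : Faithful G)
    (hnorm : Gen3 G) (R : Sylow 11 G) :
    centralizer ((R : Subgroup G) : Set G) = R := by
  classical
  have : Finite (Sylow 3 G) := Nat.finite_of_card_ne_zero (by rw [h22]; norm_num)
  have hR11 := card_sylow11 h22 hf R
  set C := centralizer ((R : Subgroup G) : Set G) with hC
  -- the fixed points of `R`
  have hfixR : fixedPoints ↥(R : Subgroup G) (Sylow 3 G) = ∅ := by
    rw [Set.eq_empty_iff_forall_notMem]
    intro Q hQ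
    have hnt : Nontrivial ↥(R : Subgroup G) := by
      rw [← Finite.one_lt_card_iff_nontrivial, hR11]; norm_num
    obtain ⟨s, hs⟩ := exists_ne (1 : ↥(R : Subgroup G))
    have h1 : (s : G) • Q = Q := hQ s
    exact hs (Subtype.ext (sylow11_free h22 hf R s.2 Q h1))
  -- every prime dividing `|C|` is `11`
  have hprime : ∀ {q : ℕ}, q.Prime → q ∣ Nat.card C → q = 11 := by
    intro q hq hqC
    by_contra hq11
    haveI : Fact q.Prime := ⟨hq⟩
    obtain ⟨c, hc⟩ := exists_prime_orderOf_dvd_card' (G := ↥C) q hqC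
    have hc' : orderOf (c : G) = q := by rw [Subgroup.orderOf_coe, hc]
    set F := fixedBy (Sylow 3 G) (c : G) with hF
    have hinv : ∀ y : ↥(R : Subgroup G), ∀ a ∈ F, y • a ∈ F := by
      intro y a ha
      have ha' : (c : G) • a = a := ha
      show (c : G) • ((y : G) • a) = (y : G) • a
      have hcomm : (y : G) * (c : G) = (c : G) * (y : G) :=
        (Subgroup.mem_centralizer_iff.1 c.2) y y.2
      rw [smul_smul, ← hcomm, ← smul_smul, ha']
    have h1 := ncard_invariant_modEq R.isPGroup' F hinv
    rw [hfixR, Set.inter_empty, Set.ncard_empty] at h1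
    have h2 : 22 ≡ F.ncard [MOD q] := fixedBy_modEq h22 (k := 1) (by rw [hc', pow_one])
    have hc1 : (c : G) ≠ 1 := by
      intro h
      rw [h, orderOf_one] at hc'
      exact hq.one_lt.ne hc'
    have h3 : F.ncard < 22 := fixedBy_ncard_lt h22 hf hc1
    have h4 : F.ncard % 11 = 0 % 11 := h1
    have h5 : q ∣ 22 - F.ncard := (Nat.modEq_iff_dvd' h3.le).1 h2.symm
    have h6 : F.ncard = 0 ∨ F.ncard = 11 := by omega
    rcases h6 with h6 | h6
    · rw [h6] at h5
      have h7 : q = 2 ∨ q = 11 := by
        have h8 : q ∣ 2 * 11 := h5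
        rcases (Nat.Prime.dvd_mul hq).1 h8 with h9 | h9
        · left; exact (Nat.prime_dvd_prime_iff_eq hq Nat.prime_two).1 h9
        · right; exact (Nat.prime_dvd_prime_iff_eq hq (by norm_num)).1 h9
      rcases h7 with h7 | h7
      · have h8 : F.ncard % 4 = 2 := involution_fixed h22 hnorm (g := (c : G)) (by rw [hc', h7])
        rw [h6] at h8
        norm_num at h8
      · exact hq11 h7
    · rw [h6] at h5
      have h7 : q = 11 := by
        have h8 : (22 - 11 : ℕ) = 11 := by norm_num
        rw [h8] at h5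
        exact (Nat.prime_dvd_prime_iff_eq hq (by norm_num)).1 h5
      exact hq11 h7
  have hCcard := Nat.eq_prime_pow_of_unique_prime_dvd (Nat.card_pos (α := ↥C)).ne' hprime
  have hCp : IsPGroup 11 ↥C := IsPGroup.of_card hCcard
  have hRC : (R : Subgroup G) ≤ C := by
    intro x hx
    rw [hC, Subgroup.mem_centralizer_iff]
    intro y hy
    haveI : IsCyclic ↥(R : Subgroup G) := isCyclic_of_prime_card hR11
    letI : CommGroup ↥(R : Subgroup G) := IsCyclic.commGroup
    have := mul_comm (⟨y, hy⟩ : ↥(R : Subgroup G)) ⟨x, hx⟩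
    exact congrArg Subtype.val this
  exact R.3 hCp hRC

end Cfsg.Agent.Helper19.SylTT
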