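import Mathlib
import Cfsg.Agent.Lib.Helper19.Syl22B

/-!
# Twenty-two Sylow 3-subgroups: the normalizer of a Sylow 11-subgroup (helper19)
-/

set_option autoImplicit false
set_option linter.unusedSectionVars false
set_option linter.style.haveILetI false

namespace Cfsg.Agent.Helper19.SylTT

open Subgroup MulAction Cfsg.Agent.Helper20.SylFifteen

universe u

variable {G : Type u} [Group G] [Finite G]

/-- the normalizer of a Sylow `11`-subgroup is not its centralizer (Burnside) -/
theorem normalizer_sylow11_not_le (h22 : Nat.card (Sylow 3 G) = 22) (hf : Faithful G)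
    (hnorm : Gen3 G) (R : Sylow 11 G) :
    ¬ normalizer ((R : Subgroup G) : Set G) ≤ centralizer ((R : Subgroup G) : Set G) := by
  intro h
  obtain ⟨K, hKn, hK⟩ := exists_normal_complement R h
  have hR11 := card_sylow11 h22 hf R
  rw [hR11] at hK
  haveI := hKn
  have hidx : K.index = 11 := by
    have h1 := Subgroup.card_mul_index K
    rw [← hK] at h1
    exact Nat.eq_of_mul_eq_mul_left Nat.card_pos h1
  have hKtop : K = ⊤ := by
    apply hnorm K hKn
    intro P x hx
    obtain ⟨k, hk⟩ := P.isPGroup' ⟨x, hx⟩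
    have hk' : x ^ 3 ^ k = 1 := by
      have := congrArg Subtype.val hk
      simpa using this
    have h1 : (QuotientGroup.mk x : G ⧸ K) ^ 3 ^ k = 1 := by
      rw [← QuotientGroup.mk_pow, hk']; rfl
    have h2 : (QuotientGroup.mk x : G ⧸ K) ^ 11 = 1 := by
      have := pow_card_eq_one' (G := G ⧸ K) (x := (QuotientGroup.mk x : G ⧸ K))
      rwa [← Subgroup.index_eq_card, hidx] at this
    have h3 : orderOf (QuotientGroup.mk x : G ⧸ K) ∣ Nat.gcd (3 ^ k) 11 :=
      Nat.dvd_gcd (orderOf_dvd_of_pow_eq_one h1) (orderOf_dvd_of_pow_eq_one h2)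
    have h4 : Nat.gcd (3 ^ k) 11 = 1 := by
      have : Nat.Coprime 3 11 := by norm_num
      exact Nat.Coprime.pow_left k this
    rw [h4, Nat.dvd_one, orderOf_eq_one_iff] at h3
    exact (QuotientGroup.eq_one_iff x).1 h3
  rw [hKtop, Subgroup.index_top] at hidx
  norm_num at hidx

/-- an element normalizing but not centralizing a Sylow `11`-subgroup has at most two fixed
points -/
theorem fixedBy_le_two (h22 : Nat.card (Sylow 3 G) = 22) (hf : Faithful G) (R : Sylow 11 G)
    {v : G} (hvN : v ∈ normalizer ((R : Subgroup G) : Set G))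
    (hvC : v ∉ centralizer ((R : Subgroup G) : Set G)) :
    (fixedBy (Sylow 3 G) v).ncard ≤ 2 := by
  classical
  have : Finite (Sylow 3 G) := Nat.finite_of_card_ne_zero (by rw [h22]; norm_num)
  have hR11 := card_sylow11 h22 hf R
  set F := fixedBy (Sylow 3 G) v with hF
  let f : ↥F × ↥(R : Subgroup G) → Sylow 3 G := fun p => (p.2 : G) • (p.1 : Sylow 3 G)
  have hinj : Function.Injective f := by
    rintro ⟨⟨a, ha⟩, ⟨s, hs⟩⟩ ⟨⟨a', ha'⟩, ⟨s', hs'⟩⟩ h
    have h0 : s • a = s' • a' := h
    have hva : v • a = a := ha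
    have hva' : v • a' = a' := ha'
    set u := s'⁻¹ * s with hu
    have huR : u ∈ (R : Subgroup G) := (R : Subgroup G).mul_mem ((R : Subgroup G).inv_mem hs') hs
    have hua : u • a = a' := by
      rw [hu, mul_smul, h0, inv_smul_smul]
    have hvuv : v * u * v⁻¹ ∈ (R : Subgroup G) := (Subgroup.mem_normalizer_iff.1 hvN u).1 huR
    have h1 : (v * u * v⁻¹) • a = u • a := by
      have hvinv : v⁻¹ • a = a := by rw [inv_smul_eq_iff, hva]
      rw [mul_smul, mul_smul, hvinv, hua, hva']
    have h2 : (u⁻¹ * (v * u * v⁻¹)) • a = a := by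
      rw [mul_smul, h1, inv_smul_smul]
    have h3 : u⁻¹ * (v * u * v⁻¹) = 1 :=
      sylow11_free h22 hf R ((R : Subgroup G).mul_mem ((R : Subgroup G).inv_mem huR) hvuv) a h2
    have h4 : v * u = u * v := by
      have : v * u * v⁻¹ = u := by
        have := congrArg (fun z => u * z) h3
        simpa using this
      calc v * u = v * u * v⁻¹ * v := by group
        _ = u * v := by rw [this]
    have hu1 : u = 1 := by
      by_contra hu1
      apply hvC
      -- `R ⊓ C(v)` is all of `R`
      set X : Subgroup G := (R : Subgroup G) ⊓ centralizer ({v} : Set G) with hX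
      have huX : u ∈ X := by
        refine Subgroup.mem_inf.2 ⟨huR, ?_⟩
        rw [Subgroup.mem_centralizer_singleton_iff]
        exact h4.symm
      have hXdvd : Nat.card X ∣ 11 := by
        rw [← hR11]; exact Subgroup.card_dvd_of_le inf_le_left
      have hX11 : Nat.card X = 11 := by
        rcases (Nat.dvd_prime (by norm_num)).1 hXdvd with h5 | h5
        · exfalso
          have h6 : X = ⊥ := Subgroup.card_eq_one.1 h5
          rw [h6, Subgroup.mem_bot] at huX
          exact hu1 huX
        · exact h5
      have hXR : X = (R : Subgroup G) :=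
        Subgroup.eq_of_le_of_card_ge inf_le_left (by rw [hX11, hR11])
      rw [Subgroup.mem_centralizer_iff]
      intro y hy
      have hyX : y ∈ X := by rw [hXR]; exact hy
      have := (Subgroup.mem_centralizer_singleton_iff.1 (Subgroup.mem_inf.1 hyX).2)
      exact this
    have hs : s = s' := by
      have : s'⁻¹ * s = 1 := hu1
      calc s = s' * (s'⁻¹ * s) := by group
        _ = s' := by rw [this, mul_one]
    have haa : a = a' := by
      rw [← hua, hu1, one_smul]
    subst hs
    subst haa
    rfl
  have h1 := Nat.card_le_card_of_injective f hinj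
  rw [Nat.card_prod, Nat.card_coe_set_eq, hR11, h22] at h1
  omega

/-- an element of order `5` normalizing a Sylow `11`-subgroup cannot exist -/
theorem no_five (h22 : Nat.card (Sylow 3 G) = 22) (hf : Faithful G) (hnorm : Gen3 G)
    (R : Sylow 11 G) {v : G} (hvN : v ∈ normalizer ((R : Subgroup G) : Set G)) (hv5 : orderOf v = 5) : False := by
  classical
  have : Finite (Sylow 3 G) := Nat.finite_of_card_ne_zero (by rw [h22]; norm_num)
  have hR11 := card_sylow11 h22 hf R
  have hvC : v ∉ centralizer ((R : Subgroup G) : Set G) := by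
    intro h
    rw [centralizer_sylow11 h22 hf hnorm R] at h
    have h1 := Subgroup.orderOf_dvd_natCard (R : Subgroup G) h
    rw [hv5, hR11] at h1
    norm_num at h1
  have hle := fixedBy_le_two h22 hf R hvN hvC
  haveI : Fact (Nat.Prime 5) := ⟨by norm_num⟩
  have hmod : 22 ≡ (fixedBy (Sylow 3 G) v).ncard [MOD 5] :=
    fixedBy_modEq h22 (k := 1) (by rw [hv5, pow_one])
  set F := fixedBy (Sylow 3 G) v with hF
  have hF2 : F.ncard = 2 := by
    have : 22 % 5 = F.ncard % 5 := hmod
    omega
  obtain ⟨P, P', hne, hFeq⟩ := Set.ncard_eq_two.1 hF2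
  have hP : v • P = P := by
    have : P ∈ F := by rw [hFeq]; simp
    exact this
  have hP' : v • P' = P' := by
    have : P' ∈ F := by rw [hFeq]; simp
    exact this
  set O := orbit ↥(P : Subgroup G) P' with hO
  have hZ : IsPGroup 5 ↥(zpowers v) := by
    apply IsPGroup.of_card (n := 1)
    rw [Nat.card_zpowers, hv5, pow_one]
  have hOinv : ∀ z : ↥(zpowers v), ∀ a ∈ O, z • a ∈ O := by
    intro z a ha
    have hz1 : (z : G) • P = P := by
      have h1 : zpowers v ≤ stabilizer G P := by
        rw [Subgroup.zpowers_le]; exact hP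
      exact h1 z.2
    have hz2 : (z : G) • P' = P' := by
      have h1 : zpowers v ≤ stabilizer G P' := by
        rw [Subgroup.zpowers_le]; exact hP'
      exact h1 z.2
    exact smul_orbit_mem P P' hz1 hz2 a ha
  have h1 := ncard_invariant_modEq hZ O hOinv
  rw [fixedPoints_zpowers, ← hF] at h1
  have h2 := card_orbit_cases h22 P P'
  rw [← hO] at h2
  have h3 : O.ncard ≠ 1 := by
    intro h
    have h4 : P' ∈ fixedPoints ↥(P : Subgroup G) (Sylow 3 G) := by
      intro y
      have h6 : y • P' ∈ O := ⟨y, rfl⟩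
      have h7 : P' ∈ O := mem_orbit_self P'
      obtain ⟨Q, hQ⟩ := Set.ncard_eq_one.1 h
      rw [hQ, Set.mem_singleton_iff] at h6 h7
      rw [h6, h7]
    rw [fixedPoints_sylow P, Set.mem_singleton_iff] at h4
    exact hne h4.symm
  have h4 : (O ∩ F).ncard ≤ F.ncard :=
    Set.ncard_le_ncard Set.inter_subset_right (Set.toFinite _)
  have h5 : O.ncard % 5 = (O ∩ F).ncard % 5 := h1
  omega

/-- the normalizer of a Sylow `11`-subgroup has order `22` -/
theorem card_normalizer_sylow11 (h22 : Nat.card (Sylow 3 G) = 22) (hf : Faithful G)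
    (hnorm : Gen3 G) (R : Sylow 11 G) :
    Nat.card (normalizer ((R : Subgroup G) : Set G)) = 22 := by
  classical
  have hR11 := card_sylow11 h22 hf R
  have hCR := centralizer_sylow11 h22 hf hnorm R
  set N := normalizer ((R : Subgroup G) : Set G) with hN
  set C := centralizer ((R : Subgroup G) : Set G) with hC
  have hcyc : IsCyclic ↥(R : Subgroup G) := isCyclic_of_prime_card hR11
  have hm := relIndex_centralizer_dvd_totient (R : Subgroup G) hcyc
  rw [hR11, Nat.totient_prime (by norm_num)] at hm
  have hCN : C ≤ N := Subgroup.centralizer_le_normalizer _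
  have h1 := card_inf_mul_relIndex C N
  rw [inf_eq_left.2 hCN] at h1
  have hCcard : Nat.card C = 11 := by rw [hCR, hR11]
  rw [hCcard] at h1
  set m := C.relIndex N with hmdef
  have hm1 : m ≠ 1 := by
    intro h
    apply normalizer_sylow11_not_le h22 hf hnorm R
    exact Subgroup.relIndex_eq_one.1 h
  have hm5 : ¬ 5 ∣ m := by
    intro h
    haveI : Fact (Nat.Prime 5) := ⟨by norm_num⟩
    have h5N : 5 ∣ Nat.card N := by
      rw [← h1]; exact Dvd.dvd.mul_left h 11
    obtain ⟨v, hv⟩ := exists_prime_orderOf_dvd_card' (G := ↥N) 5 h5N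
    have hv' : orderOf (v : G) = 5 := by rw [Subgroup.orderOf_coe, hv]
    exact no_five h22 hf hnorm R v.2 hv'
  have hm2 : m = 2 := by
    have h10 : m ≤ 10 := Nat.le_of_dvd (by norm_num) hm
    have hm0 : m ≠ 0 := by
      rintro h
      rw [h] at hm
      norm_num at hm
    interval_cases m <;> omega
  rw [← h1, hm2]

/-- an involution with exactly two fixed points -/
theorem exists_involution (h22 : Nat.card (Sylow 3 G) = 22) (hf : Faithful G)
    (hnorm : Gen3 G) :
    ∃ t : G, orderOf t = 2 ∧ (fixedBy (Sylow 3 G) t).ncard = 2 := by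
  classical
  obtain ⟨R⟩ : Nonempty (Sylow 11 G) := inferInstance
  have hR11 := card_sylow11 h22 hf R
  have hN := card_normalizer_sylow11 h22 hf hnorm R
  haveI : Fact (Nat.Prime 2) := ⟨Nat.prime_two⟩
  have h2N : 2 ∣ Nat.card (normalizer ((R : Subgroup G) : Set G)) := by
    rw [hN]; norm_num
  obtain ⟨t, ht⟩ := exists_prime_orderOf_dvd_card'
    (G := ↥(normalizer ((R : Subgroup G) : Set G))) 2 h2N
  have ht' : orderOf (t : G) = 2 := by rw [Subgroup.orderOf_coe, ht]
  refine ⟨(t : G), ht', ?_⟩
  have htC : (t : G) ∉ centralizer ((R : Subgroup G) : Set G) := by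
    intro h
    rw [centralizer_sylow11 h22 hf hnorm R] at h
    have h1 := Subgroup.orderOf_dvd_natCard (R : Subgroup G) h
    rw [ht', hR11] at h1
    norm_num at h1
  have h1 := fixedBy_le_two h22 hf R t.2 htC
  have h2 := involution_fixed h22 hnorm ht'
  omega

/-- the order of the normalizer of a Sylow `3`-subgroup is `1` modulo `11` -/
theorem card_normalizer_mod (h22 : Nat.card (Sylow 3 G) = 22) (hf : Faithful G)
    (hnorm : Gen3 G) (P : Sylow 3 G) :
    Nat.card (normalizer ((P : Subgroup G) : Set G)) % 11 = 1 := by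
  classical
  obtain ⟨R⟩ : Nonempty (Sylow 11 G) := inferInstance
  have hN := card_normalizer_sylow11 h22 hf hnorm R
  have h1 := card_group h22 P
  have h2 := Subgroup.card_mul_index (normalizer ((R : Subgroup G) : Set G))
  rw [hN, h1] at h2
  have h3 : (normalizer ((R : Subgroup G) : Set G)).index
      = Nat.card (normalizer ((P : Subgroup G) : Set G)) :=
    Nat.eq_of_mul_eq_mul_left (by norm_num) h2
  have h4 : Nat.card (Sylow 11 G) = (normalizer ((R : Subgroup G) : Set G)).index :=
    Sylow.card_eq_index_normalizer R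
  have h5 : Nat.card (Sylow 11 G) ≡ 1 [MOD 11] := card_sylow_modEq_one 11 G
  rw [h4, h3] at h5
  exact h5

end Cfsg.Agent.Helper19.SylTT
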