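import Mathlib
import Cfsg.Agent.Lib.Helper19.Syl22C

/-!
# Twenty-two Sylow 3-subgroups: general tools (helper19)
-/

set_option autoImplicit false
set_option linter.unusedSectionVars false
set_option linter.style.haveILetI false

namespace Cfsg.Agent.Helper19.SylTT

open Subgroup MulAction Cfsg.Agent.Helper20.SylFifteen
open scoped Pointwise

universe u

variable {G : Type u} [Group G] [Finite G]

omit [Finite G] in
/-- the elements of the group generated by an involution -/
theorem zpowers_involution {H : Type*} [Group H] {t : H} (ht : orderOf t = 2) (z : ↥(zpowers t)) :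
    (z : H) = 1 ∨ (z : H) = t := by
  obtain ⟨k, hk⟩ := z.2
  have h1 : t ^ (k % (orderOf t : ℤ)) = t ^ k := zpow_mod_orderOf t k
  rw [ht] at h1
  have hk' : t ^ k = (z : H) := hk
  rcases Int.emod_two_eq_zero_or_one k with h | h
  · left
    have h2 : (k % ((2 : ℕ) : ℤ)) = 0 := by simpa using h
    rw [h2, zpow_zero] at h1
    rw [← hk', ← h1]
  · right
    have h2 : (k % ((2 : ℕ) : ℤ)) = 1 := by simpa using h
    rw [h2, zpow_one] at h1
    rw [← hk', ← h1]

/-- an involution acting on a finite set of odd size has a fixed point -/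
theorem exists_fixed_of_odd {H : Type*} [Group H] {X : Type*} [MulAction H X] [Finite X]
    {t : H} (ht : orderOf t = 2) (S : Set X) (hS : ∀ a ∈ S, t • a ∈ S)
    (hodd : S.ncard % 2 = 1) : ∃ a ∈ S, t • a = a := by
  have hZ : IsPGroup 2 ↥(zpowers t) := by
    apply IsPGroup.of_card (n := 1)
    rw [Nat.card_zpowers, ht, pow_one]
  haveI : Fact (Nat.Prime 2) := ⟨Nat.prime_two⟩
  have hinv : ∀ z : ↥(zpowers t), ∀ a ∈ S, z • a ∈ S := by
    intro z a ha
    show (z : H) • a ∈ S
    rcases zpowers_involution ht z with h | h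
    · rw [h, one_smul]; exact ha
    · rw [h]; exact hS a ha
  have h1 := ncard_invariant_modEq hZ S hinv
  rw [fixedPoints_zpowers] at h1
  have h2 : S.ncard % 2 = (S ∩ fixedBy X t).ncard % 2 := h1
  have h3 : (S ∩ fixedBy X t).ncard ≠ 0 := by omega
  have h4 : (S ∩ fixedBy X t).Nonempty := by
    rw [← Set.ncard_pos (Set.toFinite _)]; omega
  obtain ⟨a, ha1, ha2⟩ := h4
  exact ⟨a, ha1, ha2⟩

omit [Finite G] in
theorem conj_mem_smul (g₀ : G) (P : Sylow 3 G) {x : G} (hx : x ∈ (P : Subgroup G)) :
    g₀ * x * g₀⁻¹ ∈ ((g₀ • P : Sylow 3 G) : Subgroup G) := by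
  rw [Sylow.coe_subgroup_smul]
  have := Subgroup.smul_mem_pointwise_smul x (MulAut.conj g₀) (P : Subgroup G) hx
  simpa [MulAut.smul_def, MulAut.conj_apply] using this

omit [Finite G] in
theorem card_conj_smul (K : Subgroup G) (g : G) :
    Nat.card ↥(MulAut.conj g • K : Subgroup G) = Nat.card K := by
  show Nat.card (K.map (MulAut.conj g).toMonoidHom) = Nat.card K
  exact Nat.card_congr ((K.equivMapOfInjective _ (MulAut.conj g).injective).symm.toEquiv)

omit [Finite G] in
/-- conjugation preserves the order of the intersection of two Sylow subgroups -/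
theorem card_inf_smul (g : G) (P Q : Sylow 3 G) :
    Nat.card ↥(((g • P : Sylow 3 G) : Subgroup G) ⊓ ((g • Q : Sylow 3 G) : Subgroup G))
      = Nat.card ↥((P : Subgroup G) ⊓ Q) := by
  rw [Sylow.coe_subgroup_smul, Sylow.coe_subgroup_smul,
    ← Subgroup.smul_inf (MulAut.conj g) (P : Subgroup G) (Q : Subgroup G)]
  exact card_conj_smul _ _

/-- a proper subgroup of a `3`-group has index at least three -/
theorem three_mul_card_le {A B : Subgroup G} (hB : IsPGroup 3 B) (h : A < B) :
    3 * Nat.card A ≤ Nat.card B := by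
  have h1 : Nat.card A * A.relIndex B = Nat.card B := by
    have := card_inf_mul_relIndex A B
    rwa [inf_eq_left.2 h.le] at this
  have h2 : A.relIndex B ≠ 1 := fun h' => h.not_ge (Subgroup.relIndex_eq_one.mp h')
  obtain ⟨k, hk⟩ := hB.exists_card_eq
  have h3 : A.relIndex B ∣ 3 ^ k := by
    rw [← hk]
    exact Subgroup.relIndex_dvd_card A B
  obtain ⟨e, -, he⟩ := (Nat.dvd_prime_pow Nat.prime_three).mp h3
  have he0 : e ≠ 0 := by
    rintro rfl
    rw [pow_zero] at he
    exact h2 he
  have h4 : 3 ≤ A.relIndex B := by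
    rw [he]
    calc 3 = 3 ^ 1 := (pow_one 3).symm
      _ ≤ 3 ^ e := Nat.pow_le_pow_right (by norm_num) (Nat.one_le_iff_ne_zero.mpr he0)
  calc 3 * Nat.card A ≤ A.relIndex B * Nat.card A := Nat.mul_le_mul_right _ h4
    _ = Nat.card B := by rw [mul_comm, h1]

/-- a subgroup of index three in a Sylow `3`-subgroup is normalized by it -/
theorem conj_mem_of_index_three (P : Sylow 3 G) (D : Subgroup G) (hDP : D ≤ P)
    (hcard : Nat.card D * 3 = Nat.card (P : Subgroup G)) {x d : G}
    (hx : x ∈ (P : Subgroup G)) (hd : d ∈ D) : x * d * x⁻¹ ∈ D := by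
  have h1 : Nat.card D * D.relIndex (P : Subgroup G) = Nat.card (P : Subgroup G) := by
    have := card_inf_mul_relIndex D (P : Subgroup G)
    rwa [inf_eq_left.2 hDP] at this
  have h2 : D.relIndex (P : Subgroup G) = 3 := by
    have : Nat.card D * D.relIndex (P : Subgroup G) = Nat.card D * 3 := by rw [h1, hcard]
    exact Nat.eq_of_mul_eq_mul_left Nat.card_pos this
  have h3 : (D.subgroupOf (P : Subgroup G)).Normal := by
    apply Subgroup.normal_of_index_eq_minFac_card
    show D.relIndex (P : Subgroup G) = _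
    rw [h2]
    obtain ⟨n, hn⟩ := P.isPGroup'.exists_card_eq
    have hn0 : n ≠ 0 := by
      rintro rfl
      rw [pow_zero] at hn
      rw [hn] at hcard
      omega
    rw [hn, Nat.Prime.pow_minFac Nat.prime_three hn0]
  have h4 := h3.conj_mem ⟨d, hDP hd⟩ (Subgroup.mem_subgroupOf.2 hd) ⟨x, hx⟩
  exact Subgroup.mem_subgroupOf.1 h4

/-- a finite invariant set all of whose orbits have size divisible by `m` -/
theorem dvd_ncard_of_orbits {H : Type*} [Group H] [Finite H]
    {X : Type*} [MulAction H X] [Finite X] (S : Set X) (hS : ∀ y : H, ∀ a ∈ S, y • a ∈ S)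
    (m : ℕ) (hm : ∀ a ∈ S, m ∣ (orbit H a).ncard) : m ∣ S.ncard := by
  classical
  let T : SubMulAction H X := ⟨S, fun y a ha => hS y a ha⟩
  have h2 : Nat.card T = S.ncard := by
    rw [← Nat.card_coe_set_eq]; rfl
  rw [← h2]
  letI : Fintype H := Fintype.ofFinite H
  letI : Fintype T := Fintype.ofFinite T
  letI : Fintype (Quotient (orbitRel H T)) := Fintype.ofFinite _
  have key := MulAction.card_eq_sum_card_group_div_card_stabilizer H T
  rw [Nat.card_eq_fintype_card, key]
  apply Finset.dvd_sum
  intro ω _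
  have h1 : stabilizer H ω.out = stabilizer H (ω.out : X) := SubMulAction.stabilizer_of_subMul _
  have h3 : Nat.card (orbit H (ω.out : X)) * Nat.card (stabilizer H (ω.out : X)) = Nat.card H := by
    rw [← Nat.card_prod]
    exact Nat.card_congr (orbitProdStabilizerEquivGroup H (ω.out : X))
  have h4 : Fintype.card H / Fintype.card ↥(stabilizer H ω.out) = (orbit H (ω.out : X)).ncard := by
    rw [← Nat.card_eq_fintype_card, ← Nat.card_eq_fintype_card, h1, ← h3, Nat.card_coe_set_eq]
    exact Nat.mul_div_cancel _ Nat.card_pos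
  rw [h4]
  exact hm _ ω.out.2

end Cfsg.Agent.Helper19.SylTT
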