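import Mathlib
import Cfsg.Agent.Lib.Helper19.Syl22D

/-!
# Twenty-two Sylow 3-subgroups of order three: centralizers (helper19)
-/

set_option autoImplicit false
set_option linter.unusedSectionVars false
set_option linter.style.haveILetI false

namespace Cfsg.Agent.Helper19.SylTT

open Subgroup MulAction Cfsg.Agent.Helper20.SylFifteen
open scoped Pointwise

universe u

variable {G : Type u} [Group G] [Finite G]

/-- a nontrivial element of a Sylow subgroup of order three normalizes no other one -/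
theorem eq_of_mem_of_smul_eq (h3 : ∀ P : Sylow 3 G, Nat.card (P : Subgroup G) = 3)
    (P Q : Sylow 3 G) {x : G} (hx : x ∈ (P : Subgroup G)) (hx1 : x ≠ 1) (h : x • Q = Q) :
    Q = P := by
  have hxQ := mem_of_mem_of_smul_eq P Q hx h
  set X : Subgroup G := (P : Subgroup G) ⊓ Q with hX
  have hxX : x ∈ X := Subgroup.mem_inf.2 ⟨hx, hxQ⟩
  have hXdvd : Nat.card X ∣ 3 := by
    rw [← h3 P]; exact Subgroup.card_dvd_of_le inf_le_left
  have hX3 : Nat.card X = 3 := by
    rcases (Nat.dvd_prime Nat.prime_three).1 hXdvd with h5 | h5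
    · exfalso
      have h6 : X = ⊥ := Subgroup.card_eq_one.1 h5
      rw [h6, Subgroup.mem_bot] at hxX
      exact hx1 hxX
    · exact h5
  have hXP : X = (P : Subgroup G) :=
    Subgroup.eq_of_le_of_card_ge inf_le_left (by rw [hX3, h3 P])
  have hPQ : (P : Subgroup G) ≤ Q := by
    rw [← hXP]; exact inf_le_right
  exact Sylow.ext (P.3 Q.2 hPQ)

/-- the fixed points of an element centralizing a Sylow subgroup -/
theorem fix_centralizer_mod (h22 : Nat.card (Sylow 3 G) = 22) (P : Sylow 3 G) {c : G}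
    (hc : c ∈ centralizer ((P : Subgroup G) : Set G)) :
    (fixedBy (Sylow 3 G) c).ncard % 3 = 1 := by
  have : Finite (Sylow 3 G) := Nat.finite_of_card_ne_zero (by rw [h22]; norm_num)
  set F := fixedBy (Sylow 3 G) c with hF
  have hPF : P ∈ F := centralizer_smul P hc
  have hcomm : ∀ y : ↥(P : Subgroup G), c * (y : G) = (y : G) * c := by
    intro y
    exact ((Subgroup.mem_centralizer_iff.1 hc) y y.2).symm
  have hinv : ∀ y : ↥(P : Subgroup G), ∀ a ∈ F, y • a ∈ F := by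
    intro y a ha
    have ha' : c • a = a := ha
    show c • ((y : G) • a) = (y : G) • a
    rw [smul_smul, hcomm y, ← smul_smul, ha']
  have h1 := ncard_invariant_modEq P.isPGroup' F hinv
  rw [fixedPoints_sylow P] at h1
  have h2 : F ∩ {P} = {P} := by
    ext Q
    simp only [Set.mem_inter_iff, Set.mem_singleton_iff]
    constructor
    · exact fun h => h.2
    · rintro rfl; exact ⟨hPF, rfl⟩
  rw [h2, Set.ncard_singleton] at h1
  exact h1

theorem prime_dvd_cases {q a b c d : ℕ} (hq : q.Prime) (h : q ∣ 2 ^ a * 3 ^ b * 5 ^ c * 7 ^ d) :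
    q = 2 ∨ q = 3 ∨ q = 5 ∨ q = 7 := by
  rcases (Nat.Prime.dvd_mul hq).1 h with h1 | h1
  · rcases (Nat.Prime.dvd_mul hq).1 h1 with h2 | h2
    · rcases (Nat.Prime.dvd_mul hq).1 h2 with h3 | h3
      · left
        exact (Nat.prime_dvd_prime_iff_eq hq Nat.prime_two).1 (hq.dvd_of_dvd_pow h3)
      · right; left
        exact (Nat.prime_dvd_prime_iff_eq hq Nat.prime_three).1 (hq.dvd_of_dvd_pow h3)
    · right; right; left
      exact (Nat.prime_dvd_prime_iff_eq hq (by norm_num)).1 (hq.dvd_of_dvd_pow h2)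
  · right; right; right
    exact (Nat.prime_dvd_prime_iff_eq hq (by norm_num)).1 (hq.dvd_of_dvd_pow h1)

/-- an element of prime order `q ≠ 3` centralizing a Sylow subgroup -/
theorem centralizer_prime (h22 : Nat.card (Sylow 3 G) = 22) (hf : Faithful G)
    (hnorm : Gen3 G) (P : Sylow 3 G) {c : G}
    (hc : c ∈ centralizer ((P : Subgroup G) : Set G)) {q : ℕ} (hq : q.Prime)
    (hcq : orderOf c = q) (hq3 : q ≠ 3) :
    (q = 2 ∧ (fixedBy (Sylow 3 G) c).ncard = 10) ∨ (q = 5 ∧ (fixedBy (Sylow 3 G) c).ncard = 7) ∨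
      (q = 7 ∧ (fixedBy (Sylow 3 G) c).ncard = 1) := by
  haveI : Fact q.Prime := ⟨hq⟩
  have h1 := fix_centralizer_mod h22 P hc
  have hc1 : c ≠ 1 := by
    rintro rfl
    rw [orderOf_one] at hcq
    exact hq.one_lt.ne hcq
  have h2 : (fixedBy (Sylow 3 G) c).ncard < 22 := fixedBy_ncard_lt h22 hf hc1
  have h3 : 22 ≡ (fixedBy (Sylow 3 G) c).ncard [MOD q] :=
    fixedBy_modEq h22 (k := 1) (by rw [hcq, pow_one])
  have h4 : q ∣ 22 - (fixedBy (Sylow 3 G) c).ncard := (Nat.modEq_iff_dvd' h2.le).1 h3.symm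
  have h5 : q = 2 → (fixedBy (Sylow 3 G) c).ncard % 4 = 2 := by
    intro h
    exact involution_fixed h22 hnorm (by rw [hcq, h])
  set f := (fixedBy (Sylow 3 G) c).ncard with hf'
  have h6 : f = 1 ∨ f = 4 ∨ f = 7 ∨ f = 10 ∨ f = 13 ∨ f = 16 ∨ f = 19 := by omega
  rcases h6 with h6 | h6 | h6 | h6 | h6 | h6 | h6
  · -- 21
    rw [h6] at h4
    have h7 : q ∣ 2 ^ 0 * 3 ^ 1 * 5 ^ 0 * 7 ^ 1 := h4
    rcases prime_dvd_cases hq h7 with h8 | h8 | h8 | h8
    · rw [h8] at h4; norm_num at h4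
    · exact absurd h8 hq3
    · rw [h8] at h4; norm_num at h4
    · right; right; exact ⟨h8, h6⟩
  · -- 18
    rw [h6] at h4
    have h7 : q ∣ 2 ^ 1 * 3 ^ 2 * 5 ^ 0 * 7 ^ 0 := h4
    rcases prime_dvd_cases hq h7 with h8 | h8 | h8 | h8
    · have := h5 h8; omega
    · exact absurd h8 hq3
    · rw [h8] at h4; norm_num at h4
    · rw [h8] at h4; norm_num at h4
  · -- 15
    rw [h6] at h4
    have h7 : q ∣ 2 ^ 0 * 3 ^ 1 * 5 ^ 1 * 7 ^ 0 := h4
    rcases prime_dvd_cases hq h7 with h8 | h8 | h8 | h8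
    · rw [h8] at h4; norm_num at h4
    · exact absurd h8 hq3
    · right; left; exact ⟨h8, h6⟩
    · rw [h8] at h4; norm_num at h4
  · -- 12
    rw [h6] at h4
    have h7 : q ∣ 2 ^ 2 * 3 ^ 1 * 5 ^ 0 * 7 ^ 0 := h4
    rcases prime_dvd_cases hq h7 with h8 | h8 | h8 | h8
    · left; exact ⟨h8, h6⟩
    · exact absurd h8 hq3
    · rw [h8] at h4; norm_num at h4
    · rw [h8] at h4; norm_num at h4
  · -- 9
    rw [h6] at h4
    have h7 : q ∣ 2 ^ 0 * 3 ^ 2 * 5 ^ 0 * 7 ^ 0 := h4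
    rcases prime_dvd_cases hq h7 with h8 | h8 | h8 | h8
    · rw [h8] at h4; norm_num at h4
    · exact absurd h8 hq3
    · rw [h8] at h4; norm_num at h4
    · rw [h8] at h4; norm_num at h4
  · -- 6
    rw [h6] at h4
    have h7 : q ∣ 2 ^ 1 * 3 ^ 1 * 5 ^ 0 * 7 ^ 0 := h4
    rcases prime_dvd_cases hq h7 with h8 | h8 | h8 | h8
    · have := h5 h8; omega
    · exact absurd h8 hq3
    · rw [h8] at h4; norm_num at h4
    · rw [h8] at h4; norm_num at h4
  · -- 3
    rw [h6] at h4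
    have h7 : q ∣ 2 ^ 0 * 3 ^ 1 * 5 ^ 0 * 7 ^ 0 := h4
    rcases prime_dvd_cases hq h7 with h8 | h8 | h8 | h8
    · rw [h8] at h4; norm_num at h4
    · exact absurd h8 hq3
    · rw [h8] at h4; norm_num at h4
    · rw [h8] at h4; norm_num at h4

end Cfsg.Agent.Helper19.SylTT
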