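import Mathlib
import Cfsg.Agent.Lib.Helper19.Syl22E

/-!
# Twenty-two Sylow 3-subgroups of order three: normalizers (helper19)
-/

set_option autoImplicit false
set_option linter.unusedSectionVars false
set_option linter.style.haveILetI false

namespace Cfsg.Agent.Helper19.SylTT

open Subgroup MulAction Cfsg.Agent.Helper20.SylFifteen
open scoped Pointwise

universe u

variable {G : Type u} [Group G] [Finite G]

/-- squares of elements of the normalizer of a group of order three centralize it -/
theorem sq_mem_centralizer (h3 : ∀ P : Sylow 3 G, Nat.card (P : Subgroup G) = 3)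
    (P : Sylow 3 G) {n : G} (hn : n ∈ normalizer ((P : Subgroup G) : Set G)) :
    n ^ 2 ∈ centralizer ((P : Subgroup G) : Set G) := by
  haveI : IsCyclic ↥(P : Subgroup G) := isCyclic_of_prime_card (h3 P)
  have h1 : ((P : Subgroup G).normalizerMonoidHom ⟨n, hn⟩) ^ 2 = 1 := by
    have h2 := pow_card_eq_one' (G := MulAut ↥(P : Subgroup G))
      (x := (P : Subgroup G).normalizerMonoidHom ⟨n, hn⟩)
    rwa [IsCyclic.card_mulAut, h3 P, Nat.totient_prime Nat.prime_three] at h2
  rw [← map_pow, ← MonoidHom.mem_ker, Subgroup.normalizerMonoidHom_ker,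
    Subgroup.mem_subgroupOf] at h1
  exact h1

/-- elements of odd order of the normalizer of a group of order three centralize it -/
theorem mem_centralizer_of_odd (h3 : ∀ P : Sylow 3 G, Nat.card (P : Subgroup G) = 3)
    (P : Sylow 3 G) {n : G} (hn : n ∈ normalizer ((P : Subgroup G) : Set G))
    (hodd : Odd (orderOf n)) : n ∈ centralizer ((P : Subgroup G) : Set G) := by
  obtain ⟨j, hj⟩ := hodd
  have h1 : n = (n ^ 2) ^ (j + 1) := by
    rw [← pow_mul]
    have : 2 * (j + 1) = orderOf n + 1 := by omega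
    rw [this, pow_succ, pow_orderOf_eq_one, one_mul]
  rw [h1]
  exact Subgroup.pow_mem _ (sq_mem_centralizer h3 P hn) _

/-- a Sylow subgroup of order three is abelian -/
theorem sylow_comm (h3 : ∀ P : Sylow 3 G, Nat.card (P : Subgroup G) = 3)
    (P : Sylow 3 G) {x y : G} (hx : x ∈ (P : Subgroup G)) (hy : y ∈ (P : Subgroup G)) :
    x * y = y * x := by
  haveI : IsCyclic ↥(P : Subgroup G) := isCyclic_of_prime_card (h3 P)
  letI : CommGroup ↥(P : Subgroup G) := IsCyclic.commGroup
  have := mul_comm (⟨x, hx⟩ : ↥(P : Subgroup G)) ⟨y, hy⟩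
  exact congrArg Subtype.val this

/-- an element normalizing but not centralizing a group of order three inverts it -/
theorem inverts (h3 : ∀ P : Sylow 3 G, Nat.card (P : Subgroup G) = 3)
    (P : Sylow 3 G) {n : G} (hn : n ∈ normalizer ((P : Subgroup G) : Set G))
    (hnc : n ∉ centralizer ((P : Subgroup G) : Set G)) {w : G} (hw : w ∈ (P : Subgroup G)) :
    n * w * n⁻¹ = w⁻¹ := by
  set X : Subgroup G := (P : Subgroup G) ⊓ centralizer ({n} : Set G) with hX
  have hXdvd : Nat.card X ∣ 3 := by
    rw [← h3 P]; exact Subgroup.card_dvd_of_le inf_le_left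
  have hXbot : X = ⊥ := by
    rcases (Nat.dvd_prime Nat.prime_three).1 hXdvd with h5 | h5
    · exact Subgroup.card_eq_one.1 h5
    · exfalso
      apply hnc
      have hXP : X = (P : Subgroup G) :=
        Subgroup.eq_of_le_of_card_ge inf_le_left (by rw [h5, h3 P])
      rw [Subgroup.mem_centralizer_iff]
      intro y hy
      have hyX : y ∈ X := by rw [hXP]; exact hy
      exact (Subgroup.mem_centralizer_singleton_iff.1 (Subgroup.mem_inf.1 hyX).2)
  set w' := n * w * n⁻¹ with hw'
  have hw'P : w' ∈ (P : Subgroup G) := (Subgroup.mem_normalizer_iff.1 hn w).1 hw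
  have hsq := sq_mem_centralizer h3 P hn
  have h1 : n * w' * n⁻¹ = w := by
    have h2 : n ^ 2 * w = w * n ^ 2 := ((Subgroup.mem_centralizer_iff.1 hsq) w hw).symm
    rw [pow_two] at h2
    calc n * w' * n⁻¹ = (n * n * w) * (n * n)⁻¹ := by rw [hw']; group
      _ = w := by rw [h2]; group
  have h2 : w * w' ∈ X := by
    refine Subgroup.mem_inf.2 ⟨(P : Subgroup G).mul_mem hw hw'P, ?_⟩
    rw [Subgroup.mem_centralizer_singleton_iff]
    have h3' : n * (w * w') * n⁻¹ = w * w' := by
      calc n * (w * w') * n⁻¹ = (n * w * n⁻¹) * (n * w' * n⁻¹) := by group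
        _ = w' * w := by rw [h1]
        _ = w * w' := sylow_comm h3 P hw'P hw
    calc w * w' * n = (n * (w * w') * n⁻¹) * n := by rw [h3']
      _ = n * (w * w') := by group
  rw [hXbot, Subgroup.mem_bot] at h2
  exact (eq_inv_of_mul_eq_one_right h2)

/-- an involution with ten fixed points centralizes every Sylow subgroup it normalizes -/
theorem involution_centralizes (h22 : Nat.card (Sylow 3 G) = 22)
    (h3 : ∀ P : Sylow 3 G, Nat.card (P : Subgroup G) = 3) {c : G}
    (hF : (fixedBy (Sylow 3 G) c).ncard = 10) (Q : Sylow 3 G) (hQ : c • Q = Q) :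
    c ∈ centralizer ((Q : Subgroup G) : Set G) := by
  classical
  have : Finite (Sylow 3 G) := Nat.finite_of_card_ne_zero (by rw [h22]; norm_num)
  by_contra hcC
  have hcN : c ∈ normalizer ((Q : Subgroup G) : Set G) := Sylow.smul_eq_iff_mem_normalizer.1 hQ
  set F' : Set (Sylow 3 G) := fixedBy (Sylow 3 G) c \ {Q} with hF'
  have hF'card : F'.ncard = 9 := by
    have hQF : Q ∈ fixedBy (Sylow 3 G) c := hQ
    rw [hF', Set.ncard_sdiff_singleton_of_mem hQF, hF]
  let f : ↥F' × ↥(Q : Subgroup G) → Sylow 3 G := fun p => (p.2 : G) • (p.1 : Sylow 3 G)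
  have hinj : Function.Injective f := by
    rintro ⟨⟨S, hS⟩, ⟨z, hz⟩⟩ ⟨⟨S', hS'⟩, ⟨z', hz'⟩⟩ h
    have h0 : z • S = z' • S' := h
    have hcS : c • S = S := hS.1
    have hcS' : c • S' = S' := hS'.1
    have hSQ : S ≠ Q := fun h => hS.2 (by rw [h]; rfl)
    set w := z'⁻¹ * z with hw
    have hwQ : w ∈ (Q : Subgroup G) := (Q : Subgroup G).mul_mem ((Q : Subgroup G).inv_mem hz') hz
    have hwS : w • S = S' := by
      rw [hw, mul_smul, h0, inv_smul_smul]
    have hinv := inverts h3 Q hcN hcC hwQ
    have h1 : w⁻¹ • S = w • S := by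
      have hcinv : c⁻¹ • S = S := by rw [inv_smul_eq_iff, hcS]
      calc w⁻¹ • S = (c * w * c⁻¹) • S := by rw [hinv]
        _ = c • (w • (c⁻¹ • S)) := by rw [mul_smul, mul_smul]
        _ = c • S' := by rw [hcinv, hwS]
        _ = S' := hcS'
        _ = w • S := hwS.symm
    have h2 : (w * w) • S = S := by
      rw [mul_smul, ← h1, smul_inv_smul]
    have h4 : w * w = 1 := by
      by_contra hne
      exact hSQ (eq_of_mem_of_smul_eq h3 Q S ((Q : Subgroup G).mul_mem hwQ hwQ) hne h2)
    have h5 : w ^ 3 = 1 := by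
      have := pow_card_eq_one' (G := ↥(Q : Subgroup G)) (x := ⟨w, hwQ⟩)
      rw [h3 Q] at this
      exact congrArg Subtype.val this
    have hw1 : w = 1 := by
      calc w = w ^ 3 * (w * w)⁻¹ := by group
        _ = 1 := by rw [h5, h4]; simp
    have hz : z = z' := by
      have : z'⁻¹ * z = 1 := hw1
      calc z = z' * (z'⁻¹ * z) := by group
        _ = z' := by rw [this, mul_one]
    have hSS : S = S' := by
      rw [← hwS, hw1, one_smul]
    subst hz
    subst hSS
    rfl
  have h1 := Nat.card_le_card_of_injective f hinj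
  rw [Nat.card_prod, Nat.card_coe_set_eq, hF'card, h3 Q, h22] at h1
  omega

end Cfsg.Agent.Helper19.SylTT
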