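import Mathlib
import Cfsg.Agent.Lib.Helper19.Syl22F

/-!
# Twenty-two Sylow 3-subgroups of order three: the contradiction (helper19)
-/

set_option autoImplicit false
set_option linter.unusedSectionVars false
set_option linter.style.haveILetI false

namespace Cfsg.Agent.Helper19.SylTT

open Subgroup MulAction Cfsg.Agent.Helper20.SylFifteen
open scoped Pointwise

universe u

variable {G : Type u} [Group G] [Finite G]

/-- if `c` centralizes every Sylow subgroup it normalizes, then the number of its fixed points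
divides the order of its centralizer -/
theorem card_fixedBy_dvd (h22 : Nat.card (Sylow 3 G) = 22) {c : G}
    (hall : ∀ Q : Sylow 3 G, c • Q = Q → c ∈ centralizer ((Q : Subgroup G) : Set G))
    (Q : Sylow 3 G) (hQ : c • Q = Q) :
    (fixedBy (Sylow 3 G) c).ncard ∣ Nat.card (centralizer ({c} : Set G)) := by
  classical
  have : Finite (Sylow 3 G) := Nat.finite_of_card_ne_zero (by rw [h22]; norm_num)
  set H := centralizer ({c} : Set G) with hH
  set F := fixedBy (Sylow 3 G) c with hF
  set X : Set (Sylow 3 G) := orbit ↥H Q with hX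
  have hXF : X ⊆ F := by
    rintro _ ⟨h, rfl⟩
    show c • ((h : G) • Q) = (h : G) • Q
    have hcomm : (h : G) * c = c * (h : G) := Subgroup.mem_centralizer_singleton_iff.1 h.2
    rw [smul_smul, ← hcomm, ← smul_smul, hQ]
  have hQH : ∀ Q' : Sylow 3 G, c • Q' = Q' → (Q' : Subgroup G) ≤ H := by
    intro Q' hQ' y hy
    rw [hH, Subgroup.mem_centralizer_singleton_iff]
    exact (Subgroup.mem_centralizer_iff.1 (hall Q' hQ')) y hy
  have hmod : ∀ Q' : Sylow 3 G, c • Q' = Q' → X.ncard ≡ (X ∩ {Q'}).ncard [MOD 3] := by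
    intro Q' hQ'
    have hinv : ∀ y : ↥(Q' : Subgroup G), ∀ a ∈ X, y • a ∈ X := by
      rintro y _ ⟨h, rfl⟩
      refine ⟨⟨(y : G), hQH Q' hQ' y.2⟩ * h, ?_⟩
      show (((y : G) * (h : G))) • Q = (y : G) • ((h : G) • Q)
      rw [mul_smul]
    have h1 := ncard_invariant_modEq Q'.isPGroup' X hinv
    rw [fixedPoints_sylow Q'] at h1
    exact h1
  have hQX : Q ∈ X := mem_orbit_self Q
  have h1 : X.ncard % 3 = 1 := by
    have h2 := hmod Q hQ
    have h3 : X ∩ {Q} = {Q} := by
      ext S
      simp only [Set.mem_inter_iff, Set.mem_singleton_iff]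
      constructor
      · exact fun h => h.2
      · rintro rfl; exact ⟨hQX, rfl⟩
    rw [h3, Set.ncard_singleton] at h2
    exact h2
  have hFX : F ⊆ X := by
    intro Q' hQ'
    by_contra hnot
    have h2 := hmod Q' hQ'
    have h3 : X ∩ {Q'} = ∅ := by
      ext S
      simp only [Set.mem_inter_iff, Set.mem_singleton_iff, Set.mem_empty_iff_false, iff_false,
        not_and]
      rintro hS rfl
      exact hnot hS
    rw [h3, Set.ncard_empty] at h2
    have h4 : X.ncard % 3 = 0 % 3 := h2
    omega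
  have hFeq : F = X := Set.Subset.antisymm hFX hXF
  rw [hFeq, hX]
  have h3 : Nat.card (orbit ↥H Q) * Nat.card (stabilizer ↥H Q) = Nat.card ↥H := by
    rw [← Nat.card_prod]
    exact Nat.card_congr (orbitProdStabilizerEquivGroup ↥H Q)
  rw [← Nat.card_coe_set_eq]
  exact Dvd.intro _ h3

/-- no element of order five centralizes a Sylow subgroup -/
theorem no_five_centralizer (h22 : Nat.card (Sylow 3 G) = 22) (hf : Faithful G)
    (hnorm : Gen3 G) (h3 : ∀ P : Sylow 3 G, Nat.card (P : Subgroup G) = 3)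
    (P : Sylow 3 G) {c : G} (hc : c ∈ centralizer ((P : Subgroup G) : Set G))
    (hc5 : orderOf c = 5) : False := by
  classical
  have : Finite (Sylow 3 G) := Nat.finite_of_card_ne_zero (by rw [h22]; norm_num)
  have hF7 : (fixedBy (Sylow 3 G) c).ncard = 7 := by
    rcases centralizer_prime h22 hf hnorm P hc (by norm_num : Nat.Prime 5) hc5 (by norm_num)
      with h | h | h
    · exact absurd h.1 (by norm_num)
    · exact h.2
    · exact absurd h.1 (by norm_num)
  have hall : ∀ Q : Sylow 3 G, c • Q = Q → c ∈ centralizer ((Q : Subgroup G) : Set G) := by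
    intro Q hQ
    apply mem_centralizer_of_odd h3 Q (Sylow.smul_eq_iff_mem_normalizer.1 hQ)
    rw [hc5]; decide
  have hdvd := card_fixedBy_dvd h22 hall P (centralizer_smul P hc)
  rw [hF7] at hdvd
  haveI : Fact (Nat.Prime 7) := ⟨by norm_num⟩
  obtain ⟨y, hy⟩ := exists_prime_orderOf_dvd_card' (G := ↥(centralizer ({c} : Set G))) 7 hdvd
  have hy7 : orderOf (y : G) = 7 := by rw [Subgroup.orderOf_coe, hy]
  have hyc : (y : G) * c = c * (y : G) := Subgroup.mem_centralizer_singleton_iff.1 y.2
  -- `y` has a fixed point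
  have hmod7 : 22 ≡ (fixedBy (Sylow 3 G) (y : G)).ncard [MOD 7] :=
    fixedBy_modEq h22 (k := 1) (by rw [hy7, pow_one])
  have hne : (fixedBy (Sylow 3 G) (y : G)).Nonempty := by
    rw [← Set.ncard_pos (Set.toFinite _)]
    have : 22 % 7 = (fixedBy (Sylow 3 G) (y : G)).ncard % 7 := hmod7
    omega
  obtain ⟨Q, hQ⟩ := hne
  have hQ' : (y : G) • Q = Q := hQ
  have hyC : (y : G) ∈ centralizer ((Q : Subgroup G) : Set G) := by
    apply mem_centralizer_of_odd h3 Q (Sylow.smul_eq_iff_mem_normalizer.1 hQ')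
    rw [hy7]; decide
  have hFy1 : (fixedBy (Sylow 3 G) (y : G)).ncard = 1 := by
    rcases centralizer_prime h22 hf hnorm Q hyC (by norm_num : Nat.Prime 7) hy7 (by norm_num)
      with h | h | h
    · exact absurd h.1 (by norm_num)
    · exact absurd h.1 (by norm_num)
    · exact h.2
  obtain ⟨Q₀, hQ₀⟩ := Set.ncard_eq_one.1 hFy1
  have hQQ₀ : Q = Q₀ := by
    have : Q ∈ fixedBy (Sylow 3 G) (y : G) := hQ
    rw [hQ₀, Set.mem_singleton_iff] at this
    exact this
  -- `c` fixes `Q`
  have hcQ : c • Q = Q := by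
    have h1 : c • Q ∈ fixedBy (Sylow 3 G) (y : G) := by
      show (y : G) • (c • Q) = c • Q
      rw [smul_smul, hyc, ← smul_smul, hQ']
    rw [hQ₀, Set.mem_singleton_iff, ← hQQ₀] at h1
    exact h1
  -- `y` acts on the fixed points of `c`
  set F := fixedBy (Sylow 3 G) c with hF
  have hZ : IsPGroup 7 ↥(zpowers (y : G)) := by
    apply IsPGroup.of_card (n := 1)
    rw [Nat.card_zpowers, hy7, pow_one]
  have hinv : ∀ z : ↥(zpowers (y : G)), ∀ a ∈ F, z • a ∈ F := by
    intro z a ha
    have ha' : c • a = a := ha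
    have hzc : (z : G) * c = c * (z : G) := by
      have h1 : zpowers (y : G) ≤ centralizer ({c} : Set G) := by
        rw [Subgroup.zpowers_le]; exact y.2
      exact Subgroup.mem_centralizer_singleton_iff.1 (h1 z.2)
    show c • ((z : G) • a) = (z : G) • a
    rw [smul_smul, ← hzc, ← smul_smul, ha']
  have h1 := ncard_invariant_modEq hZ F hinv
  rw [fixedPoints_zpowers, hQ₀] at h1
  have h2 : F ∩ {Q₀} = {Q₀} := by
    ext S
    simp only [Set.mem_inter_iff, Set.mem_singleton_iff]
    constructor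
    · exact fun h => h.2
    · rintro rfl
      refine ⟨?_, rfl⟩
      rw [← hQQ₀]; exact hcQ
  rw [h2, Set.ncard_singleton, hF7] at h1
  exact absurd h1 (by decide)

/-- no involution centralizes a Sylow subgroup -/
theorem no_two_centralizer (h22 : Nat.card (Sylow 3 G) = 22) (hf : Faithful G)
    (hnorm : Gen3 G) (h3 : ∀ P : Sylow 3 G, Nat.card (P : Subgroup G) = 3)
    (P : Sylow 3 G) {c : G} (hc : c ∈ centralizer ((P : Subgroup G) : Set G))
    (hc2 : orderOf c = 2) : False := by
  classical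
  have : Finite (Sylow 3 G) := Nat.finite_of_card_ne_zero (by rw [h22]; norm_num)
  have hF10 : (fixedBy (Sylow 3 G) c).ncard = 10 := by
    rcases centralizer_prime h22 hf hnorm P hc Nat.prime_two hc2 (by norm_num)
      with h | h | h
    · exact h.2
    · exact absurd h.1 (by norm_num)
    · exact absurd h.1 (by norm_num)
  have hall : ∀ Q : Sylow 3 G, c • Q = Q → c ∈ centralizer ((Q : Subgroup G) : Set G) :=
    fun Q hQ => involution_centralizes h22 h3 hF10 Q hQ
  have hdvd := card_fixedBy_dvd h22 hall P (centralizer_smul P hc)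
  rw [hF10] at hdvd
  haveI : Fact (Nat.Prime 5) := ⟨by norm_num⟩
  have h5 : 5 ∣ Nat.card (centralizer ({c} : Set G)) := Dvd.dvd.trans (by norm_num) hdvd
  obtain ⟨y, hy⟩ := exists_prime_orderOf_dvd_card' (G := ↥(centralizer ({c} : Set G))) 5 h5
  have hy5 : orderOf (y : G) = 5 := by rw [Subgroup.orderOf_coe, hy]
  have hmod5 : 22 ≡ (fixedBy (Sylow 3 G) (y : G)).ncard [MOD 5] :=
    fixedBy_modEq h22 (k := 1) (by rw [hy5, pow_one])
  have hne : (fixedBy (Sylow 3 G) (y : G)).Nonempty := by
    rw [← Set.ncard_pos (Set.toFinite _)]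
    have : 22 % 5 = (fixedBy (Sylow 3 G) (y : G)).ncard % 5 := hmod5
    omega
  obtain ⟨Q, hQ⟩ := hne
  have hQ' : (y : G) • Q = Q := hQ
  have hyC : (y : G) ∈ centralizer ((Q : Subgroup G) : Set G) := by
    apply mem_centralizer_of_odd h3 Q (Sylow.smul_eq_iff_mem_normalizer.1 hQ')
    rw [hy5]; decide
  exact no_five_centralizer h22 hf hnorm h3 Q hyC hy5

end Cfsg.Agent.Helper19.SylTT
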