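import Mathlib
import Cfsg.Agent.Lib.Helper19.Syl22G

/-!
# Twenty-two Sylow 3-subgroups of order three are impossible (helper19)
-/

set_option autoImplicit false
set_option linter.unusedSectionVars false
set_option linter.style.haveILetI false

namespace Cfsg.Agent.Helper19.SylTT

open Subgroup MulAction Cfsg.Agent.Helper20.SylFifteen
open scoped Pointwise

universe u

variable {G : Type u} [Group G] [Finite G]

/-- a `7`-subgroup of the centralizer of a Sylow subgroup has order at most `7` -/
theorem seven_subgroup_card (h22 : Nat.card (Sylow 3 G) = 22) (hf : Faithful G)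
    (hnorm : Gen3 G) (P : Sylow 3 G) (W : Subgroup G)
    (hWC : W ≤ centralizer ((P : Subgroup G) : Set G)) (hW : IsPGroup 7 W) :
    Nat.card W ∣ 21 := by
  classical
  have : Finite (Sylow 3 G) := Nat.finite_of_card_ne_zero (by rw [h22]; norm_num)
  have hfixP : ∀ w : G, w ∈ W → w • P = P := fun w hw => centralizer_smul P (hWC hw)
  have h1 : Nat.card W ∣ (({P} : Set (Sylow 3 G))ᶜ).ncard := by
    apply card_dvd_ncard_of_free (H := ↥W) (X := Sylow 3 G)
    · intro y a ha hya
      apply ha
      have h2 : (y : G) • a = P := hya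
      have h3 : a = (y : G)⁻¹ • P := by rw [eq_inv_smul_iff]; exact h2
      have h4 : (y : G)⁻¹ • P = P := hfixP _ (W.inv_mem y.2)
      rw [h3, h4]; rfl
    · intro y a ha hya
      by_contra hy1
      have hya' : (y : G) • a = a := hya
      have hy1' : (y : G) ≠ 1 := fun h => hy1 (Subtype.ext h)
      obtain ⟨k, hk⟩ := (IsPGroup.iff_orderOf.1 hW) y
      rw [Subgroup.orderOf_mk] at hk
      have hk0 : k ≠ 0 := by
        rintro rfl
        rw [pow_zero, orderOf_eq_one_iff] at hk
        exact hy1' hk
      have h7 : 7 ∣ orderOf (y : G) := by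
        rw [hk]; exact dvd_pow_self 7 hk0
      have hord := orderOf_pow_orderOf_div (orderOf_pos (y : G)).ne' h7
      set w := (y : G) ^ (orderOf (y : G) / 7) with hw
      have hwW : w ∈ W := W.pow_mem y.2 _
      have hwa : w • a = a := (stabilizer G a).pow_mem hya' _
      have hwP : w • P = P := hfixP w hwW
      rcases centralizer_prime h22 hf hnorm P (hWC hwW) (by norm_num : Nat.Prime 7) hord
        (by norm_num) with h | h | h
      · exact absurd h.1 (by norm_num)
      · exact absurd h.1 (by norm_num)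
      · obtain ⟨Q₀, hQ₀⟩ := Set.ncard_eq_one.1 h.2
        have h2 : a ∈ fixedBy (Sylow 3 G) w := hwa
        have h3 : P ∈ fixedBy (Sylow 3 G) w := hwP
        rw [hQ₀, Set.mem_singleton_iff] at h2 h3
        apply ha
        rw [h2, h3]; rfl
  have h2 : (({P} : Set (Sylow 3 G))ᶜ).ncard = 21 := by
    rw [Set.ncard_compl, Set.ncard_singleton, h22]
  rwa [h2] at h1

/-- the case of Sylow subgroups of order three -/
theorem case_three (h22 : Nat.card (Sylow 3 G) = 22) (hf : Faithful G)
    (hnorm : Gen3 G) (h3 : ∀ P : Sylow 3 G, Nat.card (P : Subgroup G) = 3) : False := by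
  classical
  have : Finite (Sylow 3 G) := Nat.finite_of_card_ne_zero (by rw [h22]; norm_num)
  obtain ⟨t, ht2, htF⟩ := exists_involution h22 hf hnorm
  have hne : (fixedBy (Sylow 3 G) t).Nonempty := by
    rw [← Set.ncard_pos (Set.toFinite _), htF]; norm_num
  obtain ⟨P, hP⟩ := hne
  have hP' : t • P = P := hP
  set N := normalizer ((P : Subgroup G) : Set G) with hN
  set C := centralizer ((P : Subgroup G) : Set G) with hC
  have htN : t ∈ N := Sylow.smul_eq_iff_mem_normalizer.1 hP'
  have htC : t ∉ C := by
    intro h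
    have := fix_centralizer_mod h22 P h
    omega
  have hcyc : IsCyclic ↥(P : Subgroup G) := isCyclic_of_prime_card (h3 P)
  have hm := relIndex_centralizer_dvd_totient (P : Subgroup G) hcyc
  rw [h3 P, Nat.totient_prime Nat.prime_three] at hm
  have hCN : C ≤ N := Subgroup.centralizer_le_normalizer _
  have h1 := card_inf_mul_relIndex C N
  rw [inf_eq_left.2 hCN] at h1
  have hm1 : C.relIndex N ≠ 1 := by
    intro h
    exact htC (Subgroup.relIndex_eq_one.1 h htN)
  have hm2 : C.relIndex N = 2 := by
    have h10 : C.relIndex N ≤ 2 := Nat.le_of_dvd (by norm_num) hm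
    have hm0 : C.relIndex N ≠ 0 := by
      intro h
      rw [h] at hm
      norm_num at hm
    omega
  rw [hm2] at h1
  have hmod := card_normalizer_mod h22 hf hnorm P
  rw [← hN, ← h1] at hmod
  -- the primes dividing `|C|`
  have hprime : ∀ q : ℕ, q.Prime → q ∣ Nat.card C → q = 3 ∨ q = 7 := by
    intro q hq hqC
    by_cases hq3 : q = 3
    · exact Or.inl hq3
    · right
      haveI : Fact q.Prime := ⟨hq⟩
      obtain ⟨c, hc⟩ := exists_prime_orderOf_dvd_card' (G := ↥C) q hqC
      have hc' : orderOf (c : G) = q := by rw [Subgroup.orderOf_coe, hc]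
      rcases centralizer_prime h22 hf hnorm P c.2 hq hc' hq3 with h | h | h
      · exfalso
        exact no_two_centralizer h22 hf hnorm h3 P c.2 (by rw [hc', h.1])
      · exfalso
        exact no_five_centralizer h22 hf hnorm h3 P c.2 (by rw [hc', h.1])
      · exact h.1
  -- `3` divides `|C|` but `9` does not
  have hPC : (P : Subgroup G) ≤ C := by
    intro x hx
    rw [hC, Subgroup.mem_centralizer_iff]
    intro y hy
    exact sylow_comm h3 P hy hx
  have h3C : 3 ∣ Nat.card C := by
    rw [← h3 P]; exact Subgroup.card_dvd_of_le hPC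
  have h9G : ¬ 9 ∣ Nat.card G := by
    have h4 := P.card_eq_multiplicity
    rw [h3 P] at h4
    have h5 : (Nat.card G).factorization 3 = 1 := by
      have : (3 : ℕ) ^ 1 = 3 ^ (Nat.card G).factorization 3 := by rw [pow_one]; exact h4
      exact (Nat.pow_right_injective (le_refl 2 |>.trans (by norm_num)) this).symm
    have h6 := Nat.pow_succ_factorization_not_dvd (Nat.card_pos (α := G)).ne' Nat.prime_three
    rw [h5] at h6
    exact h6
  have h9C : ¬ 9 ∣ Nat.card C := fun h => h9G (h.trans (Subgroup.card_subgroup_dvd_card C))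
  -- decomposition of `|C|`
  obtain ⟨a, n1, hn1, hna⟩ := Nat.exists_eq_pow_mul_and_not_dvd (Nat.card_pos (α := ↥C)).ne' 3
    (by norm_num)
  have hn1pos : n1 ≠ 0 := by
    rintro rfl
    rw [mul_zero] at hna
    exact (Nat.card_pos (α := ↥C)).ne' hna
  obtain ⟨b, n2, hn2, hnb⟩ := Nat.exists_eq_pow_mul_and_not_dvd hn1pos 7 (by norm_num)
  have hn2one : n2 = 1 := by
    by_contra hne1
    obtain ⟨q, hq, hqn2⟩ := Nat.exists_prime_and_dvd hne1
    have hqn1 : q ∣ n1 := by rw [hnb]; exact Dvd.dvd.mul_left hqn2 _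
    have hqC : q ∣ Nat.card C := by rw [hna]; exact Dvd.dvd.mul_left hqn1 _
    rcases hprime q hq hqC with h | h
    · rw [h] at hqn1; exact hn1 hqn1
    · rw [h] at hqn2; exact hn2 hqn2
  rw [hn2one, mul_one] at hnb
  rw [hnb] at hna
  -- `a = 1`
  have ha1 : a = 1 := by
    rcases Nat.lt_or_ge a 2 with h | h
    · rcases Nat.eq_zero_or_pos a with h0 | h0
      · exfalso
        rw [h0, pow_zero, one_mul] at hna
        rw [hna] at h3C
        have := Nat.Prime.dvd_of_dvd_pow Nat.prime_three h3C
        norm_num at this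
      · omega
    · exfalso
      apply h9C
      rw [hna]
      have h5 : 3 ^ 2 ∣ 3 ^ a := pow_dvd_pow 3 h
      exact Dvd.dvd.mul_right (by simpa using h5) _
  -- `b ≤ 1`
  have hb1 : b ≤ 1 := by
    haveI : Fact (Nat.Prime 7) := ⟨by norm_num⟩
    have h7C : 7 ^ b ∣ Nat.card ↥C := by rw [hna]; exact Dvd.intro_left _ rfl
    obtain ⟨W, hW⟩ := Sylow.exists_subgroup_card_pow_prime 7 h7C
    set W' : Subgroup G := W.map C.subtype with hW'
    have hW'card : Nat.card W' = 7 ^ b := by
      rw [hW', Subgroup.card_map_of_injective C.subtype_injective, hW]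
    have hW'C : W' ≤ C := by
      rintro _ ⟨x, -, rfl⟩
      exact x.2
    have hW'p : IsPGroup 7 ↥W' := IsPGroup.of_card hW'card
    have h5 := seven_subgroup_card h22 hf hnorm P W' hW'C hW'p
    rw [hW'card] at h5
    by_contra hb
    push Not at hb
    have h6 : 7 ^ 2 ∣ 7 ^ b := pow_dvd_pow 7 hb
    have h7 := Nat.le_of_dvd (by norm_num) (h6.trans h5)
    norm_num at h7
  rw [hna, ha1] at hmod
  interval_cases b <;> omega

end Cfsg.Agent.Helper19.SylTT
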