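import Mathlib
import Cfsg.Agent.Lib.Helper19.Syl22D

/-!
# Twenty-two Sylow 3-subgroups: the lines (helper19)

A *line* is an intersection `P ⊓ Q` of index three in two distinct Sylow subgroups; its
*points* are the Sylow subgroups containing it.
-/

set_option autoImplicit false
set_option linter.unusedSectionVars false
set_option linter.style.haveILetI false

namespace Cfsg.Agent.Helper19.SylTT

open Subgroup MulAction Cfsg.Agent.Helper20.SylFifteen
open scoped Pointwise

universe u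

variable {G : Type u} [Group G] [Finite G]

/-- the Sylow subgroups containing `D` -/
def fixS (D : Subgroup G) : Set (Sylow 3 G) := {S | D ≤ S}

/-- intersections of index three of two Sylow subgroups -/
def IsLine (D : Subgroup G) : Prop :=
  ∃ P Q : Sylow 3 G, P ≠ Q ∧ D = (P : Subgroup G) ⊓ Q ∧
    Nat.card D * 3 = Nat.card (P : Subgroup G)

/-- the Sylow subgroups meeting `P` in a subgroup of index three -/
def Delta (P : Sylow 3 G) : Set (Sylow 3 G) :=
  {Q | Nat.card ↥((P : Subgroup G) ⊓ Q) * 3 = Nat.card (P : Subgroup G)}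

/-- the Sylow subgroups meeting `P` in a subgroup of index nine -/
def Gamma (P : Sylow 3 G) : Set (Sylow 3 G) :=
  {Q | Nat.card ↥((P : Subgroup G) ⊓ Q) * 9 = Nat.card (P : Subgroup G)}

theorem trichotomy (h22 : Nat.card (Sylow 3 G) = 22) (P Q : Sylow 3 G) :
    Q = P ∨ Q ∈ Delta P ∨ Q ∈ Gamma P := by
  have h1 := card_orbit_mul (P : Subgroup G) P.isPGroup' Q
  rw [Nat.card_coe_set_eq] at h1
  rcases card_orbit_cases h22 P Q with h | h | h
  · left
    rw [h, one_mul] at h1
    have h2 : (P : Subgroup G) ⊓ Q = P := Subgroup.eq_of_le_of_card_ge inf_le_left h1.ge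
    have h3 : (P : Subgroup G) ≤ Q := by rw [← h2]; exact inf_le_right
    exact Sylow.ext (P.3 Q.2 h3)
  · right; left
    show Nat.card ↥((P : Subgroup G) ⊓ Q) * 3 = Nat.card (P : Subgroup G)
    rw [← h1, h, mul_comm]
  · right; right
    show Nat.card ↥((P : Subgroup G) ⊓ Q) * 9 = Nat.card (P : Subgroup G)
    rw [← h1, h, mul_comm]

omit [Finite G] in
theorem not_mem_Delta_self (P : Sylow 3 G) [Finite ↥(P : Subgroup G)] : P ∉ Delta P := by
  intro h
  have h1 : Nat.card ↥((P : Subgroup G) ⊓ P) * 3 = Nat.card (P : Subgroup G) := h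
  rw [inf_idem] at h1
  have : 0 < Nat.card (P : Subgroup G) := Nat.card_pos
  omega

omit [Finite G] in
theorem not_mem_Gamma_self (P : Sylow 3 G) [Finite ↥(P : Subgroup G)] : P ∉ Gamma P := by
  intro h
  have h1 : Nat.card ↥((P : Subgroup G) ⊓ P) * 9 = Nat.card (P : Subgroup G) := h
  rw [inf_idem] at h1
  have : 0 < Nat.card (P : Subgroup G) := Nat.card_pos
  omega

theorem Delta_Gamma_disjoint (P Q : Sylow 3 G) (h1 : Q ∈ Delta P) (h2 : Q ∈ Gamma P) : False := by
  have h3 : Nat.card ↥((P : Subgroup G) ⊓ Q) * 3 = Nat.card (P : Subgroup G) := h1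
  have h4 : Nat.card ↥((P : Subgroup G) ⊓ Q) * 9 = Nat.card (P : Subgroup G) := h2
  have : 0 < Nat.card ↥((P : Subgroup G) ⊓ Q) := Nat.card_pos
  omega

theorem mem_Delta_symm (P Q : Sylow 3 G) (h : Q ∈ Delta P) : P ∈ Delta Q := by
  show Nat.card ↥((Q : Subgroup G) ⊓ P) * 3 = Nat.card (Q : Subgroup G)
  rw [inf_comm, card_eq_of_sylow Q P]
  exact h

theorem mem_Gamma_symm (P Q : Sylow 3 G) (h : Q ∈ Gamma P) : P ∈ Gamma Q := by
  show Nat.card ↥((Q : Subgroup G) ⊓ P) * 9 = Nat.card (Q : Subgroup G)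
  rw [inf_comm, card_eq_of_sylow Q P]
  exact h

omit [Finite G] in
/-- conjugation and `Delta`, `Gamma` -/
theorem smul_mem_Delta (g : G) (P Q : Sylow 3 G) (h : Q ∈ Delta P) : g • Q ∈ Delta (g • P) := by
  show Nat.card ↥(((g • P : Sylow 3 G) : Subgroup G) ⊓ ((g • Q : Sylow 3 G) : Subgroup G)) * 3
    = Nat.card ((g • P : Sylow 3 G) : Subgroup G)
  rw [card_inf_smul, Sylow.coe_subgroup_smul, card_conj_smul]
  exact h

omit [Finite G] in
theorem smul_mem_Gamma (g : G) (P Q : Sylow 3 G) (h : Q ∈ Gamma P) : g • Q ∈ Gamma (g • P) := by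
  show Nat.card ↥(((g • P : Sylow 3 G) : Subgroup G) ⊓ ((g • Q : Sylow 3 G) : Subgroup G)) * 9
    = Nat.card ((g • P : Sylow 3 G) : Subgroup G)
  rw [card_inf_smul, Sylow.coe_subgroup_smul, card_conj_smul]
  exact h

omit [Finite G] in
theorem fixS_eq_fixedPoints (D : Subgroup G) (hD : IsPGroup 3 D) :
    fixedPoints ↥D (Sylow 3 G) = fixS D := by
  ext S
  rw [hD.sylow_mem_fixedPoints_iff]
  rfl

theorem fixS_ncard_mod (h22 : Nat.card (Sylow 3 G) = 22) (D : Subgroup G) (hD : IsPGroup 3 D) :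
    (fixS D).ncard % 3 = 1 := by
  have : Finite (Sylow 3 G) := Nat.finite_of_card_ne_zero (by rw [h22]; norm_num)
  have h1 := hD.card_modEq_card_fixedPoints (α := Sylow 3 G)
  rw [fixS_eq_fixedPoints D hD, h22, Nat.card_coe_set_eq] at h1
  have h2 : 22 % 3 = (fixS D).ncard % 3 := h1
  omega

theorem fixS_ncard_lt (h22 : Nat.card (Sylow 3 G) = 22) (hf : Faithful G) (D : Subgroup G)
    (hD : D ≠ ⊥) : (fixS D).ncard < 22 := by
  have : Finite (Sylow 3 G) := Nat.finite_of_card_ne_zero (by rw [h22]; norm_num)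
  have h3 : (fixS D).ncard ≤ 22 := by
    rw [← h22, ← Set.ncard_univ]
    exact Set.ncard_le_ncard (Set.subset_univ _) (Set.toFinite _)
  rcases h3.lt_or_eq with h | h
  · exact h
  · exfalso
    have h9 : fixS D = Set.univ := by
      apply Set.eq_of_subset_of_ncard_le (Set.subset_univ _) _ (Set.toFinite _)
      rw [Set.ncard_univ, h22, h]
    apply hD
    apply eq_bot_of_le_all hf
    intro S
    have : S ∈ fixS D := by rw [h9]; trivial
    exact this

/-- the basic properties of a line -/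
theorem IsLine.isPGroup {D : Subgroup G} (hD : IsLine D) : IsPGroup 3 D := by
  obtain ⟨P, Q, -, rfl, -⟩ := hD
  exact P.isPGroup'.to_le inf_le_left

theorem IsLine.card_eq {D : Subgroup G} (hD : IsLine D) (S : Sylow 3 G) :
    Nat.card D * 3 = Nat.card (S : Subgroup G) := by
  obtain ⟨P, Q, -, -, h⟩ := hD
  rw [h, card_eq_of_sylow P S]

theorem IsLine.ne_bot {D : Subgroup G} (hD : IsLine D)
    (h9 : ∀ P : Sylow 3 G, 3 < Nat.card (P : Subgroup G)) : D ≠ ⊥ := by
  rintro rfl
  obtain ⟨P, Q, -, -, h⟩ := hD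
  rw [Subgroup.card_bot] at h
  have := h9 P
  omega

/-- two distinct points of a line meet in it -/
theorem IsLine.inf_eq {D : Subgroup G} (hD : IsLine D) {S S' : Sylow 3 G}
    (hS : S ∈ fixS D) (hS' : S' ∈ fixS D) (hne : S ≠ S') : (S : Subgroup G) ⊓ S' = D := by
  have hS1 : D ≤ S := hS
  have hS2 : D ≤ S' := hS'
  have hlt : (S : Subgroup G) ⊓ S' < S := by
    refine lt_of_le_of_ne inf_le_left ?_
    intro h
    have h3 : (S : Subgroup G) ≤ S' := by rw [← h]; exact inf_le_right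
    exact hne (Sylow.ext (S.3 S'.2 h3)).symm
  have h1 := three_mul_card_le S.isPGroup' hlt
  have h2 := hD.card_eq S
  symm
  apply Subgroup.eq_of_le_of_card_ge (le_inf hS1 hS2)
  omega

/-- the points of a line -/
theorem IsLine.ncard_cases {D : Subgroup G} (hD : IsLine D) (h22 : Nat.card (Sylow 3 G) = 22)
    (hf : Faithful G) (h9 : ∀ P : Sylow 3 G, 3 < Nat.card (P : Subgroup G)) :
    (fixS D).ncard = 4 ∨ (fixS D).ncard = 7 ∨ (fixS D).ncard = 10 ∨ (fixS D).ncard = 13 ∨
      (fixS D).ncard = 16 ∨ (fixS D).ncard = 19 := by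
  have : Finite (Sylow 3 G) := Nat.finite_of_card_ne_zero (by rw [h22]; norm_num)
  have h1 := fixS_ncard_mod h22 D hD.isPGroup
  have h2 := fixS_ncard_lt h22 hf D (hD.ne_bot h9)
  have h3 : 2 ≤ (fixS D).ncard := by
    obtain ⟨P, Q, hne, rfl, -⟩ := hD
    have h5 : ({P, Q} : Set (Sylow 3 G)) ⊆ fixS ((P : Subgroup G) ⊓ Q) := by
      intro R hR
      rcases hR with rfl | rfl
      · show (R : Subgroup G) ⊓ Q ≤ R
        exact inf_le_left
      · show (P : Subgroup G) ⊓ R ≤ R
        exact inf_le_right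
    have h6 := Set.ncard_le_ncard h5 (Set.toFinite _)
    rw [Set.ncard_pair hne] at h6
    exact h6
  omega

omit [Finite G] in
theorem isLine_conj (g : G) {D : Subgroup G} (hD : IsLine D) : IsLine (MulAut.conj g • D) := by
  obtain ⟨P, Q, hne, rfl, h⟩ := hD
  refine ⟨g • P, g • Q, ?_, ?_, ?_⟩
  · intro h1
    exact hne (smul_left_cancel g h1)
  · rw [Sylow.coe_subgroup_smul, Sylow.coe_subgroup_smul, Subgroup.smul_inf]
  · rw [card_conj_smul, Sylow.coe_subgroup_smul, card_conj_smul]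
    exact h

omit [Finite G] in
theorem fixS_conj (g : G) (D : Subgroup G) :
    fixS (MulAut.conj g • D) = (fun S : Sylow 3 G => g • S) '' fixS D := by
  ext S
  constructor
  · intro hS
    refine ⟨g⁻¹ • S, ?_, smul_inv_smul g S⟩
    show D ≤ ((g⁻¹ • S : Sylow 3 G) : Subgroup G)
    have h1 : MulAut.conj g • D ≤ (S : Subgroup G) := hS
    have h2 : (S : Subgroup G) = MulAut.conj g • ((g⁻¹ • S : Sylow 3 G) : Subgroup G) := by
      rw [← Sylow.coe_subgroup_smul, smul_inv_smul]
    rw [h2] at h1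
    exact Subgroup.pointwise_smul_le_pointwise_smul_iff.1 h1
  · rintro ⟨S', hS', rfl⟩
    show MulAut.conj g • D ≤ ((g • S' : Sylow 3 G) : Subgroup G)
    rw [Sylow.coe_subgroup_smul]
    exact Subgroup.pointwise_smul_le_pointwise_smul_iff.2 hS'

omit [Finite G] in
theorem fixS_conj_ncard (g : G) (D : Subgroup G) :
    (fixS (MulAut.conj g • D)).ncard = (fixS D).ncard := by
  rw [fixS_conj]
  exact Set.ncard_image_of_injective _ (MulAction.injective g)

end Cfsg.Agent.Helper19.SylTT
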