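import Mathlib
import Cfsg.Agent.Lib.Helper19.Syl22I

/-!
# Twenty-two Sylow 3-subgroups: counting incidences (helper19)
-/

set_option autoImplicit false
set_option linter.unusedSectionVars false
set_option linter.style.haveILetI false

namespace Cfsg.Agent.Helper19.SylTT

open Subgroup MulAction Cfsg.Agent.Helper20.SylFifteen
open scoped Pointwise

universe u

variable {G : Type u} [Group G] [Finite G]

/-- the lines with `k` points through `P` -/
def linesThrough (k : ℕ) (P : Sylow 3 G) : Set (Subgroup G) :=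
  {D | IsLine D ∧ (fixS D).ncard = k ∧ D ≤ P}

/-- the lines with `k` points -/
def linesOf (G : Type u) [Group G] (k : ℕ) : Set (Subgroup G) :=
  {D | IsLine D ∧ (fixS D).ncard = k}

theorem linesThrough_conj (k : ℕ) (g : G) (P : Sylow 3 G) :
    (linesThrough k (g • P)).ncard = (linesThrough k P).ncard := by
  have h1 : linesThrough k (g • P)
      = (fun D : Subgroup G => MulAut.conj g • D) '' linesThrough k P := by
    ext D
    constructor
    · rintro ⟨hD1, hD2, hD3⟩
      refine ⟨MulAut.conj g⁻¹ • D, ⟨isLine_conj g⁻¹ hD1, ?_, ?_⟩, ?_⟩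
      · rw [fixS_conj_ncard]; exact hD2
      · rw [Sylow.coe_subgroup_smul] at hD3
        rw [map_inv]
        apply Subgroup.pointwise_smul_subset_iff.2
        rwa [inv_inv]
      · show MulAut.conj g • MulAut.conj g⁻¹ • D = D
        rw [map_inv, smul_inv_smul]
    · rintro ⟨D', ⟨hD1, hD2, hD3⟩, rfl⟩
      refine ⟨isLine_conj g hD1, ?_, ?_⟩
      · rw [fixS_conj_ncard]; exact hD2
      · rw [Sylow.coe_subgroup_smul]
        exact Subgroup.pointwise_smul_le_pointwise_smul_iff.2 hD3
  rw [h1]
  exact Set.ncard_image_of_injective _ (MulAction.injective (MulAut.conj g))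

/-- double counting of incidences between Sylow subgroups and lines with `k` points -/
theorem incidence_count (h22 : Nat.card (Sylow 3 G) = 22) (k : ℕ) (P : Sylow 3 G) :
    22 * (linesThrough k P).ncard = k * (linesOf G k).ncard := by
  classical
  have : Finite (Sylow 3 G) := Nat.finite_of_card_ne_zero (by rw [h22]; norm_num)
  letI : Fintype (Sylow 3 G) := Fintype.ofFinite _
  letI : Fintype (Subgroup G) := Fintype.ofFinite _
  set 𝓛 : Finset (Subgroup G) := (linesOf G k).toFinset with h𝓛
  have key := Finset.sum_card_bipartiteAbove_eq_sum_card_bipartiteBelow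
    (s := (Finset.univ : Finset (Sylow 3 G))) (t := 𝓛)
    (r := fun (S : Sylow 3 G) (D : Subgroup G) => D ≤ (S : Subgroup G))
  have hL : ∀ S ∈ (Finset.univ : Finset (Sylow 3 G)),
      (𝓛.bipartiteAbove (fun (S : Sylow 3 G) (D : Subgroup G) => D ≤ (S : Subgroup G)) S).card
        = (linesThrough k P).ncard := by
    intro S _
    obtain ⟨g, rfl⟩ := MulAction.exists_smul_eq G P S
    rw [← linesThrough_conj k g P, Set.ncard_eq_toFinset_card']
    congr 1
    ext D
    rw [Finset.mem_bipartiteAbove, h𝓛, Set.mem_toFinset, Set.mem_toFinset]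
    exact ⟨fun h => ⟨h.1.1, h.1.2, h.2⟩, fun h => ⟨⟨h.1, h.2.1⟩, h.2.2⟩⟩
  have hR : ∀ D ∈ 𝓛,
      ((Finset.univ : Finset (Sylow 3 G)).bipartiteBelow
        (fun (S : Sylow 3 G) (D : Subgroup G) => D ≤ (S : Subgroup G)) D).card = k := by
    intro D hD
    have hk : (fixS D).ncard = k := by
      rw [h𝓛, Set.mem_toFinset] at hD
      exact hD.2
    rw [← hk, Set.ncard_eq_toFinset_card']
    congr 1
    ext S
    rw [Finset.mem_bipartiteBelow, Set.mem_toFinset]
    exact ⟨fun h => h.2, fun h => ⟨Finset.mem_univ _, h⟩⟩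
  rw [Finset.sum_congr rfl hL, Finset.sum_congr rfl hR, Finset.sum_const, Finset.sum_const,
    Finset.card_univ, ← Nat.card_eq_fintype_card, h22, smul_eq_mul, smul_eq_mul] at key
  rw [key, Set.ncard_eq_toFinset_card' (linesOf G k), mul_comm]

end Cfsg.Agent.Helper19.SylTT
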