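import Mathlib
import Cfsg.Agent.Lib.Helper19.Syl22J

/-!
# Twenty-two Sylow 3-subgroups: every line has four points (helper19)
-/

set_option autoImplicit false
set_option linter.unusedSectionVars false
set_option linter.style.haveILetI false

namespace Cfsg.Agent.Helper19.SylTT

open Subgroup MulAction Cfsg.Agent.Helper20.SylFifteen
open scoped Pointwise

universe u

variable {G : Type u} [Group G] [Finite G]

/-- the points other than `P` on the lines with `k` points through `P` -/
def starOf (k : ℕ) (P : Sylow 3 G) : Set (Sylow 3 G) :=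
  {S | S ≠ P ∧ ∃ D ∈ linesThrough k P, D ≤ (S : Subgroup G)}

theorem starOf_ncard (h22 : Nat.card (Sylow 3 G) = 22) (k : ℕ) (P : Sylow 3 G) :
    (starOf k P).ncard = (linesThrough k P).ncard * (k - 1) := by
  classical
  have : Finite (Sylow 3 G) := Nat.finite_of_card_ne_zero (by rw [h22]; norm_num)
  letI : Fintype (Sylow 3 G) := Fintype.ofFinite _
  letI : Fintype (Subgroup G) := Fintype.ofFinite _
  set s : Finset (Sylow 3 G) := (starOf k P).toFinset with hs
  set t : Finset (Subgroup G) := (linesThrough k P).toFinset with ht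
  let f : Sylow 3 G → Subgroup G := fun S => (P : Subgroup G) ⊓ S
  have hmeet : ∀ (D : Subgroup G) (S : Sylow 3 G), D ∈ linesThrough k P → S ≠ P →
      D ≤ (S : Subgroup G) → (P : Subgroup G) ⊓ S = D := by
    intro D S hD hSP hDS
    exact hD.1.inf_eq (S := P) (S' := S) hD.2.2 hDS (Ne.symm hSP)
  have hmaps : ∀ S ∈ s, f S ∈ t := by
    intro S hS
    rw [hs, Set.mem_toFinset] at hS
    obtain ⟨hSP, D, hD, hDS⟩ := hS
    rw [ht, Set.mem_toFinset]
    show (P : Subgroup G) ⊓ S ∈ linesThrough k P
    rw [hmeet D S hD hSP hDS]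
    exact hD
  have key := Finset.card_eq_sum_card_fiberwise hmaps
  have hfib : ∀ D ∈ t, (s.filter fun S => f S = D).card = k - 1 := by
    intro D hD
    rw [ht, Set.mem_toFinset] at hD
    have h1 : (s.filter fun S => f S = D) = (fixS D \ {P}).toFinset := by
      ext S
      rw [Finset.mem_filter, hs, Set.mem_toFinset, Set.mem_toFinset]
      constructor
      · rintro ⟨⟨hSP, -⟩, hfS⟩
        refine ⟨?_, hSP⟩
        show D ≤ (S : Subgroup G)
        rw [← hfS]
        exact inf_le_right
      · rintro ⟨hDS, hSP⟩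
        have hSP' : S ≠ P := hSP
        exact ⟨⟨hSP', D, hD, hDS⟩, hmeet D S hD hSP' hDS⟩
    rw [h1, ← Set.ncard_eq_toFinset_card']
    have hPD : P ∈ fixS D := hD.2.2
    rw [Set.ncard_sdiff_singleton_of_mem hPD, hD.2.1]
  rw [Finset.sum_congr rfl hfib, Finset.sum_const, smul_eq_mul] at key
  rw [Set.ncard_eq_toFinset_card' (starOf k P), Set.ncard_eq_toFinset_card' (linesThrough k P)]
  exact key

theorem starOf_ncard_le (h22 : Nat.card (Sylow 3 G) = 22) (k : ℕ) (P : Sylow 3 G) :
    (starOf k P).ncard ≤ 21 := by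
  have : Finite (Sylow 3 G) := Nat.finite_of_card_ne_zero (by rw [h22]; norm_num)
  have h1 : starOf k P ⊆ ({P} : Set (Sylow 3 G))ᶜ := by
    intro S hS
    exact hS.1
  have h2 : (({P} : Set (Sylow 3 G))ᶜ).ncard = 21 := by
    rw [Set.ncard_compl, Set.ncard_singleton, h22]
  rw [← h2]
  exact Set.ncard_le_ncard h1 (Set.toFinite _)

/-- every line has exactly four points -/
theorem line_four (h22 : Nat.card (Sylow 3 G) = 22) (hf : Faithful G)
    (h9 : ∀ P : Sylow 3 G, 3 < Nat.card (P : Subgroup G)) {D : Subgroup G} (hD : IsLine D) :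
    (fixS D).ncard = 4 := by
  have hDD := hD
  obtain ⟨P, Q, hne, hDeq, hcard⟩ := hD
  have hDP : D ≤ P := by rw [hDeq]; exact inf_le_left
  have hfin : (linesThrough (fixS D).ncard P).Finite := Set.toFinite _
  have hmem : D ∈ linesThrough (fixS D).ncard P := ⟨hDD, rfl, hDP⟩
  have hpos : 0 < (linesThrough (fixS D).ncard P).ncard := by
    rw [Set.ncard_pos hfin]; exact ⟨D, hmem⟩
  have h1 := starOf_ncard h22 (fixS D).ncard P
  have h2 := starOf_ncard_le h22 (fixS D).ncard P
  have h3 := incidence_count h22 (fixS D).ncard P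
  rw [h1] at h2
  set c := (linesThrough (fixS D).ncard P).ncard with hc
  set b := (linesOf G (fixS D).ncard).ncard with hb
  rcases hDD.ncard_cases h22 hf h9 with h | h | h | h | h | h
  · exact h
  · exfalso; rw [h] at h2 h3; omega
  · exfalso; rw [h] at h2 h3; omega
  · exfalso; rw [h] at h2 h3; omega
  · exfalso; rw [h] at h2 h3; omega
  · exfalso; rw [h] at h2 h3; omega

/-- `Delta P` is the union of the lines through `P` -/
theorem Delta_eq_starOf (h22 : Nat.card (Sylow 3 G) = 22) (hf : Faithful G)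
    (h9 : ∀ P : Sylow 3 G, 3 < Nat.card (P : Subgroup G)) (P : Sylow 3 G) :
    Delta P = starOf 4 P := by
  ext S
  constructor
  · intro hS
    have hSP : S ≠ P := by
      rintro rfl
      exact not_mem_Delta_self S hS
    have hline : IsLine ((P : Subgroup G) ⊓ S) := ⟨P, S, Ne.symm hSP, rfl, hS⟩
    exact ⟨hSP, (P : Subgroup G) ⊓ S, ⟨hline, line_four h22 hf h9 hline, inf_le_left⟩,
      inf_le_right⟩
  · rintro ⟨hSP, D, hD, hDS⟩
    have h1 : (P : Subgroup G) ⊓ S = D :=
      hD.1.inf_eq (S := P) (S' := S) hD.2.2 hDS (Ne.symm hSP)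
    show Nat.card ↥((P : Subgroup G) ⊓ S) * 3 = Nat.card (P : Subgroup G)
    rw [h1]
    exact hD.1.card_eq P

/-- the structure of the neighbourhoods -/
theorem Delta_Gamma_ncard (h22 : Nat.card (Sylow 3 G) = 22) (hf : Faithful G)
    (h9 : ∀ P : Sylow 3 G, 3 < Nat.card (P : Subgroup G)) (P : Sylow 3 G) :
    (Delta P).ncard = 12 ∧ (Gamma P).ncard = 9 := by
  classical
  have : Finite (Sylow 3 G) := Nat.finite_of_card_ne_zero (by rw [h22]; norm_num)
  have h1 : (Delta P).ncard = (linesThrough 4 P).ncard * 3 := by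
    rw [Delta_eq_starOf h22 hf h9 P, starOf_ncard h22 4 P]
  have h2 := incidence_count h22 4 P
  -- the partition
  have hunion : Delta P ∪ Gamma P = ({P} : Set (Sylow 3 G))ᶜ := by
    ext S
    simp only [Set.mem_union, Set.mem_compl_iff, Set.mem_singleton_iff]
    constructor
    · rintro (h | h)
      · rintro rfl; exact not_mem_Delta_self S h
      · rintro rfl; exact not_mem_Gamma_self S h
    · intro h
      rcases trichotomy h22 P S with h' | h' | h'
      · exact absurd h' h
      · exact Or.inl h'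
      · exact Or.inr h'
  have hdisj : Disjoint (Delta P) (Gamma P) := by
    rw [Set.disjoint_left]
    intro S h3 h4
    exact Delta_Gamma_disjoint P S h3 h4
  have h3 : (Delta P).ncard + (Gamma P).ncard = 21 := by
    rw [← Set.ncard_union_eq hdisj (Set.toFinite _) (Set.toFinite _), hunion,
      Set.ncard_compl, Set.ncard_singleton, h22]
  -- the orbits in `Gamma P`
  have h4 : 9 ∣ (Gamma P).ncard := by
    apply dvd_ncard_of_orbits (H := ↥(P : Subgroup G)) (X := Sylow 3 G) (Gamma P)
    · intro y Q hQ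
      have h5 := smul_mem_Gamma (y : G) P Q hQ
      have h6 : (y : G) • P = P := by
        rw [Sylow.smul_eq_iff_mem_normalizer]
        exact le_normalizer y.2
      rw [h6] at h5
      exact h5
    · intro Q hQ
      have h5 := card_orbit_mul (P : Subgroup G) P.isPGroup' Q
      rw [Nat.card_coe_set_eq] at h5
      have h6 : Nat.card ↥((P : Subgroup G) ⊓ Q) * 9 = Nat.card (P : Subgroup G) := hQ
      have h7 : 0 < Nat.card ↥((P : Subgroup G) ⊓ Q) := Nat.card_pos
      have h8 : (orbit ↥(P : Subgroup G) Q).ncard = 9 := by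
        have : (orbit ↥(P : Subgroup G) Q).ncard * Nat.card ↥((P : Subgroup G) ⊓ Q)
            = 9 * Nat.card ↥((P : Subgroup G) ⊓ Q) := by rw [h5, ← h6, mul_comm]
        exact Nat.eq_of_mul_eq_mul_right h7 this
      rw [h8]
  obtain ⟨j, hj⟩ := h4
  omega

end Cfsg.Agent.Helper19.SylTT
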