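import Mathlib
import Cfsg.Agent.Lib.Helper19.Syl22K

/-!
# Twenty-two Sylow 3-subgroups: an involution swapping two maximal subgroups (helper19)
-/

set_option autoImplicit false
set_option linter.unusedSectionVars false
set_option linter.style.haveILetI false

namespace Cfsg.Agent.Helper19.SylTT

open Subgroup MulAction Cfsg.Agent.Helper20.SylFifteen
open scoped Pointwise

universe u

variable {G : Type u} [Group G] [Finite G]

/-- an involution normalizing a Sylow `3`-subgroup `P` and moving a subgroup `D` of index three: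
some element of `P` outside `D` commutes with the involution -/
theorem exists_fixed_not_mem (P : Sylow 3 G) {t : G} (ht2 : orderOf t = 2)
    (htP : t ∈ normalizer ((P : Subgroup G) : Set G)) (D : Subgroup G)
    (hDP : D ≤ P) (hcard : Nat.card D * 3 = Nat.card (P : Subgroup G))
    (hne : MulAut.conj t • D ≠ D) :
    ∃ a ∈ (P : Subgroup G), t * a * t⁻¹ = a ∧ a ∉ D := by
  classical
  set D' := MulAut.conj t • D with hD'
  have htt : t * t = 1 := by rw [← pow_two, ← ht2, pow_orderOf_eq_one]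
  have htinv : t⁻¹ = t := inv_eq_of_mul_eq_one_right htt
  have hmemD' : ∀ x, x ∈ D' ↔ t * x * t⁻¹ ∈ D := by
    intro x
    rw [hD', Subgroup.mem_pointwise_smul_iff_inv_smul_mem, MulAut.smul_def,
      MulAut.conj_inv_apply, htinv]
  have hconjP : ∀ x, x ∈ (P : Subgroup G) ↔ t * x * t⁻¹ ∈ (P : Subgroup G) :=
    fun x => Subgroup.mem_normalizer_iff.1 htP x
  have hD'P : D' ≤ P := by
    intro x hx
    rw [hconjP]
    exact hDP ((hmemD' x).1 hx)
  have hcardD' : Nat.card D' = Nat.card D := card_conj_smul D t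
  have hcard' : Nat.card D' * 3 = Nat.card (P : Subgroup G) := by rw [hcardD', hcard]
  -- an element of `D` outside `D'`
  have hex : ∃ d ∈ D, d ∉ D' := by
    by_contra hall
    push Not at hall
    have hle : D ≤ D' := hall
    exact hne (Subgroup.eq_of_le_of_card_ge hle hcardD'.le).symm
  obtain ⟨d, hdD, hdD'⟩ := hex
  set d' := t * d * t⁻¹ with hd'
  have htd' : t * d' * t⁻¹ = d := by
    rw [hd', htinv]
    calc t * (t * d * t) * t = (t * t) * d * (t * t) := by group
      _ = d := by rw [htt]; group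
  have hd'D' : d' ∈ D' := by rw [hmemD', htd']; exact hdD
  have hd'D : d' ∉ D := by
    intro h
    apply hdD'
    rw [hmemD']
    exact h
  have hdP : d ∈ (P : Subgroup G) := hDP hdD
  have hd'P : d' ∈ (P : Subgroup G) := hD'P hd'D'
  have hnD : ∀ x ∈ (P : Subgroup G), ∀ e ∈ D, x * e * x⁻¹ ∈ D :=
    fun x hx e he => conj_mem_of_index_three P D hDP hcard hx he
  have hnD' : ∀ x ∈ (P : Subgroup G), ∀ e ∈ D', x * e * x⁻¹ ∈ D' :=
    fun x hx e he => conj_mem_of_index_three P D' hD'P hcard' hx he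
  set I : Subgroup G := D ⊓ D' with hI
  set c := d * d' with hc
  set X : Set G := (fun i => c * i) '' (I : Set G) with hX
  have hXcard : X.ncard = Nat.card I := by
    rw [hX, Set.ncard_image_of_injective _ (mul_right_injective c)]
    exact (Nat.card_coe_set_eq (I : Set G)).symm
  have hIodd : Nat.card I % 2 = 1 := by
    have hIp : IsPGroup 3 I := hI ▸ (P.isPGroup'.to_le (inf_le_left.trans hDP))
    obtain ⟨j, hj⟩ := hIp.exists_card_eq
    rw [hj, Nat.pow_mod]
    norm_num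
  have hκD : c⁻¹ * (t * c * t⁻¹) ∈ I := by
    have h1 : t * c * t⁻¹ = d' * d := by
      calc t * c * t⁻¹ = (t * d * t⁻¹) * (t * d' * t⁻¹) := by rw [hc]; group
        _ = d' * d := by rw [htd']
    rw [h1]
    refine Subgroup.mem_inf.2 ⟨?_, ?_⟩
    · have h2 : d'⁻¹ * d⁻¹ * d'⁻¹⁻¹ ∈ D := hnD _ ((P : Subgroup G).inv_mem hd'P) _ (D.inv_mem hdD)
      have h3 : c⁻¹ * (d' * d) = (d'⁻¹ * d⁻¹ * d'⁻¹⁻¹) * d := by rw [hc]; group
      rw [h3]
      exact D.mul_mem h2 hdD
    · have h2 : d⁻¹ * d' * d⁻¹⁻¹ ∈ D' := hnD' _ ((P : Subgroup G).inv_mem hdP) _ hd'D'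
      have h3 : c⁻¹ * (d' * d) = d'⁻¹ * (d⁻¹ * d' * d⁻¹⁻¹) := by rw [hc]; group
      rw [h3]
      exact D'.mul_mem (D'.inv_mem hd'D') h2
  have hIconj : ∀ i ∈ I, t * i * t⁻¹ ∈ I := by
    intro i hi
    obtain ⟨hi1, hi2⟩ := Subgroup.mem_inf.1 hi
    refine Subgroup.mem_inf.2 ⟨(hmemD' i).1 hi2, ?_⟩
    rw [hmemD']
    have : t * (t * i * t⁻¹) * t⁻¹ = i := by
      rw [htinv]
      calc t * (t * i * t) * t = (t * t) * i * (t * t) := by group
        _ = i := by rw [htt]; group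
    rw [this]
    exact hi1
  have hinv : ∀ a ∈ X, (ConjAct.toConjAct t) • a ∈ X := by
    rintro _ ⟨i, hi, rfl⟩
    rw [ConjAct.smul_def, ConjAct.ofConjAct_toConjAct]
    refine ⟨c⁻¹ * (t * c * t⁻¹) * (t * i * t⁻¹), I.mul_mem hκD (hIconj i hi), ?_⟩
    show c * (c⁻¹ * (t * c * t⁻¹) * (t * i * t⁻¹)) = t * (c * i) * t⁻¹
    group
  have hord : orderOf (ConjAct.toConjAct t) = 2 := by
    rw [← ht2]
    exact MulEquiv.orderOf_eq ConjAct.toConjAct t
  obtain ⟨a, haX, hat⟩ := exists_fixed_of_odd (H := ConjAct G) (X := G) hord X hinv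
    (by rw [hXcard]; exact hIodd)
  rw [ConjAct.smul_def, ConjAct.ofConjAct_toConjAct] at hat
  obtain ⟨i, hi, rfl⟩ := haX
  have hiD : i ∈ D := (Subgroup.mem_inf.1 hi).1
  refine ⟨c * i, ?_, hat, ?_⟩
  · exact (P : Subgroup G).mul_mem ((P : Subgroup G).mul_mem hdP hd'P) (hDP hiD)
  · intro h
    apply hd'D
    have h1 : d' = d⁻¹ * (c * i) * i⁻¹ := by rw [hc]; group
    rw [h1]
    exact D.mul_mem (D.mul_mem (D.inv_mem hdD) h) (D.inv_mem hiD)

end Cfsg.Agent.Helper19.SylTT
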