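import Mathlib
import Cfsg.Agent.Lib.Helper19.Syl22L

/-!
# Twenty-two Sylow 3-subgroups of order at least nine are impossible (helper19)
-/

set_option autoImplicit false
set_option linter.unusedSectionVars false
set_option linter.style.haveILetI false

namespace Cfsg.Agent.Helper19.SylTT

open Subgroup MulAction Cfsg.Agent.Helper20.SylFifteen
open scoped Pointwise

universe u

variable {G : Type u} [Group G] [Finite G]

/-- the key property: no intersection of index nine lies in a line -/
theorem key_not_le (h22 : Nat.card (Sylow 3 G) = 22) (hf : Faithful G)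
    (h9 : ∀ P : Sylow 3 G, 3 < Nat.card (P : Subgroup G)) {t : G} (ht2 : orderOf t = 2)
    (htF : (fixedBy (Sylow 3 G) t).ncard = 2) (P : Sylow 3 G) (hP : t • P = P)
    {D : Subgroup G} (hD : IsLine D) (hDP : D ≤ P) {S : Sylow 3 G} (hS : S ∈ Gamma P) :
    ¬ ((P : Subgroup G) ⊓ S ≤ D) := by
  classical
  have : Finite (Sylow 3 G) := Nat.finite_of_card_ne_zero (by rw [h22]; norm_num)
  obtain ⟨hΔ, hΓ⟩ := Delta_Gamma_ncard h22 hf h9 P
  have htN : t ∈ normalizer ((P : Subgroup G) : Set G) := Sylow.smul_eq_iff_mem_normalizer.1 hP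
  -- a fixed point of `t` in `Gamma P`
  have hinvΓ : ∀ a ∈ Gamma P, t • a ∈ Gamma P := by
    intro Q hQ
    have h1 := smul_mem_Gamma t P Q hQ
    rwa [hP] at h1
  obtain ⟨P', hP'Γ, hP'⟩ := exists_fixed_of_odd (H := G) (X := Sylow 3 G) ht2 (Gamma P) hinvΓ
    (by rw [hΓ])
  have hPP' : P ≠ P' := by
    rintro rfl
    exact not_mem_Gamma_self P hP'Γ
  -- the fixed points of `t`
  have hfix : ∀ Q : Sylow 3 G, t • Q = Q → Q = P ∨ Q = P' := by
    intro Q hQ
    have h1 : ({P, P'} : Set (Sylow 3 G)) ⊆ fixedBy (Sylow 3 G) t := by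
      intro R hR
      rcases hR with rfl | rfl
      · exact hP
      · exact hP'
    have h2 : ({P, P'} : Set (Sylow 3 G)) = fixedBy (Sylow 3 G) t := by
      apply Set.eq_of_subset_of_ncard_le h1 _ (Set.toFinite _)
      rw [htF, Set.ncard_pair hPP']
    have h3 : Q ∈ ({P, P'} : Set (Sylow 3 G)) := by rw [h2]; exact hQ
    exact h3
  -- `t` moves every line through `P`
  have hmove : MulAut.conj t • D ≠ D := by
    intro heq
    set X : Set (Sylow 3 G) := fixS D \ {P} with hX
    have hPD : P ∈ fixS D := hDP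
    have hXcard : X.ncard = 3 := by
      rw [hX, Set.ncard_sdiff_singleton_of_mem hPD, line_four h22 hf h9 hD]
    have hXinv : ∀ a ∈ X, t • a ∈ X := by
      rintro Q ⟨hQ1, hQ2⟩
      refine ⟨?_, ?_⟩
      · show D ≤ ((t • Q : Sylow 3 G) : Subgroup G)
        rw [Sylow.coe_subgroup_smul, ← heq]
        exact Subgroup.pointwise_smul_le_pointwise_smul_iff.2 hQ1
      · intro h
        apply hQ2
        have h1 : t • Q = P := h
        have h2 : t • Q = t • P := by rw [h1, hP]
        exact smul_left_cancel t h2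
    obtain ⟨Q, hQX, hQt⟩ := exists_fixed_of_odd (H := G) (X := Sylow 3 G) ht2 X hXinv
      (by rw [hXcard])
    rcases hfix Q hQt with h | h
    · exact hQX.2 h
    · rw [h] at hQX
      have h1 : (P : Subgroup G) ⊓ P' = D := hD.inf_eq hPD hQX.1 hPP'
      have h2 : P' ∈ Delta P := by
        show Nat.card ↥((P : Subgroup G) ⊓ P') * 3 = Nat.card (P : Subgroup G)
        rw [h1]
        exact hD.card_eq P
      exact Delta_Gamma_disjoint P P' h2 hP'Γ
  -- elements of `P` commuting with `t` lie in `P'`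
  have hcent : ∀ x ∈ (P : Subgroup G), t * x * t⁻¹ = x → x ∈ (P' : Subgroup G) := by
    intro x hx hxt
    have hxP : x • P = P := by
      rw [Sylow.smul_eq_iff_mem_normalizer]
      exact le_normalizer hx
    have h1 : x • P' ∈ Gamma P := by
      have := smul_mem_Gamma x P P' hP'Γ
      rwa [hxP] at this
    have h2 : t • (x • P') = x • P' := by
      have h3 : t * x = x * t := by
        calc t * x = (t * x * t⁻¹) * t := by group
          _ = x * t := by rw [hxt]
      rw [smul_smul, h3, ← smul_smul, hP']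
    rcases hfix (x • P') h2 with h | h
    · exfalso
      rw [h] at h1
      exact not_mem_Gamma_self P h1
    · exact mem_of_mem_of_smul_eq P P' hx h
  obtain ⟨a, haP, hat, haD⟩ := exists_fixed_not_mem P ht2 htN D hDP (hD.card_eq P) hmove
  have haP' : a ∈ (P' : Subgroup G) := hcent a haP hat
  -- `Gamma P` is the orbit of `P'`
  have horb : Gamma P = orbit ↥(P : Subgroup G) P' := by
    symm
    apply Set.eq_of_subset_of_ncard_le _ _ (Set.toFinite _)
    · rintro _ ⟨y, rfl⟩
      have h5 := smul_mem_Gamma (y : G) P P' hP'Γ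
      have h6 : (y : G) • P = P := by
        rw [Sylow.smul_eq_iff_mem_normalizer]
        exact le_normalizer y.2
      rw [h6] at h5
      exact h5
    · have h5 := card_orbit_mul (P : Subgroup G) P.isPGroup' P'
      rw [Nat.card_coe_set_eq] at h5
      have h6 : Nat.card ↥((P : Subgroup G) ⊓ P') * 9 = Nat.card (P : Subgroup G) := hP'Γ
      have h7 : 0 < Nat.card ↥((P : Subgroup G) ⊓ P') := Nat.card_pos
      have h8 : (orbit ↥(P : Subgroup G) P').ncard = 9 := by
        have : (orbit ↥(P : Subgroup G) P').ncard * Nat.card ↥((P : Subgroup G) ⊓ P')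
            = 9 * Nat.card ↥((P : Subgroup G) ⊓ P') := by rw [h5, ← h6, mul_comm]
        exact Nat.eq_of_mul_eq_mul_right h7 this
      rw [h8, hΓ]
  rw [horb] at hS
  obtain ⟨x, rfl⟩ := hS
  intro hle
  apply haD
  have h1 : (x : G) * a * (x : G)⁻¹ ∈ (P : Subgroup G) ⊓ ((x • P' : Sylow 3 G) : Subgroup G) := by
    refine Subgroup.mem_inf.2 ⟨?_, conj_mem_smul (x : G) P' haP'⟩
    exact (P : Subgroup G).mul_mem ((P : Subgroup G).mul_mem x.2 haP) ((P : Subgroup G).inv_mem x.2)
  have h2 := hle h1
  have h3 := conj_mem_of_index_three P D hDP (hD.card_eq P) ((P : Subgroup G).inv_mem x.2) h2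
  have h4 : (x : G)⁻¹ * ((x : G) * a * (x : G)⁻¹) * (x : G)⁻¹⁻¹ = a := by group
  rwa [h4] at h3

end Cfsg.Agent.Helper19.SylTT
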