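import Mathlib
import Cfsg.Agent.Lib.Helper19.Syl22M
import Cfsg.Agent.Lib.Helper19.Syl22H

/-!
# No finite group has exactly twenty-two Sylow 3-subgroups (helper19)
-/

set_option autoImplicit false
set_option linter.unusedSectionVars false
set_option linter.style.haveILetI false

namespace Cfsg.Agent.Helper19.SylTT

open Subgroup MulAction Cfsg.Agent.Helper20.SylFifteen
open scoped Pointwise

universe u

variable {G : Type u} [Group G] [Finite G]

/-- every Sylow subgroup is fixed by an involution with exactly two fixed points -/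
theorem exists_involution_fixing (h22 : Nat.card (Sylow 3 G) = 22) (hf : Faithful G)
    (hnorm : Gen3 G) (P : Sylow 3 G) :
    ∃ t : G, orderOf t = 2 ∧ (fixedBy (Sylow 3 G) t).ncard = 2 ∧ t • P = P := by
  classical
  have : Finite (Sylow 3 G) := Nat.finite_of_card_ne_zero (by rw [h22]; norm_num)
  obtain ⟨t, ht2, htF⟩ := exists_involution h22 hf hnorm
  have hne : (fixedBy (Sylow 3 G) t).Nonempty := by
    rw [← Set.ncard_pos (Set.toFinite _), htF]; norm_num
  obtain ⟨P₀, hP₀⟩ := hne
  have hP₀' : t • P₀ = P₀ := hP₀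
  obtain ⟨g, rfl⟩ := MulAction.exists_smul_eq G P₀ P
  refine ⟨g * t * g⁻¹, ?_, ?_, ?_⟩
  · rw [← ht2]
    have := MulEquiv.orderOf_eq (MulAut.conj g) t
    rwa [MulAut.conj_apply] at this
  · have h1 : fixedBy (Sylow 3 G) (g * t * g⁻¹)
        = (fun S : Sylow 3 G => g • S) '' fixedBy (Sylow 3 G) t := by
      ext S
      constructor
      · intro hS
        have hS' : (g * t * g⁻¹) • S = S := hS
        refine ⟨g⁻¹ • S, ?_, smul_inv_smul g S⟩
        show t • (g⁻¹ • S) = g⁻¹ • S
        rw [eq_inv_smul_iff, smul_smul, smul_smul]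
        exact hS'
      · rintro ⟨S', hS', rfl⟩
        have hS'' : t • S' = S' := hS'
        show (g * t * g⁻¹) • (g • S') = g • S'
        rw [mul_smul, mul_smul, inv_smul_smul, hS'']
    rw [h1, Set.ncard_image_of_injective _ (MulAction.injective g), htF]
  · rw [mul_smul, mul_smul, inv_smul_smul, hP₀']

/-- neighbours of index three have the same neighbours of index nine -/
theorem Gamma_subset (h22 : Nat.card (Sylow 3 G) = 22) (hf : Faithful G)
    (hnorm : Gen3 G) (h9 : ∀ P : Sylow 3 G, 3 < Nat.card (P : Subgroup G))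
    (P Q : Sylow 3 G) (hQ : Q ∈ Delta P) : Gamma Q ⊆ Gamma P := by
  classical
  intro S hS
  obtain ⟨t, ht2, htF, htQ⟩ := exists_involution_fixing h22 hf hnorm Q
  have hPQ : P ≠ Q := by
    rintro rfl
    exact not_mem_Delta_self P hQ
  set D : Subgroup G := (P : Subgroup G) ⊓ Q with hD
  have hline : IsLine D := ⟨P, Q, hPQ, rfl, hQ⟩
  have hDQ : D ≤ Q := inf_le_right
  have hDP : D ≤ P := inf_le_left
  have hkey := key_not_le h22 hf h9 ht2 htF Q htQ hline hDQ hS
  rcases trichotomy h22 P S with h | h | h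
  · exfalso
    rw [h] at hS
    exact Delta_Gamma_disjoint Q P (mem_Delta_symm P Q hQ) hS
  · exfalso
    set A : Subgroup G := (P : Subgroup G) ⊓ S with hA
    have hAcard : Nat.card A * 3 = Nat.card (P : Subgroup G) := h
    have hDcard : Nat.card D * 3 = Nat.card (P : Subgroup G) := hQ
    have hQS : Nat.card ↥((Q : Subgroup G) ⊓ S) * 9 = Nat.card (Q : Subgroup G) := hS
    -- the index of `D ⊓ A` in `P` is at most nine
    have h1 : (D ⊓ A).relIndex (P : Subgroup G)
        ≤ D.relIndex (P : Subgroup G) * A.relIndex (P : Subgroup G) := Subgroup.relIndex_inf_le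
    have hDrel : Nat.card D * D.relIndex (P : Subgroup G) = Nat.card (P : Subgroup G) := by
      have := card_inf_mul_relIndex D (P : Subgroup G)
      rwa [inf_eq_left.2 hDP] at this
    have hArel : Nat.card A * A.relIndex (P : Subgroup G) = Nat.card (P : Subgroup G) := by
      have := card_inf_mul_relIndex A (P : Subgroup G)
      rwa [inf_eq_left.2 (inf_le_left : A ≤ P)] at this
    have hDArel : Nat.card ↥(D ⊓ A) * (D ⊓ A).relIndex (P : Subgroup G)
        = Nat.card (P : Subgroup G) := by
      have := card_inf_mul_relIndex (D ⊓ A) (P : Subgroup G)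
      rwa [inf_eq_left.2 (inf_le_left.trans hDP : D ⊓ A ≤ P)] at this
    have hD3 : D.relIndex (P : Subgroup G) = 3 := by
      have : Nat.card D * D.relIndex (P : Subgroup G) = Nat.card D * 3 := by rw [hDrel, hDcard]
      exact Nat.eq_of_mul_eq_mul_left Nat.card_pos this
    have hA3 : A.relIndex (P : Subgroup G) = 3 := by
      have : Nat.card A * A.relIndex (P : Subgroup G) = Nat.card A * 3 := by rw [hArel, hAcard]
      exact Nat.eq_of_mul_eq_mul_left Nat.card_pos this
    rw [hD3, hA3] at h1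
    -- `D ⊓ A` lies in a proper subgroup of `Q ⊓ S`
    have hle : D ⊓ A ≤ D ⊓ ((Q : Subgroup G) ⊓ S) :=
      le_inf inf_le_left (le_inf (inf_le_left.trans hDQ) (inf_le_right.trans inf_le_right))
    have hlt : D ⊓ ((Q : Subgroup G) ⊓ S) < (Q : Subgroup G) ⊓ S := by
      refine lt_of_le_of_ne inf_le_right ?_
      intro heq
      apply hkey
      rw [← heq]
      exact inf_le_left
    have hp : IsPGroup 3 ↥((Q : Subgroup G) ⊓ S) := Q.isPGroup'.to_le inf_le_left
    have h2 := three_mul_card_le hp hlt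
    have h3 := Subgroup.card_le_of_le hle
    have h4 := card_eq_of_sylow P Q
    have h5 : 0 < Nat.card ↥(D ⊓ A) := Nat.card_pos
    have h6 : Nat.card (P : Subgroup G) ≤ Nat.card ↥(D ⊓ A) * 9 := by
      rw [← hDArel]
      exact Nat.mul_le_mul_left _ h1
    omega
  · exact h

/-- the case of Sylow subgroups of order at least nine -/
theorem case_nine (h22 : Nat.card (Sylow 3 G) = 22) (hf : Faithful G)
    (hnorm : Gen3 G) (h9 : ∀ P : Sylow 3 G, 3 < Nat.card (P : Subgroup G)) : False := by
  classical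
  have : Finite (Sylow 3 G) := Nat.finite_of_card_ne_zero (by rw [h22]; norm_num)
  obtain ⟨P⟩ : Nonempty (Sylow 3 G) := inferInstance
  have hG : ∀ Q : Sylow 3 G, (Gamma Q).ncard = 9 := fun Q => (Delta_Gamma_ncard h22 hf h9 Q).2
  have hGeq : ∀ P Q : Sylow 3 G, Q ∈ Delta P → Gamma Q = Gamma P := by
    intro P Q hQ
    apply Set.eq_of_subset_of_ncard_le (Gamma_subset h22 hf hnorm h9 P Q hQ) _ (Set.toFinite _)
    rw [hG, hG]
  have hne : (Gamma P).Nonempty := by
    rw [← Set.ncard_pos (Set.toFinite _), hG]; norm_num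
  obtain ⟨S, hS⟩ := hne
  have hcompl : ∀ Q : Sylow 3 G, ((Gamma Q)ᶜ).ncard = 13 := by
    intro Q
    rw [Set.ncard_compl, hG, h22]
  have hmem : ∀ Q X : Sylow 3 G, X ∈ (Gamma Q)ᶜ → Gamma X = Gamma Q := by
    intro Q X hX
    rcases trichotomy h22 Q X with h | h | h
    · rw [h]
    · exact hGeq Q X h
    · exact absurd h hX
  have hdisj : Disjoint (Gamma P)ᶜ (Gamma S)ᶜ := by
    rw [Set.disjoint_left]
    intro X hXP hXS
    have h1 := hmem P X hXP
    have h2 := hmem S X hXS
    have h3 : Gamma P = Gamma S := by rw [← h1, h2]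
    rw [h3] at hS
    exact not_mem_Gamma_self S hS
  have h1 := Set.ncard_union_eq hdisj (Set.toFinite _) (Set.toFinite _)
  rw [hcompl, hcompl] at h1
  have h2 : ((Gamma P)ᶜ ∪ (Gamma S)ᶜ).ncard ≤ 22 := by
    rw [← h22, ← Set.ncard_univ]
    exact Set.ncard_le_ncard (Set.subset_univ _) (Set.toFinite _)
  omega

end Cfsg.Agent.Helper19.SylTT
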