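import Mathlib
import Cfsg.Agent.Lib.Helper19.Syl22N

/-!
# No finite group has exactly twenty-two Sylow 3-subgroups: the induction (helper19)
-/

set_option autoImplicit false
set_option linter.unusedSectionVars false
set_option linter.style.haveILetI false

namespace Cfsg.Agent.Helper19.SylTT

open Subgroup MulAction Cfsg.Agent.Helper20.SylFifteen

universe u

theorem main_aux : ∀ n : ℕ, ∀ (G : Type u) [Group G] [Finite G], Nat.card G = n →
    Nat.card (Sylow 3 G) ≠ 22 := by
  intro n
  induction n using Nat.strong_induction_on with
  | _ n ih =>
    intro G _ _ hn h22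
    classical
    haveI : Finite (Sylow 3 G) := Nat.finite_of_card_ne_zero (by rw [h22]; norm_num)
    have IH : ∀ (H : Type u) [Group H] [Finite H], Nat.card H < Nat.card G →
        Nat.card (Sylow 3 H) ≠ 22 := by
      intro H _ _ hlt
      exact ih (Nat.card H) (hn ▸ hlt) H rfl
    -- the action on the Sylow subgroups is faithful
    have hf : Faithful G := by
      intro g hg
      by_contra hg1
      set K : Subgroup G := (MulAction.toPermHom G (Sylow 3 G)).ker with hK
      have hmemK : ∀ k : G, k ∈ K ↔ ∀ P : Sylow 3 G, k • P = P := by
        intro k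
        rw [hK, MonoidHom.mem_ker]
        constructor
        · intro h P
          have := congrArg (fun σ : Equiv.Perm (Sylow 3 G) => σ P) h
          simpa using this
        · intro h
          exact Equiv.ext fun P => h P
      have hKle : ∀ P : Sylow 3 G, K ≤ normalizer ((P : Subgroup G) : Set G) := by
        intro P k hk
        exact Sylow.smul_eq_iff_mem_normalizer.1 ((hmemK k).1 hk P)
      have h1 := card_sylow_quotient K hKle
      rw [h22] at h1
      have hgK : g ∈ K := (hmemK g).2 hg
      have hKcard : 1 < Nat.card K := by
        rw [Finite.one_lt_card_iff_nontrivial]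
        exact ⟨⟨⟨g, hgK⟩, 1, fun h => hg1 (congrArg Subtype.val h)⟩⟩
      have hlt : Nat.card (G ⧸ K) < Nat.card G := by
        have h2 := Subgroup.card_mul_index K
        rw [← Subgroup.index_eq_card]
        have hpos : 0 < K.index := Nat.pos_of_ne_zero Subgroup.index_ne_zero_of_finite
        nlinarith
      exact IH (G ⧸ K) hlt h1
    -- a normal subgroup containing the Sylow subgroups is everything
    have hnorm : Gen3 G := by
      intro M hM hPM
      by_contra hMtop
      haveI := hM
      obtain ⟨P₁⟩ : Nonempty (Sylow 3 G) := inferInstance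
      have h1 := card_sylow_of_normal M P₁ (hPM P₁)
      rw [h22] at h1
      have hlt : Nat.card M < Nat.card G := by
        rcases (Subgroup.card_le_card_group M).lt_or_eq with h | h
        · exact h
        · exact absurd (Subgroup.card_eq_iff_eq_top M |>.1 h) hMtop
      exact IH ↥M hlt h1
    obtain ⟨P₀⟩ : Nonempty (Sylow 3 G) := inferInstance
    by_cases h : 3 < Nat.card (P₀ : Subgroup G)
    · apply case_nine h22 hf hnorm
      intro P
      rw [card_eq_of_sylow P P₀]
      exact h
    · obtain ⟨k, hk⟩ := P₀.isPGroup'.exists_card_eq
      have hk1 : k ≤ 1 := by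
        by_contra hk2
        push Not at hk2
        have : 3 ^ 2 ≤ 3 ^ k := Nat.pow_le_pow_right (by norm_num) hk2
        omega
      rcases Nat.eq_zero_or_pos k with h0 | h0
      · -- all Sylow subgroups are trivial
        rw [h0, pow_zero] at hk
        have hbot : ∀ P : Sylow 3 G, (P : Subgroup G) = ⊥ := by
          intro P
          apply Subgroup.card_eq_one.1
          rw [card_eq_of_sylow P P₀, hk]
        have hsub : Subsingleton (Sylow 3 G) :=
          ⟨fun P Q => Sylow.ext (by rw [hbot P, hbot Q])⟩
        have h1 : Nat.card (Sylow 3 G) = 1 := Nat.card_eq_one_iff_unique.2 ⟨hsub, ⟨P₀⟩⟩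
        omega
      · have hk' : k = 1 := by omega
        rw [hk', pow_one] at hk
        apply case_three h22 hf hnorm
        intro P
        rw [card_eq_of_sylow P P₀, hk]

theorem main (G : Type u) [Group G] [Finite G] : Nat.card (Sylow 3 G) ≠ 22 :=
  main_aux _ G rfl

end Cfsg.Agent.Helper19.SylTT
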