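import Mathlib

/-!
# S2407 piece FF3 (helper19): the trace of a cubic extension of finite fields is onto

`|K| = q³`, `v ^ q = v`  ⟹  `v = z + z ^ q + z ^ (q²)` for some `z`.  Same proof as helper1's `trace2_surj`:
`q` is a power of the characteristic, so `x ↦ x ^ q` is additive; `X ^ (q²) + X ^ q + X` has at most
`q² < q³` roots, so some `c` has `w = c + c ^ q + c ^ (q²) ≠ 0`; then `w ^ q = w` and `z = (v / w) c` works.
-/

set_option autoImplicit false
set_option linter.style.haveILetI false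

namespace Cfsg.Agent.Helper11.TG

/-- `q` is a power of the characteristic -/
theorem ff3_exists_pow {K : Type*} [Field K] [Fintype K] {q : ℕ} (hK : Fintype.card K = q ^ 3) :
    ∃ p m : ℕ, p.Prime ∧ CharP K p ∧ q = p ^ m := by
  haveI hc : CharP K (ringChar K) := ringChar.charP K
  obtain ⟨n, hp, hn⟩ := FiniteField.card K (ringChar K)
  have hdvd : q ∣ ringChar K ^ (n : ℕ) := by
    rw [← hn, hK]
    exact dvd_pow_self q (by norm_num)
  obtain ⟨m, -, hm⟩ := (Nat.dvd_prime_pow hp).1 hdvd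
  exact ⟨ringChar K, m, hp, hc, hm⟩

/-- `x ↦ x ^ q` is additive -/
theorem ff3_add_pow {K : Type*} [Field K] [Fintype K] {q : ℕ} (hK : Fintype.card K = q ^ 3) (x y : K) :
    (x + y) ^ q = x ^ q + y ^ q := by
  obtain ⟨p, m, hp, hc, hm⟩ := ff3_exists_pow hK
  haveI := hc
  haveI : Fact p.Prime := ⟨hp⟩
  rw [hm]
  exact add_pow_char_pow x y p m

/-- `x ^ (q³) = x` -/
theorem ff3_pow_card {K : Type*} [Field K] [Fintype K] {q : ℕ} (hK : Fintype.card K = q ^ 3) (x : K) :
    ((x ^ q) ^ q) ^ q = x := by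
  have h1 : ((x ^ q) ^ q) ^ q = x ^ (q ^ 3) := by
    rw [← pow_mul, ← pow_mul]; ring_nf
  rw [h1, ← hK]
  exact FiniteField.pow_card x

/-- some element is not a root of `X ^ (q²) + X ^ q + X` -/
theorem ff3_exists_ne {K : Type*} [Field K] [Fintype K] {q : ℕ} (hq : 1 < q)
    (hK : Fintype.card K = q ^ 3) : ∃ c : K, c + c ^ q + c ^ (q ^ 2) ≠ 0 := by
  classical
  by_contra hcon
  push Not at hcon
  have hq2 : q < q ^ 2 := by nlinarith
  have hdeg : (Polynomial.X ^ (q ^ 2) + (Polynomial.X ^ q + Polynomial.X) : Polynomial K).natDegree = q ^ 2 := by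
    apply Polynomial.natDegree_eq_of_degree_eq_some
    rw [Polynomial.degree_add_eq_left_of_degree_lt]
    · exact Polynomial.degree_X_pow (q ^ 2)
    · rw [Polynomial.degree_X_pow]
      refine lt_of_le_of_lt (Polynomial.degree_add_le _ _) ?_
      rw [Polynomial.degree_X_pow, Polynomial.degree_X, max_lt_iff]
      constructor
      · exact_mod_cast hq2
      · have : 1 < q ^ 2 := by nlinarith
        exact_mod_cast this
  have h0 : (Polynomial.X ^ (q ^ 2) + (Polynomial.X ^ q + Polynomial.X) : Polynomial K) = 0 := by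
    apply Polynomial.eq_zero_of_natDegree_lt_card_of_eval_eq_zero' _ (Finset.univ : Finset K)
    · intro c _
      rw [Polynomial.eval_add, Polynomial.eval_add, Polynomial.eval_pow, Polynomial.eval_pow,
        Polynomial.eval_X]
      have := hcon c
      rw [← this]; ring
    · rw [hdeg, Finset.card_univ, hK]
      nlinarith
  rw [h0, Polynomial.natDegree_zero] at hdeg
  have : 0 < q ^ 2 := by positivity
  omega

theorem trace3_surj {K : Type*} [Field K] [Fintype K] {q : ℕ} (hq : 1 < q)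
    (hK : Fintype.card K = q ^ 3) (v : K) (hv : v ^ q = v) :
    ∃ z : K, z + z ^ q + z ^ (q ^ 2) = v := by
  obtain ⟨c, hcne⟩ := ff3_exists_ne hq hK
  have hsq : ∀ x : K, x ^ (q ^ 2) = (x ^ q) ^ q := by
    intro x; rw [← pow_mul, pow_two]
  have hw : (c + c ^ q + c ^ (q ^ 2)) ^ q = c + c ^ q + c ^ (q ^ 2) := by
    rw [ff3_add_pow hK, ff3_add_pow hK, hsq, ff3_pow_card hK]
    ring
  set w := c + c ^ q + c ^ (q ^ 2) with hwdef
  have ht : (v / w) ^ q = v / w := by rw [div_pow, hv, hw]
  refine ⟨v / w * c, ?_⟩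
  have h1 : (v / w * c) ^ q = v / w * c ^ q := by rw [mul_pow, ht]
  have h2 : (v / w * c) ^ (q ^ 2) = v / w * c ^ (q ^ 2) := by
    rw [hsq, h1, mul_pow, ht, ← hsq]
  rw [h1, h2]
  have : v / w * c + v / w * c ^ q + v / w * c ^ (q ^ 2) = v / w * w := by rw [hwdef]; ring
  rw [this, div_mul_cancel₀ v hcne]

end Cfsg.Agent.Helper11.TG
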