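import Mathlib
import Cfsg.Agent.Lib.Helper19.TGFF3

/-!
# S2407 piece D4PAR (helper19): the parameters of the torus element (pure finite fields)

`k` a generator of `Kˣ`, `|K| = q³`, `a = k^(1 + q(q+1)/2)`, `b = k^(1+q+q²)`: `b^q = b`, `a² = k b`, and
`μ = a⁻¹ a^q a^(q²) ≠ 1` (otherwise `k` would be fixed by `t ↦ t^q`, hence all of `K`).
-/

set_option autoImplicit false
set_option linter.style.haveILetI false

namespace Cfsg.Agent.Helper11.TG

/-- some element of `K` is moved by `t ↦ t ^ q` -/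
theorem d4par_exists_not_fixed {K : Type*} [Field K] [Fintype K] {q : ℕ} (hq : 1 < q)
    (hK : Fintype.card K = q ^ 3) : ∃ x : K, x ^ q ≠ x := by
  classical
  by_contra hcon
  push Not at hcon
  have hdeg : (Polynomial.X ^ q - Polynomial.X : Polynomial K).natDegree = q :=
    FiniteField.X_pow_card_sub_X_natDegree_eq K hq
  have h0 : (Polynomial.X ^ q - Polynomial.X : Polynomial K) = 0 := by
    apply Polynomial.eq_zero_of_natDegree_lt_card_of_eval_eq_zero' _ (Finset.univ : Finset K)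
    · intro c _
      rw [Polynomial.eval_sub, Polynomial.eval_pow, Polynomial.eval_X, hcon c, sub_self]
    · rw [hdeg, Finset.card_univ, hK]
      calc q = q ^ 1 := (pow_one q).symm
        _ < q ^ 3 := Nat.pow_lt_pow_right hq (by norm_num)
  rw [h0, Polynomial.natDegree_zero] at hdeg
  omega

theorem d4_par {K : Type*} [Field K] [Fintype K] {q : ℕ} (hq : 1 < q)
    (hK : Fintype.card K = q ^ 3) (k : K) (hk0 : k ≠ 0)
    (hgen : ∀ v : K, v ≠ 0 → ∃ m : ℕ, v = k ^ m) :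
    ∃ a b : K, a ≠ 0 ∧ b ≠ 0 ∧ b ^ q = b ∧ a ^ 2 * b⁻¹ = k ∧
      a⁻¹ * a ^ q * (a ^ q) ^ q ≠ 1 := by
  obtain ⟨x0, hx0⟩ := d4par_exists_not_fixed hq hK
  have hkq3 : k ^ (q ^ 3) = k := by rw [← hK]; exact FiniteField.pow_card k
  set e := q * (q + 1) / 2 with he
  have h2e : 2 * e = q * (q + 1) := Nat.two_mul_div_two_of_even (Nat.even_mul_succ_self q)
  have hb0 : k ^ (1 + q + q ^ 2) ≠ 0 := pow_ne_zero _ hk0
  have ha0 : k ^ (1 + e) ≠ 0 := pow_ne_zero _ hk0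
  have hbq : (k ^ (1 + q + q ^ 2)) ^ q = k ^ (1 + q + q ^ 2) := by
    rw [← pow_mul]
    have h1 : (1 + q + q ^ 2) * q = q + q ^ 2 + q ^ 3 := by ring
    rw [h1, pow_add, hkq3]
    have h2 : 1 + q + q ^ 2 = (q + q ^ 2) + 1 := by ring
    rw [h2, pow_add (k) (q + q ^ 2) 1, pow_one]
  have hab : (k ^ (1 + e)) ^ 2 * (k ^ (1 + q + q ^ 2))⁻¹ = k := by
    rw [← pow_mul]
    have h1 : (1 + e) * 2 = 1 + (1 + q + q ^ 2) := by
      rw [add_mul, one_mul, mul_comm e 2, h2e]; ring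
    rw [h1, pow_add, pow_one, mul_assoc, mul_inv_cancel₀ hb0, mul_one]
  refine ⟨k ^ (1 + e), k ^ (1 + q + q ^ 2), ha0, hb0, hbq, hab, ?_⟩
  intro hμ
  set a := k ^ (1 + e) with hadef
  set b := k ^ (1 + q + q ^ 2) with hbdef
  -- `a ^ q * (a ^ q) ^ q = a`
  have h1 : a ^ q * (a ^ q) ^ q = a := by
    have : a * (a⁻¹ * a ^ q * (a ^ q) ^ q) = a * 1 := by rw [hμ]
    rw [mul_one, ← mul_assoc, ← mul_assoc, mul_inv_cancel₀ ha0, one_mul] at this
    exact this
  have h2 : a * a ^ q * (a ^ q) ^ q = a ^ 2 := by rw [mul_assoc, h1, pow_two]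
  have h3 : (a ^ 2) ^ q = a ^ 2 := by
    rw [← h2, mul_pow, mul_pow, ff3_pow_card hK a]
    ring
  have hkq : k ^ q = k := by
    conv_lhs => rw [← hab]
    rw [mul_pow, inv_pow, h3, hbq, hab]
  apply hx0
  by_cases hx : x0 = 0
  · rw [hx, zero_pow (by omega)]
  · obtain ⟨m, hm⟩ := hgen x0 hx
    rw [hm, ← pow_mul, mul_comm, pow_mul, hkq]

end Cfsg.Agent.Helper11.TG
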