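import Mathlib
import Cfsg.Agent.Lib.Helper8.TIG5Defs

/-!
S1786 Part G, step G5, piece TI-G5-4: `[D, E] ≤ A`.
-/

set_option autoImplicit false
set_option linter.unusedSectionVars false
set_option linter.unusedVariables false

namespace Cfsg.Agent.Helper26.TI

variable {G : Type*} [Group G] {V A P PA U : Subgroup G}

/-- TI-G5-4.  `[D, E] ≤ A`. -/
theorem g5_comm_D_E (h : G5Data V A P PA U) (hI : ∀ x, x ∈ P → x ∈ PA → x ∈ A) :
    ∀ d ∈ g5D A P, ∀ e ∈ g5E V PA, cm d e ∈ A := by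
  intro d hd e he
  obtain ⟨hdP, hdA⟩ := mem_g5D.1 hd
  obtain ⟨hePA, heV⟩ := mem_g5E.1 he
  apply hI
  · have h1 : e * d⁻¹ * e⁻¹ ∈ P :=
      h.norm_P e (fun v hv => (heV v hv).symm) d⁻¹ (P.inv_mem hdP)
    have h2 : cm d e = d * (e * d⁻¹ * e⁻¹) := by
      unfold cm
      group
    rw [h2]
    exact P.mul_mem hdP h1
  · have h1 : d * e * d⁻¹ ∈ PA :=
      h.norm_PA d (fun a ha => (hdA a ha).symm) e hePA
    exact PA.mul_mem h1 (PA.inv_mem hePA)

end Cfsg.Agent.Helper26.TI
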