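import Mathlib
import Cfsg.Prelude.Def_Local
import Cfsg.Prelude.Def_Transfer
import Cfsg.Agent.Lib.Helper26.TIDefs
import Cfsg.Agent.Lib.Helper26.TIDefs2
import Cfsg.Agent.Lib.Helper26.TIDefs3
import Cfsg.Agent.Lib.Helper1.TICALC
import Cfsg.Agent.Lib.Helper19.TILEMA

/-!
S1786 farm-out (helper26), piece TI-LOC, core version: the LOC pieces enter as hypotheses.
-/

set_option autoImplicit false
set_option linter.unusedSectionVars false
set_option linter.unusedVariables false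

namespace Cfsg.Agent.Helper26.TI

variable {G : Type*} [Group G]

section LocPieces

theorem tiloc_base (V : Subgroup G) (hV : Cfsg.IsElementaryAbelian 2 V)
    (hti : ∀ x : G, cj x V = V ∨ cj x V ⊓ V = ⊥) : Base V := by
  obtain ⟨hc, hs⟩ := hV
  refine ⟨?_, ?_, hti⟩
  · intro v hv w hw
    have h1 := hc.is_comm.comm (⟨v, hv⟩ : ↥V) ⟨w, hw⟩
    exact congrArg Subtype.val h1
  · intro v hv
    rw [← pow_two]
    exact hs v hv

/-- TI-LOC (assembly), core. -/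
theorem tiloc_loc_core (V : Subgroup G) (hV : Cfsg.IsElementaryAbelian 2 V)
    (hti : ∀ x : G, cj x V = V ∨ cj x V ⊓ V = ⊥)
    (hA : V ≤ Ps V ∧ IsPGroup 2 (Ps V) ∧ (∀ x ∈ Ps V, ∀ v ∈ V, x * v = v * x) ∧
      (∀ m : G, cj m V = V → cj m (Qs V) = Qs V) ∧
      (∀ m : G, cj m V = V → cj m (Ps V) = Ps V))
    (hZ : ∀ x ∈ Ps V, (∀ y ∈ Ps V, x * y = y * x) → x ∈ V)
    (hC2 : (∀ x ∈ Ps V, ∀ y ∈ Ps V, x * y * x⁻¹ * y⁻¹ ∈ V) ∧
      (∀ x ∈ Ps V, x * x ∈ V))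
    (hS : ∀ c : G, (∀ v ∈ V, c * v = v * c) → (∀ x ∈ Ps V, c * x = x * c) → c ∈ V)
    (hN : ∀ x : G, cj x V ≠ V → cj x V ≤ Ps V →
      ∃ m : G, cj m V = V ∧ ∃ b ∈ cj x V, ∃ c ∈ cj m (cj x V), b * c ≠ c * b) :
    Loc V (Ps V) :=
  { base := tiloc_base V hV hti
    V_le := hA.1
    pgrp := hA.2.1
    cent := hA.2.2.1
    norm := hA.2.2.2.2
    center := hZ
    comm := hC2.1
    sq := hC2.2
    self := hS
    nonab := hN }

theorem tiloc_Qs_le_normalizer (V : Subgroup G) : Qs V ≤ Subgroup.normalizer (V : Set G) := by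
  rintro _ ⟨z, -, rfl⟩
  exact z.2

theorem tiloc_cj_eq_of_mem_normalizer (V : Subgroup G) {b : G}
    (hb : b ∈ Subgroup.normalizer (V : Set G)) : cj b V = V := by
  ext z
  rw [mem_cj']
  have h1 : b⁻¹ ∈ Subgroup.normalizer (V : Set G) := Subgroup.inv_mem _ hb
  have h2 := (Subgroup.mem_normalizer_iff.1 h1) z
  rw [inv_inv] at h2
  exact h2.symm

/-- TI-CFG0: the starting configuration (uses Lemma A to get `cj g V ≤ C(V)`). -/
theorem cfg_of_hyp [Finite G] (V : Subgroup G) (hL : Loc V (Ps V)) (g : G) (hg : cj g V ≠ V)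
    (hgQ : cj g V ≤ Qs V) : Cfg V (Ps V) (cj g V) (cj g (Ps V)) := by
  refine ⟨hL, hL.conj g, ⟨g, rfl, rfl⟩, hg, ?_⟩
  have hne : cj g V ≠ cj 1 V := by rw [cj_one]; exact hg
  have hn : ∀ b ∈ cj g V, cj b (cj 1 V) = cj 1 V := by
    intro b hb
    rw [cj_one]
    exact tiloc_cj_eq_of_mem_normalizer V (tiloc_Qs_le_normalizer V (hgQ hb))
  have hcomm := hL.base.comm_of_normalizes hne hn
  intro b hb
  refine ⟨hgQ hb, ?_⟩
  show b ∈ Subgroup.centralizer (V : Set G)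
  rw [Subgroup.mem_centralizer_iff]
  intro v hv
  have hv' : v ∈ cj 1 V := by rw [cj_one]; exact hv
  exact (hcomm b hb v hv').symm

end LocPieces

end Cfsg.Agent.Helper26.TI
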