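import Mathlib
import Cfsg.Agent.Lib.Helper27.Tw6Defs
import Cfsg.Agent.Lib.Helper13.InvNAsmA

/-!
# S2182 piece FORMT (helper19): the form `t = a h n_w` of an involution of the twisted group,
after conjugation by an element of `U ∩ G₁`.
-/

set_option autoImplicit false
set_option linter.unusedSectionVars false
set_option linter.unusedVariables false

namespace Cfsg.Agent.Helper27.Tw6

open Cfsg Cfsg.Lie Cfsg.Agent.Lead.Chev Cfsg.Agent.Lead.Tw Cfsg.Agent.Helper13.InvN Cfsg.Agent.Helper6.ChevL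

variable {K : Type*} [Field K] [Fintype K] [CharP K 2] {D : ChevalleyDatum} {hF : ChevFacts D K}
  {T : Twist D K hF.xadd} {π' : ℕ → ℕ} {S l₀ : List (List ℕ)} {f : K ≃+* K} (hX : Ctx hF T π' S l₀ f)
include hX

/-- PIECE FORMT (1): ambient; the tail of helper19's `good_form_core` -/
theorem good_of_borel (t : GL D.Idx K) (htt : t * t = 1) (w : List ℕ) (hw : WOK D w) (hinv : Invol D w)
    (hrev : ∀ r < D.nroots, reflWord D w.reverse r = reflWord D w r)
    (b₁ : GL D.Idx K) (hb₁ : b₁ ∈ D.borelSubgroup K) (e : t = b₁ * nWordGL D hF.xadd w) :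
    ∃ a h', Good hF t w a h' := by
  have hS := hX.corS
  have hI := hX.corI
  have hnn := form_sq_mem_diagonal hF hS hI w hw hinv hrev
  obtain ⟨v₁, hv₁, h₁, hh₁, eb₁⟩ := (hF.mem_borel_iff _).1 hb₁
  obtain ⟨b₂, hb₂, a, ha, e2⟩ := form_mul_posUnipotent hF hS hI w hw v₁ hv₁
  have haN := hF.conj_negPartN_mem _ a (hF.negPart_le_negPartN w hw ha)
  have hh₁' : nWordGL D hF.xadd w * h₁ * (nWordGL D hF.xadd w)⁻¹ ∈ D.diagonalSubgroup K :=
    nWordGL_conj_mem_diagonal D hF.xadd (etaOf D) hF.nsimple w hw h₁ hh₁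
  generalize hn : nWordGL D hF.xadd w = n at *
  refine ⟨v₁, h₁, ?_, hv₁, hh₁, ?_⟩
  · rw [e, eb₁, hn]
  · rw [hn]
    rw [e, eb₁] at htt
    have haB : n * a * n⁻¹ ∈ D.borelSubgroup K := by
      have e4 : h₁⁻¹ * v₁⁻¹ = n * v₁ * h₁ * n := by
        have h5 : (v₁ * h₁)⁻¹ = n * (v₁ * h₁ * n) := by
          rw [inv_eq_iff_mul_eq_one]
          rw [← htt]; group
        rw [← mul_inv_rev, h5]; group
      have e3 : n * a * n⁻¹ = b₂⁻¹ * (h₁⁻¹ * v₁⁻¹) * (n * n)⁻¹ * (n * h₁ * n⁻¹)⁻¹ := by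
        rw [e4]
        have : n * v₁ * h₁ * n = b₂ * n * a * h₁ * n := by rw [← e2]
        rw [this]; group
      rw [e3]
      exact mul_mem (mul_mem (mul_mem (inv_mem (posUnipotent_le_borel D hb₂))
        (mul_mem (inv_mem (diagonal_le_borel D hh₁)) (inv_mem (posUnipotent_le_borel D hv₁))))
        (inv_mem (diagonal_le_borel D hnn))) (inv_mem (diagonal_le_borel D hh₁'))
    have ha1 : n * a * n⁻¹ = 1 := by
      have h6 : n * a * n⁻¹ ∈ D.borelSubgroup K ⊓ D.negUnipotent K := Subgroup.mem_inf.2 ⟨haB, haN⟩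
      rw [hF.borel_inf_negUnipotent, Subgroup.mem_bot] at h6
      exact h6
    have ha1' : a = 1 := by
      have : a = n⁻¹ * (n * a * n⁻¹) * n := by group
      rw [this, ha1]; group
    rw [ha1', mul_one] at e2
    have e5 : n⁻¹ * v₁ * n = (n * n)⁻¹ * b₂ * ((n * n)⁻¹)⁻¹ := by
      have : b₂ = n * v₁ * n⁻¹ := by rw [e2]; group
      rw [this]; group
    rw [e5]
    exact form_diag_conj hF hS hI _ _ (inv_mem hnn) hb₂

/-- PIECE FORMT (2): the form `t = a h n_w` after conjugation by an element of `U ∩ G₁` -/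
theorem good_formT (g : GL D.Idx K) (hg : g ∈ orthGroup hF T S) (hgg : g * g = 1) (w : List ℕ) (hw : WOK D w)
    (h : InCell hF g w) :
    ∃ u ∈ D.posUnipotent K, u ∈ orthGroup hF T S ∧ ∃ a h', Good hF (u * g * u⁻¹) w a h' := by
  have hS := hX.corS
  have hI := hX.corI
  obtain ⟨hinv, hrev⟩ := invol_of_sq hF hS hI g hgg w hw h
  obtain ⟨u₁, hu₁, n', hn', u, hu, hu₁G, hn'G, huG, e⟩ := hX.twg.exists_decomp hS g hg
  obtain ⟨h₀, hh₀, w', hw', -, en'⟩ := hX.twg.exists_word n' hn' hn'G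
  have hcell' : InCell hF g w' := by
    refine ⟨u₁ * h₀, mul_mem (posUnipotent_le_borel D hu₁) (diagonal_le_borel D hh₀), u,
      posUnipotent_le_borel D hu, ?_⟩
    rw [e, en']
    group
  have hsame := invol_cell_unique hF hS hI g w w' hw hw' h hcell'
  have hk := hF.nWordGL_inv_mul_mem_diagonal w w' hw hw' hsame
  have hk' : nWordGL D hF.xadd w * ((nWordGL D hF.xadd w)⁻¹ * nWordGL D hF.xadd w') *
      (nWordGL D hF.xadd w)⁻¹ ∈ D.diagonalSubgroup K :=
    nWordGL_conj_mem_diagonal D hF.xadd (etaOf D) hF.nsimple w hw _ hk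
  have et : u * g * u⁻¹ = (u * u₁ * h₀ * (nWordGL D hF.xadd w * ((nWordGL D hF.xadd w)⁻¹ *
      nWordGL D hF.xadd w') * (nWordGL D hF.xadd w)⁻¹)) * nWordGL D hF.xadd w := by
    rw [e, en']
    group
  have hb₁ : u * u₁ * h₀ * (nWordGL D hF.xadd w * ((nWordGL D hF.xadd w)⁻¹ *
      nWordGL D hF.xadd w') * (nWordGL D hF.xadd w)⁻¹) ∈ D.borelSubgroup K :=
    mul_mem (mul_mem (mul_mem (posUnipotent_le_borel D hu) (posUnipotent_le_borel D hu₁))
      (diagonal_le_borel D hh₀)) (diagonal_le_borel D hk')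
  have htt : (u * g * u⁻¹) * (u * g * u⁻¹) = 1 := by
    have : (u * g * u⁻¹) * (u * g * u⁻¹) = u * (g * g) * u⁻¹ := by group
    rw [this, hgg]; group
  exact ⟨u, hu, huG, good_of_borel hX (u * g * u⁻¹) htt w hw hinv hrev _ hb₁ et⟩

end Cfsg.Agent.Helper27.Tw6
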