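import Mathlib
import Cfsg.Agent.Lib.Helper6.UniDefs

/-!
S2314 farm-out (helper6), piece UNI-DESC: in the restricted `(B, N)`-pair of a parabolic subgroup, an element
of `N_A` with all left descents has all right descents.
-/

set_option autoImplicit false
set_option linter.unusedSectionVars false
set_option linter.unusedVariables false

namespace Cfsg.Agent.Helper6.Uni

open Cfsg Cfsg.Agent.Helper2.WordLen Cfsg.Agent.Helper2.BN Cfsg.Agent.Helper17.BNCox

variable {G : Type*} [Group G] (P : Cfsg.BNPair G)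

/-- PIECE UNI-DESC: an element of `N_A` all of whose left multiples by generators in `A` stay in the same
double coset represents the element of `W_A` with all right descents (in the restricted pair). -/
theorem restr_allDescR [Finite G] (A : Set P.S) (Q : Cfsg.BNPair ↥(par P A)) (hQ : IsRestr P A Q)
    (n : G) (hn : n ∈ NA P A)
    (hdesc : ∀ s ∈ A, ∃ b ∈ P.B, ∃ b' ∈ P.B, ∃ b'' ∈ P.B, (s : G) * b * n = b' * n * b'')
    (n' : Q.N) (hn' : ((n' : ↥(par P A)) : G) = n) (t : Q.S) :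
    ℓ Q (π Q n' * σ Q t) < ℓ Q (π Q n') := by
  have hfin : Finite (W Q) := inferInstance
  have hL : ∀ t' : Q.S, ℓ Q (σ Q t' * π Q n') < ℓ Q (π Q n') := by
    intro t'
    rw [← not_Up_iff_lt]
    apply not_Up_of_exists
    have ht' : (t' : ↥(par P A)) ∈ {x : ↥(par P A) | (x : G) ∈ Subtype.val '' A} := by
      have h0 : (t' : ↥(par P A)) ∈ Q.S := t'.2
      have h1 := hQ.hS
      exact h1 ▸ h0
    obtain ⟨s, hsA, hs⟩ := ht'
    obtain ⟨b, hb, b', hb', b'', hb'', e⟩ := hdesc s hsA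
    have hmemB : ∀ x : G, ∀ hx : x ∈ P.B, (⟨x, B_le_par P A hx⟩ : ↥(par P A)) ∈ Q.B := by
      intro x hx
      have h1 := hQ.hB
      have h2 : (⟨x, B_le_par P A hx⟩ : ↥(par P A)) ∈ P.B.subgroupOf (par P A) := hx
      exact h1 ▸ h2
    refine ⟨⟨b, B_le_par P A hb⟩ * (n' : ↥(par P A)), ?_, ?_⟩
    · rw [mem_C_iff]
      exact ⟨⟨b, B_le_par P A hb⟩, hmemB b hb, 1, one_mem _, by rw [mul_one]⟩
    · rw [mem_C_iff]
      refine ⟨⟨b', B_le_par P A hb'⟩, hmemB b' hb', ⟨b'', B_le_par P A hb''⟩, hmemB b'' hb'', ?_⟩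
      apply Subtype.ext
      show ((t' : ↥(par P A)) : G) * (b * ((n' : ↥(par P A)) : G)) = b' * ((n' : ↥(par P A)) : G) * b''
      rw [hn', ← hs, ← mul_assoc]
      exact e
  obtain ⟨w₀, hL₀, hR₀, huL, huR⟩ := exists_longest Q
  rw [huL _ hL]
  exact hR₀ t

end Cfsg.Agent.Helper6.Uni
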