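import Mathlib

/-!
S2314 farm-out (helper6), piece UNI-MOEB: Moebius inversion over the subsets of a finite set.
-/

set_option autoImplicit false
set_option linter.unusedSectionVars false
set_option linter.unusedVariables false

namespace Cfsg.Agent.Helper6.Uni

/-- the alternating sum over the interval `[L, A]` of the subset lattice -/
theorem uni_moeb_interval {ι : Type*} [DecidableEq ι] (L A : Finset ι) (hLA : L ⊆ A) :
    ∑ K ∈ A.powerset.filter (fun K => L ⊆ K), (-1 : ℂ) ^ K.card =
      if L = A then (-1 : ℂ) ^ A.card else 0 := by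
  have h1 : ∑ K ∈ A.powerset.filter (fun K => L ⊆ K), (-1 : ℂ) ^ K.card =
      ∑ M ∈ (A \ L).powerset, (-1 : ℂ) ^ L.card * (-1 : ℂ) ^ M.card := by
    symm
    refine Finset.sum_bij' (fun M _ => L ∪ M) (fun K _ => K \ L) ?_ ?_ ?_ ?_ ?_
    · intro M hM
      rw [Finset.mem_powerset] at hM
      rw [Finset.mem_filter, Finset.mem_powerset]
      refine ⟨Finset.union_subset hLA (hM.trans Finset.sdiff_subset), Finset.subset_union_left⟩
    · intro K hK
      rw [Finset.mem_filter, Finset.mem_powerset] at hK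
      rw [Finset.mem_powerset]
      exact Finset.sdiff_subset_sdiff hK.1 (le_refl L)
    · intro M hM
      rw [Finset.mem_powerset] at hM
      have hd : Disjoint M L := by
        rw [Finset.disjoint_left]
        intro x hx hxL
        have := hM hx
        rw [Finset.mem_sdiff] at this
        exact this.2 hxL
      rw [Finset.union_sdiff_left]
      exact Finset.sdiff_eq_self_of_disjoint hd
    · intro K hK
      rw [Finset.mem_filter, Finset.mem_powerset] at hK
      exact Finset.union_sdiff_of_subset hK.2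
    · intro M hM
      rw [Finset.mem_powerset] at hM
      have hd : Disjoint L M := by
        rw [Finset.disjoint_left]
        intro x hxL hx
        have := hM hx
        rw [Finset.mem_sdiff] at this
        exact this.2 hxL
      rw [Finset.card_union_of_disjoint hd, pow_add]
  rw [h1, ← Finset.mul_sum]
  have h2 : ∑ M ∈ (A \ L).powerset, (-1 : ℂ) ^ M.card = if A \ L = ∅ then 1 else 0 := by
    have := Finset.sum_powerset_neg_one_pow_card (x := A \ L)
    have h3 : ((∑ M ∈ (A \ L).powerset, (-1 : ℤ) ^ M.card : ℤ) : ℂ) =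
        ((if A \ L = ∅ then (1 : ℤ) else 0 : ℤ) : ℂ) := by rw [this]
    push_cast at h3
    rw [h3]
  rw [h2]
  by_cases h : L = A
  · subst h
    simp
  · have : A \ L ≠ ∅ := by
      intro h0
      rw [Finset.sdiff_eq_empty_iff_subset] at h0
      exact h (Finset.Subset.antisymm hLA h0)
    rw [if_neg this, if_neg h, mul_zero]

/-- PIECE UNI-MOEB (pure Mathlib, finset algebra): Moebius inversion over the subsets. -/
theorem moebius_sum {ι : Type*} [DecidableEq ι] (f : Finset ι → Finset ι → ℂ) (A : Finset ι)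
    (hmul : ∀ L K : Finset ι, L ⊆ K → K ⊆ A → f L A = f K A * f L K) (hone : f A A = 1) :
    ∑ K ∈ A.powerset, (-1 : ℂ) ^ K.card * f K A *
      (∑ L ∈ K.powerset, (-1 : ℂ) ^ L.card * f L K) = 1 := by
  have h1 : ∑ K ∈ A.powerset, (-1 : ℂ) ^ K.card * f K A *
      (∑ L ∈ K.powerset, (-1 : ℂ) ^ L.card * f L K) =
      ∑ K ∈ A.powerset, ∑ L ∈ K.powerset, (-1 : ℂ) ^ K.card * ((-1 : ℂ) ^ L.card * f L A) := by
    refine Finset.sum_congr rfl (fun K hK => ?_)
    rw [Finset.mem_powerset] at hK
    rw [Finset.mul_sum]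
    refine Finset.sum_congr rfl (fun L hL => ?_)
    rw [Finset.mem_powerset] at hL
    rw [hmul L K hL hK]
    ring
  rw [h1]
  have h2 : ∑ K ∈ A.powerset, ∑ L ∈ K.powerset, (-1 : ℂ) ^ K.card * ((-1 : ℂ) ^ L.card * f L A) =
      ∑ L ∈ A.powerset, ∑ K ∈ A.powerset.filter (fun K => L ⊆ K),
        (-1 : ℂ) ^ K.card * ((-1 : ℂ) ^ L.card * f L A) := by
    refine Finset.sum_comm' ?_
    intro K L
    simp only [Finset.mem_powerset, Finset.mem_filter]
    constructor
    · rintro ⟨hK, hL⟩
      exact ⟨⟨hK, hL⟩, hL.trans hK⟩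
    · rintro ⟨⟨hK, hL⟩, _⟩
      exact ⟨hK, hL⟩
  rw [h2]
  have h3 : ∀ L ∈ A.powerset, ∑ K ∈ A.powerset.filter (fun K => L ⊆ K),
        (-1 : ℂ) ^ K.card * ((-1 : ℂ) ^ L.card * f L A) =
      if L = A then 1 else 0 := by
    intro L hL
    rw [Finset.mem_powerset] at hL
    rw [← Finset.sum_mul, uni_moeb_interval L A hL]
    by_cases h : L = A
    · subst h
      rw [if_pos rfl, if_pos rfl, hone, mul_one, ← mul_pow]
      norm_num
    · rw [if_neg h, if_neg h, zero_mul]
  rw [Finset.sum_congr rfl h3, Finset.sum_ite_eq' A.powerset A]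
  rw [if_pos (Finset.mem_powerset_self A)]

end Cfsg.Agent.Helper6.Uni
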