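import Mathlib
import Cfsg.Agent.Lib.Helper20.W3Defs

/-!
# S3300 piece W3-ABBOUND (helper19): an abelian subgroup `A ∋ z` of an extraspecial `2`-group `E`
satisfies `|A|^2 ≤ 2 |E|` (double counting of the commuting pairs of `A × E`).
-/

set_option autoImplicit false
set_option linter.unusedSectionVars false
set_option linter.unusedVariables false
set_option linter.style.haveILetI false

namespace Cfsg.Agent.Helper20.W3

open Cfsg.Agent.Helper8.XS Cfsg.Agent.Helper8.AB

/-- the product of two elements "anticommuting" with `e` commutes with `e` -/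
theorem w3abbound_mul {G : Type*} [Group G] {u e a b : G} (huu : u * u = 1) (hau : a * u = u * a)
    (ha : a * e = u * (e * a)) (hb : b * e = u * (e * b)) : a * b * e = e * (a * b) := by
  calc a * b * e = a * (b * e) := by rw [mul_assoc]
    _ = a * (u * (e * b)) := by rw [hb]
    _ = (a * u) * (e * b) := by rw [mul_assoc]
    _ = (u * a) * (e * b) := by rw [hau]
    _ = u * ((a * e) * b) := by simp only [mul_assoc]
    _ = u * ((u * (e * a)) * b) := by rw [ha]
    _ = (u * u) * (e * (a * b)) := by simp only [mul_assoc]
    _ = e * (a * b) := by rw [huu, one_mul]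

/-- the double count -/
theorem w3abbound_count {G : Type*} [Group G] [DecidableEq G] (Af Ef : Finset G) (z : G)
    (hsub : Af ⊆ Ef) (h1 : (1 : G) ∈ Af) (hz : z ∈ Af) (hz1 : z ≠ 1)
    (U2 : ∀ a ∈ Af, a ≠ 1 → a ≠ z → 2 * (Ef.filter (fun e => a * e = e * a)).card ≤ Ef.card)
    (L1 : ∀ e ∈ Ef, Af.card ≤ 2 * (Af.filter (fun a => a * e = e * a)).card)
    (L2 : ∀ e ∈ Af, (Af.filter (fun a => a * e = e * a)).card = Af.card) :
    Af.card * Af.card ≤ 2 * Ef.card := by
  have hswap : ∑ a ∈ Af, (Ef.filter (fun e => a * e = e * a)).card =
      ∑ e ∈ Ef, (Af.filter (fun a => a * e = e * a)).card := by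
    simp only [Finset.card_filter]
    exact Finset.sum_comm
  -- the upper bound
  have hup : ∑ a ∈ Af, 2 * (Ef.filter (fun e => a * e = e * a)).card ≤
      Af.card * Ef.card + 2 * Ef.card := by
    have hterm : ∀ a ∈ Af, 2 * (Ef.filter (fun e => a * e = e * a)).card ≤
        Ef.card + Ef.card * (if a = 1 ∨ a = z then 1 else 0) := by
      intro a ha
      by_cases h : a = 1 ∨ a = z
      · rw [if_pos h, mul_one]
        have := Finset.card_filter_le Ef (fun e => a * e = e * a)
        omega
      · rw [if_neg h, mul_zero, add_zero]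
        push Not at h
        exact U2 a ha h.1 h.2
    have hfil : Af.filter (fun a => a = 1 ∨ a = z) = {1, z} := by
      ext a
      simp only [Finset.mem_filter, Finset.mem_insert, Finset.mem_singleton]
      constructor
      · rintro ⟨-, h⟩; exact h
      · rintro (rfl | rfl)
        · exact ⟨h1, Or.inl rfl⟩
        · exact ⟨hz, Or.inr rfl⟩
    calc ∑ a ∈ Af, 2 * (Ef.filter (fun e => a * e = e * a)).card
        ≤ ∑ a ∈ Af, (Ef.card + Ef.card * (if a = 1 ∨ a = z then 1 else 0)) :=
          Finset.sum_le_sum hterm
      _ = Af.card * Ef.card + Ef.card * (Af.filter (fun a => a = 1 ∨ a = z)).card := by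
          rw [Finset.sum_add_distrib, Finset.sum_const, smul_eq_mul, ← Finset.mul_sum,
            Finset.card_filter]
      _ = Af.card * Ef.card + 2 * Ef.card := by
          rw [hfil, Finset.card_pair (Ne.symm hz1)]
          ring
  -- the lower bound
  have hlow : Ef.card * Af.card + Af.card * Af.card ≤
      ∑ e ∈ Ef, 2 * (Af.filter (fun a => a * e = e * a)).card := by
    have hterm : ∀ e ∈ Ef, Af.card + Af.card * (if e ∈ Af then 1 else 0) ≤
        2 * (Af.filter (fun a => a * e = e * a)).card := by
      intro e he
      by_cases h : e ∈ Af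
      · rw [if_pos h, mul_one, L2 e h]
        omega
      · rw [if_neg h, mul_zero, add_zero]
        exact L1 e he
    have hfil : Ef.filter (fun e => e ∈ Af) = Af := by
      rw [Finset.filter_mem_eq_inter]
      exact Finset.inter_eq_right.2 hsub
    calc Ef.card * Af.card + Af.card * Af.card
        = ∑ e ∈ Ef, (Af.card + Af.card * (if e ∈ Af then 1 else 0)) := by
          rw [Finset.sum_add_distrib, Finset.sum_const, smul_eq_mul, ← Finset.mul_sum,
            ← Finset.card_filter, hfil]
      _ ≤ ∑ e ∈ Ef, 2 * (Af.filter (fun a => a * e = e * a)).card := Finset.sum_le_sum hterm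
  rw [← Finset.mul_sum] at hup hlow
  rw [hswap] at hup
  nlinarith [hup, hlow]

/-- PIECE W3-ABBOUND: an abelian subgroup of an extraspecial group of order `2^(2n+1)` has order at most
`2^(n+1)` (double counting of commuting pairs). -/
theorem abelian_bound {G : Type*} [Group G] (E : Subgroup G) (z : G) (xs : XSp E z) [Finite E]
    (A : Subgroup G) (hAE : A ≤ E) (hzA : z ∈ A) (hab : ∀ x ∈ A, ∀ y ∈ A, x * y = y * x) :
    Nat.card A * Nat.card A ≤ 2 * Nat.card E := by
  classical
  haveI : Finite A := Finite.of_injective (Subgroup.inclusion hAE) (Subgroup.inclusion_injective hAE)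
  haveI : Fintype E := Fintype.ofFinite _
  haveI : Fintype A := Fintype.ofFinite _
  let Ef : Finset G := (Finset.univ : Finset ↥E).map (Function.Embedding.subtype (· ∈ E))
  let Af : Finset G := (Finset.univ : Finset ↥A).map (Function.Embedding.subtype (· ∈ A))
  have hEf : ∀ x, x ∈ Ef ↔ x ∈ E := by intro x; simp [Ef]
  have hAf : ∀ x, x ∈ Af ↔ x ∈ A := by intro x; simp [Af]
  have hEfc : Ef.card = Nat.card E := by simp [Ef, Nat.card_eq_fintype_card]
  have hAfc : Af.card = Nat.card A := by simp [Af, Nat.card_eq_fintype_card]
  rw [← hEfc, ← hAfc]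
  apply w3abbound_count Af Ef z
  · intro x hx
    exact (hEf x).2 (hAE ((hAf x).1 hx))
  · exact (hAf 1).2 A.one_mem
  · exact (hAf z).2 hzA
  · exact xs.hz1
  · -- centralizers of noncentral elements have at most half the elements
    intro a ha ha1 haz
    have haA : a ∈ A := (hAf a).1 ha
    have haE : a ∈ E := hAE haA
    obtain ⟨e0, he0, hne⟩ : ∃ e0 ∈ E, a * e0 ≠ e0 * a := by
      by_contra hcon
      push Not at hcon
      rcases xs.hcenter a haE hcon with h | h
      · exact ha1 h
      · exact haz h
    have hle : (Ef.filter (fun e => a * e = e * a)).card ≤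
        (Ef \ Ef.filter (fun e => a * e = e * a)).card := by
      apply Finset.card_le_card_of_injOn (fun e => e0 * e)
      · intro e he
        rw [Finset.mem_coe, Finset.mem_filter] at he
        rw [Finset.mem_coe, Finset.mem_sdiff, Finset.mem_filter]
        refine ⟨(hEf _).2 (E.mul_mem he0 ((hEf e).1 he.1)), fun hc => hne ?_⟩
        have h2 := hc.2
        -- `a * (e0 * e) = e0 * e * a` and `a * e = e * a`
        have h3 : a * e0 * e = e0 * a * e := by
          calc a * e0 * e = a * (e0 * e) := by rw [mul_assoc]
            _ = e0 * e * a := h2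
            _ = e0 * (e * a) := by rw [mul_assoc]
            _ = e0 * (a * e) := by rw [he.2]
            _ = e0 * a * e := by rw [mul_assoc]
        exact mul_right_cancel h3
      · intro x _ y _ hxy
        exact mul_left_cancel hxy
    have hadd := Finset.card_sdiff_add_card_eq_card (Finset.filter_subset (fun e => a * e = e * a) Ef)
    omega
  · -- centralizers in `A` have at least half the elements
    intro e he
    have heE : e ∈ E := (hEf e).1 he
    by_cases hall : ∀ a ∈ Af, a * e = e * a
    · have : Af.filter (fun a => a * e = e * a) = Af := Finset.filter_true_of_mem hall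
      rw [this]
      omega
    · push Not at hall
      obtain ⟨a0, ha0, hne0⟩ := hall
      have ha0A : a0 ∈ A := (hAf a0).1 ha0
      have hanti : ∀ a ∈ A, a * e ≠ e * a → a * e = z * (e * a) := by
        intro a haA hne
        rcases xs.hcomm a (hAE haA) e heE with h | h
        · exact absurd h hne
        · exact h
      have hle : (Af \ Af.filter (fun a => a * e = e * a)).card ≤
          (Af.filter (fun a => a * e = e * a)).card := by
        apply Finset.card_le_card_of_injOn (fun a => a0 * a)
        · intro a ha
          rw [Finset.mem_coe, Finset.mem_sdiff, Finset.mem_filter] at ha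
          rw [Finset.mem_coe, Finset.mem_filter]
          have haA : a ∈ A := (hAf a).1 ha.1
          have hne : a * e ≠ e * a := fun h => ha.2 ⟨ha.1, h⟩
          refine ⟨(hAf _).2 (A.mul_mem ha0A haA), ?_⟩
          exact w3abbound_mul xs.hzz (xs.hcen a0 (hAE ha0A)) (hanti a0 ha0A hne0) (hanti a haA hne)
        · intro x _ y _ hxy
          exact mul_left_cancel hxy
      have hadd := Finset.card_sdiff_add_card_eq_card
        (Finset.filter_subset (fun a => a * e = e * a) Af)
      omega
  · -- `A` is abelian
    intro e he
    have heA : e ∈ A := (hAf e).1 he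
    have : Af.filter (fun a => a * e = e * a) = Af :=
      Finset.filter_true_of_mem (fun a ha => hab a ((hAf a).1 ha) e heA)
    rw [this]

end Cfsg.Agent.Helper20.W3
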