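import Mathlib
import Cfsg.Agent.Lib.Helper8.XSDefs

/-!
# S3299 piece XS-BASIC (helper19): basic consequences of the context `Ctx z E K S`.
-/

set_option autoImplicit false
set_option linter.unusedSectionVars false
set_option linter.unusedVariables false
set_option linter.style.haveILetI false

namespace Cfsg.Agent.Helper8.XS

/-- For `K ≤ H` normalised by `H` with `K.relIndex H = 2`: membership in `K` of a product of two elements of `H`. -/
theorem xsbasic_mul_mem_iff {G : Type*} [Group G] {H K : Subgroup G}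
    (hKi : K.relIndex H = 2) {a b : G} (ha : a ∈ H) (hb : b ∈ H) :
    a * b ∈ K ↔ (a ∈ K ↔ b ∈ K) := by
  have h := Subgroup.mul_mem_iff_of_index_two (H := K.subgroupOf H) hKi
    (a := ⟨a, ha⟩) (b := ⟨b, hb⟩)
  simpa [Subgroup.mem_subgroupOf] using h

/-- Commutators of elements of `H` lie in `K` when `K.relIndex H = 2`. -/
theorem xsbasic_comm_mem {G : Type*} [Group G] {H K : Subgroup G}
    (hKi : K.relIndex H = 2) {x y : G} (hx : x ∈ H) (hy : y ∈ H) :
    x * y * x⁻¹ * y⁻¹ ∈ K := by
  have hxi : x⁻¹ ∈ H := H.inv_mem hx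
  have hyi : y⁻¹ ∈ H := H.inv_mem hy
  have hxy : x * y ∈ H := H.mul_mem hx hy
  have hxyx : x * y * x⁻¹ ∈ H := H.mul_mem hxy hxi
  rw [xsbasic_mul_mem_iff hKi hxyx hyi, xsbasic_mul_mem_iff hKi hxy hxi,
    xsbasic_mul_mem_iff hKi hx hy, inv_mem_iff, inv_mem_iff]
  tauto

/-- A subgroup `L ≤ H` not contained in `K` meets `K` in a subgroup of relative index 2. -/
theorem xsbasic_relIndex {G : Type*} [Group G] [Finite G] {H K L : Subgroup G}
    (hKi : K.relIndex H = 2) (hLH : L ≤ H) (hLK : ¬ L ≤ K) : (L ⊓ K).relIndex L = 2 := by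
  rw [inf_comm, Subgroup.inf_relIndex_right]
  have h1 : K.relIndex L ≤ K.relIndex H :=
    Subgroup.relIndex_le_of_le_right hLH (by rw [hKi]; norm_num)
  have h2 : K.relIndex L ≠ 1 := by
    intro h
    exact hLK (Subgroup.relIndex_eq_one.1 h)
  have h3 : K.relIndex L ≠ 0 := by
    unfold Subgroup.relIndex
    exact Subgroup.index_ne_zero_of_finite
  rw [hKi] at h1
  omega

/-! ### PIECE XS-BASIC : basic consequences of the context -/
theorem xs_basic.{u} {G : Type u} [Group G] [Finite G] {z : G} {E K : Subgroup G} {S : Sylow 2 G} (c : Ctx z E K S) :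
    z ∈ K ∧ (∀ x ∈ Subgroup.centralizer ({z} : Set G), ∀ y ∈ Subgroup.centralizer ({z} : Set G),
        x * y * x⁻¹ * y⁻¹ ∈ K) ∧
      ((E ⊓ K).relIndex E = 2) ∧
      (∃ _ : (((S : Subgroup G) ⊓ K).subgroupOf (S : Subgroup G)).Normal,
        IsCyclic (↥(S : Subgroup G) ⧸ ((S : Subgroup G) ⊓ K).subgroupOf (S : Subgroup G))) ∧
      (∀ (A : Type u) [CommGroup A] (f : G →* A), IsPGroup 2 A → ∀ y : G, f y = 1) := by
  classical
  have hEH : E ≤ Subgroup.centralizer ({z} : Set G) := c.hES.trans c.hSH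
  have hcomm : ∀ x ∈ Subgroup.centralizer ({z} : Set G), ∀ y ∈ Subgroup.centralizer ({z} : Set G),
      x * y * x⁻¹ * y⁻¹ ∈ K := fun x hx y hy => xsbasic_comm_mem c.hKi hx hy
  have hSK : ¬ (S : Subgroup G) ≤ K := fun h => c.hEK (c.hES.trans h)
  refine ⟨?_, hcomm, xsbasic_relIndex c.hKi hEH c.hEK, ?_, ?_⟩
  · -- `z` is a commutator of two elements of `E`
    by_cases hab : ∃ a ∈ E, ∃ b ∈ E, a * b ≠ b * a
    · obtain ⟨a, ha, b, hb, hne⟩ := hab
      rcases c.xs.hcomm a ha b hb with h | h
      · exact absurd h hne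
      · have hz : z = a * b * a⁻¹ * b⁻¹ := by
          have : a * b * a⁻¹ * b⁻¹ = (a * b) * (b * a)⁻¹ := by group
          rw [this, h]
          group
        rw [hz]
        exact hcomm a (hEH ha) b (hEH hb)
    · exfalso
      push Not at hab
      have hsub : (E : Set G) ⊆ {1, z} := by
        intro w hw
        rcases c.xs.hcenter w hw (fun x hx => hab w hw x hx) with h | h
        · left; exact h
        · right; exact h
      have h1 : Nat.card E ≤ 2 := by
        have h2 : Nat.card E = (E : Set G).ncard := Nat.card_coe_set_eq (E : Set G)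
        rw [h2]
        calc (E : Set G).ncard ≤ ({1, z} : Set G).ncard :=
              Set.ncard_le_ncard hsub (Set.toFinite _)
          _ ≤ ({z} : Set G).ncard + 1 := Set.ncard_insert_le _ _
          _ = 2 := by rw [Set.ncard_singleton]
      have := c.hcard
      omega
  · have hn : (((S : Subgroup G) ⊓ K).subgroupOf (S : Subgroup G)).Normal := by
      refine ⟨fun k hk s => ?_⟩
      rw [Subgroup.mem_subgroupOf] at hk ⊢
      refine ⟨?_, ?_⟩
      · exact (s * k * s⁻¹).2
      · have := c.hKn (s : G) (c.hSH s.2) (k : G) hk.2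
        simpa using this
    refine ⟨hn, ?_⟩
    have hidx : (((S : Subgroup G) ⊓ K).subgroupOf (S : Subgroup G)).index = 2 :=
      xsbasic_relIndex c.hKi c.hSH hSK
    have hcard : Nat.card (↥(S : Subgroup G) ⧸ ((S : Subgroup G) ⊓ K).subgroupOf (S : Subgroup G)) = 2 := by
      rw [← Subgroup.index_eq_card]
      exact hidx
    haveI : Fact (Nat.Prime 2) := ⟨Nat.prime_two⟩
    exact isCyclic_of_prime_card hcard
  · intro A _ f hA y
    have hker : Cfsg.pResidual 2 G ≤ f.ker := by
      unfold Cfsg.pResidual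
      rw [Subgroup.closure_le]
      intro g hg
      have hg' : Nat.Coprime (orderOf g) 2 := hg
      rw [SetLike.mem_coe, MonoidHom.mem_ker]
      obtain ⟨k, hk⟩ := hA (f g)
      have h1 : orderOf (f g) ∣ orderOf g := orderOf_map_dvd f g
      have h2 : orderOf (f g) ∣ 2 ^ k := orderOf_dvd_of_pow_eq_one hk
      have h3 : Nat.Coprime (orderOf (f g)) (2 ^ k) :=
        Nat.Coprime.pow_right k (Nat.Coprime.coprime_dvd_left h1 hg')
      have h4 : orderOf (f g) = 1 := Nat.Coprime.eq_one_of_dvd h3 h2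
      exact orderOf_eq_one_iff.1 h4
    rw [c.hres] at hker
    exact MonoidHom.mem_ker.1 (hker (Subgroup.mem_top y))

end Cfsg.Agent.Helper8.XS
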