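import Mathlib
import Cfsg.Agent.Lib.Helper8.XSDefs
import Cfsg.Agent.Lib.Helper22.ClassTwo

/-!
# S3299 piece XS-OF (helper19): elementwise extraspecial data from `IsExtraspecial 2 ↥E`.
-/

set_option autoImplicit false
set_option linter.unusedSectionVars false
set_option linter.unusedVariables false
set_option linter.style.haveILetI false

namespace Cfsg.Agent.Helper8.XS

open scoped commutatorElement

/-- In a group of order two every element is `1` or a given non-identity element. -/
theorem xsof_two {H : Type*} [Group H] (hc : Nat.card H = 2) (a : H) (ha : a ≠ 1) (x : H) :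
    x = 1 ∨ x = a := by
  classical
  haveI : Finite H := Nat.finite_of_card_ne_zero (by rw [hc]; norm_num)
  haveI := Fintype.ofFinite H
  by_contra h
  push Not at h
  have h3 : ({1, a, x} : Finset H).card = 3 := by
    rw [Finset.card_insert_of_notMem, Finset.card_insert_of_notMem, Finset.card_singleton]
    · simpa using Ne.symm h.2
    · simp only [Finset.mem_insert, Finset.mem_singleton, not_or]
      exact ⟨Ne.symm ha, Ne.symm h.1⟩
  have := Finset.card_le_univ ({1, a, x} : Finset H)
  rw [h3, ← Nat.card_eq_fintype_card, hc] at this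
  omega

/-! ### PIECE XS-OF : elementwise data from `IsExtraspecial` -/
theorem xsp_of {G : Type*} [Group G] [Finite G] (E : Subgroup G) (hext : Cfsg.IsExtraspecial 2 ↥E)
    (z : G) (hzE : z ∈ E) (hz : orderOf z = 2) (hcen : ∀ x ∈ E, x * z = z * x) : XSp E z := by
  classical
  haveI : Fact (Nat.Prime 2) := ⟨Nat.prime_two⟩
  obtain ⟨⟨hpg, hfrat, hcomm⟩, hcard⟩ := hext
  have hz1 : z ≠ 1 := by
    intro h
    rw [h, orderOf_one] at hz
    norm_num at hz
  have hzz : z * z = 1 := by
    have := pow_orderOf_eq_one z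
    rw [hz, pow_two] at this
    exact this
  set z' : ↥E := ⟨z, hzE⟩ with hz'
  have hz'c : z' ∈ Subgroup.center ↥E := by
    rw [Subgroup.mem_center_iff]
    intro y
    apply Subtype.ext
    exact hcen y y.2
  set zc : ↥(Subgroup.center ↥E) := ⟨z', hz'c⟩ with hzc
  have hzc1 : zc ≠ 1 := by
    intro h
    have h1 : z' = 1 := congrArg Subtype.val h
    exact hz1 (congrArg Subtype.val h1)
  have hcenE : ∀ f : ↥E, f ∈ Subgroup.center ↥E → (f : G) = 1 ∨ (f : G) = z := by
    intro f hf
    rcases xsof_two hcard zc hzc1 ⟨f, hf⟩ with h | h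
    · left
      have h1 : f = 1 := congrArg Subtype.val h
      exact congrArg Subtype.val h1
    · right
      have h1 : f = z' := congrArg Subtype.val h
      exact congrArg Subtype.val h1
  refine ⟨hzE, hz1, hzz, hcen, ?_, ?_, ?_⟩
  · intro w hw hwc
    apply hcenE ⟨w, hw⟩
    rw [Subgroup.mem_center_iff]
    intro y
    apply Subtype.ext
    exact (hwc y y.2).symm
  · intro x hx y hy
    have h1 : ⁅(⟨x, hx⟩ : ↥E), (⟨y, hy⟩ : ↥E)⁆ ∈ Subgroup.center ↥E := by
      rw [← hcomm, commutator_def]
      exact Subgroup.commutator_mem_commutator (Subgroup.mem_top _) (Subgroup.mem_top _)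
    have h2 := hcenE _ h1
    have h3 : ((⁅(⟨x, hx⟩ : ↥E), (⟨y, hy⟩ : ↥E)⁆ : ↥E) : G) = x * y * x⁻¹ * y⁻¹ := by
      simp [commutatorElement_def]
    rw [h3] at h2
    rcases h2 with h | h
    · left
      have : x * y = (x * y * x⁻¹ * y⁻¹) * (y * x) := by group
      rw [this, h, one_mul]
    · right
      have : x * y = (x * y * x⁻¹ * y⁻¹) * (y * x) := by group
      rw [this, h]
  · intro x hx
    have h1 : (⟨x, hx⟩ : ↥E) ^ 2 ∈ Subgroup.center ↥E := by
      rw [← hfrat]
      exact Cfsg.Agent.Helper22.pow_prime_mem_frattini hpg _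
    have h2 := hcenE _ h1
    simpa [pow_two] using h2

end Cfsg.Agent.Helper8.XS
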