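import Mathlib
import Cfsg.Agent.Lib.Helper4.ZNDefs

/-!
# S0518, piece MODELB: what we need of `S₄ × C₂` (structure `PB`)

(1) `PB ⊤ tM EM VM` in the concrete model `Perm (Fin 4) × Multiplicative (ZMod 2)`;
(2) transport of `PB` along an injective homomorphism (`PB_map`).
-/

set_option autoImplicit false
set_option linter.unusedSectionVars false
set_option linter.unusedVariables false
set_option linter.style.haveILetI false
set_option linter.unusedSimpArgs false

open Cfsg Equiv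

namespace Cfsg.Agent.Helper4.ZN.MODELB

/-- the concrete model of `S₄ × C₂` -/
abbrev M := Perm (Fin 4) × Multiplicative (ZMod 2)

def c1 : Perm (Fin 4) := swap 0 1 * swap 2 3
def c2 : Perm (Fin 4) := swap 0 2 * swap 1 3
def c3 : Perm (Fin 4) := swap 0 3 * swap 1 2

/-- membership in the Klein four-group of `Perm (Fin 4)` -/
def inV4 (σ : Perm (Fin 4)) : Prop := σ = 1 ∨ σ = c1 ∨ σ = c2 ∨ σ = c3

instance : DecidablePred inV4 := fun σ => by unfold inV4; infer_instance

/-- the central involution -/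
def tM : M := (1, Multiplicative.ofAdd 1)

set_option maxRecDepth 100000 in
theorem inV4_mul : ∀ a b : Perm (Fin 4), inV4 a → inV4 b → inV4 (a * b) := by decide

set_option maxRecDepth 100000 in
theorem inV4_inv : ∀ a : Perm (Fin 4), inV4 a → inV4 a⁻¹ := by decide

set_option maxRecDepth 100000 in
theorem inA4_mul : ∀ a b : Perm (Fin 4), (a ^ 3 = 1 ∨ inV4 a) → (b ^ 3 = 1 ∨ inV4 b) →
    ((a * b) ^ 3 = 1 ∨ inV4 (a * b)) := by decide

set_option maxRecDepth 100000 in
theorem inA4_inv : ∀ a : Perm (Fin 4), (a ^ 3 = 1 ∨ inV4 a) → (a⁻¹ ^ 3 = 1 ∨ inV4 a⁻¹) := by decide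

/-- `E = V₄ × C₂` -/
def EM : Subgroup M where
  carrier := {x | inV4 x.1}
  mul_mem' := fun {a b} ha hb => inV4_mul a.1 b.1 ha hb
  one_mem' := Or.inl rfl
  inv_mem' := fun {a} ha => inV4_inv a.1 ha

/-- `V = V₄ × 1` -/
def VM : Subgroup M where
  carrier := {x | inV4 x.1 ∧ x.2 = 1}
  mul_mem' := fun {a b} ha hb => ⟨inV4_mul a.1 b.1 ha.1 hb.1, by
    show a.2 * b.2 = 1
    rw [ha.2, hb.2, one_mul]⟩
  one_mem' := ⟨Or.inl rfl, rfl⟩
  inv_mem' := fun {a} ha => ⟨inV4_inv a.1 ha.1, by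
    show a.2⁻¹ = 1
    rw [ha.2, inv_one]⟩

/-- `K = A₄ × 1` -/
def KM : Subgroup M where
  carrier := {x | (x.1 ^ 3 = 1 ∨ inV4 x.1) ∧ x.2 = 1}
  mul_mem' := fun {a b} ha hb => ⟨inA4_mul a.1 b.1 ha.1 hb.1, by
    show a.2 * b.2 = 1
    rw [ha.2, hb.2, one_mul]⟩
  one_mem' := ⟨Or.inl (one_pow 3), rfl⟩
  inv_mem' := fun {a} ha => ⟨inA4_inv a.1 ha.1, by
    show a.2⁻¹ = 1
    rw [ha.2, inv_one]⟩

theorem mem_EM {x : M} : x ∈ EM ↔ inV4 x.1 := Iff.rfl
theorem mem_VM {x : M} : x ∈ VM ↔ inV4 x.1 ∧ x.2 = 1 := Iff.rfl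
theorem mem_KM {x : M} : x ∈ KM ↔ (x.1 ^ 3 = 1 ∨ inV4 x.1) ∧ x.2 = 1 := Iff.rfl

instance : DecidablePred (fun x : M => x ∈ EM) := fun x => decidable_of_iff _ mem_EM.symm
instance : DecidablePred (fun x : M => x ∈ VM) := fun x => decidable_of_iff _ mem_VM.symm
instance : DecidablePred (fun x : M => x ∈ KM) := fun x => decidable_of_iff _ mem_KM.symm

set_option maxRecDepth 100000 in
theorem card_M : Nat.card M = 48 := by
  rw [Nat.card_eq_fintype_card]; decide

set_option maxRecDepth 100000 in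
theorem card_EM : Nat.card EM = 8 := by
  rw [Nat.card_eq_fintype_card]; decide

set_option maxRecDepth 100000 in
theorem card_VM : Nat.card VM = 4 := by
  rw [Nat.card_eq_fintype_card]; decide

set_option maxRecDepth 100000 in
theorem card_KM : Nat.card KM = 12 := by
  rw [Nat.card_eq_fintype_card]; decide

/-! ### elementwise facts about the model (all by `decide`) -/

set_option maxRecDepth 100000 in
theorem cube_mem_KM : ∀ g : M, g ^ 3 = 1 → g ∈ KM := by decide

set_option maxRecDepth 100000 in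
theorem KM_prod : ∀ x : M, x ∈ KM → ∃ a b : M, a ^ 3 = 1 ∧ b ^ 3 = 1 ∧ x = a * b := by decide

set_option maxRecDepth 100000 in
theorem tM_comm : ∀ x : M, x * tM = tM * x := by decide

set_option maxRecDepth 100000 in
theorem center_M : ∀ x : M, (∀ y : M, x * y = y * x) → x = 1 ∨ x = tM := by decide

set_option maxRecDepth 100000 in
theorem EM_sq : ∀ x : M, x ∈ EM → x * x = 1 := by decide

set_option maxRecDepth 100000 in
theorem EM_norm : ∀ p x : M, x ∈ EM → p * x * p⁻¹ ∈ EM := by decide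

set_option maxRecDepth 100000 in
theorem EM_cent : ∀ x : M, (∀ e : M, e ∈ EM → x * e = e * x) → x ∈ EM := by decide

set_option maxRecDepth 100000 in
theorem VM_iff : ∀ x : M, x ∈ VM ↔ x ∈ EM ∧ x ∈ KM := by decide

set_option maxRecDepth 100000 in
theorem VM_norm : ∀ p x : M, x ∈ VM → p * x * p⁻¹ ∈ VM := by decide

set_option maxRecDepth 100000 in
theorem VM_trans : ∀ v w : M, v ∈ VM → w ∈ VM → v ≠ 1 → w ≠ 1 →
    ∃ k : M, k ∈ KM ∧ k * v * k⁻¹ = w := by decide

set_option maxRecDepth 100000 in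
theorem KM_inv : ∀ x : M, x ∈ KM → x * x = 1 → x ∈ VM := by decide

set_option maxRecDepth 100000 in
/-- auxiliary decidable predicate for `inv_comm_M` -/
def commV (y : M) : Prop := ∃ w : M, w ∈ VM ∧ (w ≠ 1 ∧ w * y = y * w)

instance : DecidablePred commV := fun y => by unfold commV; infer_instance

set_option maxRecDepth 100000 in
theorem inv_comm_M : ∀ y : M, y * y = 1 → commV y := by decide

set_option maxRecDepth 100000 in
theorem fst_one : ∀ x : M, x.1 = 1 → x = 1 ∨ x = tM := by decide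

set_option maxRecDepth 100000 in
theorem VM_square : ∀ x : M, x ∈ VM → ∃ y : M, x = y ^ 2 := by decide

set_option maxRecDepth 100000 in
theorem not_V4 : ∀ σ : Perm (Fin 4), ¬ inV4 σ →
    ∃ g : Perm (Fin 4), (σ * (g * σ * g⁻¹)) ^ 3 = 1 ∧ σ * (g * σ * g⁻¹) ≠ 1 := by decide

set_option maxRecDepth 100000 in
theorem snd_cases : ∀ c : Multiplicative (ZMod 2), c = 1 ∨ c = Multiplicative.ofAdd 1 := by decide

/-! ### the structure `PB` in the model -/

theorem odd_of_cube {G : Type*} [Group G] {g : G} (h : g ^ 3 = 1) : Odd (orderOf g) := by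
  have h1 : orderOf g ∣ 3 := orderOf_dvd_of_pow_eq_one h
  have h2 : orderOf g = 1 ∨ orderOf g = 3 := (Nat.dvd_prime Nat.prime_three).1 h1
  rcases h2 with h2 | h2 <;> rw [h2] <;> decide

theorem oddCl_top : oddCl (⊤ : Subgroup M) = KM := by
  apply le_antisymm
  · rw [oddCl, Subgroup.closure_le]
    rintro g ⟨-, hodd⟩
    have h1 : orderOf g ∣ 16 * 3 := by
      have := orderOf_dvd_natCard g
      rwa [card_M] at this
    have h2 : Nat.Coprime (orderOf g) 16 := by
      have : Nat.Coprime (orderOf g) (2 ^ 4) := (Nat.coprime_two_right.2 hodd).pow_right 4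
      simpa using this
    have h3 : orderOf g ∣ 3 := h2.dvd_of_dvd_mul_left h1
    exact cube_mem_KM g (orderOf_dvd_iff_pow_eq_one.1 h3)
  · intro x hx
    obtain ⟨a, b, ha, hb, rfl⟩ := KM_prod x hx
    exact Subgroup.mul_mem _ (Subgroup.subset_closure ⟨Subgroup.mem_top _, odd_of_cube ha⟩)
      (Subgroup.subset_closure ⟨Subgroup.mem_top _, odd_of_cube hb⟩)

theorem VM_le_of_index_two {S : Subgroup M} (hidx : S.index = 2) : VM ≤ S := by
  intro x hx
  obtain ⟨y, rfl⟩ := VM_square x hx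
  exact Subgroup.sq_mem_of_index_two hidx y

theorem card_of_index_two {S : Subgroup M} (hidx : S.index = 2) : Nat.card S = 24 := by
  have := Subgroup.card_mul_index S
  rw [hidx, card_M] at this
  omega

/-- the first projection restricted to `S` -/
def fstS (S : Subgroup M) : ↥S →* Perm (Fin 4) := (MonoidHom.fst _ _).comp S.subtype

theorem fstS_bijective {S : Subgroup M} (ht : tM ∉ S) (hidx : S.index = 2) :
    Function.Bijective (fstS S) := by
  rw [Nat.bijective_iff_injective_and_card]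
  constructor
  · rw [injective_iff_map_eq_one]
    intro x hx
    have hx1 : (x : M).1 = 1 := hx
    rcases fst_one (x : M) hx1 with h | h
    · exact Subtype.ext h
    · exact absurd (h ▸ x.2) ht
  · rw [card_of_index_two hidx, Nat.card_eq_fintype_card, Fintype.card_perm, Fintype.card_fin]
    rfl

theorem sigma_iso_model (S : Subgroup M) (ht : tM ∉ S) (hidx : S.index = 2) :
    Nonempty (↥S ≃* Perm (Fin 4)) :=
  ⟨MulEquiv.ofBijective (fstS S) (fstS_bijective ht hidx)⟩

theorem sigma_core_model (S Q : Subgroup M) (ht : tM ∉ S) (hidx : S.index = 2) (hQS : Q ≤ S)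
    (hQ : IsPGroup 2 ↥Q) (hn : ∀ s ∈ S, ∀ q ∈ Q, s * q * s⁻¹ ∈ Q) : Q ≤ VM := by
  intro x hx
  have hV : inV4 x.1 := by
    by_contra hnot
    obtain ⟨g, hg3, hg1⟩ := not_V4 x.1 hnot
    obtain ⟨s, hs⟩ := (fstS_bijective ht hidx).2 g
    have hq : x * ((s : M) * x * (s : M)⁻¹) ∈ Q := Q.mul_mem hx (hn s s.2 x hx)
    obtain ⟨k, hk⟩ := hQ ⟨_, hq⟩
    have hk' : (x * ((s : M) * x * (s : M)⁻¹)) ^ 2 ^ k = 1 := by
      have := congrArg Subtype.val hk
      simpa using this
    have hs1 : (s : M).1 = g := hs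
    have hfst : (x * ((s : M) * x * (s : M)⁻¹)).1 = x.1 * (g * x.1 * g⁻¹) := by
      rw [← hs1]; rfl
    have hy : (x.1 * (g * x.1 * g⁻¹)) ^ 2 ^ k = 1 := by
      rw [← hfst]
      have := congrArg Prod.fst hk'
      simpa using this
    have h1 : orderOf (x.1 * (g * x.1 * g⁻¹)) ∣ 2 ^ k := orderOf_dvd_of_pow_eq_one hy
    have h2 : orderOf (x.1 * (g * x.1 * g⁻¹)) ∣ 3 := orderOf_dvd_of_pow_eq_one hg3
    have h3 : orderOf (x.1 * (g * x.1 * g⁻¹)) ∣ 1 := by
      have hc : Nat.Coprime (2 ^ k) 3 := Nat.Coprime.pow_left k (by decide)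
      have := Nat.dvd_gcd h1 h2
      rwa [hc.gcd_eq_one] at this
    exact hg1 (orderOf_eq_one_iff.1 (Nat.dvd_one.1 h3))
  refine ⟨hV, ?_⟩
  rcases snd_cases x.2 with h | h
  · exact h
  · exfalso
    have hv : ((x.1, 1) : M) ∈ S := VM_le_of_index_two hidx ⟨hV, rfl⟩
    have hx' : x ∈ S := hQS hx
    have : ((x.1, 1) : M)⁻¹ * x ∈ S := S.mul_mem (S.inv_mem hv) hx'
    have e : ((x.1, 1) : M)⁻¹ * x = tM := by
      apply Prod.ext
      · show x.1⁻¹ * x.1 = 1
        rw [inv_mul_cancel]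
      · show (1 : Multiplicative (ZMod 2))⁻¹ * x.2 = Multiplicative.ofAdd 1
        rw [inv_one, one_mul, h]
    rw [e] at this
    exact ht this

theorem PB_model : PB (⊤ : Subgroup M) tM EM VM where
  card_P := by rw [Subgroup.card_top]; exact card_M
  t_mem := Subgroup.mem_top _
  t_ne := by decide
  t_sq := by decide
  t_comm := fun x _ => tM_comm x
  center := fun x _ h => center_M x (fun y => h y (Subgroup.mem_top y))
  E_le := le_top
  card_E := card_EM
  E_sq := fun x hx => EM_sq x hx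
  E_norm := fun p _ x hx => EM_norm p x hx
  E_cent := fun x _ h => EM_cent x h
  t_E := by decide
  card_V := card_VM
  V_eq := by
    rw [oddCl_top]
    ext x
    rw [Subgroup.mem_inf]
    exact VM_iff x
  t_V := by decide
  V_norm := fun p _ x hx => VM_norm p x hx
  V_trans := fun v hv w hw hv1 hw1 => by
    rw [oddCl_top]
    exact VM_trans v w hv hw hv1 hw1
  card_K := by rw [oddCl_top]; exact card_KM
  K_inv := fun x hx hxx => by
    rw [oddCl_top] at hx
    exact KM_inv x hx hxx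
  inv_comm := fun y _ hy => inv_comm_M y hy
  sigma_iso := fun S _ ht hidx => by
    rw [Subgroup.relIndex_top_right] at hidx
    exact sigma_iso_model S ht hidx
  sigma_core := fun S Q _ ht hidx hQS hQ hn => by
    rw [Subgroup.relIndex_top_right] at hidx
    exact sigma_core_model S Q ht hidx hQS hQ hn

/-! ### transport of `PB` along an injective homomorphism -/

section transport

variable {M₀ : Type*} [Group M₀] {G : Type*} [Group G] (ι : M₀ →* G) (hι : Function.Injective ι)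

include hι in
theorem oddCl_map (P₀ : Subgroup M₀) : oddCl (P₀.map ι) = (oddCl P₀).map ι := by
  rw [oddCl, oddCl, MonoidHom.map_closure]
  congr 1
  ext g
  constructor
  · rintro ⟨⟨x, hx, rfl⟩, hodd⟩
    exact ⟨x, ⟨hx, by rwa [orderOf_injective ι hι] at hodd⟩, rfl⟩
  · rintro ⟨x, ⟨hx, hodd⟩, rfl⟩
    exact ⟨Subgroup.mem_map_of_mem ι hx, by rwa [orderOf_injective ι hι]⟩

include hι in
theorem ne_one_of_map_ne_one {x : M₀} (h : ι x ≠ 1) : x ≠ 1 := fun h1 => h (by rw [h1, map_one])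

include hι in
theorem sq_eq_one_of_map {x : M₀} (h : ι x * ι x = 1) : x * x = 1 :=
  hι (by rw [map_mul, h, map_one])

include hι in
theorem PB_map {P₀ : Subgroup M₀} {t : M₀} {E V : Subgroup M₀} (h : PB P₀ t E V) :
    PB (P₀.map ι) (ι t) (E.map ι) (V.map ι) where
  card_P := by rw [Subgroup.card_map_of_injective hι]; exact h.card_P
  t_mem := Subgroup.mem_map_of_mem ι h.t_mem
  t_ne := fun h1 => h.t_ne (hι (h1.trans (map_one ι).symm))
  t_sq := by rw [← map_mul, h.t_sq, map_one]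
  t_comm := by
    rintro _ ⟨x, hx, rfl⟩
    rw [← map_mul, ← map_mul, h.t_comm x hx]
  center := by
    rintro _ ⟨x, hx, rfl⟩ hc
    have hc' : ∀ y ∈ P₀, x * y = y * x := fun y hy =>
      hι (by rw [map_mul, map_mul]; exact hc _ (Subgroup.mem_map_of_mem ι hy))
    rcases h.center x hx hc' with h1 | h1
    · left; rw [h1, map_one]
    · right; rw [h1]
  E_le := Subgroup.map_mono h.E_le
  card_E := by rw [Subgroup.card_map_of_injective hι]; exact h.card_E
  E_sq := by
    rintro _ ⟨x, hx, rfl⟩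
    rw [← map_mul, h.E_sq x hx, map_one]
  E_norm := by
    rintro _ ⟨p, hp, rfl⟩ _ ⟨x, hx, rfl⟩
    rw [← map_inv, ← map_mul, ← map_mul]
    exact Subgroup.mem_map_of_mem ι (h.E_norm p hp x hx)
  E_cent := by
    rintro _ ⟨x, hx, rfl⟩ hc
    apply Subgroup.mem_map_of_mem
    apply h.E_cent x hx
    intro e he
    apply hι
    rw [map_mul, map_mul]
    exact hc _ (Subgroup.mem_map_of_mem ι he)
  t_E := Subgroup.mem_map_of_mem ι h.t_E
  card_V := by rw [Subgroup.card_map_of_injective hι]; exact h.card_V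
  V_eq := by rw [oddCl_map ι hι, ← Subgroup.map_inf _ _ ι hι, ← h.V_eq]
  t_V := by
    rintro ⟨x, hx, hxt⟩
    exact h.t_V (hι hxt ▸ hx)
  V_norm := by
    rintro _ ⟨p, hp, rfl⟩ _ ⟨x, hx, rfl⟩
    rw [← map_inv, ← map_mul, ← map_mul]
    exact Subgroup.mem_map_of_mem ι (h.V_norm p hp x hx)
  V_trans := by
    rintro _ ⟨v, hv, rfl⟩ _ ⟨w, hw, rfl⟩ hv1 hw1
    obtain ⟨k, hk, hkv⟩ := h.V_trans v hv w hw (ne_one_of_map_ne_one ι hι hv1)
      (ne_one_of_map_ne_one ι hι hw1)
    refine ⟨ι k, ?_, ?_⟩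
    · rw [oddCl_map ι hι]; exact Subgroup.mem_map_of_mem ι hk
    · rw [← map_inv, ← map_mul, ← map_mul, hkv]
  card_K := by rw [oddCl_map ι hι, Subgroup.card_map_of_injective hι]; exact h.card_K
  K_inv := by
    intro y hy hyy
    rw [oddCl_map ι hι] at hy
    obtain ⟨x, hx, rfl⟩ := hy
    exact Subgroup.mem_map_of_mem ι (h.K_inv x hx (sq_eq_one_of_map ι hι hyy))
  inv_comm := by
    rintro _ ⟨y, hy, rfl⟩ hyy
    obtain ⟨w, hw, hw1, hwy⟩ := h.inv_comm y hy (sq_eq_one_of_map ι hι hyy)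
    refine ⟨ι w, Subgroup.mem_map_of_mem ι hw,
      fun h1 => hw1 (hι (h1.trans (map_one ι).symm)), ?_⟩
    rw [← map_mul, ← map_mul, hwy]
  sigma_iso := by
    intro S hS ht hidx
    have hSr : S ≤ ι.range := hS.trans (by
      rw [MonoidHom.range_eq_map]; exact Subgroup.map_mono le_top)
    have hmap : (S.comap ι).map ι = S := Subgroup.map_comap_eq_self hSr
    have hS₀ : S.comap ι ≤ P₀ := by
      intro x hx
      obtain ⟨x', hx', hxx⟩ := hS (Subgroup.mem_comap.1 hx)
      exact hι hxx ▸ hx'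
    have hidx₀ : (S.comap ι).relIndex P₀ = 2 := by
      rw [← Subgroup.relIndex_map_map_of_injective _ _ hι, hmap]; exact hidx
    obtain ⟨e⟩ := h.sigma_iso _ hS₀ ht hidx₀
    exact ⟨((MulEquiv.subgroupCongr hmap).symm.trans
      (Subgroup.equivMapOfInjective _ ι hι).symm).trans e⟩
  sigma_core := by
    intro S Q hS ht hidx hQS hQ hn
    have hSr : S ≤ ι.range := hS.trans (by
      rw [MonoidHom.range_eq_map]; exact Subgroup.map_mono le_top)
    have hmap : (S.comap ι).map ι = S := Subgroup.map_comap_eq_self hSr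
    have hQmap : (Q.comap ι).map ι = Q := Subgroup.map_comap_eq_self (hQS.trans hSr)
    have hS₀ : S.comap ι ≤ P₀ := by
      intro x hx
      obtain ⟨x', hx', hxx⟩ := hS (Subgroup.mem_comap.1 hx)
      exact hι hxx ▸ hx'
    have hidx₀ : (S.comap ι).relIndex P₀ = 2 := by
      rw [← Subgroup.relIndex_map_map_of_injective _ _ hι, hmap]; exact hidx
    have hle := h.sigma_core (S.comap ι) (Q.comap ι) hS₀ ht hidx₀ (Subgroup.comap_mono hQS)
      (hQ.comap_of_injective ι hι) (fun s hs q hq => by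
        show ι (s * q * s⁻¹) ∈ Q
        rw [map_mul, map_mul, map_inv]
        exact hn _ hs _ hq)
    rw [← hQmap]
    exact Subgroup.map_mono hle

end transport

end Cfsg.Agent.Helper4.ZN.MODELB

namespace Cfsg.Agent.Helper4.ZN

variable {G : Type*} [Group G]

/-- Piece MODELB: what we need of `S₄ × C₂`. -/
theorem exists_PB (P : Subgroup G)
    (h : Nonempty (↥P ≃* Equiv.Perm (Fin 4) × Multiplicative (ZMod 2))) :
    ∃ (t : G) (E V : Subgroup G), PB P t E V := by
  obtain ⟨e⟩ := h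
  set ι : MODELB.M →* G := P.subtype.comp e.symm.toMonoidHom with hιdef
  have hι : Function.Injective ι := P.subtype_injective.comp e.symm.injective
  have hP : (⊤ : Subgroup MODELB.M).map ι = P := by
    ext g
    constructor
    · rintro ⟨x, -, rfl⟩
      exact (e.symm x).2
    · intro hg
      refine ⟨e ⟨g, hg⟩, Subgroup.mem_top _, ?_⟩
      show ((e.symm (e ⟨g, hg⟩) : ↥P) : G) = g
      rw [MulEquiv.symm_apply_apply]
  have hPB := MODELB.PB_map ι hι MODELB.PB_model
  rw [hP] at hPB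
  exact ⟨_, _, _, hPB⟩

end Cfsg.Agent.Helper4.ZN
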